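import Mathlib

set_option autoImplicit false

namespace Cfsg.Agent.FGB

open scoped Pointwise

variable {G : Type*} [Group G]

/-- Jordan: some element avoids every conjugate of a proper subgroup. -/
theorem exists_forall_conj_not_mem [Finite G] {H : Subgroup G} (hH : H ≠ ⊤) :
    ∃ g : G, ∀ x : G, x * g * x⁻¹ ∉ H := by
  classical
  have := Fintype.ofFinite G
  by_contra hcon
  push Not at hcon
  have hq : Fintype.card (MulAction.orbitRel.Quotient G (G ⧸ H)) = 1 :=
    Fintype.card_eq_one_iff.mpr ⟨Quotient.mk'' ((1 : G) : G ⧸ H), fun y => by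
      induction y using Quotient.inductionOn' with
      | h a => exact Quotient.sound' (MulAction.exists_smul_eq G _ a)⟩
  have hsum := MulAction.sum_card_fixedBy_eq_card_orbits_mul_card_group G (G ⧸ H)
  rw [hq, one_mul] at hsum
  have hpos : ∀ g : G, 1 ≤ Fintype.card (MulAction.fixedBy (G ⧸ H) g) := by
    intro g
    obtain ⟨x, hx⟩ := hcon g
    refine Fintype.card_pos_iff.mpr ⟨⟨((x⁻¹ : G) : G ⧸ H), ?_⟩⟩
    show g • ((x⁻¹ : G) : G ⧸ H) = _
    rw [MulAction.Quotient.smul_mk, QuotientGroup.eq, smul_eq_mul]
    simpa [mul_assoc] using H.inv_mem hx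
  have h1 : 1 < Fintype.card (MulAction.fixedBy (G ⧸ H) (1 : G)) := by
    simp only [← Nat.card_eq_fintype_card, MulAction.fixedBy_one_eq_univ, Nat.card_coe_set_eq,
      Set.ncard_univ]
    exact H.one_lt_index_of_ne_top hH
  have : (∑ _g : G, 1) < ∑ g : G, Fintype.card (MulAction.fixedBy (G ⧸ H) g) :=
    Finset.sum_lt_sum (fun g _ => hpos g) ⟨1, Finset.mem_univ _, h1⟩
  rw [Finset.sum_const, Finset.card_univ, smul_eq_mul, mul_one] at this
  omega

theorem eq_top_of_conj_cover [Finite G] {H : Subgroup G} (h : ∀ g : G, ∃ x : G, x * g * x⁻¹ ∈ H) :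
    H = ⊤ := by
  by_contra hH
  obtain ⟨g, hg⟩ := exists_forall_conj_not_mem hH
  obtain ⟨x, hx⟩ := h g
  exact hg x hx

theorem conj_mem_centralizer_singleton_iff (g x y : G) :
    x * y * x⁻¹ ∈ Subgroup.centralizer ({x * g * x⁻¹} : Set G) ↔
      y ∈ Subgroup.centralizer ({g} : Set G) := by
  simp only [Subgroup.mem_centralizer_singleton_iff]
  constructor <;> intro h
  · have := congrArg (fun z => x⁻¹ * z * x) h
    simpa [mul_assoc] using this
  · calc x * y * x⁻¹ * (x * g * x⁻¹) = x * (y * g) * x⁻¹ := by group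
      _ = x * (g * y) * x⁻¹ := by rw [h]
      _ = _ := by group

/-- For commuting elements of coprime order, the centraliser of the product is the intersection. -/
theorem centralizer_mul_of_coprime {a b : G} (hab : Commute a b)
    (hco : (orderOf a).Coprime (orderOf b)) :
    Subgroup.centralizer ({a * b} : Set G) =
      Subgroup.centralizer ({a} : Set G) ⊓ Subgroup.centralizer ({b} : Set G) := by
  refine le_antisymm ?_ ?_
  · intro g hg
    rw [Subgroup.mem_centralizer_singleton_iff] at hg
    have hg' : Commute g (a * b) := hg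
    obtain ⟨m, hm⟩ := exists_pow_eq_self_of_coprime (x := a) hco.symm
    have ha : Commute g a := by
      have e : (a * b) ^ (orderOf b * m) = a := by
        rw [hab.mul_pow, pow_mul, pow_mul b, pow_orderOf_eq_one, one_pow, mul_one, hm]
      simpa only [e] using hg'.pow_right (orderOf b * m)
    refine ⟨Subgroup.mem_centralizer_singleton_iff.mpr ha, Subgroup.mem_centralizer_singleton_iff.mpr ?_⟩
    have hb : Commute g (a⁻¹ * (a * b)) := (ha.inv_right).mul_right hg'
    simpa using hb.eq
  · rintro g ⟨ha, hb⟩
    have ha' : Commute g a := Subgroup.mem_centralizer_singleton_iff.mp ha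
    have hb' : Commute g b := Subgroup.mem_centralizer_singleton_iff.mp hb
    exact Subgroup.mem_centralizer_singleton_iff.mpr (ha'.mul_right hb').eq

theorem mem_centralizer_singleton_self (g : G) : g ∈ Subgroup.centralizer ({g} : Set G) :=
  Subgroup.mem_centralizer_singleton_iff.mpr rfl

theorem centralizer_singleton_eq_top_iff {g : G} :
    Subgroup.centralizer ({g} : Set G) = ⊤ ↔ g ∈ Subgroup.center G := by
  rw [Subgroup.centralizer_eq_top_iff_subset, Set.singleton_subset_iff]
  rfl

/-- A nontrivial element of a group of trivial centre has non-trivial class. -/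
theorem one_lt_index_centralizer [Finite G] (hZ : Subgroup.center G = ⊥) {g : G} (hg : g ≠ 1) :
    1 < (Subgroup.centralizer ({g} : Set G)).index := by
  apply Subgroup.one_lt_index_of_ne_top
  rw [Ne, centralizer_singleton_eq_top_iff, hZ, Subgroup.mem_bot]
  exact hg

theorem index_centralizer_dvd_card [Finite G] (g : G) :
    (Subgroup.centralizer ({g} : Set G)).index ∣ Nat.card G := Subgroup.index_dvd_card _

/-- Subgroups of prime-power order are contained in a Sylow subgroup's share of any overgroup. -/
theorem card_le_pow_factorization [Finite G] {p : ℕ} [Fact p.Prime] {K L : Subgroup G}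
    (hK : IsPGroup p K) (hKL : K ≤ L) : Nat.card K ≤ p ^ (Nat.card L).factorization p := by
  obtain ⟨k, hk⟩ := IsPGroup.iff_card.mp hK
  have hd : p ^ k ∣ Nat.card L := hk ▸ Subgroup.card_dvd_of_le hKL
  rw [hk]
  exact Nat.pow_le_pow_right (Fact.out : p.Prime).pos
    ((Nat.Prime.pow_dvd_iff_le_factorization Fact.out Nat.card_pos.ne').mp hd)

end Cfsg.Agent.FGB
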