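/-
Ito's theorem: two class sizes.
-/
import Mathlib
import Cfsg.Agent.Lib.FGB.Basic
import Cfsg.Agent.Lib.Transfer.Residual
import Cfsg.Agent.Lib.Basics.CoprimeAction
import Cfsg.Agent.Lib.Basics.CoprimeGen
import Cfsg.Agent.Lib.Basics.Tools

set_option autoImplicit false
set_option linter.all false

namespace Cfsg.Agent.FGB

open Subgroup
open scoped Pointwise

variable {G : Type*} [Group G]

local notation "C(" x ")" => Subgroup.centralizer (({x} : Set G))

/-- All noncentral elements have classes of size `n`. -/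
def TwoSizes (G : Type*) [Group G] (n : ℕ) : Prop :=
  1 < n ∧ ∀ x : G, x ∉ center G → (Subgroup.centralizer ({x} : Set G)).index = n

/-- Some `p`-element is noncentral. -/
def NCPrime (G : Type*) [Group G] (p : ℕ) : Prop :=
  ∃ x : G, (∃ k, orderOf x = p ^ k) ∧ x ∉ center G

variable [Finite G] {n : ℕ}

theorem TwoSizes.not_central_of_dvd (h : TwoSizes G n) {p : ℕ} [Fact p.Prime] (hp : ¬ p ∣ n) (P : Sylow p G) :
    (P : Subgroup G) ≤ center G := by
  rw [← centralizer_univ, ← coe_top, le_centralizer_iff]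
  refine (eq_top_of_conj_cover fun g => ?_).ge
  by_cases hg : g ∈ center G
  · exact ⟨1, Subgroup.center_le_centralizer _ (by simpa using hg)⟩
  set B := C(g) with hB
  have hnd : ¬ p ∣ B.index := by rw [hB, h.2 g hg]; exact hp
  obtain ⟨R0⟩ : Nonempty (Sylow p B) := inferInstance
  set R := (R0 : Subgroup B).map B.subtype with hR
  have hRidx : ¬ p ∣ R.index := by
    rw [hR, ← relIndex_mul_index (map_subtype_le (R0 : Subgroup B)), (Fact.out : p.Prime).dvd_mul]
    rintro (hd | hd)
    · rw [relIndex, subgroupOf, comap_map_eq_self_of_injective B.subtype_injective] at hd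
      exact R0.not_dvd_index hd
    · exact hnd hd
  let RS : Sylow p G := (R0.2.map B.subtype).toSylow hRidx
  obtain ⟨t, ht⟩ := MulAction.exists_smul_eq G RS P
  refine ⟨t, mem_centralizer_iff.mpr fun u hu => ?_⟩
  have h1 : u ∈ MulAut.conj t • R := by
    have : u ∈ (P : Subgroup G) := hu
    rw [← ht, Sylow.coe_subgroup_smul] at this
    exact this
  obtain ⟨r, hr, rfl⟩ := h1
  have hc := mem_centralizer_singleton_iff.mp (map_subtype_le (R0 : Subgroup B) hr)
  show t * r * t⁻¹ * (t * g * t⁻¹) = t * g * t⁻¹ * (t * r * t⁻¹)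
  calc t * r * t⁻¹ * (t * g * t⁻¹) = t * (r * g) * t⁻¹ := by group
    _ = t * (g * r) * t⁻¹ := by rw [hc]
    _ = _ := by group

theorem TwoSizes.centralizer_eq (h : TwoSizes G n) {a b : G} (hab : Commute a b)
    (hco : (orderOf a).Coprime (orderOf b)) (ha : a ∉ center G) (hb : b ∉ center G) : C(a) = C(b) := by
  have e := centralizer_mul_of_coprime hab hco
  have hc : a * b ∉ center G := by
    intro hc
    have h1 : C(a * b) = ⊤ := centralizer_singleton_eq_top_iff.mpr hc
    rw [e] at h1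
    exact ha (centralizer_singleton_eq_top_iff.mp (top_le_iff.mp (h1.ge.trans inf_le_left)))
  have key : ∀ c : G, c ∉ center G → C(a * b) ≤ C(c) → C(a * b) = C(c) := by
    intro c hc' hle
    refine eq_of_le_of_card_ge hle ?_
    have h1 := (C(c)).card_mul_index
    have h2 := (C(a * b)).card_mul_index
    rw [h.2 c hc'] at h1
    rw [h.2 _ hc] at h2
    exact (Nat.eq_of_mul_eq_mul_right (by linarith [h.1]) (h1.trans h2.symm)).le
  exact (key a ha (e.le.trans inf_le_left)).symm.trans (key b hb (e.le.trans inf_le_right))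

/-- The part of an element lying over a prime, and the rest. -/
theorem exists_parts (g : G) (p : ℕ) [Fact p.Prime] :
    ∃ a b : G, a ∈ zpowers g ∧ b ∈ zpowers g ∧ a * b = g ∧ (∃ k, orderOf a = p ^ k) ∧
      (orderOf b).Coprime p ∧ Commute a b := by
  obtain ⟨a, b, ha, hb, hab, ⟨k, hk⟩, hbc⟩ := Transfer.exists_pPart_mul (p := p) g
  obtain ⟨i, -, hi⟩ := (Nat.dvd_prime_pow Fact.out).mp hk
  refine ⟨a, b, ha, hb, hab, ⟨i, hi⟩, hbc, ?_⟩
  obtain ⟨i, rfl⟩ := ha
  obtain ⟨j, rfl⟩ := hb
  exact Commute.zpow_zpow_self g i j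

theorem coprime_of_pow {p q : ℕ} (hp : p.Prime) (hq : q.Prime) (hpq : p ≠ q) {a b : G}
    (ha : ∃ k, orderOf a = p ^ k) (hb : ∃ k, orderOf b = q ^ k) : (orderOf a).Coprime (orderOf b) := by
  obtain ⟨i, hi⟩ := ha
  obtain ⟨j, hj⟩ := hb
  rw [hi, hj]
  exact Nat.Coprime.pow _ _ ((Nat.coprime_primes hp hq).mpr hpq)

omit [Finite G] in
theorem center_le_C (x : G) : center G ≤ C(x) := Subgroup.center_le_centralizer _

theorem TwoSizes.exists_mem_centralizer (h : TwoSizes G n) {r : ℕ} [Fact r.Prime] (hr : NCPrime G r)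
    {w : G} (hw : w ∉ center G) : ∃ a ∈ C(w), (∃ k, orderOf a = r ^ k) ∧ a ∉ center G := by
  by_contra hcon
  push Not at hcon
  obtain ⟨y, ⟨ky, hky⟩, hy⟩ := hr
  obtain ⟨S⟩ : Nonempty (Sylow r C(w)) := inferInstance
  set S' := (S : Subgroup C(w)).map (C(w)).subtype
  have hS : S' ≤ center G := by
    rintro _ ⟨s, hs, rfl⟩
    obtain ⟨k, hk⟩ := IsPGroup.iff_orderOf.mp S.2 ⟨s, hs⟩
    rw [Subgroup.orderOf_mk] at hk
    exact hcon s s.2 ⟨k, by rw [Subgroup.orderOf_coe, hk]⟩
  set U := S' ⊔ zpowers y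
  have hyn : zpowers y ≤ normalizer (S' : Set G) := fun z _ =>
    mem_normalizer_iff.mpr fun s => by
      have hc : ∀ u ∈ S', z * u * z⁻¹ = u := fun u hu => by
        rw [mem_center_iff.mp (hS hu) z, mul_inv_cancel_right]
      refine ⟨fun hs => (hc s hs).symm ▸ hs, fun hs => ?_⟩
      have h2 := mem_center_iff.mp (hS hs) z⁻¹
      have : s = z * s * z⁻¹ := by
        calc s = z⁻¹ * (z * s * z⁻¹) * z := by group
          _ = z * s * z⁻¹ := by rw [h2]; group
      exact this ▸ hs
  have hU : IsPGroup r U := (S.2.map _).to_sup_of_normal_left'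
    (IsPGroup.of_card (n := ky) (by rw [Nat.card_zpowers, hky])) hyn
  have hUC : U ≤ C(y) := sup_le (hS.trans (center_le_C y)) (zpowers_le.mpr (mem_centralizer_singleton_self y))
  have h1 := card_le_pow_factorization hU hUC
  have hcard : Nat.card C(y) = Nat.card C(w) := by
    have h1 := (C(y)).card_mul_index
    have h2 := (C(w)).card_mul_index
    rw [h.2 y hy] at h1
    rw [h.2 w hw] at h2
    exact Nat.eq_of_mul_eq_mul_right (by linarith [h.1]) (h1.trans h2.symm)
  rw [hcard, ← S.card_eq_multiplicity, ← card_map_of_injective (K := (S : Subgroup C(w))) (C(w)).subtype_injective] at h1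
  have heq : S' = U := eq_of_le_of_card_ge le_sup_left h1
  exact hy (hS (heq.ge (mem_sup_right (mem_zpowers y))))

/-- With two noncentral primes all centralizers of noncentral elements are abelian. -/
theorem TwoSizes.centralizer_comm (h : TwoSizes G n) {p q : ℕ} [Fact p.Prime] [Fact q.Prime] (hpq : p ≠ q)
    (hp : NCPrime G p) (hq : NCPrime G q) {w : G} (hw : w ∉ center G) :
    ∀ a ∈ C(w), ∀ b ∈ C(w), a * b = b * a := by
  have hpe : ∀ x : G, (∃ k, orderOf x = p ^ k) → x ∉ center G → ∀ a ∈ C(x), C(x) ≤ C(a) := by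
    intro x hx hxn g hg
    obtain ⟨y, hyC, hy, hyn⟩ := h.exists_mem_centralizer hq hxn
    have hxy : C(x) = C(y) := h.centralizer_eq (show Commute y x from mem_centralizer_singleton_iff.mp hyC).symm
      (coprime_of_pow Fact.out Fact.out hpq hx hy) hxn hyn
    obtain ⟨a, b, ha, hb, hab, hak, hbk, hcomm⟩ := exists_parts g p
    have haC : a ∈ C(x) := (zpowers_le.mpr hg) ha
    have hbC : b ∈ C(x) := (zpowers_le.mpr hg) hb
    have hA : C(x) ≤ C(a) := by
      by_cases han : a ∈ center G
      · rw [centralizer_singleton_eq_top_iff.mpr han]; exact le_top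
      · rw [hxy] at haC ⊢
        exact (h.centralizer_eq (show Commute a y from mem_centralizer_singleton_iff.mp haC).symm
          (coprime_of_pow Fact.out Fact.out hpq.symm hy hak) hyn han).le
    have hB : C(x) ≤ C(b) := by
      by_cases hbn : b ∈ center G
      · rw [centralizer_singleton_eq_top_iff.mpr hbn]; exact le_top
      · obtain ⟨k, hk⟩ := hx
        exact (h.centralizer_eq (show Commute b x from mem_centralizer_singleton_iff.mp hbC).symm
          (by rw [hk]; exact Nat.Coprime.pow_left _ hbk.symm) hxn hbn).le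
    intro u hu
    refine mem_centralizer_singleton_iff.mpr ?_
    rw [← hab]
    exact ((show Commute u a from mem_centralizer_singleton_iff.mp (hA hu)).mul_right
      (mem_centralizer_singleton_iff.mp (hB hu))).eq
  -- pass from `w` to a prime-power element with the same centralizer
  intro a ha b hb
  obtain ⟨u, v, hu, hv, huv, huk, hvk, hcomm⟩ := exists_parts w p
  have hle : ∀ z ∈ zpowers w, C(w) ≤ C(z) := by
    rintro _ ⟨i, rfl⟩ c hc
    exact mem_centralizer_singleton_iff.mpr ((show Commute c w from mem_centralizer_singleton_iff.mp hc).zpow_right i).eq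
  by_cases hun : u ∈ center G
  · have hvn : v ∉ center G := fun hvn => hw (huv ▸ mul_mem hun hvn)
    obtain ⟨z, hzC, hz, hzn⟩ := h.exists_mem_centralizer hp hvn
    have hzv : C(z) = C(v) := h.centralizer_eq (mem_centralizer_singleton_iff.mp hzC)
      (by obtain ⟨k, hk⟩ := hz; rw [hk]; exact Nat.Coprime.pow_left _ hvk.symm) hzn hvn
    have ha' := hle v hv ha
    have hb' := hle v hv hb
    rw [← hzv] at ha' hb'
    exact mem_centralizer_singleton_iff.mp (hpe z hz hzn b hb' ha')
  · exact mem_centralizer_singleton_iff.mp (hpe u huk hun b (hle u hu hb) (hle u hu ha))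

/-- The Sylow subgroups meet the centralizers in index `p`. -/
theorem TwoSizes.factorization_succ (h : TwoSizes G n) {p q : ℕ} [hp' : Fact p.Prime] [Fact q.Prime] (hpq : p ≠ q)
    (hp : NCPrime G p) (hq : NCPrime G q) {w : G} (hw : w ∉ center G) :
    (Nat.card G).factorization p = (Nat.card C(w)).factorization p + 1 := by
  have hcardC : ∀ y : G, y ∉ center G → Nat.card C(y) = Nat.card C(w) := by
    intro y hy
    have h1 := (C(y)).card_mul_index
    have h2 := (C(w)).card_mul_index
    rw [h.2 y hy] at h1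
    rw [h.2 w hw] at h2
    exact Nat.eq_of_mul_eq_mul_right (by linarith [h.1]) (h1.trans h2.symm)
  obtain ⟨P⟩ : Nonempty (Sylow p G) := inferInstance
  have hPn : ¬ (P : Subgroup G) ≤ center G := by
    intro hle
    obtain ⟨x, ⟨k, hk⟩, hx⟩ := hp
    obtain ⟨P', hP'⟩ := (IsPGroup.of_card (p := p) (n := k) (G := zpowers x) (by rw [Nat.card_zpowers, hk])).exists_le_sylow
    obtain ⟨g, hg⟩ := MulAction.exists_smul_eq G P P'
    have h1 := hP' (mem_zpowers x)
    rw [← hg, Sylow.coe_subgroup_smul] at h1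
    obtain ⟨s, hs, hsx⟩ := h1
    have hsx' : g * s * g⁻¹ = x := hsx
    rw [mem_center_iff.mp (hle hs) g, mul_inv_cancel_right] at hsx'
    exact hx (hsx' ▸ hle hs)
  -- an element central modulo the centre
  set Z := (center G).subgroupOf (P : Subgroup G) with hZ
  haveI : Z.Normal := inferInstanceAs ((center G).subgroupOf (P : Subgroup G)).Normal
  haveI hnt : Nontrivial ((P : Subgroup G) ⧸ Z) := by
    rw [← Finite.one_lt_card_iff_nontrivial, ← index_eq_card, Nat.one_lt_iff_ne_zero_and_ne_one]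
    exact ⟨Subgroup.index_ne_zero_of_finite, fun e => hPn (subgroupOf_eq_top.mp (index_eq_one.mp e))⟩
  have hQp : IsPGroup p ((P : Subgroup G) ⧸ Z) := P.2.to_quotient Z
  haveI : Nontrivial (center ((P : Subgroup G) ⧸ Z)) := hQp.center_nontrivial
  obtain ⟨z, hz⟩ := exists_prime_orderOf_dvd_card' (G := center ((P : Subgroup G) ⧸ Z)) p (by
    obtain ⟨m, hm, hm'⟩ := (hQp.to_subgroup (center _)).nontrivial_iff_card.mp inferInstance
    exact hm' ▸ dvd_pow_self p hm.ne')
  obtain ⟨x0, hx0⟩ := QuotientGroup.mk'_surjective Z (z : (P : Subgroup G) ⧸ Z)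
  have hx0' : (x0 : (P : Subgroup G) ⧸ Z) = (z : (P : Subgroup G) ⧸ Z) := hx0
  set x : G := (x0 : G) with hx
  have hxn : x ∉ center G := by
    intro hc
    have h1 : (x0 : (P : Subgroup G) ⧸ Z) = 1 := (QuotientGroup.eq_one_iff x0).mpr hc
    rw [hx0'] at h1
    rw [← Subgroup.orderOf_coe, h1, orderOf_one] at hz
    exact hp'.out.one_lt.ne hz
  have hxp : x ^ p ∈ center G := by
    have hzp : z ^ p = 1 := by
      have := pow_orderOf_eq_one z
      rwa [hz] at this
    have h1 : ((x0 ^ p : (P : Subgroup G)) : (P : Subgroup G) ⧸ Z) = 1 := by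
      rw [QuotientGroup.mk_pow, hx0', ← SubmonoidClass.coe_pow, hzp, OneMemClass.coe_one]
    have h2 : x0 ^ p ∈ Z := (QuotientGroup.eq_one_iff (x0 ^ p)).mp h1
    exact h2
  have hcomm : ∀ u ∈ (P : Subgroup G), u * x * u⁻¹ * x⁻¹ ∈ center G := by
    intro u hu
    have h1 := mem_center_iff.mp z.2 ((⟨u, hu⟩ : (P : Subgroup G)) : (P : Subgroup G) ⧸ Z)
    rw [← hx0', ← QuotientGroup.mk_mul, ← QuotientGroup.mk_mul] at h1
    have h2 := QuotientGroup.eq.mp h1.symm
    have h3 : (x * u)⁻¹ * (u * x) ∈ center G := h2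
    have h4 := (inferInstance : (center G).Normal).conj_mem _ h3 (x * u)
    rwa [show x * u * ((x * u)⁻¹ * (u * x)) * (x * u)⁻¹ = u * x * u⁻¹ * x⁻¹ by group] at h4
  set C := C(x) with hC
  have hab := h.centralizer_comm hpq hp hq hxn
  -- `P` normalizes `C`
  have hPC : ∀ u ∈ (P : Subgroup G), ∀ c ∈ C, u * c * u⁻¹ ∈ C := by
    intro u hu c hc
    rw [hC, mem_centralizer_singleton_iff]
    have hc' := mem_centralizer_singleton_iff.mp hc
    have hzc := mem_center_iff.mp (hcomm u hu)
    set zc := u * x * u⁻¹ * x⁻¹ with hzdef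
    have hux : x = zc⁻¹ * (u * x * u⁻¹) := by rw [hzdef]; group
    have h1 : u * c * u⁻¹ * (u * x * u⁻¹) = u * x * u⁻¹ * (u * c * u⁻¹) := by
      calc u * c * u⁻¹ * (u * x * u⁻¹) = u * (c * x) * u⁻¹ := by group
        _ = u * (x * c) * u⁻¹ := by rw [hc']
        _ = _ := by group
    have h2 : u * c * u⁻¹ * zc⁻¹ = zc⁻¹ * (u * c * u⁻¹) := mem_center_iff.mp (inv_mem (hcomm u hu)) _
    rw [hux, ← mul_assoc, h2, mul_assoc, h1]
    group
  have hPN : (P : Subgroup G) ≤ normalizer (C : Set G) := fun u hu => mem_normalizer_iff.mpr fun c =>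
    ⟨hPC u hu c, fun hc => by simpa [mul_assoc] using hPC u⁻¹ (inv_mem hu) _ hc⟩
  haveI hCc : IsMulCommutative C := ⟨⟨fun a b => Subtype.ext (hab a a.2 b b.2)⟩⟩
  have hnormC : ∀ (S : Subgroup C), S.Characteristic → (P : Subgroup G) ≤ normalizer ((S.map C.subtype : Subgroup G) : Set G) := by
    intro S hS u hu
    rw [mem_normalizer_iff_map_conj_eq]
    haveI := hS
    have hu' : C.map (MulAut.conj u).toMonoidHom = C := mem_normalizer_iff_map_conj_eq.mp (hPN hu)
    let e : C ≃* C := ((MulAut.conj u).subgroupMap C).trans (MulEquiv.subgroupCongr hu')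
    have hSe : S.map e.toMonoidHom = S := characteristic_iff_map_eq.mp hS e
    refine le_antisymm ?_ ?_
    · rintro _ ⟨_, ⟨s, hs, rfl⟩, rfl⟩
      exact ⟨e s, hSe.le ⟨s, hs, rfl⟩, rfl⟩
    · rintro _ ⟨s, hs, rfl⟩
      obtain ⟨s', hs', rfl⟩ := hSe.ge hs
      exact ⟨(s' : G), ⟨s', hs', rfl⟩, rfl⟩
  obtain ⟨Sp⟩ : Nonempty (Sylow p C) := inferInstance
  haveI : (Sp : Subgroup C).Normal := Subgroup.normal_of_isMulCommutative _
  set D := (Sp : Subgroup C).map C.subtype with hD
  have hDP : D ≤ (P : Subgroup G) := by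
    have hs := P.3 ((Sp.2.map C.subtype).to_sup_of_normal_left' P.2 (hnormC Sp (Sp.characteristic_of_normal inferInstance))) le_sup_right
    exact hs ▸ le_sup_left
  obtain ⟨y, hyC, hyk, hyn⟩ := h.exists_mem_centralizer hq hxn
  obtain ⟨Sq⟩ : Nonempty (Sylow q C) := inferInstance
  haveI : (Sq : Subgroup C).Normal := Subgroup.normal_of_isMulCommutative _
  set A := (Sq : Subgroup C).map C.subtype with hA
  have hyA : y ∈ A := by
    obtain ⟨k, hk⟩ := hyk
    exact ⟨⟨y, hyC⟩, IsPGroup.le_sylow_of_normal (N := zpowers (⟨y, hyC⟩ : C))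
      (IsPGroup.of_card (n := k) (by rw [Nat.card_zpowers, Subgroup.orderOf_mk, hk])) Sq (mem_zpowers _), rfl⟩
  have hAC : A ≤ C := map_subtype_le _
  have hDC : D ≤ C := map_subtype_le _
  have hPCD : ∀ u ∈ (P : Subgroup G), u ∈ C → u ∈ D := by
    intro u hu huC
    refine ⟨⟨u, huC⟩, IsPGroup.le_sylow_of_normal (N := ((P : Subgroup G)).subgroupOf C) ?_ Sp hu, rfl⟩
    exact P.2.comap_subtype
  have hfix : ∀ u ∈ (P : Subgroup G), u ∉ D → ∀ c ∈ C, c * u = u * c → c ∈ center G := by
    intro u hu huD c hc hcu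
    by_contra hcn
    refine huD (hPCD u hu ?_)
    rw [hC, mem_centralizer_singleton_iff]
    exact h.centralizer_comm hpq hp hq hcn u (mem_centralizer_singleton_iff.mpr hcu.symm) x
      (mem_centralizer_singleton_iff.mpr (mem_centralizer_singleton_iff.mp hc).symm)
  have hexpp : ∀ u ∈ (P : Subgroup G), u ^ p ∈ D := by
    intro u hu
    refine hPCD _ (pow_mem hu p) ?_
    rw [hC, mem_centralizer_singleton_iff]
    set zc := u * x * u⁻¹ * x⁻¹ with hzc
    have hz := mem_center_iff.mp (hcomm u hu)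
    have hit : ∀ i : ℕ, u ^ i * x * (u ^ i)⁻¹ = zc ^ i * x := by
      intro i
      induction i with
      | zero => simp
      | succ i hi =>
        calc u ^ (i + 1) * x * (u ^ (i + 1))⁻¹ = u * (u ^ i * x * (u ^ i)⁻¹) * u⁻¹ := by rw [pow_succ']; group
          _ = u * zc ^ i * x * u⁻¹ := by rw [hi]; group
          _ = zc ^ i * u * x * u⁻¹ := by rw [(show Commute u zc from hz u).pow_right i |>.eq]
          _ = zc ^ i * zc * x := by rw [hzc]; group
          _ = zc ^ (i + 1) * x := by rw [pow_succ]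
    have hzp : zc ^ p = 1 := by
      have h1 : u * x ^ p * u⁻¹ = (u * x * u⁻¹) ^ p := conj_pow.symm
      rw [mem_center_iff.mp hxp u, mul_inv_cancel_right, show u * x * u⁻¹ = zc * x by rw [hzc]; group,
        (show Commute zc x from (hz x).symm).mul_pow] at h1
      exact mul_eq_right.mp h1.symm
    have h2 := hit p
    rw [hzp, one_mul] at h2
    exact mul_inv_eq_iff_eq_mul.mp h2
  have hcommD : ∀ u ∈ (P : Subgroup G), ∀ v ∈ (P : Subgroup G), u * v * u⁻¹ * v⁻¹ ∈ D := by
    intro u hu v hv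
    refine hPCD _ (mul_mem (mul_mem (mul_mem hu hv) (inv_mem hu)) (inv_mem hv)) ?_
    rw [hC, mem_centralizer_singleton_iff]
    -- the images of `x` under `u`, `v` differ from it by central elements
    have hex : ∀ u ∈ (P : Subgroup G), ∃ a : G, (∀ g, g * a = a * g) ∧ u * x * u⁻¹ = a * x := fun u hu =>
      ⟨u * x * u⁻¹ * x⁻¹, mem_center_iff.mp (hcomm u hu), by group⟩
    obtain ⟨a, ha, hau⟩ := hex u hu
    obtain ⟨b, hb, hbv⟩ := hex v hv
    have h1 : u * v * x * (u * v)⁻¹ = b * (a * x) := by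
      calc u * v * x * (u * v)⁻¹ = u * (v * x * v⁻¹) * u⁻¹ := by group
        _ = (u * b) * x * u⁻¹ := by rw [hbv]; group
        _ = b * (u * x * u⁻¹) := by rw [hb u]; group
        _ = b * (a * x) := by rw [hau]
    have h2 : v * u * x * (v * u)⁻¹ = b * (a * x) := by
      calc v * u * x * (v * u)⁻¹ = v * (u * x * u⁻¹) * v⁻¹ := by group
        _ = (v * a) * x * v⁻¹ := by rw [hau]; group
        _ = a * (v * x * v⁻¹) := by rw [ha v]; group
        _ = a * b * x := by rw [hbv]; group
        _ = b * (a * x) := by rw [hb a]; group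
    have h3 := h1.trans h2.symm
    refine mul_inv_eq_iff_eq_mul.mp ?_
    have h4 : u * v * u⁻¹ * v⁻¹ * (v * u * x * (v * u)⁻¹) * (u * v * u⁻¹ * v⁻¹)⁻¹ = u * v * x * (u * v)⁻¹ := by
      group
    have hcC : ∀ g : G, g * (b * (a * x)) * g⁻¹ = b * (a * (g * x * g⁻¹)) := by
      intro g
      calc g * (b * (a * x)) * g⁻¹ = (g * b) * a * x * g⁻¹ := by group
        _ = b * (g * a) * x * g⁻¹ := by rw [hb g]; group
        _ = _ := by rw [ha g]; group
    rw [h2, h1, hcC] at h4
    exact mul_left_cancel (mul_left_cancel h4)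
  -- `P / D` acts freely on `A`, hence is cyclic of order `p`
  set Γ := normalizer (D : Set G) with hΓ
  have hPΓ : (P : Subgroup G) ≤ Γ := hnormC Sp (Sp.characteristic_of_normal inferInstance)
  have hAΓ : A ≤ Γ := fun a ha => mem_normalizer_iff.mpr fun d => by
    constructor
    · intro hd; rw [hab a (hAC ha) d (hDC hd), mul_inv_cancel_right]; exact hd
    · intro hd
      have e : a * d * a⁻¹ = d := mul_left_cancel (a := a⁻¹) (by
        have := hab a⁻¹ (inv_mem (hAC ha)) _ (hDC hd)
        calc a⁻¹ * (a * d * a⁻¹) = a * d * a⁻¹ * a⁻¹ := this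
          _ = a⁻¹ * d := by
            have h5 : a * d * a⁻¹ * a⁻¹ = a⁻¹ * (a * d * a⁻¹) := this.symm
            rw [h5]
            have hdC : d ∈ C := by
              have := mul_mem (mul_mem (inv_mem (hAC ha)) (hDC hd)) (hAC ha)
              simpa [mul_assoc] using this
            rw [hab a (hAC ha) d hdC, mul_inv_cancel_right])
      rwa [e] at hd
  have hAP : A ⊓ D = ⊥ := by
    refine (IsPGroup.disjoint_of_ne q p hpq.symm A D (Sq.2.map _) (Sp.2.map _)).eq_bot
  haveI : (D.subgroupOf Γ).Normal := normal_in_normalizer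
  set φ := QuotientGroup.mk' (D.subgroupOf Γ) with hφ
  set E := ((P : Subgroup G).subgroupOf Γ).map φ with hE
  set A' := (A.subgroupOf Γ).map φ with hA'
  haveI hEc : IsMulCommutative E := by
    refine ⟨⟨fun a b => Subtype.ext ?_⟩⟩
    obtain ⟨a, u, hu, rfl⟩ := a
    obtain ⟨b, v, hv, rfl⟩ := b
    show φ u * φ v = φ v * φ u
    rw [← map_mul, ← map_mul]
    refine (QuotientGroup.eq.mpr ?_).symm
    show ((v : G) * u)⁻¹ * (u * v) ∈ D
    have := hcommD _ (inv_mem hu) _ (inv_mem hv)
    simpa [mul_assoc] using this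
  have hcyc : IsCyclic E := by
    by_contra hnc
    have hAn : E ≤ normalizer (A' : Set (Γ ⧸ D.subgroupOf Γ)) := by
      refine le_trans ?_ (le_normalizer_map φ)
      refine map_mono fun u hu => ?_
      rw [mem_normalizer_iff]
      intro a
      exact mem_normalizer_iff.mp (hnormC Sq (Sq.characteristic_of_normal inferInstance) hu) (a : G)
    have hEp : IsPGroup p E := (P.2.comap_subtype).map φ
    have hA'q : IsPGroup q A' := ((Sq.2.map C.subtype).comap_subtype).map φ
    have hco : (Nat.card E).Coprime (Nat.card A') := IsPGroup.coprime_card_of_ne q p hpq.symm A' E hA'q hEp |>.symm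
    have key := Basics.iSup_inf_centralizer_eq E A' hnc hAn hco
    have hle : (⨆ a ∈ {a | a ∈ E ∧ a ≠ 1}, A' ⊓ centralizer {a}) ≤ ((center G).subgroupOf Γ).map φ := by
      refine iSup₂_le ?_
      rintro _ ⟨⟨u, hu, rfl⟩, hu1⟩ _ ⟨⟨a, ha, rfl⟩, hac⟩
      refine ⟨a, ?_, rfl⟩
      have huD : (u : G) ∉ D := fun huD => hu1 ((QuotientGroup.eq_one_iff u).mpr huD)
      refine hfix u hu huD a (hAC ha) ?_
      have h1 : φ a * φ u = φ u * φ a := mem_centralizer_singleton_iff.mp hac
      rw [← map_mul, ← map_mul] at h1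
      have h2' := QuotientGroup.eq.mp h1
      have h2 : ((a : G) * u)⁻¹ * ((u : G) * a) ∈ D := h2'
      have h3 : ((a : G) * u)⁻¹ * ((u : G) * a) ∈ A := by
        have h4 : (u : G)⁻¹ * (a : G)⁻¹ * u ∈ A := by
          have h4a : (u : G)⁻¹ * (a : G)⁻¹ * (u : G)⁻¹⁻¹ ∈ A :=
            (mem_normalizer_iff.mp (hnormC Sq (Sq.characteristic_of_normal inferInstance) (inv_mem hu)) _).mp (inv_mem ha)
          rwa [inv_inv] at h4a
        rw [show ((a : G) * u)⁻¹ * ((u : G) * a) = ((u : G)⁻¹ * (a : G)⁻¹ * u) * a by group]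
        exact mul_mem h4 ha
      have h5 : ((a : G) * u)⁻¹ * ((u : G) * a) = 1 := Subgroup.mem_bot.mp (hAP ▸ ⟨h3, h2⟩)
      exact (inv_mul_eq_one.mp h5)
    rw [key] at hle
    obtain ⟨a, ha, hay⟩ := hle (show φ ⟨y, hAΓ hyA⟩ ∈ A' from ⟨_, hyA, rfl⟩)
    have h1' := QuotientGroup.eq.mp hay
    have h1 : (a : G)⁻¹ * y ∈ D := h1'
    have h2 : y = (a : G) * ((a : G)⁻¹ * y) := by group
    obtain ⟨k, hk⟩ := hyk
    obtain ⟨j, hj⟩ := IsPGroup.iff_orderOf.mp (Sp.2.map C.subtype) ⟨_, h1⟩
    rw [Subgroup.orderOf_mk] at hj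
    apply hyn
    have hpow : y ^ (p ^ j) ∈ center G := by
      rw [h2, (show Commute (a : G) ((a : G)⁻¹ * y) from (mem_center_iff.mp ha _).symm).mul_pow,
        show ((a : G)⁻¹ * y) ^ (p ^ j) = 1 by rw [← hj]; exact pow_orderOf_eq_one _, mul_one]
      exact pow_mem ha _
    obtain ⟨e, he⟩ := exists_pow_eq_self_of_coprime (x := y) (n := p ^ j)
      (by rw [hk]; exact Nat.Coprime.pow _ _ ((Nat.coprime_primes hp'.out Fact.out).mpr hpq))
    rw [← he]
    exact pow_mem hpow e
  have hEcard : Nat.card E ≤ p := by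
    obtain ⟨g, hg⟩ := hcyc.exists_ofOrder_eq_natCard
    rw [← hg]
    refine Nat.le_of_dvd hp'.out.pos (orderOf_dvd_of_pow_eq_one (Subtype.ext ?_))
    obtain ⟨u, hu, hug⟩ := g.2
    rw [SubmonoidClass.coe_pow, ← hug, ← map_pow]
    exact (QuotientGroup.eq_one_iff _).mpr (hexpp u hu)
  have hsplit : Nat.card (P : Subgroup G) = Nat.card E * Nat.card D := by
    have h1 := (φ.domRestrict ((P : Subgroup G).subgroupOf Γ)).ker.card_mul_index
    rw [Subgroup.index_ker, MonoidHom.domRestrict_range, MonoidHom.ker_domRestrict, hφ, QuotientGroup.ker_mk'] at h1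
    rw [Basics.card_subgroupOf (show D.subgroupOf Γ ≤ (P : Subgroup G).subgroupOf Γ from fun u hu => hDP hu),
      Basics.card_subgroupOf (hDP.trans hPΓ),
      Basics.card_subgroupOf hPΓ, mul_comm] at h1
    exact h1.symm
  have hDcard : Nat.card D = p ^ (Nat.card C(w)).factorization p := by
    rw [hD, card_map_of_injective C.subtype_injective, Sp.card_eq_multiplicity]
    exact congrArg (fun m => p ^ m.factorization p) (hcardC x hxn)
  have hne : ¬ (P : Subgroup G) ≤ D := by
    intro hle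
    have hdvd : p ∣ n := by
      by_contra hpn
      exact hPn (h.not_central_of_dvd hpn P)
    rw [← h.2 x hxn] at hdvd
    have hnd : ¬ p ∣ D.index := fun hd => P.not_dvd_index (hd.trans (index_dvd_of_le hle))
    exact hnd (hdvd.trans (index_dvd_of_le hDC))
  have hE1 : Nat.card E ≠ 1 := by
    intro h1
    rw [h1, one_mul] at hsplit
    exact hne (eq_of_le_of_card_ge hDP hsplit.le).ge
  obtain ⟨e, he'⟩ := ((P.2.comap_subtype).map φ : IsPGroup p E).exists_card_eq
  have he : Nat.card E = p ^ e := he'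
  rw [he] at hsplit hE1 hEcard
  rw [hDcard, P.card_eq_multiplicity, ← pow_add] at hsplit
  have := Nat.pow_right_injective hp'.out.two_le hsplit
  have he1 : e ≤ 1 := (Nat.pow_le_pow_iff_right hp'.out.one_lt).mp (hEcard.trans (pow_one p).ge)
  have he0 : e ≠ 0 := fun h0 => hE1 (by rw [h0, pow_zero])
  omega

/-- Two class sizes: at most one prime has noncentral elements. -/
theorem TwoSizes.ncPrime_unique (h : TwoSizes G n) {p q : ℕ} [Fact p.Prime] [Fact q.Prime]
    (hp : NCPrime G p) (hq : NCPrime G q) : p = q := by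
  by_contra hpq
  -- every centralizer is normal
  have hnormal : ∀ w : G, w ∉ center G → (C(w)).Normal := by
    intro w hw
    rw [← normalizer_eq_top_iff, ← index_eq_one]
    by_contra hne
    obtain ⟨r, hr, hrd⟩ := Nat.exists_prime_and_dvd hne
    haveI := Fact.mk hr
    by_cases hrn : NCPrime G r
    swap
    · obtain ⟨R⟩ : Nonempty (Sylow r G) := inferInstance
      refine R.not_dvd_index (hrd.trans (index_dvd_of_le fun u hu => le_normalizer (center_le_C w ?_)))
      by_contra hu'
      obtain ⟨k, hk⟩ := IsPGroup.iff_orderOf.mp R.2 ⟨u, hu⟩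
      rw [Subgroup.orderOf_mk] at hk
      exact hrn ⟨u, ⟨k, hk⟩, hu'⟩
    obtain ⟨s, hs, hsr⟩ : ∃ s : ℕ, (∃ _ : Fact s.Prime, NCPrime G s) ∧ r ≠ s := by
      by_cases hrp : r = p
      · exact ⟨q, ⟨inferInstance, hq⟩, hrp ▸ hpq⟩
      · exact ⟨p, ⟨inferInstance, hp⟩, hrp⟩
    obtain ⟨hsf, hsn⟩ := hs
    have hab := h.centralizer_comm hsr hrn hsn hw
    have hfac := h.factorization_succ hsr hrn hsn hw
    obtain ⟨a, haC, hak, han⟩ := h.exists_mem_centralizer hrn hw
    have haw : C(a) = C(w) := by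
      refine (eq_of_le_of_card_ge (fun c hc => mem_centralizer_singleton_iff.mpr (hab c hc a haC)) ?_).symm
      have h1 := (C(a)).card_mul_index
      have h2 := (C(w)).card_mul_index
      rw [h.2 a han] at h1
      rw [h.2 w hw] at h2
      exact (Nat.eq_of_mul_eq_mul_right (by linarith [h.1]) (h1.trans h2.symm)).le
    haveI : IsMulCommutative C(w) := ⟨⟨fun u v => Subtype.ext (hab u u.2 v v.2)⟩⟩
    obtain ⟨S⟩ : Nonempty (Sylow r C(w)) := inferInstance
    set U := (S : Subgroup C(w)).map (C(w)).subtype with hU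
    have hUc : Nat.card U = r ^ (Nat.card C(w)).factorization r := by
      rw [hU, card_map_of_injective (C(w)).subtype_injective, S.card_eq_multiplicity]
    obtain ⟨R, hUR⟩ := (S.2.map (C(w)).subtype).exists_le_sylow
    have hidx : (U.subgroupOf (R : Subgroup G)).index = r := by
      have h1 := (U.subgroupOf (R : Subgroup G)).card_mul_index
      rw [Basics.card_subgroupOf hUR, hUc, R.card_eq_multiplicity, hfac, pow_succ] at h1
      exact Nat.eq_of_mul_eq_mul_left (pow_pos hr.pos _) h1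
    haveI hUn : (U.subgroupOf (R : Subgroup G)).Normal :=
      Subgroup.normal_of_index_eq_minFac_card (by
        rw [hidx, R.card_eq_multiplicity, hfac, pow_succ]
        exact ((Nat.pow_minFac (Nat.succ_ne_zero _)).trans hr.minFac_eq).symm ▸ rfl)
    have hRN : (R : Subgroup G) ≤ normalizer (U : Set G) := (normal_subgroupOf_iff_le_normalizer hUR).mp hUn
    -- `C(U) = C(w)`
    have haU : a ∈ U := by
      obtain ⟨k, hk⟩ := hak
      haveI : (S : Subgroup C(w)).Normal := Subgroup.normal_of_isMulCommutative _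
      exact ⟨⟨a, haC⟩, IsPGroup.le_sylow_of_normal (N := zpowers (⟨a, haC⟩ : C(w)))
        (IsPGroup.of_card (n := k) (by rw [Nat.card_zpowers, Subgroup.orderOf_mk, hk])) S (mem_zpowers _), rfl⟩
    have hCU : C(w) = centralizer (U : Set G) := by
      refine le_antisymm (fun c hc => mem_centralizer_iff.mpr fun u hu => ?_) fun c hc => ?_
      · exact hab u (map_subtype_le _ hu) c hc
      · rw [← haw, mem_centralizer_singleton_iff]
        exact (mem_centralizer_iff.mp hc a haU).symm
    refine R.not_dvd_index (hrd.trans (index_dvd_of_le fun g hg => ?_))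
    rw [hCU, mem_normalizer_iff]
    have hmem : ∀ g ∈ normalizer (U : Set G), ∀ c ∈ centralizer (U : Set G), g * c * g⁻¹ ∈ centralizer (U : Set G) := by
      intro g hg c hc
      rw [mem_centralizer_iff]
      intro u hu
      have hu' : g⁻¹ * u * g ∈ U := by simpa using (mem_normalizer_iff.mp (inv_mem hg) u).mp hu
      have h1 := mem_centralizer_iff.mp hc _ hu'
      calc u * (g * c * g⁻¹) = g * ((g⁻¹ * u * g) * c) * g⁻¹ := by group
        _ = g * (c * (g⁻¹ * u * g)) * g⁻¹ := by rw [h1]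
        _ = _ := by group
    exact fun c => ⟨hmem g (hRN hg) c, fun hc => by simpa [mul_assoc] using hmem g⁻¹ (inv_mem (hRN hg)) _ hc⟩
  -- hence the noncentral Sylow subgroups are normal
  have hSyl : ∀ r s : ℕ, ∀ [Fact r.Prime] [Fact s.Prime], r ≠ s → NCPrime G r → NCPrime G s →
      ∀ R : Sylow r G, (R : Subgroup G).Normal := by
    intro r s _ _ hrs hr hs R
    have hr' : (r : ℕ).Prime := Fact.out
    obtain ⟨x, hxk, hxn⟩ := hr
    have hr : NCPrime G r := ⟨x, hxk, hxn⟩
    have key : ∀ w : G, w ∉ center G → ∀ g ∈ C(w), (∃ k, orderOf g = r ^ k) →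
        ∃ U : Subgroup G, U.Normal ∧ g ∈ U ∧ U ≤ C(w) ∧ U ≤ (R : Subgroup G) ∧
          Nat.card U = r ^ (Nat.card C(w)).factorization r := by
      intro w hw g hg hgk
      have hab := h.centralizer_comm hrs hr hs hw
      haveI : IsMulCommutative C(w) := ⟨⟨fun u v => Subtype.ext (hab u u.2 v v.2)⟩⟩
      haveI := hnormal w hw
      obtain ⟨S⟩ : Nonempty (Sylow r C(w)) := inferInstance
      haveI : (S : Subgroup C(w)).Normal := Subgroup.normal_of_isMulCommutative _
      haveI : (S : Subgroup C(w)).Characteristic := S.characteristic_of_normal inferInstance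
      have hn : ((S : Subgroup C(w)).map (C(w)).subtype).Normal := ConjAct.normal_of_characteristic_of_normal
      refine ⟨_, hn, ?_, map_subtype_le _, ?_, ?_⟩
      · obtain ⟨k, hk⟩ := hgk
        exact ⟨⟨g, hg⟩, IsPGroup.le_sylow_of_normal (N := zpowers (⟨g, hg⟩ : C(w)))
          (IsPGroup.of_card (n := k) (by rw [Nat.card_zpowers, Subgroup.orderOf_mk, hk])) S (mem_zpowers _), rfl⟩
      · haveI := hn
        exact IsPGroup.le_sylow_of_normal (S.2.map _) R
      · rw [card_map_of_injective (C(w)).subtype_injective, S.card_eq_multiplicity]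
    obtain ⟨U, hUn, hxU, hUC, hUR, hUc⟩ := key x hxn x (mem_centralizer_singleton_self x) hxk
    have hfac := h.factorization_succ hrs hr hs hxn
    have hlt : ¬ (R : Subgroup G) ≤ U := fun hle => by
      have := Nat.le_of_dvd Nat.card_pos (Subgroup.card_dvd_of_le hle)
      rw [hUc, R.card_eq_multiplicity, hfac, pow_succ] at this
      exact absurd this (not_le.mpr (lt_mul_of_one_lt_right (pow_pos hr'.pos _) hr'.one_lt))
    obtain ⟨u, hu, huU⟩ := SetLike.not_le_iff_exists.mp hlt
    have huk : ∃ k, orderOf u = r ^ k := by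
      obtain ⟨k, hk⟩ := IsPGroup.iff_orderOf.mp R.2 ⟨u, hu⟩
      exact ⟨k, by rw [← hk, Subgroup.orderOf_mk]⟩
    by_cases hun : u ∈ center G
    · exfalso
      obtain ⟨k, hk⟩ := huk
      apply huU
      haveI := hnormal x hxn
      obtain ⟨U', hU'n, huU', hU'C, hU'R, hU'c⟩ := key x hxn u (center_le_C x hun) ⟨k, hk⟩
      haveI := hUn
      haveI := hU'n
      have hsup : IsPGroup r (U ⊔ U' : Subgroup G) := R.2.to_le (sup_le hUR hU'R)
      have hle : U ⊔ U' ≤ C(x) := sup_le hUC hU'C
      have h1 := card_le_pow_factorization hsup hle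
      rw [← hUc] at h1
      exact (eq_of_le_of_card_ge le_sup_left h1).ge (mem_sup_right huU')
    obtain ⟨U', hU'n, huU', hU'C, hU'R, hU'c⟩ := key u hun u (mem_centralizer_singleton_self u) huk
    haveI := hUn
    haveI := hU'n
    suffices hR : (R : Subgroup G) = U ⊔ U' by rw [hR]; infer_instance
    refine (eq_of_le_of_card_ge (sup_le hUR hU'R) ?_).symm
    obtain ⟨m, hm⟩ := (R.2.to_le (sup_le hUR hU'R)).exists_card_eq
    rw [R.card_eq_multiplicity, hfac, hm]
    refine Nat.pow_le_pow_right hr'.pos ?_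
    by_contra hlt'
    have hle : Nat.card (U ⊔ U' : Subgroup G) ≤ Nat.card U := by
      rw [hm, hUc]; exact Nat.pow_le_pow_right hr'.pos (by omega)
    exact huU ((eq_of_le_of_card_ge le_sup_left hle).ge (mem_sup_right huU'))
  obtain ⟨P⟩ : Nonempty (Sylow p G) := inferInstance
  obtain ⟨Q⟩ : Nonempty (Sylow q G) := inferInstance
  have hPn := hSyl p q hpq hp hq P
  have hQn := hSyl q p (Ne.symm hpq) hq hp Q
  obtain ⟨x, ⟨k, hk⟩, hxn⟩ := hp
  haveI := hPn
  haveI := hQn
  have hxP : x ∈ (P : Subgroup G) := IsPGroup.le_sylow_of_normal (N := (P : Subgroup G)) P.2 P (by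
    obtain ⟨P', hP'⟩ := (IsPGroup.of_card (p := p) (n := k) (G := zpowers x) (by rw [Nat.card_zpowers, hk])).exists_le_sylow
    obtain ⟨g, hg⟩ := MulAction.exists_smul_eq G P P'
    rw [Sylow.smul_eq_of_normal] at hg
    exact hg ▸ hP' (mem_zpowers x))
  have hQC : (Q : Subgroup G) ≤ C(x) := fun u hu => mem_centralizer_singleton_iff.mpr
    (Subgroup.commute_of_normal_of_disjoint _ _ hQn hPn
      (IsPGroup.disjoint_of_ne q p (Ne.symm hpq) _ _ Q.2 P.2) u x hu hxP).eq
  by_cases hqn : q ∣ n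
  · exact Q.not_dvd_index ((h.2 x hxn ▸ hqn).trans (index_dvd_of_le hQC))
  · obtain ⟨y, ⟨l, hl⟩, hyn⟩ := hq
    refine hyn (h.not_central_of_dvd hqn Q ?_)
    obtain ⟨Q', hQ'⟩ := (IsPGroup.of_card (p := q) (n := l) (G := zpowers y) (by rw [Nat.card_zpowers, hl])).exists_le_sylow
    obtain ⟨g, hg⟩ := MulAction.exists_smul_eq G Q Q'
    rw [Sylow.smul_eq_of_normal] at hg
    exact hg ▸ hQ' (mem_zpowers y)

end Cfsg.Agent.FGB
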