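import Mathlib
import Cfsg.Agent.Lib.CT.Integral
import Cfsg.Agent.Lib.Basics.Hall
import Cfsg.Agent.Lib.Basics.Cores
import Cfsg.Agent.Lib.Basics.Tools

/-!
# Groups whose `p`-regular classes have `p`-power size

Such groups are exactly the groups with an abelian `p`-complement.
-/

set_option autoImplicit false
set_option linter.style.haveILetI false

namespace Cfsg.Agent.FGB

universe u

variable {G : Type u} [Group G]

theorem ncard_carrier_eq_index_centralizer (x : G) :
    (ConjClasses.mk x).carrier.ncard = (Subgroup.centralizer ({x} : Set G)).index := by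
  rw [← ConjAct.orbit_eq_carrier_conjClasses, ← MulAction.index_stabilizer,
    ConjAct.stabilizer_eq_centralizer]
  rfl

/-- For `N` normal, the index of `C ⊓ N` in `N` divides the index of `C`. -/
theorem relIndex_dvd_index_of_normal_right [Finite G] (C N : Subgroup G) [N.Normal] :
    C.relIndex N ∣ C.index := by
  have h1 := Basics.card_mul_card_eq_card_sup_mul_card_inf (N := N) (H := C)
    Subgroup.le_normalizer_of_normal
  have h2 := (C.subgroupOf N).card_mul_index
  have e : Nat.card (C.subgroupOf N) = Nat.card (N ⊓ C : Subgroup G) := by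
    rw [← Subgroup.inf_subgroupOf_right, Basics.card_subgroupOf inf_le_right, inf_comm]
  rw [e, ← Subgroup.relIndex] at h2
  have h3 : C.relIndex N * Nat.card C = Nat.card (N ⊔ C : Subgroup G) := by
    refine Nat.eq_of_mul_eq_mul_left (Nat.card_pos (α := (N ⊓ C : Subgroup G))) ?_
    rw [← mul_assoc, h2, h1, mul_comm]
  refine ⟨(N ⊔ C).index, Nat.eq_of_mul_eq_mul_left (Nat.card_pos (α := C)) ?_⟩
  rw [C.card_mul_index, ← mul_assoc, mul_comm (Nat.card C), h3, Subgroup.card_mul_index]

/-- Every element of order prime to `p` has a conjugacy class of `p`-power size. -/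
def PRegClassPow (p : ℕ) (G : Type u) [Group G] : Prop :=
  ∀ x : G, (orderOf x).Coprime p → ∃ k : ℕ, (Subgroup.centralizer ({x} : Set G)).index = p ^ k

theorem PRegClassPow.subgroup [Finite G] {p : ℕ} (hp : p.Prime) (h : PRegClassPow p G)
    (N : Subgroup G) [N.Normal] : PRegClassPow p N := by
  intro x hx
  obtain ⟨k, hk⟩ := h (x : G) (by rwa [Subgroup.orderOf_coe])
  have e : Subgroup.centralizer ({x} : Set N) =
      (Subgroup.centralizer ({(x : G)} : Set G)).subgroupOf N := by
    ext y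
    rw [Subgroup.mem_subgroupOf, Subgroup.mem_centralizer_singleton_iff,
      Subgroup.mem_centralizer_singleton_iff]
    exact ⟨fun e => congrArg Subtype.val e, fun e => Subtype.ext e⟩
  obtain ⟨i, -, hi⟩ := (Nat.dvd_prime_pow hp).mp
    (hk ▸ relIndex_dvd_index_of_normal_right (Subgroup.centralizer ({(x : G)} : Set G)) N)
  exact ⟨i, e ▸ hi⟩

theorem exists_coprime_lift [Finite G] {H : Type u} [Group H] (f : G →* H)
    (hf : Function.Surjective f) {p : ℕ} (hp : p.Prime) {x : H} (hx : (orderOf x).Coprime p) :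
    ∃ y : G, f y = x ∧ (orderOf y).Coprime p := by
  obtain ⟨y, rfl⟩ := hf x
  set n := orderOf y with hn
  have hn0 : n ≠ 0 := (orderOf_pos y).ne'
  obtain ⟨m, hm⟩ := exists_pow_eq_self_of_coprime (x := f y) (n := p ^ n.factorization p)
    (Nat.Coprime.pow_left _ hx.symm)
  refine ⟨(y ^ p ^ n.factorization p) ^ m, by rw [map_pow, map_pow, hm], ?_⟩
  have hdvd : orderOf ((y ^ p ^ n.factorization p) ^ m) ∣ n / p ^ n.factorization p := by
    refine (orderOf_pow_dvd m).trans (orderOf_dvd_of_pow_eq_one ?_)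
    rw [← pow_mul, Nat.mul_div_cancel' (Nat.ordProj_dvd n p), hn, pow_orderOf_eq_one]
  exact Nat.Coprime.coprime_dvd_left hdvd (Nat.coprime_ordCompl hp hn0).symm

theorem PRegClassPow.of_surjective [Finite G] {p : ℕ} (hp : p.Prime) (h : PRegClassPow p G)
    {H : Type u} [Group H] (f : G →* H) (hf : Function.Surjective f) : PRegClassPow p H := by
  intro x hx
  obtain ⟨y, rfl, hy⟩ := exists_coprime_lift f hf hp hx
  obtain ⟨k, hk⟩ := h y hy
  have hle : (Subgroup.centralizer ({y} : Set G)).map f ≤ Subgroup.centralizer ({f y} : Set H) := by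
    rintro _ ⟨z, hz, rfl⟩
    rw [Subgroup.mem_centralizer_singleton_iff, ← map_mul, ← map_mul,
      Subgroup.mem_centralizer_singleton_iff.mp hz]
  obtain ⟨i, -, hi⟩ := (Nat.dvd_prime_pow hp).mp
    (hk ▸ (Subgroup.index_dvd_of_le hle).trans (Subgroup.index_map_dvd _ hf))
  exact ⟨i, hi⟩

theorem isSolvable_of_pRegClassPow {p : ℕ} (hp : p.Prime) (G : Type u) [Group G] [Finite G]
    (h : PRegClassPow p G) : Group.IsSolvable G := by
  induction hn : Nat.card G using Nat.strong_induction_on generalizing G with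
  | _ n ih =>
  rcases subsingleton_or_nontrivial G with hG | hG
  · infer_instance
  by_cases hs : ∃ N : Subgroup G, N.Normal ∧ N ≠ ⊥ ∧ N ≠ ⊤
  · obtain ⟨N, hN, hb, ht⟩ := hs
    haveI := hN
    have h1 : Group.IsSolvable N :=
      ih _ (hn ▸ Basics.card_lt_card_of_ne_top ht) N (h.subgroup hp N) rfl
    have h2 : Group.IsSolvable (G ⧸ N) := by
      refine ih _ ?_ (G ⧸ N) (h.of_surjective hp _ (QuotientGroup.mk'_surjective N)) rfl
      rw [← hn, N.card_eq_card_quotient_mul_card_subgroup]
      exact lt_mul_of_one_lt_right Nat.card_pos ((Subgroup.one_lt_card_iff_ne_bot N).mpr hb)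
    exact (Group.isSolvable_iff_subgroup_quotient N).mpr ⟨h1, h2⟩
  push Not at hs
  haveI : IsSimpleGroup G := ⟨fun N hN => or_iff_not_imp_left.mpr (hs N hN)⟩
  haveI := Fact.mk hp
  by_cases hpg : IsPGroup p G
  · exact @IsNilpotent.to_isSolvable _ _ hpg.isNilpotent
  obtain ⟨q, hq, hqd, hqp⟩ : ∃ q : ℕ, q.Prime ∧ q ∣ Nat.card G ∧ q ≠ p := by
    by_contra hcon
    push Not at hcon
    exact hpg (IsPGroup.of_card (n := (Nat.card G).primeFactorsList.length)
      (Nat.eq_prime_pow_of_unique_prime_dvd Nat.card_pos.ne' fun hd hdd => hcon _ hd hdd))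
  haveI := Fact.mk hq
  obtain ⟨x, hx⟩ := exists_prime_orderOf_dvd_card' q hqd
  obtain ⟨k, hk⟩ := h x (hx ▸ (Nat.coprime_primes hq hp).mpr hqp)
  have hx1 : x ≠ 1 := fun e => hq.one_lt.ne' (by rw [← hx, e, orderOf_one])
  letI := Fintype.ofFinite G
  haveI := isCyclic_of_prime_card (α := G) (hp := ⟨CT.card_prime_of_class_prime_pow hp hx1 hk⟩) rfl
  exact Group.isSolvable_of_comm fun a b => mul_comm' a b

/-- The direct implication: a `p`-complement is abelian. -/
theorem commute_of_pRegClassPow {p : ℕ} (hp : p.Prime) (G : Type u) [Group G] [Finite G]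
    (h : PRegClassPow p G) (H : Subgroup G) (hH : (Nat.card H).Coprime p) :
    ∀ a ∈ H, ∀ b ∈ H, a * b = b * a := by
  induction hn : Nat.card G using Nat.strong_induction_on generalizing G with
  | _ n ih =>
  haveI := Fact.mk hp
  haveI : Group.IsSolvable G := isSolvable_of_pRegClassPow hp G h
  have hord : ∀ a ∈ H, (orderOf a).Coprime p := fun a ha =>
    Nat.Coprime.coprime_dvd_left (Subgroup.orderOf_dvd_natCard H ha) hH
  by_cases hR : Cfsg.pCore p G = ⊥
  · -- every `p`-regular element centralises the Fitting subgroup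
    have key : ∀ a : G, (orderOf a).Coprime p →
        Cfsg.fittingSubgroup G ≤ Subgroup.centralizer ({a} : Set G) := by
      intro a ha
      rw [Basics.fittingSubgroup_eq_iSup_pCore]
      refine iSup_le fun q => ?_
      by_cases hqp : (q : ℕ) = p
      · rw [hqp, hR]; exact bot_le
      haveI : Fact (q : ℕ).Prime := ⟨q.2⟩
      obtain ⟨k, hk⟩ := h a ha
      obtain ⟨i, -, hi⟩ := (Nat.dvd_prime_pow hp).mp
        (hk ▸ relIndex_dvd_index_of_normal_right _ (Cfsg.pCore (q : ℕ) G))
      rw [← Subgroup.relIndex_eq_one]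
      obtain ⟨j, hj⟩ := IsPGroup.iff_card.mp (Basics.pCore_isPGroup (G := G) (q : ℕ))
      refine Nat.eq_one_of_dvd_coprimes
        (Nat.coprime_pow_primes i j hp q.2 (Ne.symm hqp)) hi.dvd ?_
      rw [← hj]
      exact ⟨_, ((Subgroup.centralizer ({a} : Set G)).subgroupOf _).card_mul_index.symm.trans
        (mul_comm _ _)⟩
    intro a ha b hb
    have hbF : b ∈ Cfsg.fittingSubgroup G :=
      Basics.centralizer_fittingSubgroup_le (Subgroup.mem_centralizer_iff.mpr fun y hy =>
        Subgroup.mem_centralizer_singleton_iff.mp (key b (hord b hb) hy))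
    exact (Subgroup.mem_centralizer_singleton_iff.mp (key a (hord a ha) hbF)).symm
  · let π := QuotientGroup.mk' (Cfsg.pCore p G)
    intro a ha b hb
    have hlt : Nat.card (G ⧸ Cfsg.pCore p G) < n := by
      rw [← hn, (Cfsg.pCore p G).card_eq_card_quotient_mul_card_subgroup]
      exact lt_mul_of_one_lt_right Nat.card_pos ((Subgroup.one_lt_card_iff_ne_bot _).mpr hR)
    have h2 := ih _ hlt _ (h.of_surjective hp π (QuotientGroup.mk'_surjective _)) (H.map π)
      (Nat.Coprime.coprime_dvd_left (Subgroup.card_map_dvd H π) hH) rfl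
      (π a) (Subgroup.mem_map_of_mem π ha) (π b) (Subgroup.mem_map_of_mem π hb)
    rw [← map_mul, ← map_mul] at h2
    have hz : (a * b)⁻¹ * (b * a) ∈ Cfsg.pCore p G := QuotientGroup.eq.mp h2
    have hzH : (a * b)⁻¹ * (b * a) ∈ H :=
      H.mul_mem (H.inv_mem (H.mul_mem ha hb)) (H.mul_mem hb ha)
    obtain ⟨j, hj⟩ := IsPGroup.iff_card.mp (Basics.pCore_isPGroup (G := G) p)
    have hdisj := Subgroup.disjoint_of_coprime_natCard (H := H) (K := Cfsg.pCore p G)
      (by rw [hj]; exact hH.pow_right j)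
    exact inv_mul_eq_one.mp (Subgroup.disjoint_def.mp hdisj hzH hz)

theorem isSolvable_of_abelian_prime_pow_index {p : ℕ} (hp : p.Prime) (G : Type u) [Group G]
    [Finite G] (H : Subgroup G) (hab : ∀ a ∈ H, ∀ b ∈ H, a * b = b * a)
    {k : ℕ} (hk : H.index = p ^ k) : Group.IsSolvable G := by
  induction hn : Nat.card G using Nat.strong_induction_on generalizing G k with
  | _ n ih =>
  rcases subsingleton_or_nontrivial G with hG | hG
  · infer_instance
  by_cases hs : ∃ N : Subgroup G, N.Normal ∧ N ≠ ⊥ ∧ N ≠ ⊤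
  · obtain ⟨N, hN, hb, ht⟩ := hs
    haveI := hN
    obtain ⟨i, -, hi⟩ := (Nat.dvd_prime_pow hp).mp (hk ▸ relIndex_dvd_index_of_normal_right H N)
    have h1 : Group.IsSolvable N :=
      ih _ (hn ▸ Basics.card_lt_card_of_ne_top ht) N (H.subgroupOf N)
        (fun a ha b hb => Subtype.ext (hab a ha b hb)) (k := i) hi rfl
    obtain ⟨j, -, hj⟩ := (Nat.dvd_prime_pow hp).mp
      (hk ▸ H.index_map_dvd (QuotientGroup.mk'_surjective N))
    have h2 : Group.IsSolvable (G ⧸ N) := by
      refine ih _ ?_ (G ⧸ N) (H.map (QuotientGroup.mk' N)) ?_ (k := j) hj rfl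
      · rw [← hn, N.card_eq_card_quotient_mul_card_subgroup]
        exact lt_mul_of_one_lt_right Nat.card_pos ((Subgroup.one_lt_card_iff_ne_bot N).mpr hb)
      · rintro _ ⟨a, ha, rfl⟩ _ ⟨b, hb, rfl⟩
        rw [← map_mul, ← map_mul, hab a ha b hb]
    exact (Group.isSolvable_iff_subgroup_quotient N).mpr ⟨h1, h2⟩
  push Not at hs
  haveI : IsSimpleGroup G := ⟨fun N hN => or_iff_not_imp_left.mpr (hs N hN)⟩
  haveI := Fact.mk hp
  by_cases hH : H = ⊥
  · refine @IsNilpotent.to_isSolvable _ _ (IsPGroup.isNilpotent (p := p) ?_)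
    exact IsPGroup.of_card (n := k) (by rw [← hk, hH, Subgroup.index_bot])
  obtain ⟨x, hxH, hx1⟩ := H.ne_bot_iff_exists_ne_one.mp hH |> fun ⟨a, ha⟩ =>
    (⟨(a : G), a.2, fun e => ha (Subtype.ext e)⟩ : ∃ x ∈ H, x ≠ 1)
  have hle : H ≤ Subgroup.centralizer ({x} : Set G) := fun y hy =>
    Subgroup.mem_centralizer_singleton_iff.mpr (hab y hy x hxH)
  obtain ⟨i, -, hi⟩ := (Nat.dvd_prime_pow hp).mp (hk ▸ Subgroup.index_dvd_of_le hle)
  letI := Fintype.ofFinite G
  haveI := isCyclic_of_prime_card (α := G) (hp := ⟨CT.card_prime_of_class_prime_pow hp hx1 hi⟩) rfl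
  exact Group.isSolvable_of_comm fun a b => mul_comm' a b

end Cfsg.Agent.FGB
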