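import Cfsg.Agent.Lib.FGB.M11Values

/-!
# The normalizer of a Sylow three-subgroup in a simple group of order 7920
-/

set_option autoImplicit false
set_option linter.style.haveILetI false
set_option linter.unusedSectionVars false

namespace Cfsg.Agent.FGB.M11

open Cfsg
open Cfsg.Agent.SmallSimple

universe u

variable {G : Type u} [Group G] [Finite G]

theorem zmod_five_sq : ∀ k : ZMod 5, k * k = 1 → k = 1 ∨ k = -1 := by decide

theorem mem_zpowers_three {x y : G} (hx : orderOf x = 3) (hy : y ∈ Subgroup.zpowers x) :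
    y = 1 ∨ y = x ∨ y = x⁻¹ := by
  obtain ⟨i, rfl⟩ := Subgroup.mem_zpowers_iff.1 hy
  rw [← zpow_mod_orderOf, hx]
  rcases (show i % ((3 : ℕ) : ℤ) = 0 ∨ i % ((3 : ℕ) : ℤ) = 1 ∨ i % ((3 : ℕ) : ℤ) = 2 by omega) with h | h | h <;> rw [h]
  · exact Or.inl (zpow_zero x)
  · exact Or.inr (Or.inl (zpow_one x))
  · refine Or.inr (Or.inr ?_)
    rw [eq_inv_iff_mul_eq_one]
    calc x ^ (2 : ℤ) * x = x ^ 3 := by group
      _ = 1 := by rw [← hx, pow_orderOf_eq_one]

theorem conj_conj_involution {s p : G} (hs : orderOf s = 2) : s * (s * p * s⁻¹) * s⁻¹ = p := by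
  have h2 : s * s = 1 := by rw [← pow_two, ← hs, pow_orderOf_eq_one]
  calc s * (s * p * s⁻¹) * s⁻¹ = s * s * p * (s * s)⁻¹ := by group
    _ = p := by rw [h2, one_mul, inv_one, mul_one]

/-- An involution acting on an abelian group of order nine and fixing a non-trivial element. -/
theorem exists_frame {P : Subgroup G} (hP : Nat.card P = 9) (hab : ∀ a ∈ P, ∀ b ∈ P, a * b = b * a)
    (hC : ∀ g : G, (∀ p ∈ P, g * p = p * g) → g ∈ P) {s x : G} (hs : orderOf s = 2)
    (hsn : ∀ p ∈ P, s * p * s⁻¹ ∈ P) (hx : x ∈ P) (hx3 : orderOf x = 3) (hsx : s * x * s⁻¹ = x) :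
    ∃ m ∈ P, orderOf m = 3 ∧ s * m * s⁻¹ = m⁻¹ ∧ m ∉ Subgroup.zpowers x ∧
      (∀ p ∈ P, s * p * s⁻¹ = p → p = 1 ∨ p = x ∨ p = x⁻¹) ∧
      (∀ p ∈ P, s * p * s⁻¹ = p⁻¹ → p = 1 ∨ p = m ∨ p = m⁻¹) ∧
      (∀ g : G, g * x = x * g → g * m = m * g → g ∈ P) := by
  have hsP : s ∉ P := fun h => by
    have := Subgroup.orderOf_dvd_natCard _ h
    rw [hs, hP] at this
    norm_num at this
  obtain ⟨y, hy, hyne⟩ : ∃ y ∈ P, s * y * s⁻¹ ≠ y := by
    by_contra h
    push Not at h
    exact hsP (hC s fun p hp => mul_inv_eq_iff_eq_mul.1 (h p hp))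
  set m := y * (s * y * s⁻¹)⁻¹ with hm
  have hmP : m ∈ P := mul_mem hy (inv_mem (hsn y hy))
  have hm1 : m ≠ 1 := fun h => hyne (mul_inv_eq_one.1 h).symm
  have hsm : s * m * s⁻¹ = m⁻¹ := by
    calc s * m * s⁻¹ = s * y * s⁻¹ * (s * (s * y * s⁻¹) * s⁻¹)⁻¹ := by rw [hm]; group
      _ = s * y * s⁻¹ * y⁻¹ := by rw [conj_conj_involution hs]
      _ = m⁻¹ := by rw [hm]; group
  have hx1 : x ≠ 1 := fun h => by rw [h, orderOf_one] at hx3; omega
  have hxmem : ∀ {w : G}, w ∈ Subgroup.zpowers x → s * w * s⁻¹ = w := fun hw => by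
    rcases mem_zpowers_three hx3 hw with rfl | rfl | rfl
    · group
    · exact hsx
    · calc s * x⁻¹ * s⁻¹ = (s * x * s⁻¹)⁻¹ := by group
        _ = x⁻¹ := by rw [hsx]
  have hboth : ∀ {w : G}, w ∈ P → s * w * s⁻¹ = w → s * w * s⁻¹ = w⁻¹ → w = 1 := fun {w} hwP h1 h2 => by
    rw [h1] at h2
    have h3 : w ^ 2 = 1 := by
      rw [pow_two]
      exact mul_eq_one_iff_eq_inv.2 h2
    have h4 : orderOf w ∣ 9 := hP ▸ Subgroup.orderOf_dvd_natCard _ hwP
    have h5 := Nat.dvd_gcd (orderOf_dvd_of_pow_eq_one h3) h4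
    norm_num at h5
    exact h5
  have hmx : m ∉ Subgroup.zpowers x := fun h => hm1 (hboth hmP (hxmem h) hsm)
  have hmd : orderOf m ∣ 9 := hP ▸ Subgroup.orderOf_dvd_natCard _ hmP
  have hm3 : orderOf m = 3 := by
    have h39 : orderOf m = 1 ∨ orderOf m = 3 ∨ orderOf m = 9 := by
      have := Nat.le_of_dvd (by norm_num) hmd
      revert hmd this
      generalize orderOf m = k
      intro hmd this
      interval_cases k <;> omega
    rcases h39 with h | h | h
    · exact absurd (orderOf_eq_one_iff.1 h) hm1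
    · exact h
    · exfalso
      have hall : Subgroup.zpowers m = P :=
        Subgroup.eq_of_le_of_card_ge (Subgroup.zpowers_le.2 hmP) (by rw [Nat.card_zpowers, h, hP])
      obtain ⟨i, hi⟩ := Subgroup.mem_zpowers_iff.1 (hall ▸ hx : x ∈ Subgroup.zpowers m)
      refine hx1 (hboth hx hsx ?_)
      rw [← hi, show s * m ^ i * s⁻¹ = MulAut.conj s (m ^ i) by simp, map_zpow,
        show MulAut.conj s m = s * m * s⁻¹ by simp, hsm, inv_zpow]
  set H := Subgroup.zpowers x ⊔ Subgroup.zpowers m with hH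
  have hHP : H = P := by
    refine Subgroup.eq_of_le_of_card_ge (sup_le (Subgroup.zpowers_le.2 hx) (Subgroup.zpowers_le.2 hmP)) ?_
    have h1 : 3 ∣ Nat.card H := by
      have := Subgroup.card_dvd_of_le (le_sup_left : Subgroup.zpowers x ≤ H)
      rwa [Nat.card_zpowers, hx3] at this
    have h2 : Nat.card H ∣ 9 :=
      hP ▸ Subgroup.card_dvd_of_le (sup_le (Subgroup.zpowers_le.2 hx) (Subgroup.zpowers_le.2 hmP))
    have h3 : 3 < Nat.card H := by
      by_contra h
      have e : Subgroup.zpowers x = H := Subgroup.eq_of_le_of_card_ge le_sup_left (by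
        rw [Nat.card_zpowers, hx3]; omega)
      exact hmx (e.symm ▸ Subgroup.mem_sup_right (Subgroup.mem_zpowers m))
    rw [hP]
    by_contra h
    have := Nat.le_of_dvd (by norm_num) h2
    obtain ⟨k, hk⟩ := h1
    rw [hk] at h2 h3 h this
    have : k = 2 := by omega
    rw [this] at h2
    norm_num at h2
  have hgen : ∀ g : G, g * x = x * g → g * m = m * g → g ∈ P := by
    intro g hgx hgm
    refine hC g fun p hp => ?_
    have hle : H ≤ Subgroup.centralizer ({g} : Set G) := sup_le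
      (Subgroup.zpowers_le.2 (Subgroup.mem_centralizer_singleton_iff.2 hgx.symm))
      (Subgroup.zpowers_le.2 (Subgroup.mem_centralizer_singleton_iff.2 hgm.symm))
    exact (Subgroup.mem_centralizer_singleton_iff.1 (hle (hHP.symm ▸ hp))).symm
  have hdec : ∀ p ∈ P, ∃ a ∈ Subgroup.zpowers x, ∃ b ∈ Subgroup.zpowers m, p = a * b := by
    intro p hp
    rw [← hHP, hH, ← SetLike.mem_coe, Subgroup.coe_mul_of_right_le_normalizer_left] at hp
    · obtain ⟨a, ha, b, hb, e⟩ := Set.mem_mul.1 hp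
      exact ⟨a, ha, b, hb, e.symm⟩
    · rw [Subgroup.zpowers_le, Subgroup.mem_normalizer_iff]
      intro w
      have hcomm : ∀ v ∈ Subgroup.zpowers x, m * v * m⁻¹ = v := fun v hv => by
        rw [hab m hmP v (Subgroup.zpowers_le.2 hx hv), mul_inv_cancel_right]
      refine ⟨fun hw => by rw [hcomm w hw]; exact hw, fun hw => ?_⟩
      have := hcomm _ hw
      rw [show m * (m * w * m⁻¹) * m⁻¹ = m * (m * w * m⁻¹) * m⁻¹ from rfl] at this
      have e : w = m * w * m⁻¹ := mul_left_cancel (mul_right_cancel this).symm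
      exact e.symm ▸ hw
  refine ⟨m, hmP, hm3, hsm, hmx, fun p hp hfix => ?_, fun p hp hinv => ?_, hgen⟩
  · obtain ⟨a, ha, b, hb, rfl⟩ := hdec p hp
    have hb' : s * b * s⁻¹ = b := by
      have : s * a * s⁻¹ * (s * b * s⁻¹) = a * b := by rw [← hfix]; group
      rw [hxmem ha] at this
      exact mul_left_cancel this
    rcases mem_zpowers_three hm3 hb with e | e | e <;> subst e
    · rw [mul_one]; exact mem_zpowers_three hx3 ha
    · exact absurd (hboth hmP hb' hsm) hm1
    · exact absurd (hboth hmP (inv_injective (by calc (s * m * s⁻¹)⁻¹ = s * m⁻¹ * s⁻¹ := by group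
          _ = m⁻¹ := hb')) hsm) hm1
  · obtain ⟨a, ha, b, hb, rfl⟩ := hdec p hp
    have haP : a ∈ P := Subgroup.zpowers_le.2 hx ha
    have hbP : b ∈ P := Subgroup.zpowers_le.2 hmP hb
    have hsb : s * b * s⁻¹ = b⁻¹ := by
      rcases mem_zpowers_three hm3 hb with e | e | e <;> subst e
      · group
      · exact hsm
      · calc s * m⁻¹ * s⁻¹ = (s * m * s⁻¹)⁻¹ := by group
          _ = (m⁻¹)⁻¹ := by rw [hsm]
    have ha' : s * a * s⁻¹ = a⁻¹ := by
      have e1 : s * a * s⁻¹ * (s * b * s⁻¹) = b⁻¹ * a⁻¹ := by rw [← mul_inv_rev, ← hinv]; group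
      rw [hsb, hab _ (inv_mem hbP) _ (inv_mem haP)] at e1
      exact mul_right_cancel e1
    rw [hboth haP (hxmem ha) ha', one_mul]
    exact mem_zpowers_three hm3 hb

/-- A group of order four acting faithfully on an abelian group of order nine contains the inversion. -/
theorem exists_inverter {P : Subgroup G} (hP : Nat.card P = 9) (hab : ∀ a ∈ P, ∀ b ∈ P, a * b = b * a)
    (hC : ∀ g : G, (∀ p ∈ P, g * p = p * g) → g ∈ P) {T : Subgroup G} (hT : Nat.card T = 4)
    (hTn : ∀ g ∈ T, ∀ p ∈ P, g * p * g⁻¹ ∈ P) : ∃ i ∈ T, ∀ p ∈ P, i * p * i⁻¹ = p⁻¹ := by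
  classical
  haveI : Fact (Nat.Prime 2) := ⟨Nat.prime_two⟩
  have hTP : ∀ g ∈ T, g ∈ P → g = 1 := fun g hg hgP => by
    have h := Nat.dvd_gcd (Subgroup.orderOf_dvd_natCard _ hg) (Subgroup.orderOf_dvd_natCard _ hgP)
    rw [hT, hP] at h
    norm_num at h
    exact h
  obtain ⟨s₀, hs₀⟩ := exists_prime_orderOf_dvd_card' (G := T) 2 (by rw [hT]; norm_num)
  set s : G := (s₀ : G) with hsdef
  have hs : orderOf s = 2 := by rw [hsdef, Subgroup.orderOf_coe, hs₀]
  by_cases hfp : ∀ p ∈ P, s * p * s⁻¹ = p → p = 1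
  · refine ⟨s, s₀.2, fun p hp => ?_⟩
    have h1 : s * (p * (s * p * s⁻¹)) * s⁻¹ = p * (s * p * s⁻¹) := by
      calc s * (p * (s * p * s⁻¹)) * s⁻¹ = s * p * s⁻¹ * (s * (s * p * s⁻¹) * s⁻¹) := by group
        _ = p * (s * p * s⁻¹) := by rw [conj_conj_involution hs, hab _ (hTn s s₀.2 p hp) p hp]
    exact eq_inv_of_mul_eq_one_right (hfp _ (mul_mem hp (hTn s s₀.2 p hp)) h1)
  · push Not at hfp
    obtain ⟨w, hw, hsw, hw1⟩ := hfp
    obtain ⟨x, hxw, hx3⟩ : ∃ x, x ∈ Subgroup.zpowers w ∧ orderOf x = 3 := by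
      haveI : Fact (Nat.Prime 3) := ⟨Nat.prime_three⟩
      have h3 : 3 ∣ Nat.card (Subgroup.zpowers w) := by
        rw [Nat.card_zpowers]
        have hd : orderOf w ∣ 9 := hP ▸ Subgroup.orderOf_dvd_natCard _ hw
        have h1 : orderOf w ≠ 1 := fun h => hw1 (orderOf_eq_one_iff.1 h)
        have := Nat.le_of_dvd (by norm_num) hd
        revert hd h1 this
        generalize orderOf w = k
        intro hd h1 this
        interval_cases k <;> omega
      obtain ⟨x, hx⟩ := exists_prime_orderOf_dvd_card' (G := Subgroup.zpowers w) 3 h3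
      exact ⟨x, x.2, by rw [Subgroup.orderOf_coe, hx]⟩
    obtain ⟨i, hi⟩ := Subgroup.mem_zpowers_iff.1 hxw
    have hxP : x ∈ P := Subgroup.zpowers_le.2 hw hxw
    have hsx : s * x * s⁻¹ = x := by
      rw [← hi, show s * w ^ i * s⁻¹ = MulAut.conj s (w ^ i) by simp, map_zpow,
        show MulAut.conj s w = s * w * s⁻¹ by simp, hsw]
    obtain ⟨m, hmP, hm3, hsm, hmx, hfix, hinv, hgen⟩ :=
      exists_frame hP hab hC hs (hTn s s₀.2) hxP hx3 hsx
    have hTc : ∀ g ∈ T, g * s = s * g := fun g hg => by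
      haveI := IsPGroup.isMulCommutative_of_card_eq_prime_sq (p := 2) (G := T) (by rw [hT]; norm_num)
      exact congrArg Subtype.val (mul_comm' (⟨g, hg⟩ : T) s₀)
    have hswap : ∀ g ∈ T, ∀ p : G, s * (g * p * g⁻¹) * s⁻¹ = g * (s * p * s⁻¹) * g⁻¹ := fun g hg p => by
      calc s * (g * p * g⁻¹) * s⁻¹ = (s * g) * p * (s * g)⁻¹ := by group
        _ = (g * s) * p * (g * s)⁻¹ := by rw [hTc g hg]
        _ = g * (s * p * s⁻¹) * g⁻¹ := by group
    have hgx : ∀ g ∈ T, g * x * g⁻¹ = x ∨ g * x * g⁻¹ = x⁻¹ := fun g hg =>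
      (hfix _ (hTn g hg x hxP) (by rw [hswap g hg, hsx])).resolve_left fun h => by
        have e : x = 1 := by
          calc x = g⁻¹ * (g * x * g⁻¹) * g := by group
            _ = 1 := by rw [h]; group
        rw [e, orderOf_one] at hx3
        omega
    have hgm : ∀ g ∈ T, g * m * g⁻¹ = m ∨ g * m * g⁻¹ = m⁻¹ := fun g hg =>
      (hinv _ (hTn g hg m hmP) (by rw [hswap g hg, hsm]; group)).resolve_left fun h => by
        have e : m = 1 := by
          calc m = g⁻¹ * (g * m * g⁻¹) * g := by group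
            _ = 1 := by rw [h]; group
        rw [e, orderOf_one] at hm3
        omega
    let f : T → Bool × Bool := fun g => (decide ((g : G) * x * (g : G)⁻¹ = x), decide ((g : G) * m * (g : G)⁻¹ = m))
    have hf : Function.Injective f := by
      intro g h e
      simp only [f, Prod.mk.injEq, decide_eq_decide] at e
      have hxe : (g : G) * x * (g : G)⁻¹ = (h : G) * x * (h : G)⁻¹ := by
        by_cases hc : (g : G) * x * (g : G)⁻¹ = x
        · rw [hc, e.1.1 hc]
        · rw [(hgx g g.2).resolve_left hc, (hgx h h.2).resolve_left fun h' => hc (e.1.2 h')]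
      have hme : (g : G) * m * (g : G)⁻¹ = (h : G) * m * (h : G)⁻¹ := by
        by_cases hc : (g : G) * m * (g : G)⁻¹ = m
        · rw [hc, e.2.1 hc]
        · rw [(hgm g g.2).resolve_left hc, (hgm h h.2).resolve_left fun h' => hc (e.2.2 h')]
      have hcm : ∀ v : G, (g : G) * v * (g : G)⁻¹ = (h : G) * v * (h : G)⁻¹ →
          (h : G)⁻¹ * g * v = v * ((h : G)⁻¹ * g) := fun v hv => by
        calc (h : G)⁻¹ * g * v = (h : G)⁻¹ * ((g : G) * v * (g : G)⁻¹) * g := by group
          _ = (h : G)⁻¹ * ((h : G) * v * (h : G)⁻¹) * g := by rw [hv]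
          _ = v * ((h : G)⁻¹ * g) := by group
      have h1 := hTP _ (mul_mem (inv_mem h.2) g.2) (hgen _ (hcm x hxe) (hcm m hme))
      exact Subtype.ext (inv_mul_eq_one.1 h1).symm
    haveI := Fintype.ofFinite T
    have hsurj : Function.Surjective f :=
      ((Fintype.bijective_iff_injective_and_card f).2 ⟨hf, by rw [← Nat.card_eq_fintype_card, hT]; rfl⟩).2
    obtain ⟨g, hg⟩ := hsurj (false, false)
    simp only [f, Prod.mk.injEq, decide_eq_false_iff_not] at hg
    have h1 := (hgx g g.2).resolve_left hg.1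
    have h2 := (hgm g g.2).resolve_left hg.2
    refine ⟨g, g.2, fun p hp => ?_⟩
    -- the elements inverted by an element form a subgroup of the abelian group
    let I : Subgroup G :=
      { carrier := {q | q ∈ P ∧ (g : G) * q * (g : G)⁻¹ = q⁻¹}
        one_mem' := ⟨one_mem P, by group⟩
        mul_mem' := fun {a b} ha hb => ⟨mul_mem ha.1 hb.1, by
          rw [show (g : G) * (a * b) * (g : G)⁻¹ = (g : G) * a * (g : G)⁻¹ * ((g : G) * b * (g : G)⁻¹) by group,
            ha.2, hb.2, mul_inv_rev]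
          exact hab _ (inv_mem ha.1) _ (inv_mem hb.1)⟩
        inv_mem' := fun {a} ha => ⟨inv_mem ha.1, by
          rw [show (g : G) * a⁻¹ * (g : G)⁻¹ = ((g : G) * a * (g : G)⁻¹)⁻¹ by group, ha.2]⟩ }
    have hle : Subgroup.zpowers x ⊔ Subgroup.zpowers m ≤ I :=
      sup_le (Subgroup.zpowers_le.2 ⟨hxP, h1⟩) (Subgroup.zpowers_le.2 ⟨hmP, h2⟩)
    have hIP : I = P := by
      refine Subgroup.eq_of_le_of_card_ge (fun q hq => hq.1) ?_
      rw [hP]
      have hd : Nat.card I ∣ 9 := hP ▸ Subgroup.card_dvd_of_le (fun q hq => hq.1)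
      have h3 : 3 ∣ Nat.card I := by
        have := Subgroup.card_dvd_of_le (le_sup_left.trans hle : Subgroup.zpowers x ≤ I)
        rwa [Nat.card_zpowers, hx3] at this
      by_contra h
      have hne : Nat.card I ≠ 3 := fun e => by
        have e' : Subgroup.zpowers x = I := Subgroup.eq_of_le_of_card_ge (le_sup_left.trans hle)
          (by rw [Nat.card_zpowers, hx3, e])
        exact hmx (e'.symm ▸ (hle (Subgroup.mem_sup_right (Subgroup.mem_zpowers m))))
      have := Nat.le_of_dvd (by norm_num) hd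
      revert hd h3 h hne this
      generalize Nat.card I = k
      intro hd h3 h hne this
      interval_cases k <;> omega
    exact (hIP.symm ▸ hp : p ∈ I).2

variable [IsSimpleGroup G]

/-- A fixed point of an element of prime order on the eight non-trivial elements. -/
theorem no_prime_normalizing (hG : Nat.card G = 7920) {P : Subgroup G} (hP : Nat.card P = 9) {q : ℕ}
    [hq : Fact q.Prime] (hq' : q = 5 ∨ q = 11) {y : G} (hy : orderOf y = q) (hyn : ∀ p ∈ P, y * p * y⁻¹ ∈ P) :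
    False := by
  classical
  obtain ⟨p, hp, hp1, hfix⟩ : ∃ p ∈ P, p ≠ 1 ∧ y * p * y⁻¹ = p := by
    haveI := Fintype.ofFinite P
    let σ : P → P := fun p => ⟨y * p * y⁻¹, hyn p p.2⟩
    have hσi : Function.Injective σ := fun a b h => by
      have := congrArg Subtype.val h
      exact Subtype.ext (mul_left_cancel (mul_right_cancel this))
    let e : Equiv.Perm P := Equiv.ofBijective σ (Finite.injective_iff_bijective.1 hσi)
    have hpow : ∀ (n : ℕ) (p : P), (((e ^ n) p : P) : G) = y ^ n * p * (y ^ n)⁻¹ := by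
      intro n
      induction n with
      | zero => intro p; simp
      | succ n ih =>
        intro p
        rw [pow_succ', Equiv.Perm.mul_apply]
        show y * ((((e ^ n) p : P)) : G) * y⁻¹ = _
        rw [ih, pow_succ']
        group
    have he : e ^ q ^ 1 = 1 := Equiv.ext fun p => Subtype.ext (by
      rw [pow_one, hpow, ← hy, pow_orderOf_eq_one]; simp)
    have h1 : ¬ q ∣ Fintype.card P := by
      rw [← Nat.card_eq_fintype_card, hP]
      rcases hq' with rfl | rfl <;> norm_num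
    by_contra hno
    push Not at hno
    have hfix1 : e ⟨1, one_mem P⟩ = ⟨1, one_mem P⟩ := Subtype.ext (show y * 1 * y⁻¹ = 1 by group)
    have hsupp : e.support = Finset.univ.erase ⟨1, one_mem P⟩ := by
      ext p
      rw [Equiv.Perm.mem_support, Finset.mem_erase]
      refine ⟨fun h => ⟨fun h' => h (h' ▸ hfix1), Finset.mem_univ p⟩, fun h h' => ?_⟩
      exact hno p p.2 (fun h'' => h.1 (Subtype.ext h'')) (congrArg Subtype.val h')
    have hmod := Equiv.Perm.card_compl_support_modEq (p := q) (n := 1) he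
    rw [hsupp, Finset.card_compl, Finset.card_erase_of_mem (Finset.mem_univ _), Finset.card_univ,
      ← Nat.card_eq_fintype_card, hP] at hmod
    rcases hq' with rfl | rfl <;> simp [Nat.ModEq] at hmod
  have hd : orderOf p ∣ q := by
    have hc : Commute y p := mul_inv_eq_iff_eq_mul.1 hfix
    rcases hq' with rfl | rfl
    · exact no_five hG hy hc
    · exact no_eleven hG hy hc
  have h9 : orderOf p ∣ 9 := hP ▸ Subgroup.orderOf_dvd_natCard _ hp
  have h := Nat.dvd_gcd hd h9
  rcases hq' with rfl | rfl <;> norm_num at h <;> exact hp1 h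

/-- An element of order four. -/
theorem exists_order_four (hG : Nat.card G = 7920) : ∃ g : G, orderOf g = 4 := by
  haveI : Fact (Nat.Prime 5) := ⟨by norm_num⟩
  haveI : Fact (Nat.Prime 2) := ⟨Nat.prime_two⟩
  obtain ⟨P, hP, hC, hN⟩ := five hG
  obtain ⟨T₀, hT₀⟩ := Sylow.exists_subgroup_card_pow_prime (G := Subgroup.normalizer ((P : Subgroup G) : Set G)) 2
    (n := 2) (by rw [hN]; norm_num)
  by_contra hno
  push Not at hno
  haveI : Nontrivial T₀ := Finite.one_lt_card_iff_nontrivial.1 (by rw [hT₀]; norm_num)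
  obtain ⟨x₀, hx₀⟩ := exists_prime_orderOf_dvd_card' (G := (P : Subgroup G)) 5 (by rw [hP])
  set x : G := (x₀ : G) with hxdef
  have hx5 : orderOf x = 5 := by rw [hxdef, Subgroup.orderOf_coe, hx₀]
  have hinv : ∀ g : T₀, g ≠ 1 → ((g : Subgroup.normalizer ((P : Subgroup G) : Set G)) : G) * x *
      ((g : Subgroup.normalizer ((P : Subgroup G) : Set G)) : G)⁻¹ = x⁻¹ := by
    intro g hg
    set h : G := ((g : Subgroup.normalizer ((P : Subgroup G) : Set G)) : G) with hhdef
    have hh : orderOf h = 2 := by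
      have hd : orderOf h ∣ 4 := by
        rw [hhdef, Subgroup.orderOf_coe, Subgroup.orderOf_coe]
        exact (orderOf_dvd_natCard g).trans (by rw [hT₀]; norm_num)
      have h1 : orderOf h ≠ 1 := fun e => hg (Subtype.ext (Subtype.ext (orderOf_eq_one_iff.1 e)))
      have h4 : orderOf h ≠ 4 := hno h
      have := Nat.le_of_dvd (by norm_num) hd
      revert hd h1 h4 this
      generalize orderOf h = k
      intro hd h1 h4 this
      interval_cases k <;> omega
    have hmem : h * x * h⁻¹ ∈ (P : Subgroup G) := (Subgroup.mem_normalizer_iff.1 g.1.2 x).1 x₀.2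
    have hz : Subgroup.zpowers x = (P : Subgroup G) := Subgroup.eq_of_le_of_card_ge
      (Subgroup.zpowers_le.2 x₀.2) (by rw [Nat.card_zpowers, hx5, hP])
    obtain ⟨i, hi⟩ := Subgroup.mem_zpowers_iff.1 (hz.symm ▸ hmem : h * x * h⁻¹ ∈ Subgroup.zpowers x)
    have h2 : x ^ (i * i) = x := by
      calc x ^ (i * i) = (x ^ i) ^ i := zpow_mul x i i
        _ = MulAut.conj h (x ^ i) := by rw [map_zpow, MulAut.conj_apply, ← hi]
        _ = x := by rw [hi, MulAut.conj_apply, conj_conj_involution hh]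
    have hmod : ((i * i : ℤ) : ZMod 5) = 1 := by
      have := (zpow_eq_zpow_iff_modEq (x := x)).1 (h2.trans (zpow_one x).symm)
      rw [hx5] at this
      have h' := (ZMod.intCast_eq_intCast_iff _ _ 5).2 this
      simpa using h'
    have hi5 : (i : ZMod 5) = 1 ∨ (i : ZMod 5) = -1 := by
      push_cast at hmod
      exact zmod_five_sq _ hmod
    rcases hi5 with e | e
    · exfalso
      have hfix : x ^ i = x := by
        conv_rhs => rw [← zpow_one x]
        rw [zpow_eq_zpow_iff_modEq, hx5]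
        exact (ZMod.intCast_eq_intCast_iff _ _ 5).1 (by simpa using e)
      have := no_five hG hx5 (show Commute x h from
        (mul_inv_eq_iff_eq_mul.1 (hi.symm.trans hfix)).symm)
      rw [hh] at this
      norm_num at this
    · rw [← hi, ← zpow_neg_one, zpow_eq_zpow_iff_modEq, hx5]
      exact (ZMod.intCast_eq_intCast_iff _ _ 5).1 (by simpa using e)
  obtain ⟨a, ha⟩ := exists_ne (1 : T₀)
  obtain ⟨b, hb1, hba⟩ : ∃ b : T₀, b ≠ 1 ∧ b ≠ a := by
    classical
    haveI := Fintype.ofFinite T₀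
    obtain ⟨b, hb⟩ := Finset.card_pos.1 (show 0 < ((Finset.univ.erase (1 : T₀)).erase a).card by
      rw [Finset.card_erase_of_mem (by simp [ha]), Finset.card_erase_of_mem (Finset.mem_univ _), Finset.card_univ,
        ← Nat.card_eq_fintype_card, hT₀]
      norm_num)
    exact ⟨b, Finset.ne_of_mem_erase (Finset.mem_of_mem_erase hb), Finset.ne_of_mem_erase hb⟩
  set g : G := (((a⁻¹ * b : T₀) : Subgroup.normalizer ((P : Subgroup G) : Set G)) : G) with hgdef
  have hne : (a⁻¹ * b : T₀) ≠ 1 := fun h => hba (inv_mul_eq_one.1 h).symm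
  have h1 : g * x * g⁻¹ = x⁻¹ := hinv _ hne
  set a' : G := ((a : Subgroup.normalizer ((P : Subgroup G) : Set G)) : G)
  set b' : G := ((b : Subgroup.normalizer ((P : Subgroup G) : Set G)) : G)
  have h2 : g = a'⁻¹ * b' := by rw [hgdef]; rfl
  have h3 : g * x * g⁻¹ = x := by
    rw [h2]
    calc a'⁻¹ * b' * x * (a'⁻¹ * b')⁻¹ = a'⁻¹ * (b' * x * b'⁻¹) * a' := by group
      _ = a'⁻¹ * (a' * x * a'⁻¹) * a' := by rw [hinv b hb1, hinv a ha]
      _ = x := by group
  rw [h1] at h3
  have h4 : orderOf x ∣ 2 := orderOf_dvd_of_pow_eq_one (by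
    rw [pow_two]
    exact mul_eq_one_iff_eq_inv.2 h3.symm)
  rw [hx5] at h4
  norm_num at h4

/-- An element of order eleven is not conjugate to its inverse. -/
theorem exists_eleven_not_real (hG : Nat.card G = 7920) :
    ∃ x : G, orderOf x = 11 ∧ ¬ IsConj x x⁻¹ := by
  haveI : Fact (Nat.Prime 11) := ⟨by norm_num⟩
  obtain ⟨P, hP, hC, hN⟩ := eleven hG
  obtain ⟨x₀, hx₀⟩ := exists_prime_orderOf_dvd_card' (G := (P : Subgroup G)) 11 (by rw [hP])
  have hx : orderOf (x₀ : G) = 11 := by rw [Subgroup.orderOf_coe, hx₀]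
  refine ⟨x₀, hx, fun h => ?_⟩
  obtain ⟨g, hg⟩ := isConj_iff.1 h
  have hz : Subgroup.zpowers (x₀ : G) = (P : Subgroup G) := Subgroup.eq_of_le_of_card_ge
    (Subgroup.zpowers_le.2 x₀.2) (by rw [Nat.card_zpowers, hx, hP])
  have hgN : g ∈ Subgroup.normalizer ((P : Subgroup G) : Set G) := by
    have hconj : ∀ i : ℤ, g * (x₀ : G) ^ i * g⁻¹ = ((x₀ : G)⁻¹) ^ i := fun i => by
      rw [show g * (x₀ : G) ^ i * g⁻¹ = MulAut.conj g ((x₀ : G) ^ i) by simp, map_zpow,
        show MulAut.conj g (x₀ : G) = g * x₀ * g⁻¹ by simp, hg]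
    rw [← hz, Subgroup.mem_normalizer_iff]
    refine fun w => ⟨?_, fun hw => ?_⟩
    · rintro ⟨i, rfl⟩
      show g * (x₀ : G) ^ i * g⁻¹ ∈ _
      rw [hconj]
      exact zpow_mem (inv_mem (Subgroup.mem_zpowers _)) i
    · obtain ⟨i, hi⟩ := Subgroup.mem_zpowers_iff.1 hw
      have e : w = (x₀ : G) ^ (-i) := by
        apply mul_left_cancel (a := g)
        apply mul_right_cancel (b := g⁻¹)
        rw [hconj, inv_zpow, zpow_neg, inv_inv, hi]
      rw [e]
      exact zpow_mem (Subgroup.mem_zpowers _) _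
  have hodd : orderOf g ∣ 55 := hN ▸ Subgroup.orderOf_dvd_natCard _ hgN
  have h2 : Commute (g ^ 2) (x₀ : G) := by
    refine mul_inv_eq_iff_eq_mul.1 ?_
    calc g ^ 2 * (x₀ : G) * (g ^ 2)⁻¹ = g * (g * x₀ * g⁻¹) * g⁻¹ := by rw [pow_two]; group
      _ = g * (x₀ : G)⁻¹ * g⁻¹ := by rw [hg]
      _ = (g * x₀ * g⁻¹)⁻¹ := by group
      _ = x₀ := by rw [hg, inv_inv]
  have h55 : g ^ 55 = 1 := orderOf_dvd_iff_pow_eq_one.1 hodd
  have h1 : Commute g (x₀ : G) := by
    have e : g = (g ^ 2) ^ 28 := by rw [← pow_mul, pow_succ, h55, one_mul]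
    rw [e]
    exact h2.pow_left 28
  rw [h1.eq, mul_inv_cancel_right] at hg
  have h4 : orderOf (x₀ : G) ∣ 2 := orderOf_dvd_of_pow_eq_one (by
    rw [pow_two]
    exact mul_eq_one_iff_eq_inv.2 hg)
  rw [hx] at h4
  norm_num at h4

theorem orderOf_isConj {x y : G} (h : IsConj x y) : orderOf y = orderOf x := by
  obtain ⟨c, rfl⟩ := isConj_iff.1 h
  rw [show c * x * c⁻¹ = MulAut.conj c x by simp, MulEquiv.orderOf_eq]

theorem commute_pow_four {u z : G} (hu : orderOf u = 2) (hz : orderOf z = 3) (h : Commute u z) :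
    orderOf (z * u) = 6 ∧ (z * u) ^ 4 = z := by
  refine ⟨?_, ?_⟩
  · rw [h.symm.orderOf_mul_eq_mul_orderOf_of_coprime (by rw [hu, hz]; norm_num), hu, hz]
  · rw [h.symm.mul_pow]
    have e1 : u ^ 4 = 1 := orderOf_dvd_iff_pow_eq_one.1 (by rw [hu]; norm_num)
    have e2 : z ^ 3 = 1 := by rw [← hz, pow_orderOf_eq_one]
    rw [e1, mul_one, pow_succ, e2, one_mul]

/-- Eleven classes are too many. -/
theorem too_many_classes (hG : Nat.card G = 7920) {z m w u v : G} (hz : orderOf z = 3) (hm : orderOf m = 3)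
    (hw : orderOf w = 3) (hu : orderOf u = 2) (hv : orderOf v = 2) (huz : Commute u z) (hvm : Commute v m)
    (hzm : ¬ IsConj z m) (hzw : ¬ IsConj z w) (hmw : ¬ IsConj m w) : False := by
  classical
  haveI := Fintype.ofFinite G
  haveI : Fact (Nat.Prime 5) := ⟨by norm_num⟩
  obtain ⟨g4, hg4⟩ := exists_order_four hG
  obtain ⟨x11, hx11, hreal⟩ := exists_eleven_not_real hG
  obtain ⟨g5, hg5⟩ := exists_prime_orderOf_dvd_card' (G := G) 5 (by rw [hG]; norm_num)
  obtain ⟨hzu, hzu4⟩ := commute_pow_four hu hz huz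
  obtain ⟨hmv, hmv4⟩ := commute_pow_four hv hm hvm
  have hsix : ¬ IsConj (z * u) (m * v) := fun h => hzm (by
    obtain ⟨c, hc⟩ := isConj_iff.1 h
    refine isConj_iff.2 ⟨c, ?_⟩
    rw [← hzu4, ← hmv4, ← hc, show c * (z * u) ^ 4 * c⁻¹ = MulAut.conj c ((z * u) ^ 4) by simp, map_pow]
    simp)
  have hcount : Nat.card (ConjClasses G) = 10 := by
    obtain ⟨X⟩ := exists_chars hG
    rw [← CT.card_irr_eq_card_conjClasses G, Nat.card_eq_fintype_card, Fintype.card_eq_sum_ones, X.split fun _ => (1 : ℕ)]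
    simp [X.cD, X.cE]
  set l : List G := [1, u, g4, g5, x11, x11⁻¹, z, m, w, z * u, m * v] with hl
  have hnd : (l.map (ConjClasses.mk (α := G))).Nodup := by
    have hne : ∀ a b : G, orderOf a ≠ orderOf b → ConjClasses.mk a ≠ ConjClasses.mk b := fun a b h e =>
      h (orderOf_isConj (ConjClasses.mk_eq_mk_iff_isConj.1 e)).symm
    have hni : orderOf x11⁻¹ = 11 := by rw [orderOf_inv, hx11]
    have hco : ∀ a b : G, ¬ IsConj a b → ConjClasses.mk a ≠ ConjClasses.mk b := fun a b h e =>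
      h (ConjClasses.mk_eq_mk_iff_isConj.1 e)
    simp only [hl, List.map_cons, List.map_nil, List.nodup_cons, List.mem_cons, List.not_mem_nil, or_false,
      not_or, List.nodup_nil, and_true, not_false_eq_true]
    refine ⟨⟨?_, ?_, ?_, ?_, ?_, ?_, ?_, ?_, ?_, ?_⟩, ⟨?_, ?_, ?_, ?_, ?_, ?_, ?_, ?_, ?_⟩,
      ⟨?_, ?_, ?_, ?_, ?_, ?_, ?_, ?_⟩, ⟨?_, ?_, ?_, ?_, ?_, ?_, ?_⟩, ⟨?_, ?_, ?_, ?_, ?_, ?_⟩,
      ⟨?_, ?_, ?_, ?_, ?_⟩, ⟨?_, ?_, ?_, ?_⟩, ⟨?_, ?_, ?_⟩, ⟨?_, ?_⟩, ?_⟩
    all_goals first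
      | exact hco _ _ hreal
      | exact hco _ _ hzm
      | exact hco _ _ hzw
      | exact hco _ _ hmw
      | exact hco _ _ hsix
      | (refine hne _ _ ?_; simp only [orderOf_one, hz, hm, hw, hu, hg4, hg5, hx11, hni, hzu, hmv]; norm_num)
  have h := List.Nodup.length_le_card hnd
  rw [List.length_map, hl, ← Nat.card_eq_fintype_card, hcount] at h
  simp at h

/-- The normalizer of a Sylow three-subgroup has order 144. -/
theorem sylow_three (hG : Nat.card G = 7920) (P : Sylow 3 G) :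
    Nat.card (Subgroup.normalizer ((P : Subgroup G) : Set G)) = 144 := by
  classical
  haveI : Fact (Nat.Prime 3) := ⟨Nat.prime_three⟩
  haveI : Fact (Nat.Prime 2) := ⟨Nat.prime_two⟩
  have hnc := noncomm hG
  have hP : Nat.card (P : Subgroup G) = 9 := by
    simpa using card_sylow_of_eq (k := 2) (m := 880) P (by rw [hG]; norm_num) (by norm_num)
  haveI := IsPGroup.isMulCommutative_of_card_eq_prime_sq (p := 3) (G := (P : Subgroup G)) (by rw [hP]; norm_num)
  have hab : ∀ a ∈ (P : Subgroup G), ∀ b ∈ (P : Subgroup G), a * b = b * a := fun a ha b hb =>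
    congrArg Subtype.val (mul_comm' (⟨a, ha⟩ : (P : Subgroup G)) ⟨b, hb⟩)
  set N := Subgroup.normalizer ((P : Subgroup G) : Set G) with hNdef
  have hPN : (P : Subgroup G) ≤ N := Subgroup.le_normalizer
  have hNc : ∀ g ∈ N, ∀ p ∈ (P : Subgroup G), g * p * g⁻¹ ∈ (P : Subgroup G) :=
    fun g hg p hp => (Subgroup.mem_normalizer_iff.1 hg p).1 hp
  have h5 : ¬ 5 ∣ Nat.card N := fun h => by
    haveI : Fact (Nat.Prime 5) := ⟨by norm_num⟩
    obtain ⟨y, hy⟩ := exists_prime_orderOf_dvd_card' (G := N) 5 h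
    exact no_prime_normalizing hG hP (q := 5) (Or.inl rfl) (y := (y : G)) (by rw [Subgroup.orderOf_coe, hy])
      (hNc _ y.2)
  have h11 : ¬ 11 ∣ Nat.card N := fun h => by
    haveI : Fact (Nat.Prime 11) := ⟨by norm_num⟩
    obtain ⟨y, hy⟩ := exists_prime_orderOf_dvd_card' (G := N) 11 h
    exact no_prime_normalizing hG hP (q := 11) (Or.inr rfl) (y := (y : G)) (by rw [Subgroup.orderOf_coe, hy])
      (hNc _ y.2)
  have hn := card_sylow_mul P
  rw [← hNdef, hG] at hn
  have hmod : Nat.card (Sylow 3 G) % 3 = 1 := by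
    have := card_sylow_modEq_one 3 G
    rwa [Nat.ModEq] at this
  obtain ⟨k, hk⟩ : 9 ∣ Nat.card N := hP ▸ Subgroup.card_dvd_of_le hPN
  have hdvd : k ∣ 16 := by
    have hd : k ∣ 5 * (11 * 16) := by
      refine ⟨Nat.card (Sylow 3 G), ?_⟩
      rw [hk] at hn
      norm_num
      linarith
    rw [hk] at h5 h11
    refine (Nat.Coprime.symm ((Nat.Prime.coprime_iff_not_dvd (by norm_num)).2
      fun h => h11 (h.mul_left 9))).dvd_of_dvd_mul_left ?_
    exact (Nat.Coprime.symm ((Nat.Prime.coprime_iff_not_dvd (by norm_num)).2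
      fun h => h5 (h.mul_left 9))).dvd_of_dvd_mul_left hd
  have hcases : k = 16 ∨ k = 4 ∨ k = 1 := by
    obtain ⟨i, hi, rfl⟩ := (Nat.dvd_prime_pow Nat.prime_two).1 (show k ∣ 2 ^ 4 by norm_num; exact hdvd)
    rw [hk] at hn
    interval_cases i <;> first | omega | (exfalso; norm_num at hn; omega)
  rcases hcases with rfl | rfl | rfl
  · exact hk
  swap
  · exfalso
    refine not_normalizer_le_centralizer hnc (by rw [hG]; norm_num) P ?_
    have e : (P : Subgroup G) = N := Subgroup.eq_of_le_of_card_ge hPN (by rw [hk, hP])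
    rw [← hNdef, ← e]
    intro g hg
    exact Subgroup.mem_centralizer_iff.2 fun p hp => hab p hp g hg
  exfalso
  -- the centralizer of the Sylow subgroup
  set C := Subgroup.centralizer ((P : Subgroup G) : Set G) with hCdef
  have hPC : (P : Subgroup G) ≤ C := fun g hg => Subgroup.mem_centralizer_iff.2 fun p hp => hab p hp g hg
  have hCodd : ¬ 2 ∣ Nat.card C := fun h => by
    obtain ⟨y, hy⟩ := exists_prime_orderOf_dvd_card' (G := C) 2 h
    have hle : (P : Subgroup G) ≤ Subgroup.centralizer ({(y : G)} : Set G) := fun p hp =>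
      Subgroup.mem_centralizer_singleton_iff.2 (Subgroup.mem_centralizer_iff.1 y.2 p hp)
    have := Subgroup.card_dvd_of_le hle
    rw [hP, involution_centralizer hG (by rw [Subgroup.orderOf_coe, hy])] at this
    norm_num at this
  have hCP : C = (P : Subgroup G) := by
    refine (Subgroup.eq_of_le_of_card_ge hPC ?_).symm
    rw [hP]
    have h1 : Nat.card C ∣ 36 := by
      have := Subgroup.card_dvd_of_le (show C ≤ N from Subgroup.centralizer_le_normalizer _)
      rwa [hk] at this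
    exact Nat.le_of_dvd (by norm_num) (Nat.Coprime.dvd_of_dvd_mul_left
      (Nat.Coprime.pow_right 2 (Nat.coprime_comm.1 ((Nat.Prime.coprime_iff_not_dvd Nat.prime_two).2 hCodd)))
      (show Nat.card C ∣ 2 ^ 2 * 9 by norm_num; exact h1))
  have hC : ∀ g : G, (∀ p ∈ (P : Subgroup G), g * p = p * g) → g ∈ (P : Subgroup G) := fun g h =>
    hCP ▸ Subgroup.mem_centralizer_iff.2 fun p hp => (h p hp).symm
  obtain ⟨T₀, hT₀⟩ := Sylow.exists_subgroup_card_pow_prime (G := N) 2 (n := 2) (by rw [hk]; norm_num)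
  obtain ⟨i0, hi0T, hi0⟩ := exists_inverter hP hab hC (T := T₀.map N.subtype)
    (by rw [Subgroup.card_map_of_injective N.subtype_injective, hT₀]; norm_num)
    (fun g hg => hNc g (Subgroup.map_subtype_le _ hg))
  have hi0N : i0 ∈ N := Subgroup.map_subtype_le _ hi0T
  -- an element of order three centralized by an involution
  obtain ⟨t, ht⟩ := exists_prime_orderOf_dvd_card' (G := G) 2 (by rw [hG]; norm_num)
  obtain ⟨z₁, hz₁⟩ := exists_prime_orderOf_dvd_card' (G := Subgroup.centralizer ({t} : Set G)) 3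
    (by rw [involution_centralizer hG ht]; norm_num)
  have hz₁' : orderOf (z₁ : G) = 3 := by rw [Subgroup.orderOf_coe, hz₁]
  obtain ⟨R, hR⟩ := (IsPGroup.of_card (n := 1) (p := 3) (by rw [pow_one, Nat.card_zpowers, hz₁']) :
    IsPGroup 3 (Subgroup.zpowers (z₁ : G))).exists_le_sylow
  obtain ⟨c, hc⟩ := MulAction.exists_smul_eq G R P
  set z := c * (z₁ : G) * c⁻¹ with hzdef
  have hzP : z ∈ (P : Subgroup G) := by
    rw [← hc]
    exact ⟨_, hR (Subgroup.mem_zpowers _), rfl⟩
  have hz : orderOf z = 3 := by rw [hzdef, ← hz₁']; exact orderOf_isConj (isConj_iff.2 ⟨c, rfl⟩)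
  set Cz := Subgroup.centralizer ({z} : Set G) with hCz
  have hPz : (P : Subgroup G) ≤ Cz := fun g hg => Subgroup.mem_centralizer_singleton_iff.2 (hab g hg z hzP)
  have h9 : 9 ∣ Nat.card Cz := hP ▸ Subgroup.card_dvd_of_le hPz
  have ht' : c * t * c⁻¹ ∈ Cz := by
    rw [hCz, Subgroup.mem_centralizer_singleton_iff, hzdef]
    have h1 : (z₁ : G) * t = t * z₁ := Subgroup.mem_centralizer_singleton_iff.1 z₁.2
    calc c * t * c⁻¹ * (c * z₁ * c⁻¹) = c * (t * z₁) * c⁻¹ := by group
      _ = c * (z₁ * t) * c⁻¹ := by rw [h1]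
      _ = c * z₁ * c⁻¹ * (c * t * c⁻¹) := by group
  set u := c * t * c⁻¹ with hudef
  have hu : orderOf u = 2 := by rw [hudef, ← ht]; exact orderOf_isConj (isConj_iff.2 ⟨c, rfl⟩)
  have h18 : Nat.card Cz = 18 := by
    have h1 := centralizer_dvd hG (Or.inr hz)
    have h2 : 2 ∣ Nat.card Cz := hu ▸ Subgroup.orderOf_dvd_natCard _ ht'
    have h4 := not_four_dvd hG hz (hi0 z hzP) h9
    rw [← hCz] at h1 h4
    obtain ⟨e, he⟩ := h9
    rw [he] at h1 h2 h4 ⊢
    have he16 : e ∣ 16 := Nat.dvd_of_mul_dvd_mul_left (by norm_num : 0 < 9) (show 9 * e ∣ 9 * 16 from h1)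
    obtain ⟨i, hi, rfl⟩ := (Nat.dvd_prime_pow Nat.prime_two).1 (show e ∣ 2 ^ 4 by norm_num; exact he16)
    interval_cases i <;> omega
  have huN : u ∈ N := by
    have hnorm : ((P : Subgroup G).subgroupOf Cz).Normal := Subgroup.normal_of_index_eq_two (by
      have := Subgroup.card_mul_index ((P : Subgroup G).subgroupOf Cz)
      rw [Nat.card_congr (Subgroup.subgroupOfEquivOfLe hPz).toEquiv, hP, h18] at this
      omega)
    have := (Subgroup.normal_subgroupOf_iff_le_normalizer hPz).1 hnorm ht'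
    exact this
  have huz : u * z * u⁻¹ = z := by
    rw [Subgroup.mem_centralizer_singleton_iff.1 ht', mul_inv_cancel_right]
  obtain ⟨m, hmP, hm, hum, hmz, hfix, hinv, hgen⟩ := exists_frame hP hab hC hu (hNc u huN) hzP hz huz
  set j := i0 * u with hj
  have hjN : j ∈ N := mul_mem hi0N huN
  have hjz : j * z * j⁻¹ = z⁻¹ := by
    calc j * z * j⁻¹ = i0 * (u * z * u⁻¹) * i0⁻¹ := by rw [hj]; group
      _ = z⁻¹ := by rw [huz, hi0 z hzP]
  have hjm : j * m * j⁻¹ = m := by
    calc j * m * j⁻¹ = i0 * (u * m * u⁻¹) * i0⁻¹ := by rw [hj]; group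
      _ = m := by rw [hum, hi0 _ (inv_mem hmP), inv_inv]
  -- every element of the normalizer respects the two lines
  have hlines : ∀ g ∈ N, (g * z * g⁻¹ = z ∨ g * z * g⁻¹ = z⁻¹) ∧ (g * m * g⁻¹ = m ∨ g * m * g⁻¹ = m⁻¹) := by
    set r : Fin 4 → G := ![1, i0, u, j] with hr
    have hrN : ∀ i, r i ∈ N := by intro i; fin_cases i <;> simp [hr, one_mem, hi0N, huN, hjN]
    have hrz : ∀ i, (r i * z * (r i)⁻¹ = z ∨ r i * z * (r i)⁻¹ = z⁻¹) ∧
        (r i * m * (r i)⁻¹ = m ∨ r i * m * (r i)⁻¹ = m⁻¹) := by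
      intro i
      fin_cases i
      · simp [hr]
      · exact ⟨Or.inr (hi0 z hzP), Or.inr (hi0 m hmP)⟩
      · exact ⟨Or.inl huz, Or.inr hum⟩
      · exact ⟨Or.inr hjz, Or.inl hjm⟩
    have hne1 : ∀ {x : G}, orderOf x = 3 → x ≠ x⁻¹ := fun {x} hx h => by
      have h4 : orderOf x ∣ 2 := orderOf_dvd_of_pow_eq_one (by rw [pow_two]; exact mul_eq_one_iff_eq_inv.2 h)
      rw [hx] at h4
      norm_num at h4
    have hinj : ∀ i i', (r i)⁻¹ * r i' ∈ (P : Subgroup G) → i = i' := by
      intro i i' h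
      have e : ∀ p ∈ (P : Subgroup G), r i * p * (r i)⁻¹ = r i' * p * (r i')⁻¹ := fun p hp => by
        calc r i * p * (r i)⁻¹ = r i * (((r i)⁻¹ * r i') * p * ((r i)⁻¹ * r i')⁻¹) * (r i)⁻¹ := by
              rw [hab _ h p hp, mul_inv_cancel_right]
          _ = _ := by group
      have e1 := e z hzP
      have e2 := e m hmP
      have a1 : (1 : G) * z * 1⁻¹ = z := by group
      have a2 : (1 : G) * m * 1⁻¹ = m := by group
      have hz' := hne1 hz
      have hm' := hne1 hm
      fin_cases i <;> fin_cases i' <;> first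
        | rfl
        | (exfalso; simp [hr, huz, hjz, hum, hjm, hi0 z hzP, hi0 m hmP, a1, a2, hz', hz'.symm, hm', hm'.symm] at e1 e2)
    intro g hg
    let F : Fin 4 × (P : Subgroup G) → N := fun ip => ⟨r ip.1 * ip.2, mul_mem (hrN _) (hPN ip.2.2)⟩
    have hF : Function.Injective F := by
      rintro ⟨i, p⟩ ⟨i', p'⟩ h
      have h' : r i * (p : G) = r i' * p' := congrArg Subtype.val h
      have h1 : (r i)⁻¹ * r i' ∈ (P : Subgroup G) := by
        rw [show (r i)⁻¹ * r i' = (p : G) * (p' : G)⁻¹ by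
          calc (r i)⁻¹ * r i' = (r i)⁻¹ * (r i' * p') * (p' : G)⁻¹ := by group
            _ = _ := by rw [← h']; group]
        exact mul_mem p.2 (inv_mem p'.2)
      obtain rfl := hinj i i' h1
      exact Prod.ext rfl (Subtype.ext (mul_left_cancel h'))
    haveI := Fintype.ofFinite N
    haveI := Fintype.ofFinite (P : Subgroup G)
    have hsurj : Function.Surjective F := ((Fintype.bijective_iff_injective_and_card F).2 ⟨hF, by
      rw [Fintype.card_prod, ← Nat.card_eq_fintype_card, ← Nat.card_eq_fintype_card, ← Nat.card_eq_fintype_card,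
        hP, hk, Nat.card_fin]⟩).2
    obtain ⟨⟨i, p⟩, hip⟩ := hsurj ⟨g, hg⟩
    have hg' : r i * (p : G) = g := congrArg Subtype.val hip
    have e : ∀ q ∈ (P : Subgroup G), g * q * g⁻¹ = r i * q * (r i)⁻¹ := fun q hq => by
      rw [← hg']
      calc r i * p * q * (r i * p)⁻¹ = r i * ((p : G) * q * (p : G)⁻¹) * (r i)⁻¹ := by group
        _ = r i * q * (r i)⁻¹ := by rw [hab _ p.2 q hq, mul_inv_cancel_right]
    rw [e z hzP, e m hmP]
    exact hrz i
  -- fusion
  have hfus : ∀ a ∈ (P : Subgroup G), ∀ b ∈ (P : Subgroup G), IsConj a b → ∃ g ∈ N, g * a * g⁻¹ = b := by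
    intro a ha b hb h
    have ha' : a ∈ Subgroup.centralizer ((P : Subgroup G) : Set G) := hPC ha
    obtain ⟨c, hc⟩ := isConj_iff.1 h
    obtain ⟨n, hn, hb'⟩ := Sylow.conj_eq_normalizer_conj_of_mem_centralizer P a c⁻¹ ha'
      (by rw [inv_inv, hc]; exact hPC hb)
    rw [inv_inv, hc] at hb'
    exact ⟨n⁻¹, inv_mem hn, by rw [inv_inv]; exact hb'.symm⟩
  have hmz' : ∀ {b : G}, (b = z ∨ b = z⁻¹) → b ∈ Subgroup.zpowers z := fun {b} h => by
    rcases h with rfl | rfl
    · exact Subgroup.mem_zpowers z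
    · exact inv_mem (Subgroup.mem_zpowers z)
  set w := z * m with hw
  have hwP : w ∈ (P : Subgroup G) := mul_mem hzP hmP
  have hwz : w ∉ Subgroup.zpowers z := fun h => hmz (by
    have := mul_mem (inv_mem (Subgroup.mem_zpowers z)) h
    rwa [hw, inv_mul_cancel_left] at this)
  have hw3 : orderOf w = 3 := by
    refine orderOf_eq_prime ?_ fun h => hwz (h ▸ one_mem _)
    rw [hw, (show Commute z m from hab z hzP m hmP).mul_pow]
    have e1 : z ^ 3 = 1 := by rw [← hz, pow_orderOf_eq_one]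
    have e2 : m ^ 3 = 1 := by rw [← hm, pow_orderOf_eq_one]
    rw [e1, e2, mul_one]
  -- an involution centralizing `m`
  have hjo : 2 ∣ orderOf j := by
    have h1 : (j ^ orderOf j) * z * (j ^ orderOf j)⁻¹ = z := by rw [pow_orderOf_eq_one]; group
    have h2 : ∀ n : ℕ, Odd n → j ^ n * z * (j ^ n)⁻¹ = z⁻¹ := by
      intro n hn
      obtain ⟨i, rfl⟩ := hn
      have hsq : Commute (j ^ 2) z := by
        refine mul_inv_eq_iff_eq_mul.1 ?_
        calc j ^ 2 * z * (j ^ 2)⁻¹ = j * (j * z * j⁻¹) * j⁻¹ := by rw [pow_two]; group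
          _ = j * z⁻¹ * j⁻¹ := by rw [hjz]
          _ = (j * z * j⁻¹)⁻¹ := by group
          _ = z := by rw [hjz, inv_inv]
      rw [pow_succ', pow_mul]
      calc j * (j ^ 2) ^ i * z * (j * (j ^ 2) ^ i)⁻¹ = j * ((j ^ 2) ^ i * z * ((j ^ 2) ^ i)⁻¹) * j⁻¹ := by group
        _ = z⁻¹ := by rw [(hsq.pow_left i).eq, mul_inv_cancel_right, hjz]
    rcases Nat.even_or_odd (orderOf j) with h | h
    · exact even_iff_two_dvd.1 h
    · exfalso
      rw [h2 _ h] at h1
      have h4 : orderOf z ∣ 2 := orderOf_dvd_of_pow_eq_one (by rw [pow_two]; exact mul_eq_one_iff_eq_inv.2 h1.symm)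
      rw [hz] at h4
      norm_num at h4
  set v := j ^ (orderOf j / 2) with hv
  have hv2 : orderOf v = 2 := orderOf_pow_orderOf_div (orderOf_pos j).ne' hjo
  have hvm : Commute v m := (show Commute j m from mul_inv_eq_iff_eq_mul.1 hjm).pow_left _
  refine too_many_classes hG hz hm hw3 hu hv2 (Subgroup.mem_centralizer_singleton_iff.1 ht') hvm ?_ ?_ ?_
  · intro h
    obtain ⟨g, hg, e⟩ := hfus z hzP m hmP h
    exact hmz (e ▸ hmz' (hlines g hg).1)
  · intro h
    obtain ⟨g, hg, e⟩ := hfus z hzP w hwP h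
    exact hwz (e ▸ hmz' (hlines g hg).1)
  · intro h
    obtain ⟨g, hg, e⟩ := hfus m hmP w hwP h
    have hwm : w ∈ Subgroup.zpowers m := by
      rw [← e]
      rcases (hlines g hg).2 with e' | e' <;> rw [e']
      · exact Subgroup.mem_zpowers m
      · exact inv_mem (Subgroup.mem_zpowers m)
    have hzm : z ∈ Subgroup.zpowers m := by
      have := mul_mem hwm (inv_mem (Subgroup.mem_zpowers m))
      rwa [hw, mul_inv_cancel_right] at this
    rcases mem_zpowers_three hm hzm with e' | e' | e'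
    · rw [e', orderOf_one] at hz; omega
    · exact hmz (e' ▸ Subgroup.mem_zpowers z)
    · refine hmz ?_
      rw [show m = z⁻¹ by rw [e', inv_inv]]
      exact inv_mem (Subgroup.mem_zpowers z)

end Cfsg.Agent.FGB.M11
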