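import Cfsg.Agent.Lib.SmallSimple.Alternating
import Cfsg.Agent.Lib.SmallSimple.PrimeSylow
import Cfsg.Agent.Lib.SmallSimple.SylowFiveSmall
import Cfsg.Agent.Lib.SmallSimple.Order5040
import Cfsg.Agent.Lib.FGB.M11SylowThree

/-!
# Sylow normalizers in a simple group of order 2520
-/

set_option autoImplicit false
set_option linter.style.haveILetI false
set_option linter.unusedSectionVars false

namespace Cfsg.Agent.FGB.A7

open Cfsg
open Cfsg.Agent.SmallSimple
open scoped Pointwise

universe u

variable {G : Type u} [Group G] [Finite G] [IsSimpleGroup G]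

theorem not_comm (hG : Nat.card G = 2520) : ¬ IsMulCommutative G :=
  not_isMulCommutative (by rw [hG]; norm_num)

theorem sylow_prime_card (hG : Nat.card G = 2520) {p : ℕ} [Fact p.Prime] (P : Sylow p G)
    (hp : p = 5 ∨ p = 7) : Nat.card P = p := by
  rcases hp with rfl | rfl
  · simpa using card_sylow_of_eq (k := 1) (m := 504) P (by rw [hG]; norm_num) (by norm_num)
  · simpa using card_sylow_of_eq (k := 1) (m := 360) P (by rw [hG]; norm_num) (by norm_num)

theorem eq_one_of_fixes_all (hG : Nat.card G = 2520) {p : ℕ} [Fact p.Prime] (P : Sylow p G) (hp : p ∣ Nat.card G)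
    {g : G} (h : ∀ R : Sylow p G, g • R = R) : g = 1 := by
  rcases (MonoidHom.normal_ker (MulAction.toPermHom G (Sylow p G))).eq_bot_or_eq_top with h' | h'
  · have : g ∈ (MulAction.toPermHom G (Sylow p G)).ker := MonoidHom.mem_ker.2 (Equiv.ext h)
    rwa [h', Subgroup.mem_bot] at this
  · refine absurd (eq_top_iff.2 fun a _ => ?_) (normalizer_sylow_ne_top (not_comm hG) hp P)
    have : a ∈ (MulAction.toPermHom G (Sylow p G)).ker := h' ▸ Subgroup.mem_top a
    exact Sylow.smul_eq_iff_mem_normalizer.1 (Equiv.ext_iff.1 (MonoidHom.mem_ker.1 this) P)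

theorem fixed_mod (p : ℕ) [Fact p.Prime] {α : Type*} [MulAction G α] [Finite α] {g : G} (hg : g ^ p = 1) :
    Nat.card {a : α // g • a = a} % p = Nat.card α % p := by
  classical
  haveI := Fintype.ofFinite α
  have h1 : (MulAction.toPermHom G α g) ^ p ^ 1 = 1 := by rw [pow_one, ← map_pow, hg, map_one]
  have h := Equiv.Perm.card_compl_support_modEq (n := 1) h1
  have e : (MulAction.toPermHom G α g).supportᶜ = Finset.univ.filter fun a => g • a = a := by
    ext a
    simp [MulAction.toPermHom_apply]
  rw [e, ← Fintype.card_subtype, ← Nat.card_eq_fintype_card, ← Nat.card_eq_fintype_card] at h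
  exact h

theorem eq_sylow_of_fixes (hG : Nat.card G = 2520) {P R : Sylow 7 G} {a : G} (ha : a ∈ (P : Subgroup G)) (ha1 : a ≠ 1)
    (h : a • R = R) : R = P := by
  haveI : Fact (Nat.Prime 7) := ⟨by norm_num⟩
  have hP := sylow_prime_card hG P (Or.inr rfl)
  have e := zpowers_eq_of_prime hP ha ha1
  have hle : (P : Subgroup G) ≤ (R : Subgroup G) := by
    refine Cfsg.Agent.SylowFive.le_of_fixes P.2 R fun d hd => ?_
    rw [← e] at hd
    exact MulAction.mem_stabilizer_iff.1 ((Subgroup.zpowers_le.2 (MulAction.mem_stabilizer_iff.2 h)) hd)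
  exact (Sylow.ext (Subgroup.eq_of_le_of_card_ge hle (by rw [hP, sylow_prime_card hG R (Or.inr rfl)]))).symm

theorem fixed_seven (hG : Nat.card G = 2520) (P : Sylow 7 G) {g : G}
    (hg : g ∈ Subgroup.centralizer ((P : Subgroup G) : Set G)) :
    Nat.card {R : Sylow 7 G // g • R = R} % 7 = 1 := by
  classical
  haveI : Fact (Nat.Prime 7) := ⟨by norm_num⟩
  haveI := Fintype.ofFinite {R : Sylow 7 G // g • R = R}
  have hP := sylow_prime_card hG P (Or.inr rfl)
  obtain ⟨a, ha⟩ := exists_prime_orderOf_dvd_card' (G := (P : Subgroup G)) 7 (by rw [hP])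
  have hao : orderOf (a : G) = 7 := by rw [Subgroup.orderOf_coe, ha]
  have hcm : (a : G) * g = g * a := Subgroup.mem_centralizer_iff.1 hg a a.2
  let σ : Equiv.Perm {R : Sylow 7 G // g • R = R} := (MulAction.toPerm (a : G)).subtypePerm fun R => by
    constructor
    · intro h
      have h' : g • (a : G) • R = (a : G) • R := h
      rw [← mul_smul, ← hcm, mul_smul] at h'
      exact smul_left_cancel (a : G) h'
    · intro h
      show g • (a : G) • R = (a : G) • R
      rw [← mul_smul, ← hcm, mul_smul, h]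
  have hσ : σ ^ 7 ^ 1 = 1 := Equiv.ext fun R => Subtype.ext (by
    rw [pow_one, Equiv.Perm.subtypePerm_pow]
    show ((MulAction.toPermHom G (Sylow 7 G) (a : G)) ^ 7) R.1 = R.1
    rw [← map_pow, show (a : G) ^ 7 = 1 from orderOf_dvd_iff_pow_eq_one.1 hao.dvd, map_one]
    rfl)
  have h := Equiv.Perm.card_compl_support_modEq (n := 1) hσ
  have hgP : g • P = P := Sylow.smul_eq_iff_mem_normalizer.2 (SmallSimple.centralizer_le_normalizer _ hg)
  have e : σ.supportᶜ = {⟨P, hgP⟩} := by
    ext R
    rw [Finset.mem_compl, Equiv.Perm.mem_support, not_not, Finset.mem_singleton]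
    constructor
    · intro h
      exact Subtype.ext (eq_sylow_of_fixes hG a.2 (fun h1 => by rw [h1, orderOf_one] at hao; omega) (congrArg Subtype.val h))
    · rintro rfl
      exact Subtype.ext (Sylow.smul_eq_iff_mem_normalizer.2 (Subgroup.le_normalizer a.2))
  rw [e, Finset.card_singleton, ← Nat.card_eq_fintype_card] at h
  exact h.symm

theorem seven_not_36 (hG : Nat.card G = 2520) [Fact (Nat.Prime 7)] (P : Sylow 7 G)
    (hn : Nat.card (Sylow 7 G) = 36) : False := by
  classical
  haveI : Fact (Nat.Prime 5) := ⟨by norm_num⟩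
  haveI : Fact (Nat.Prime 2) := ⟨Nat.prime_two⟩
  have hnc := not_comm hG
  have hP := sylow_prime_card hG P (Or.inr rfl)
  set C := Subgroup.centralizer ((P : Subgroup G) : Set G) with hC
  have hN : Nat.card (Subgroup.normalizer ((P : Subgroup G) : Set G)) = 70 := by
    have := card_sylow_mul P
    rw [hn, hG] at this
    omega
  obtain ⟨e, he, he1, heC⟩ := sylow_relIndex hnc P hP
  rw [hN, ← hC] at heC
  have hCc : Nat.card C = 35 := by
    have key : ∀ e ∈ Nat.divisors 6, e ≠ 1 → e ∣ 70 → e = 2 := by decide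
    rw [key e (Nat.mem_divisors.2 ⟨he, by norm_num⟩) he1 (Dvd.intro _ heC)] at heC
    omega
  obtain ⟨a, ha⟩ := exists_prime_orderOf_dvd_card' (G := (P : Subgroup G)) 7 (by rw [hP])
  obtain ⟨q, hq⟩ := exists_prime_orderOf_dvd_card' (G := C) 5 (by rw [hCc]; norm_num)
  have hao : orderOf (a : G) = 7 := by rw [Subgroup.orderOf_coe, ha]
  have hqo : orderOf (q : G) = 5 := by rw [Subgroup.orderOf_coe, hq]
  have hPC : (P : Subgroup G) ≤ C := fun y hy => Subgroup.mem_centralizer_iff.2 fun w hw => by
    haveI : IsCyclic (P : Subgroup G) := isCyclic_of_prime_card hP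
    letI := IsCyclic.commGroup (α := (P : Subgroup G))
    exact congrArg Subtype.val (mul_comm (⟨w, hw⟩ : (P : Subgroup G)) ⟨y, hy⟩)
  have haq : Commute (a : G) (q : G) := Subgroup.mem_centralizer_iff.1 q.2 a a.2
  have hgen : Subgroup.zpowers ((a : G) * q) = C := Subgroup.eq_of_le_of_card_ge
    (Subgroup.zpowers_le.2 (mul_mem (hPC a.2) q.2))
    (by rw [Nat.card_zpowers, haq.orderOf_mul_eq_mul_orderOf_of_coprime (by rw [hao, hqo]; norm_num), hao, hqo, hCc])
  have hcomm : ∀ u ∈ C, ∀ w ∈ C, u * w = w * u := by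
    intro u hu w hw
    rw [← hgen] at hu hw
    obtain ⟨i, rfl⟩ := hu
    obtain ⟨j, rfl⟩ := hw
    exact ((Commute.refl _).zpow_zpow i j).eq
  -- the normalizer of the subgroup of order five
  obtain ⟨Q, hQ⟩ := (IsPGroup.of_card (n := 1) (p := 5) (by rw [Nat.card_zpowers, hqo, pow_one]) :
    IsPGroup 5 (Subgroup.zpowers (q : G))).exists_le_sylow
  have hQc := sylow_prime_card hG Q (Or.inl rfl)
  have hQe : Subgroup.zpowers (q : G) = (Q : Subgroup G) :=
    Subgroup.eq_of_le_of_card_ge hQ (by rw [hQc, Nat.card_zpowers, hqo])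
  have hCQ : C ≤ Subgroup.centralizer ((Q : Subgroup G) : Set G) := fun u hu => Subgroup.mem_centralizer_iff.2 fun w hw => by
    rw [← hQe] at hw
    exact hcomm w (Subgroup.zpowers_le.2 q.2 hw) u hu
  set NQ := Subgroup.normalizer ((Q : Subgroup G) : Set G) with hNQ
  have hNQc : Nat.card NQ = 70 := by
    have h1 := card_sylow_mul Q
    rw [hG, ← hNQ] at h1
    have hd : 35 ∣ Nat.card NQ := hCc ▸ Subgroup.card_dvd_of_le (hCQ.trans (SmallSimple.centralizer_le_normalizer _))
    obtain ⟨k, hk⟩ := hd
    have h2 : Nat.card (Sylow 5 G) % 5 = 1 := card_sylow_modEq_one 5 G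
    have h3 : Nat.card (Sylow 5 G) ∣ 72 := ⟨k, Nat.eq_of_mul_eq_mul_left (show 0 < 35 by norm_num) (by rw [hk] at h1; linarith)⟩
    have key : ∀ n ∈ Nat.divisors 72, n % 5 = 1 → n = 1 ∨ n = 6 ∨ n = 36 := by decide
    rcases key _ (Nat.mem_divisors.2 ⟨h3, by norm_num⟩) h2 with h | h | h
    · exact absurd h (card_sylow_ne_one hnc (by rw [hG]; norm_num))
    · have := card_dvd_factorial_sylow (p := 5) hnc (by rw [hG]; norm_num)
      rw [h, hG] at this
      exact absurd this (by decide)
    · rw [h] at h1; omega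
  have hCN : C ≤ NQ := hCQ.trans (SmallSimple.centralizer_le_normalizer _)
  -- the centralizer is semiregular away from its base
  have hfree : ∀ R : Sylow 7 G, R ≠ P → ∀ u ∈ C, u • R = R → u = 1 := by
    intro R hR u hu huR
    by_contra hu1
    have hdvd : orderOf u ∣ 35 := hCc ▸ Subgroup.orderOf_dvd_natCard _ hu
    by_cases h7 : 7 ∣ orderOf u
    · have ho := orderOf_pow_orderOf_div (orderOf_pos u).ne' h7
      set v := u ^ (orderOf u / 7) with hv
      have hvP : v ∈ (P : Subgroup G) := by
        have hle : Subgroup.zpowers v ≤ (P : Subgroup G) := by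
          refine Cfsg.Agent.SylowFive.le_of_fixes (IsPGroup.of_card (n := 1) (by rw [Nat.card_zpowers, ho, pow_one])) P ?_
          intro d hd
          refine Sylow.smul_eq_iff_mem_normalizer.2 (SmallSimple.centralizer_le_normalizer _ ?_)
          exact (Subgroup.zpowers_le.2 (pow_mem hu _)) hd
        exact hle (Subgroup.mem_zpowers v)
      exact hR (eq_sylow_of_fixes hG hvP (fun h => by rw [h, orderOf_one] at ho; omega)
        (MulAction.mem_stabilizer_iff.1 (pow_mem (MulAction.mem_stabilizer_iff.2 huR) _)))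
    · have h5 : orderOf u = 5 := by
        have hm : orderOf u ∈ Nat.divisors 35 := Nat.mem_divisors.2 ⟨hdvd, by norm_num⟩
        have h1 : orderOf u ≠ 1 := fun h => hu1 (orderOf_eq_one_iff.1 h)
        revert hm h1 h7
        generalize orderOf u = k
        intro h7 hm h1
        have key : ∀ k ∈ Nat.divisors 35, ¬ 7 ∣ k → k ≠ 1 → k = 5 := by decide
        exact key k hm h7 h1
      have hRc := sylow_prime_card hG R (Or.inr rfl)
      have huQ : u ∈ (Q : Subgroup G) := by
        refine (Cfsg.Agent.SylowFive.le_of_fixes (IsPGroup.of_card (n := 1) (by rw [Nat.card_zpowers, h5, pow_one])) Q ?_)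
          (Subgroup.mem_zpowers u)
        intro d hd
        exact Sylow.smul_eq_iff_mem_normalizer.2 (Subgroup.zpowers_le.2 (hCN hu) hd)
      have huR' := mem_centralizer_of_mem_normalizer (R : Subgroup G) hRc (Sylow.smul_eq_iff_mem_normalizer.1 huR)
        (by rw [h5]; norm_num)
      have hRN : (R : Subgroup G) ≤ NQ := fun w hw => by
        refine SmallSimple.centralizer_le_normalizer _ (Subgroup.mem_centralizer_iff.2 fun y hy => ?_)
        rw [← zpowers_eq_of_prime hQc huQ hu1] at hy
        obtain ⟨i, rfl⟩ := hy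
        exact ((show Commute w u from Subgroup.mem_centralizer_iff.1 huR' w hw).zpow_right i).eq.symm
      have hone : Nat.card (Sylow 7 NQ) = 1 := by
        have h1 := card_sylow_mul (default : Sylow 7 NQ)
        rw [hNQc] at h1
        have key : ∀ n ∈ Nat.divisors 70, n % 7 = 1 → n = 1 := by decide
        exact key _ (Nat.mem_divisors.2 ⟨Dvd.intro _ h1, by norm_num⟩) (card_sylow_modEq_one 7 _)
      haveI : Subsingleton (Sylow 7 NQ) := (Nat.card_eq_one_iff_unique.1 hone).1
      exact hR (Sylow.subtype_injective (hP := hRN) (hQ := hPC.trans hCN) (Subsingleton.elim _ _))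
  obtain ⟨t, ht⟩ := exists_prime_orderOf_dvd_card' (G := Subgroup.normalizer ((P : Subgroup G) : Set G)) 2
    (by rw [hN]; norm_num)
  have hto : orderOf (t : G) = 2 := by rw [Subgroup.orderOf_coe, ht]
  have htC : (t : G) ∉ C := fun h => by
    have := Subgroup.orderOf_dvd_natCard _ h
    rw [hto, hCc] at this
    norm_num at this
  have htn : ∀ u ∈ C, (t : G) * u * (t : G)⁻¹ ∈ C := fun u hu => Subgroup.mem_centralizer_iff.2 fun w hw => by
    have hw' : (t : G)⁻¹ * w * t ∈ (P : Subgroup G) := by
      have := (Subgroup.mem_normalizer_iff.1 (inv_mem t.2) w).1 hw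
      rwa [inv_inv] at this
    calc w * ((t : G) * u * (t : G)⁻¹) = (t : G) * (((t : G)⁻¹ * w * t) * u) * (t : G)⁻¹ := by group
      _ = (t : G) * (u * ((t : G)⁻¹ * w * t)) * (t : G)⁻¹ := by rw [Subgroup.mem_centralizer_iff.1 hu _ hw']
      _ = (t : G) * u * (t : G)⁻¹ * w := by group
  have hinv : ∀ u ∈ C, (t : G) * u * (t : G)⁻¹ = u⁻¹ := by
    intro u hu
    set w := u * ((t : G) * u * (t : G)⁻¹) with hw
    have hwC : w ∈ C := mul_mem hu (htn u hu)
    have hfix : (t : G) * w * (t : G)⁻¹ = w := by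
      calc (t : G) * w * (t : G)⁻¹ = (t : G) * u * (t : G)⁻¹ * ((t : G) * ((t : G) * u * (t : G)⁻¹) * (t : G)⁻¹) := by
            rw [hw]; group
        _ = w := by rw [FGB.M11.conj_conj_involution hto, hw, hcomm _ (htn u hu) u hu]
    suffices hw1 : w = 1 from eq_inv_of_mul_eq_one_right hw1
    by_contra hw1
    have htw : Commute (t : G) w := mul_inv_eq_iff_eq_mul.1 hfix
    by_cases h7 : 7 ∣ orderOf w
    · have ho := orderOf_pow_orderOf_div (orderOf_pos w).ne' h7
      set v := w ^ (orderOf w / 7) with hv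
      have hvP : v ∈ (P : Subgroup G) := by
        refine (Cfsg.Agent.SylowFive.le_of_fixes (IsPGroup.of_card (n := 1) (by rw [Nat.card_zpowers, ho, pow_one])) P ?_)
          (Subgroup.mem_zpowers v)
        intro d hd
        exact Sylow.smul_eq_iff_mem_normalizer.2 (SmallSimple.centralizer_le_normalizer _ (Subgroup.zpowers_le.2 (pow_mem hwC _) hd))
      refine htC (Subgroup.mem_centralizer_iff.2 fun y hy => ?_)
      rw [← zpowers_eq_of_prime hP hvP (fun h => by rw [h, orderOf_one] at ho; omega)] at hy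
      obtain ⟨i, rfl⟩ := hy
      exact ((htw.pow_right _).zpow_right i).eq.symm
    · have hm : orderOf w ∈ Nat.divisors 35 := Nat.mem_divisors.2 ⟨hCc ▸ Subgroup.orderOf_dvd_natCard _ hwC, by norm_num⟩
      have key : ∀ k ∈ Nat.divisors 35, ¬ 7 ∣ k → k = 1 ∨ k = 5 := by decide
      rcases key _ hm h7 with h | h
      · exact hw1 (orderOf_eq_one_iff.1 h)
      · have hwQ : w ∈ (Q : Subgroup G) := by
          refine (Cfsg.Agent.SylowFive.le_of_fixes (IsPGroup.of_card (n := 1) (by rw [Nat.card_zpowers, h, pow_one])) Q ?_)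
            (Subgroup.mem_zpowers w)
          intro d hd
          exact Sylow.smul_eq_iff_mem_normalizer.2 (Subgroup.zpowers_le.2 (hCN hwC) hd)
        refine not_normalizer_le_centralizer hnc (by rw [hG]; norm_num) Q ?_
        have htQ : (t : G) ∈ Subgroup.centralizer ((Q : Subgroup G) : Set G) := Subgroup.mem_centralizer_iff.2 fun y hy => by
          rw [← zpowers_eq_of_prime hQc hwQ hw1] at hy
          obtain ⟨i, rfl⟩ := hy
          exact (htw.zpow_right i).eq.symm
        refine (Subgroup.eq_of_le_of_card_ge (SmallSimple.centralizer_le_normalizer _) ?_).ge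
        rw [hNQc]
        have h35 : 35 ∣ Nat.card (Subgroup.centralizer ((Q : Subgroup G) : Set G)) := hCc ▸ Subgroup.card_dvd_of_le hCQ
        have h2 : 2 ∣ Nat.card (Subgroup.centralizer ((Q : Subgroup G) : Set G)) := hto ▸ Subgroup.orderOf_dvd_natCard _ htQ
        exact Nat.le_of_dvd Nat.card_pos (Nat.Coprime.mul_dvd_of_dvd_of_dvd (by norm_num : Nat.Coprime 35 2) h35 h2)
  haveI := Fintype.ofFinite (Sylow 7 G)
  have htP : (t : G) • P = P := Sylow.smul_eq_iff_mem_normalizer.2 t.2
  have hle : Nat.card {R : Sylow 7 G // (t : G) • R = R} ≤ 2 := by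
    by_contra hgt
    rw [Nat.card_eq_fintype_card, not_le, Fintype.two_lt_card_iff] at hgt
    obtain ⟨⟨A, hA⟩, ⟨B, hB⟩, ⟨D, hD⟩, hAB, hAD, hBD⟩ := hgt
    have two : ∀ A B : Sylow 7 G, A ≠ P → B ≠ P → (t : G) • A = A → (t : G) • B = B → A = B := by
      intro A B hA' hB' hA hB
      let f : C → {R : Sylow 7 G // R ≠ P} := fun u => ⟨(u : G) • A, fun h => hA' (smul_left_cancel (u : G)
        (h.trans (Sylow.smul_eq_iff_mem_normalizer.2 (SmallSimple.centralizer_le_normalizer _ u.2)).symm))⟩
      have hf : Function.Surjective f := ((Nat.bijective_iff_injective_and_card f).2 ⟨fun u w h => by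
          have h' : (u : G) • A = (w : G) • A := congrArg Subtype.val h
          refine Subtype.ext (inv_mul_eq_one.1 (hfree A hA' _ (mul_mem (inv_mem w.2) u.2) ?_)).symm
          rw [← smul_smul, h', inv_smul_smul], by
          rw [hCc, Nat.card_eq_fintype_card, Fintype.card_subtype_compl, Fintype.card_subtype_eq,
            ← Nat.card_eq_fintype_card, hn]⟩).2
      obtain ⟨u, hu⟩ := hf ⟨B, hB'⟩
      have hu' : (u : G) • A = B := congrArg Subtype.val hu
      have h2 : (u : G)⁻¹ • A = (u : G) • A := by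
        rw [← hinv u u.2, mul_smul, mul_smul, show (t : G)⁻¹ • A = A by rw [inv_smul_eq_iff, hA], hu', hB]
      have h3 : (u : G) * u = 1 := hfree A hA' _ (mul_mem u.2 u.2) (by rw [mul_smul, ← h2, smul_inv_smul])
      have h4 := Nat.dvd_gcd (orderOf_dvd_of_pow_eq_one (show (u : G) ^ 2 = 1 by rw [pow_two, h3]))
        (Subgroup.orderOf_dvd_natCard C u.2)
      rw [hCc] at h4
      norm_num at h4
      rw [h4, OneMemClass.coe_one, one_smul] at hu'
      exact hu'
    rcases eq_or_ne A P with rfl | hA'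
    · exact hBD (Subtype.ext (two B D (fun h => hAB (Subtype.ext h.symm)) (fun h => hAD (Subtype.ext h.symm)) hB hD))
    rcases eq_or_ne B P with rfl | hB'
    · exact hAD (Subtype.ext (two A D hA' (fun h => hBD (Subtype.ext h.symm)) hA hD))
    exact hAB (Subtype.ext (two A B hA' hB' hA hB))
  have hsq : (t : G) ^ 2 = 1 := by rw [← hto, pow_orderOf_eq_one]
  have hmod := fixed_mod 2 (α := Sylow 7 G) hsq
  rw [hn] at hmod
  haveI : Nonempty {R : Sylow 7 G // (t : G) • R = R} := ⟨⟨P, htP⟩⟩
  have hf2 : Nat.card {R : Sylow 7 G // (t : G) • R = R} = 2 := by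
    have := Nat.card_pos (α := {R : Sylow 7 G // (t : G) • R = R})
    omega
  set σ : Equiv.Perm (Sylow 7 G) := MulAction.toPerm (t : G) with hσ
  have hs := sign_of_involutive σ (Equiv.ext fun R => by
    show (t : G) • (t : G) • R = R
    rw [smul_smul, ← pow_two, hsq, one_smul])
  rw [sign_toPerm_eq_one hnc] at hs
  have hsupp : σ.support.card = 34 := by
    have e : σ.supportᶜ = Finset.univ.filter fun R => (t : G) • R = R := by
      ext R
      simp [hσ]
    have := Finset.card_add_card_compl σ.support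
    rw [e, ← Fintype.card_subtype, ← Nat.card_eq_fintype_card, ← Nat.card_eq_fintype_card, hf2, hn] at this
    omega
  rw [hsupp] at hs
  exact absurd hs (by decide)

/-- There are 120 Sylow seven-subgroups, each self-centralizing. -/
theorem seven (hG : Nat.card G = 2520) [Fact (Nat.Prime 7)] (P : Sylow 7 G) :
    Nat.card (Subgroup.centralizer ((P : Subgroup G) : Set G)) = 7 := by
  classical
  haveI : Fact (Nat.Prime 5) := ⟨by norm_num⟩
  haveI : Fact (Nat.Prime 2) := ⟨Nat.prime_two⟩
  have hnc := not_comm hG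
  have hP := sylow_prime_card hG P (Or.inr rfl)
  have h7 : 7 ∣ Nat.card G := by rw [hG]; norm_num
  have hmul := card_sylow_mul P
  rw [hG] at hmul
  obtain ⟨e, he, he1, heC⟩ := sylow_relIndex hnc P hP
  set n := Nat.card (Sylow 7 G) with hn
  have hn360 : n ∣ 360 := by
    have h1 : 7 ∣ Nat.card (Subgroup.normalizer ((P : Subgroup G) : Set G)) := by
      conv_lhs => rw [← hP]
      exact Subgroup.card_dvd_of_le Subgroup.le_normalizer
    obtain ⟨k, hk⟩ := h1
    exact ⟨k, Nat.eq_of_mul_eq_mul_left (show 0 < 7 by norm_num) (by rw [hk] at hmul; linarith)⟩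
  have key : ∀ n ∈ Nat.divisors 360, n % 7 = 1 → n = 1 ∨ n = 8 ∨ n = 15 ∨ n = 36 ∨ n = 120 := by decide
  rcases key n (Nat.mem_divisors.2 ⟨hn360, by norm_num⟩) (card_sylow_modEq_one 7 G) with h | h | h | h | h
  · exact absurd h (card_sylow_ne_one hnc h7)
  · exfalso
    rw [h] at hmul
    rw [show Nat.card (Subgroup.normalizer ((P : Subgroup G) : Set G)) = 315 by omega] at heC
    obtain ⟨q, hq⟩ := exists_prime_orderOf_dvd_card' (G := Subgroup.centralizer ((P : Subgroup G) : Set G)) 5 (by
      have key : ∀ e ∈ Nat.divisors 6, e ≠ 1 → e ∣ 315 → e = 3 := by decide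
      rw [key e (Nat.mem_divisors.2 ⟨he, by norm_num⟩) he1 (Dvd.intro _ heC)] at heC
      exact ⟨21, by omega⟩)
    have hqo : orderOf (q : G) = 5 := by rw [Subgroup.orderOf_coe, hq]
    have h1 := fixed_mod 5 (α := Sylow 7 G) (show (q : G) ^ 5 = 1 by rw [← hqo, pow_orderOf_eq_one])
    have h2 := fixed_seven hG P q.2
    haveI := Fintype.ofFinite (Sylow 7 G)
    have h3 : Nat.card {R : Sylow 7 G // (q : G) • R = R} ≤ n := Nat.card_le_card_of_injective _ Subtype.val_injective
    rw [← hn] at h1
    have hall : Nat.card {R : Sylow 7 G // (q : G) • R = R} = n := by omega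
    have := eq_one_of_fixes_all hG P h7 (g := (q : G)) fun R => by
      obtain ⟨S, hS⟩ := ((Nat.bijective_iff_injective_and_card (Subtype.val : {R : Sylow 7 G // (q : G) • R = R} → _)).2
        ⟨Subtype.val_injective, hall⟩).2 R
      exact hS ▸ S.2
    rw [this, orderOf_one] at hqo
    omega
  · exfalso
    rw [h] at hmul
    rw [show Nat.card (Subgroup.normalizer ((P : Subgroup G) : Set G)) = 168 by omega] at heC
    obtain ⟨t, ht⟩ := exists_prime_orderOf_dvd_card' (G := Subgroup.centralizer ((P : Subgroup G) : Set G)) 2 (by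
      have h6 : Nat.card (Subgroup.centralizer ((P : Subgroup G) : Set G)) * e = 168 := by linarith
      have key : ∀ e ∈ Nat.divisors 6, e ∣ 168 → 2 ∣ 168 / e := by decide
      have := key e (Nat.mem_divisors.2 ⟨he, by norm_num⟩) (Dvd.intro_left _ h6)
      rwa [← h6, Nat.mul_div_cancel _ (Nat.pos_of_mem_divisors (Nat.mem_divisors.2 ⟨he, by norm_num⟩))] at this)
    have hto : orderOf (t : G) = 2 := by rw [Subgroup.orderOf_coe, ht]
    have hsq : (t : G) ^ 2 = 1 := by rw [← hto, pow_orderOf_eq_one]
    have h1 := fixed_mod 2 (α := Sylow 7 G) hsq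
    have h2 := fixed_seven hG P t.2
    haveI := Fintype.ofFinite (Sylow 7 G)
    have h3 : Nat.card {R : Sylow 7 G // (t : G) • R = R} ≤ n := Nat.card_le_card_of_injective _ Subtype.val_injective
    rw [← hn] at h1
    rcases (show Nat.card {R : Sylow 7 G // (t : G) • R = R} = 1 ∨ Nat.card {R : Sylow 7 G // (t : G) • R = R} = n by omega)
      with hf | hf
    · have hs := sign_of_involutive (MulAction.toPerm (t : G) : Equiv.Perm (Sylow 7 G)) (Equiv.ext fun R => by
        show (t : G) • (t : G) • R = R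
        rw [smul_smul, ← pow_two, hsq, one_smul])
      rw [sign_toPerm_eq_one hnc] at hs
      have hsupp : (MulAction.toPerm (t : G) : Equiv.Perm (Sylow 7 G)).support.card = 14 := by
        have e : (MulAction.toPerm (t : G) : Equiv.Perm (Sylow 7 G)).supportᶜ = Finset.univ.filter fun R => (t : G) • R = R := by
          ext R
          simp
        have := Finset.card_add_card_compl (MulAction.toPerm (t : G) : Equiv.Perm (Sylow 7 G)).support
        rw [e, ← Fintype.card_subtype, ← Nat.card_eq_fintype_card, ← Nat.card_eq_fintype_card, hf, ← hn, h] at this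
        omega
      rw [hsupp] at hs
      exact absurd hs (by decide)
    · have := eq_one_of_fixes_all hG P h7 (g := (t : G)) fun R => by
        obtain ⟨S, hS⟩ := ((Nat.bijective_iff_injective_and_card (Subtype.val : {R : Sylow 7 G // (t : G) • R = R} → _)).2
          ⟨Subtype.val_injective, hf⟩).2 R
        exact hS ▸ S.2
      rw [this, orderOf_one] at hto
      omega
  · exact (seven_not_36 hG P h).elim
  · rw [h] at hmul
    rw [show Nat.card (Subgroup.normalizer ((P : Subgroup G) : Set G)) = 21 by omega] at heC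
    have key : ∀ e ∈ Nat.divisors 6, e ≠ 1 → e ∣ 21 → e = 3 := by decide
    rw [key e (Nat.mem_divisors.2 ⟨he, by norm_num⟩) he1 (Dvd.intro _ heC)] at heC
    omega

theorem five (hG : Nat.card G = 2520) [Fact (Nat.Prime 5)] (P : Sylow 5 G) :
    Nat.card (Subgroup.normalizer ((P : Subgroup G) : Set G)) = 20 := by
  haveI : Fact (Nat.Prime 7) := ⟨by norm_num⟩
  have hnc := not_comm hG
  have h5 : 5 ∣ Nat.card G := by rw [hG]; norm_num
  have hP := sylow_prime_card hG P (Or.inl rfl)
  have hmul := card_sylow_mul P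
  rw [hG] at hmul
  set n := Nat.card (Sylow 5 G) with hn
  have hn504 : n ∣ 504 := by
    have h1 : 5 ∣ Nat.card (Subgroup.normalizer ((P : Subgroup G) : Set G)) := by
      conv_lhs => rw [← hP]
      exact Subgroup.card_dvd_of_le Subgroup.le_normalizer
    obtain ⟨k, hk⟩ := h1
    exact ⟨k, Nat.eq_of_mul_eq_mul_left (show 0 < 5 by norm_num) (by rw [hk] at hmul; linarith)⟩
  have key : ∀ n ∈ Nat.divisors 504, n % 5 = 1 → n = 1 ∨ n = 6 ∨ n = 21 ∨ n = 36 ∨ n = 56 ∨ n = 126 := by decide
  rcases key n (Nat.mem_divisors.2 ⟨hn504, by norm_num⟩) (card_sylow_modEq_one 5 G) with h | h | h | h | h | h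
  · exact absurd h (card_sylow_ne_one hnc h5)
  · have := card_dvd_factorial_sylow (p := 5) hnc h5
    rw [← hn, h, hG] at this
    exact absurd this (by decide)
  · exact absurd h (Cfsg.Agent.SylowFive.card_sylow_five_ne _ G rfl)
  · exfalso
    rw [h] at hmul
    obtain ⟨w, hw⟩ := exists_prime_orderOf_dvd_card' (G := Subgroup.normalizer ((P : Subgroup G) : Set G)) 7
      ⟨10, by omega⟩
    have hwo : orderOf (w : G) = 7 := by rw [Subgroup.orderOf_coe, hw]
    have hwc := mem_centralizer_of_mem_normalizer (P : Subgroup G) hP w.2 (by rw [hwo]; norm_num)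
    obtain ⟨R⟩ : Nonempty (Sylow 7 G) := inferInstance
    have hc := SmallSimple5040.card_centralizer_of_order R (sylow_prime_card hG R (Or.inr rfl)) hwo
    rw [seven hG R] at hc
    have := Subgroup.card_dvd_of_le (show (P : Subgroup G) ≤ Subgroup.centralizer ({(w : G)} : Set G) from
      fun y hy => Subgroup.mem_centralizer_singleton_iff.2 (Subgroup.mem_centralizer_iff.1 hwc y hy))
    rw [hP, hc] at this
    norm_num at this
  · exfalso
    obtain ⟨e, he, he1, heC⟩ := sylow_relIndex hnc P hP
    rw [h] at hmul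
    rw [show Nat.card (Subgroup.normalizer ((P : Subgroup G) : Set G)) = 45 by omega] at heC
    have key : ∀ e ∈ Nat.divisors 4, e ∣ 45 → e = 1 := by decide
    exact he1 (key e (Nat.mem_divisors.2 ⟨he, by norm_num⟩) (Dvd.intro _ heC))
  · rw [h] at hmul; omega

/-- Neither five nor seven divides the centralizer of an element of order three. -/
theorem centralizer_three_coprime (hG : Nat.card G = 2520) {w : G} (hw : orderOf w = 3) :
    ¬ 5 ∣ Nat.card (Subgroup.centralizer ({w} : Set G)) ∧ ¬ 7 ∣ Nat.card (Subgroup.centralizer ({w} : Set G)) := by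
  haveI : Fact (Nat.Prime 7) := ⟨by norm_num⟩
  haveI : Fact (Nat.Prime 5) := ⟨by norm_num⟩
  constructor <;> intro hd
  · obtain ⟨y, hy⟩ := exists_prime_orderOf_dvd_card' (G := Subgroup.centralizer ({w} : Set G)) 5 hd
    obtain ⟨Q⟩ : Nonempty (Sylow 5 G) := inferInstance
    have hc := SmallSimple5040.card_centralizer_of_order Q (sylow_prime_card hG Q (Or.inl rfl)) (g := (y : G))
      (by rw [Subgroup.orderOf_coe, hy])
    have h1 := Subgroup.orderOf_dvd_natCard (Subgroup.centralizer ({(y : G)} : Set G))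
      (Subgroup.mem_centralizer_singleton_iff.2 (Subgroup.mem_centralizer_singleton_iff.1 y.2).symm)
    rw [hw, hc] at h1
    have h2 := h1.trans (Subgroup.card_dvd_of_le (SmallSimple.centralizer_le_normalizer (Q : Subgroup G)))
    rw [five hG Q] at h2
    norm_num at h2
  · obtain ⟨y, hy⟩ := exists_prime_orderOf_dvd_card' (G := Subgroup.centralizer ({w} : Set G)) 7 hd
    obtain ⟨Q⟩ : Nonempty (Sylow 7 G) := inferInstance
    have hc := SmallSimple5040.card_centralizer_of_order Q (sylow_prime_card hG Q (Or.inr rfl)) (g := (y : G))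
      (by rw [Subgroup.orderOf_coe, hy])
    have h1 := Subgroup.orderOf_dvd_natCard (Subgroup.centralizer ({(y : G)} : Set G))
      (Subgroup.mem_centralizer_singleton_iff.2 (Subgroup.mem_centralizer_singleton_iff.1 y.2).symm)
    rw [hw, hc, seven hG Q] at h1
    norm_num at h1

end Cfsg.Agent.FGB.A7
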