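import Cfsg.Agent.Lib.FGB.A7Local

/-!
# The odd graph and five generators with involutory products
-/

set_option autoImplicit false
set_option linter.style.haveILetI false
set_option linter.unusedSectionVars false

namespace Cfsg.Agent.FGB.A7

open Cfsg
open Cfsg.Agent.SmallSimple
open scoped Pointwise

universe u

variable {G : Type u} [Group G] [Finite G]

/-- Conjugate of a subgroup. -/
def cj (g : G) (H : Subgroup G) : Subgroup G := H.map (MulAut.conj g).toMonoidHom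

theorem mem_cj {g : G} {H : Subgroup G} {a : G} : a ∈ cj g H ↔ g⁻¹ * a * g ∈ H := by
  rw [cj, Subgroup.mem_map_equiv, MulAut.conj_symm_apply]

theorem cj_one (H : Subgroup G) : cj 1 H = H := Subgroup.ext fun a => by rw [mem_cj]; simp

theorem cj_mul (g h : G) (H : Subgroup G) : cj (g * h) H = cj g (cj h H) := Subgroup.ext fun a => by
  rw [mem_cj, mem_cj, mem_cj]
  simp [mul_assoc]

theorem cj_inv_cancel (g : G) (H : Subgroup G) : cj g⁻¹ (cj g H) = H := by
  rw [← cj_mul, inv_mul_cancel, cj_one]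

theorem cj_cancel_inv (g : G) (H : Subgroup G) : cj g (cj g⁻¹ H) = H := by
  rw [← cj_mul, mul_inv_cancel, cj_one]

theorem cj_inj {g : G} {H K : Subgroup G} (h : cj g H = cj g K) : H = K := by
  rw [← cj_inv_cancel g H, h, cj_inv_cancel]

theorem cj_zpowers (g a : G) : cj g (Subgroup.zpowers a) = Subgroup.zpowers (g * a * g⁻¹) := by
  rw [cj, MonoidHom.map_zpowers]
  simp

theorem cj_eq_iff {g : G} {H : Subgroup G} : cj g H = H ↔ g ∈ Subgroup.normalizer (H : Set G) := by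
  constructor
  · intro h
    refine Subgroup.mem_normalizer_iff.2 fun a => ?_
    conv_rhs => rw [← h]
    rw [mem_cj]
    simp [mul_assoc]
  · intro h
    ext a
    rw [mem_cj]
    have := (Subgroup.mem_normalizer_iff.1 (inv_mem h)) a
    simpa using this.symm

theorem zpowers_eq_of_mem {x w : G} (hx : orderOf x = 3) (hw : orderOf w = 3) (h : w ∈ Subgroup.zpowers x) :
    Subgroup.zpowers w = Subgroup.zpowers x :=
  Subgroup.eq_of_le_of_card_ge (Subgroup.zpowers_le.2 h) (by rw [Nat.card_zpowers, Nat.card_zpowers, hx, hw])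

theorem cj_of_commute {g a : G} (h : g * a = a * g) : cj g (Subgroup.zpowers a) = Subgroup.zpowers a := by
  rw [cj_zpowers, h, mul_inv_cancel_right]

variable [IsSimpleGroup G]

/-- A frame with the companion element. -/
structure Conf (G : Type u) [Group G] [Finite G] extends Frame G where
  g : G
  hgN : g ∈ Subgroup.normalizer ((P : Subgroup G) : Set G)
  hgX : g * x * g⁻¹ ∉ Subgroup.zpowers x
  i : G
  hi : orderOf i = 2
  inv : ∀ p ∈ (P : Subgroup G), i * p * i⁻¹ = p⁻¹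

namespace Conf

theorem exists_conf (hG : Nat.card G = 2520) : Nonempty (Conf G) := by
  classical
  obtain ⟨x, hx⟩ := exists_twice hG
  obtain ⟨hx3, R, -, -, hR, -⟩ := id hx
  let D : Frame G := ⟨hG, R, x, hx, hR⟩
  obtain ⟨i, hi, hinv⟩ := D.exists_i
  suffices h : ∃ g ∈ Subgroup.normalizer ((R : Subgroup G) : Set G), g * x * g⁻¹ ∉ Subgroup.zpowers x by
    obtain ⟨g, hg, hgx⟩ := h
    exact ⟨⟨D, g, hg, hgx, i, hi, hinv⟩⟩
  by_contra hno
  push Not at hno
  set S := Subgroup.normalizer ((R : Subgroup G) : Set G) ⊓ Subgroup.centralizer ({x} : Set G) with hS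
  let f : Subgroup.normalizer ((R : Subgroup G) : Set G) → Bool × S := fun n =>
    if h : (n : G) * x * (n : G)⁻¹ = x then (false, ⟨n, n.2, Subgroup.mem_centralizer_singleton_iff.2 (mul_inv_eq_iff_eq_mul.1 h)⟩)
    else (true, ⟨i * n, mul_mem (Subgroup.mem_normalizer_iff.2 (by
        intro p
        refine ⟨fun hp => by rw [hinv p hp]; exact inv_mem hp, fun hp => ?_⟩
        have e := hinv _ hp
        rw [FGB.M11.conj_conj_involution hi] at e
        rw [e]; exact inv_mem hp)) n.2, Subgroup.mem_centralizer_singleton_iff.2 (mul_inv_eq_iff_eq_mul.1 (by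
        rcases FGB.M11.mem_zpowers_three hx3 (hno n n.2) with e | e | e
        · exact absurd (conj_eq_one_iff.1 e) (fun h => by rw [h, orderOf_one] at hx3; omega)
        · exact absurd e h
        · calc i * n * x * (i * n)⁻¹ = i * ((n : G) * x * (n : G)⁻¹) * i⁻¹ := by group
            _ = (i * x * i⁻¹)⁻¹ := by rw [e]; group
            _ = x := by rw [hinv x hR, inv_inv]))⟩)
  have hf : Function.Injective f := by
    intro a b h
    simp only [f] at h
    split_ifs at h with ha hb hb <;> simp only [Prod.mk.injEq, Subtype.mk.injEq, Bool.false_eq_true, false_and,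
      Bool.true_eq_false, true_and] at h
    · exact Subtype.ext (congrArg (fun q : S => (q : G)) h)
    · exact Subtype.ext (mul_left_cancel (congrArg (fun q : S => (q : G)) h))
  have h1 := Nat.card_le_card_of_injective f hf
  rw [Nat.card_prod, Nat.card_eq_fintype_card (α := Bool), Fintype.card_bool, sylow_three_normalizer hG R, hS,
    ((twice_centralizer hG hx).2 R hR).2] at h1
  omega

variable (D : Conf G)

/-- The companion element. -/
def z : G := D.g * D.x * D.g⁻¹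

/-- The base vertex. -/
def X : Subgroup G := Subgroup.zpowers D.x

/-- The companion vertex. -/
def Z : Subgroup G := Subgroup.zpowers D.z

theorem hx : orderOf D.x = 3 := D.toFrame.hx

theorem hz : orderOf D.z = 3 := by
  rw [z, show D.g * D.x * D.g⁻¹ = MulAut.conj D.g D.x by simp, MulEquiv.orderOf_eq, D.hx]

theorem zP : D.z ∈ (D.P : Subgroup G) := (Subgroup.mem_normalizer_iff.1 D.hgN _).1 D.hxP

theorem zx : D.z * D.x = D.x * D.z := sylow_comm D.hG D.P _ D.zP _ D.hxP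

theorem zC : D.z ∈ D.toFrame.C := D.toFrame.P_le D.zP

theorem Z_ne_X : D.Z ≠ D.X := fun h => D.hgX (show D.z ∈ D.X from h ▸ Subgroup.mem_zpowers D.z)

theorem z_fpf {v : G} (hv : v ∈ D.toFrame.V) (h : D.z * v = v * D.z) : v = 1 := by
  by_contra hv1
  exact D.hgX (D.toFrame.unique_three hv hv1 D.hz h)

theorem P_eq : Subgroup.zpowers D.x ⊔ Subgroup.zpowers D.z = (D.P : Subgroup G) := by
  refine Subgroup.eq_of_le_of_card_ge (sup_le (Subgroup.zpowers_le.2 D.hxP) (Subgroup.zpowers_le.2 D.zP)) ?_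
  have h2 : Nat.card ↥(Subgroup.zpowers D.x ⊔ Subgroup.zpowers D.z) ∣ 9 :=
    D.toFrame.card_P ▸ Subgroup.card_dvd_of_le (sup_le (Subgroup.zpowers_le.2 D.hxP) (Subgroup.zpowers_le.2 D.zP))
  have h3 : ¬ Nat.card ↥(Subgroup.zpowers D.x ⊔ Subgroup.zpowers D.z) ≤ 3 := fun h => by
    have e : Subgroup.zpowers D.x = Subgroup.zpowers D.x ⊔ Subgroup.zpowers D.z :=
      Subgroup.eq_of_le_of_card_ge le_sup_left (by rw [Nat.card_zpowers, D.hx]; exact h)
    exact D.hgX (e.symm ▸ Subgroup.mem_sup_right (Subgroup.mem_zpowers D.z))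
  rw [D.toFrame.card_P]
  obtain ⟨k, hk, e⟩ := (Nat.dvd_prime_pow Nat.prime_three).1 (show _ ∣ 3 ^ 2 by norm_num; exact h2)
  rw [e] at h3 ⊢
  interval_cases k <;> first | rfl | (exfalso; revert h3; decide) | norm_num

theorem g_swap : cj D.g D.X = D.Z ∧ cj D.g D.Z = D.X := by
  have h1 : cj D.g D.X = D.Z := cj_zpowers _ _
  refine ⟨h1, ?_⟩
  set N := Subgroup.normalizer ((D.P : Subgroup G) : Set G) with hN
  set S := N ⊓ Subgroup.normalizer (D.X : Set G) with hS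
  have hdiv : 18 ∣ Nat.card S := by
    have h9 : 9 ∣ Nat.card S := D.toFrame.card_P ▸ Subgroup.card_dvd_of_le (le_inf Subgroup.le_normalizer (fun p hp => by
      refine cj_eq_iff.1 ?_
      exact cj_of_commute (sylow_comm D.hG D.P p hp D.x D.hxP)))
    have h2 : 2 ∣ Nat.card S := D.hi ▸ Subgroup.orderOf_dvd_natCard S (show D.i ∈ S from by
      refine ⟨Subgroup.mem_normalizer_iff.2 fun p => ⟨fun hp => by rw [D.inv p hp]; exact inv_mem hp, fun hp => ?_⟩, cj_eq_iff.1 ?_⟩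
      · have e := D.inv _ hp
        rw [FGB.M11.conj_conj_involution D.hi] at e
        rw [e]; exact inv_mem hp
      · rw [X, cj_zpowers, D.inv _ D.hxP, Subgroup.zpowers_inv])
    exact Nat.Coprime.mul_dvd_of_dvd_of_dvd (show Nat.Coprime 9 2 by norm_num) h9 h2
  have hidx : (S.subgroupOf N).index = 2 := by
    have h3 := Subgroup.card_mul_index (S.subgroupOf N)
    rw [Nat.card_congr (Subgroup.subgroupOfEquivOfLe (inf_le_left : S ≤ N)).toEquiv, sylow_three_normalizer D.hG D.P] at h3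
    obtain ⟨k, hk⟩ := hdiv
    rw [hk] at h3
    have h4 : k * (S.subgroupOf N).index = 2 := Nat.eq_of_mul_eq_mul_left (show 0 < 18 by norm_num) (by linarith)
    rcases (Nat.dvd_prime Nat.prime_two).1 (Dvd.intro_left k h4) with h | h
    · exfalso
      have := (Subgroup.index_eq_one.1 h ▸ Subgroup.mem_top (⟨D.g, D.hgN⟩ : N) : (⟨D.g, D.hgN⟩ : N) ∈ S.subgroupOf N)
      have h5 := cj_eq_iff.2 (this.2 : D.g ∈ Subgroup.normalizer (D.X : Set G))
      exact D.Z_ne_X (h1.symm.trans h5)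
    · exact h
  have hgg := Subgroup.mul_self_mem_of_index_two hidx (⟨D.g, D.hgN⟩ : N)
  rw [← h1, ← cj_mul]
  exact cj_eq_iff.2 hgg.2

/-- Vertices of class A in the base subgroup. -/
theorem classA {h : G} (hm : h * D.x * h⁻¹ ∈ (D.P : Subgroup G)) : cj h D.X = D.X ∨ cj h D.X = D.Z := by
  haveI : Fact (Nat.Prime 3) := ⟨Nat.prime_three⟩
  haveI : IsMulCommutative (D.P : Subgroup G) := ⟨⟨fun a b => Subtype.ext (sylow_comm D.hG D.P a a.2 b b.2)⟩⟩
  obtain ⟨n, hn, e⟩ := Sylow.conj_eq_normalizer_conj_of_mem D.P D.x h⁻¹ D.hxP (by rwa [inv_inv])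
  rw [inv_inv] at e
  have e' : cj h D.X = cj n⁻¹ D.X := by rw [X, cj_zpowers, cj_zpowers, e, inv_inv]
  rw [e']
  have hn' := inv_mem hn
  generalize n⁻¹ = m at hn'
  by_cases hm : m ∈ Subgroup.normalizer (D.X : Set G)
  · exact Or.inl (cj_eq_iff.2 hm)
  right
  set N := Subgroup.normalizer ((D.P : Subgroup G) : Set G) with hN
  have hle : Nat.card ↥(N ⊓ Subgroup.normalizer (D.X : Set G)) ≥ 18 := by
    set S := N ⊓ Subgroup.normalizer (D.X : Set G)
    have h9 : 9 ∣ Nat.card S := D.toFrame.card_P ▸ Subgroup.card_dvd_of_le (le_inf Subgroup.le_normalizer (fun p hp => by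
      exact cj_eq_iff.1 (cj_of_commute (sylow_comm D.hG D.P p hp D.x D.hxP))))
    have h2 : 2 ∣ Nat.card S := D.hi ▸ Subgroup.orderOf_dvd_natCard S (show D.i ∈ S from by
      refine ⟨Subgroup.mem_normalizer_iff.2 fun p => ⟨fun hp => by rw [D.inv p hp]; exact inv_mem hp, fun hp => ?_⟩, cj_eq_iff.1 ?_⟩
      · have e := D.inv _ hp
        rw [FGB.M11.conj_conj_involution D.hi] at e
        rw [e]; exact inv_mem hp
      · rw [X, cj_zpowers, D.inv _ D.hxP, Subgroup.zpowers_inv])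
    exact Nat.le_of_dvd Nat.card_pos (Nat.Coprime.mul_dvd_of_dvd_of_dvd (show Nat.Coprime 9 2 by norm_num) h9 h2)
  have hidx : ((N ⊓ Subgroup.normalizer (D.X : Set G)).subgroupOf N).index = 2 := by
    have h3 := Subgroup.card_mul_index ((N ⊓ Subgroup.normalizer (D.X : Set G)).subgroupOf N)
    rw [Nat.card_congr (Subgroup.subgroupOfEquivOfLe inf_le_left).toEquiv, sylow_three_normalizer D.hG D.P] at h3
    have h4 : ((N ⊓ Subgroup.normalizer (D.X : Set G)).subgroupOf N).index ≠ 1 := fun h => by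
      have h5 : (⟨m, hn'⟩ : N) ∈ (N ⊓ Subgroup.normalizer (D.X : Set G)).subgroupOf N :=
        Subgroup.index_eq_one.1 h ▸ Subgroup.mem_top _
      exact hm h5.2
    generalize hi : ((N ⊓ Subgroup.normalizer (D.X : Set G)).subgroupOf N).index = j at h3 h4
    have hj : j ≤ 2 := by
      have := Nat.mul_le_mul_right j hle
      omega
    interval_cases j <;> omega
  have h5 := (Subgroup.mul_mem_iff_of_index_two hidx (a := (⟨D.g, D.hgN⟩ : N)⁻¹) (b := ⟨m, hn'⟩))
  rw [Subgroup.inv_mem_iff] at h5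
  have hg' : (⟨D.g, D.hgN⟩ : N) ∉ (N ⊓ Subgroup.normalizer (D.X : Set G)).subgroupOf N := fun h =>
    D.Z_ne_X (D.g_swap.1.symm.trans (cj_eq_iff.2 h.2))
  have hm' : (⟨m, hn'⟩ : N) ∉ (N ⊓ Subgroup.normalizer (D.X : Set G)).subgroupOf N := fun h => hm h.2
  have h6 : D.g⁻¹ * m ∈ Subgroup.normalizer (D.X : Set G) := (h5.2 (iff_of_false hg' hm')).2
  rw [← D.g_swap.1]
  conv_rhs => rw [← cj_eq_iff.2 h6, ← cj_mul, mul_inv_cancel_left]

/-- Adjacency. -/
def Adj (A B : Subgroup G) : Prop := ∃ h : G, cj h D.X = A ∧ cj h D.Z = B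

theorem Adj.cj {A B : Subgroup G} (h : D.Adj A B) (a : G) : D.Adj (A7.cj a A) (A7.cj a B) := by
  obtain ⟨k, rfl, rfl⟩ := h
  exact ⟨a * k, cj_mul _ _ _, cj_mul _ _ _⟩

theorem adj_base : D.Adj D.X D.Z := ⟨1, cj_one _, cj_one _⟩

theorem adj_symm {A B : Subgroup G} (h : D.Adj A B) : D.Adj B A := by
  obtain ⟨k, rfl, rfl⟩ := h
  exact ⟨k * D.g, by rw [cj_mul, D.g_swap.1], by rw [cj_mul, D.g_swap.2]⟩

theorem adj_irrefl (A : Subgroup G) : ¬ D.Adj A A := fun ⟨_, h1, h2⟩ => D.Z_ne_X (cj_inj (h2.trans h1.symm))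

theorem adj_comm {A B : Subgroup G} (h : D.Adj A B) {a b : G} (ha : a ∈ A) (hb : b ∈ B) : a * b = b * a := by
  obtain ⟨k, rfl, rfl⟩ := h
  rw [mem_cj] at ha hb
  have e := sylow_comm D.hG D.P _ (Subgroup.zpowers_le.2 D.hxP ha) _ (Subgroup.zpowers_le.2 D.zP hb)
  calc a * b = k * ((k⁻¹ * a * k) * (k⁻¹ * b * k)) * k⁻¹ := by group
    _ = k * ((k⁻¹ * b * k) * (k⁻¹ * a * k)) * k⁻¹ := by rw [e]
    _ = b * a := by group

theorem i_Z : cj D.i D.Z = D.Z := by rw [Z, cj_zpowers, D.inv _ D.zP, Subgroup.zpowers_inv]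

theorem P_fix {p : G} (hp : p ∈ (D.P : Subgroup G)) : cj p D.X = D.X ∧ cj p D.Z = D.Z :=
  ⟨cj_of_commute (sylow_comm D.hG D.P p hp D.x D.hxP), cj_of_commute (sylow_comm D.hG D.P p hp _ D.zP)⟩

theorem C_fix {c : G} (hc : c ∈ D.toFrame.C) : cj c D.X = D.X :=
  cj_of_commute (Subgroup.mem_centralizer_singleton_iff.1 hc)

theorem cases_NX {n : G} (hn : cj n D.X = D.X) : n ∈ D.toFrame.C ∨ n * D.i ∈ D.toFrame.C := by
  rw [X, cj_zpowers] at hn
  rcases FGB.M11.mem_zpowers_three D.hx (hn ▸ Subgroup.mem_zpowers (n * D.x * n⁻¹)) with h | h | h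
  · exact absurd (conj_eq_one_iff.1 h) (fun h => by have := D.hx; rw [h, orderOf_one] at this; omega)
  · exact Or.inl (Subgroup.mem_centralizer_singleton_iff.2 (mul_inv_eq_iff_eq_mul.1 h))
  · refine Or.inr (Subgroup.mem_centralizer_singleton_iff.2 (mul_inv_eq_iff_eq_mul.1 ?_))
    calc n * D.i * D.x * (n * D.i)⁻¹ = n * (D.i * D.x * D.i⁻¹) * n⁻¹ := by group
      _ = (n * D.x * n⁻¹)⁻¹ := by rw [D.inv _ D.hxP]; group
      _ = D.x := by rw [h, inv_inv]

theorem nb_X {B : Subgroup G} : D.Adj D.X B ↔ ∃ v ∈ D.toFrame.V, cj v D.Z = B := by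
  constructor
  · rintro ⟨n, hn, rfl⟩
    rcases D.cases_NX hn with h | h
    · obtain ⟨v, hv, p, hp, rfl⟩ := D.toFrame.decomp h
      exact ⟨v, hv, by rw [cj_mul, (D.P_fix hp).2]⟩
    · obtain ⟨v, hv, p, hp, e⟩ := D.toFrame.decomp h
      refine ⟨v, hv, ?_⟩
      conv_rhs => rw [← D.i_Z, ← cj_mul, e, cj_mul, (D.P_fix hp).2]
  · rintro ⟨v, hv, rfl⟩
    exact ⟨v, D.C_fix (D.toFrame.V_le hv), rfl⟩

theorem comm_V {v : G} (hv : v ∈ D.toFrame.V) : v * D.z * v⁻¹ * D.z⁻¹ ∈ D.toFrame.V := by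
  rw [show v * D.z * v⁻¹ * D.z⁻¹ = v * (D.z * v⁻¹ * D.z⁻¹) by group]
  exact mul_mem hv (D.toFrame.V_conj D.zC (inv_mem hv))

theorem V_Z_inj {v : G} (hv : v ∈ D.toFrame.V) (h : cj v D.Z = D.Z) : v = 1 := by
  refine D.z_fpf hv ?_
  have h1 : v * D.z * v⁻¹ ∈ (D.P : Subgroup G) := by
    refine Subgroup.zpowers_le.2 D.zP (show v * D.z * v⁻¹ ∈ D.Z from ?_)
    rw [← h, Z, cj_zpowers]
    exact Subgroup.mem_zpowers _
  have h2 := D.toFrame.V_P (D.comm_V hv) (mul_mem h1 (inv_mem D.zP))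
  exact (mul_inv_eq_iff_eq_mul.1 (mul_inv_eq_one.1 h2)).symm

theorem unique_common {v : G} (hv : v ∈ D.toFrame.V) (hv1 : v ≠ 1) {w : G} (hw : orderOf w = 3)
    (h1 : w * D.z = D.z * w) (h2 : w * (v * D.z * v⁻¹) = v * D.z * v⁻¹ * w) : w ∈ D.X := by
  refine D.toFrame.unique_three (D.comm_V hv) (fun h => hv1 (D.z_fpf hv ?_)) hw
    ((show Commute w _ from h2).mul_right (show Commute w D.z from h1).inv_right).eq
  exact (mul_inv_eq_iff_eq_mul.1 (mul_inv_eq_one.1 h)).symm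

theorem vtx_gen {A B : Subgroup G} (h : D.Adj A B) : ∃ a, orderOf a = 3 ∧ A = Subgroup.zpowers a := by
  obtain ⟨k, rfl, -⟩ := h
  exact ⟨k * D.x * k⁻¹, by rw [show k * D.x * k⁻¹ = MulAut.conj k D.x by simp, MulEquiv.orderOf_eq, D.hx], cj_zpowers _ _⟩

theorem parent_unique {W : Subgroup G} {a b : G} (ha : a ∈ D.toFrame.V) (hb : b ∈ D.toFrame.V) (hab : a ≠ b)
    (h1 : D.Adj W (cj a D.Z)) (h2 : D.Adj W (cj b D.Z)) : W = D.X := by
  have h1' := Adj.cj D h1 a⁻¹
  rw [cj_inv_cancel] at h1'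
  have h2' := Adj.cj D h2 a⁻¹
  rw [← cj_mul] at h2'
  obtain ⟨w, hw, e⟩ := D.vtx_gen h1'
  have hwm : w ∈ cj a⁻¹ W := e ▸ Subgroup.mem_zpowers w
  have hX := D.unique_common (mul_mem (inv_mem ha) hb) (fun h => hab (inv_mul_eq_one.1 h)) hw
    (D.adj_comm h1' hwm (Subgroup.mem_zpowers _))
    (D.adj_comm h2' hwm (by rw [Z, cj_zpowers]; exact Subgroup.mem_zpowers _))
  have e2 : cj a⁻¹ W = D.X := e.trans (zpowers_eq_of_mem D.hx hw hX)
  rw [← cj_cancel_inv a W, e2, D.C_fix (D.toFrame.V_le ha)]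

/-- The seventeen vertices near the base. -/
def near (A : Subgroup G) : Set (Subgroup G) :=
  insert A ({B | D.Adj A B} ∪ {W | W ≠ A ∧ ∃ B, D.Adj A B ∧ D.Adj B W})

theorem near_cj (g : G) (A : Subgroup G) : A7.cj g '' D.near A = D.near (A7.cj g A) := by
  ext W
  constructor
  · rintro ⟨V, h, rfl⟩
    rcases h with rfl | h | ⟨h1, B, h2, h3⟩
    · exact Or.inl rfl
    · exact Or.inr (Or.inl (Adj.cj D h g))
    · exact Or.inr (Or.inr ⟨fun e => h1 (cj_inj e), _, Adj.cj D h2 g, Adj.cj D h3 g⟩)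
  · intro h
    refine ⟨A7.cj g⁻¹ W, ?_, cj_cancel_inv g W⟩
    rcases h with rfl | h | ⟨h1, B, h2, h3⟩
    · exact Or.inl (cj_inv_cancel g A)
    · have := Adj.cj D h g⁻¹
      rw [cj_inv_cancel] at this
      exact Or.inr (Or.inl this)
    · have h2' := Adj.cj D h2 g⁻¹
      rw [cj_inv_cancel] at h2'
      exact Or.inr (Or.inr ⟨fun e => h1 (by rw [← cj_cancel_inv g W, e]), _, h2', Adj.cj D h3 g⁻¹⟩)

theorem card_nb_X : {B | D.Adj D.X B}.ncard = 4 := by
  rw [show {B | D.Adj D.X B} = Set.range (fun v : D.toFrame.V => A7.cj (v : G) D.Z) from ?_,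
    Set.ncard_range_of_injective fun a b e => ?_, D.toFrame.card_V]
  · refine Subtype.ext (inv_mul_eq_one.1 (D.V_Z_inj (mul_mem (inv_mem b.2) a.2) ?_)).symm
    rw [cj_mul, show A7.cj (a : G) D.Z = A7.cj (b : G) D.Z from e, cj_inv_cancel]
  · ext B
    exact D.nb_X.trans ⟨fun ⟨v, hv, e⟩ => ⟨⟨v, hv⟩, e⟩, fun ⟨v, e⟩ => ⟨v, v.2, e⟩⟩

theorem card_nb {A B : Subgroup G} (h : D.Adj A B) : {W | D.Adj A W}.ncard = 4 := by
  obtain ⟨k, rfl, -⟩ := h
  rw [show {W | D.Adj (A7.cj k D.X) W} = A7.cj k '' {W | D.Adj D.X W} from ?_,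
    Set.ncard_image_of_injective _ fun a b e => cj_inj e, D.card_nb_X]
  ext W
  constructor
  · intro h
    have := Adj.cj D h k⁻¹
    rw [cj_inv_cancel] at this
    exact ⟨_, this, cj_cancel_inv k W⟩
  · rintro ⟨V, h, rfl⟩
    exact Adj.cj D h k

theorem card_near : (D.near D.X).ncard = 17 := by
  classical
  set L1 := {B | D.Adj D.X B} with hL1
  set L2 := {W | W ≠ D.X ∧ ∃ B, D.Adj D.X B ∧ D.Adj B W} with hL2
  have hdis : Disjoint L1 L2 := Set.disjoint_left.2 fun W hW ⟨_, B, hB, hBW⟩ => by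
    obtain ⟨a, ha, rfl⟩ := D.nb_X.1 hW
    obtain ⟨b, hb, rfl⟩ := D.nb_X.1 hB
    rcases eq_or_ne a b with rfl | hab
    · exact D.adj_irrefl _ hBW
    have hzz : D.z * D.z = D.z * D.z := rfl
    have h2 := Adj.cj D (D.adj_symm hBW) a⁻¹
    rw [cj_inv_cancel, ← cj_mul] at h2
    exact D.Z_ne_X (zpowers_eq_of_mem D.hx D.hz (D.unique_common (mul_mem (inv_mem ha) hb)
      (fun h => hab (inv_mul_eq_one.1 h)) D.hz hzz
      (D.adj_comm h2 (Subgroup.mem_zpowers _) (by rw [Z, cj_zpowers]; exact Subgroup.mem_zpowers _))))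
  have hX1 : D.X ∉ L1 ∪ L2 := fun h => h.elim (D.adj_irrefl _) fun h => h.1 rfl
  have hL2c : L2.ncard = 12 := by
    let F : D.toFrame.V → Set (Subgroup G) := fun v => {W | D.Adj (A7.cj (v : G) D.Z) W} \ {D.X}
    haveI := Fintype.ofFinite D.toFrame.V
    have hF : ∀ v, (F v).ncard = 3 := fun v => by
      have hadj := D.adj_symm (D.nb_X.2 ⟨v, v.2, rfl⟩)
      show (({W | D.Adj (A7.cj (v : G) D.Z) W}) \ {D.X}).ncard = 3
      rw [Set.ncard_sdiff_singleton_of_mem (show D.X ∈ {W | D.Adj (A7.cj (v : G) D.Z) W} from hadj), D.card_nb hadj]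
    have e : L2 = ⋃ v, F v := by
      ext W
      simp only [Set.mem_iUnion]
      constructor
      · rintro ⟨h1, B, hB, hBW⟩
        obtain ⟨b, hb, rfl⟩ := D.nb_X.1 hB
        exact ⟨⟨b, hb⟩, hBW, h1⟩
      · rintro ⟨v, h1, h2⟩
        exact ⟨h2, _, D.nb_X.2 ⟨v, v.2, rfl⟩, h1⟩
    rw [e, Set.ncard_iUnion_of_finite (fun v => Set.toFinite _) (fun v w hvw => Set.disjoint_left.2 fun W h1 h2 =>
      h1.2 (D.parent_unique v.2 w.2 (fun h => hvw (Subtype.ext h)) (D.adj_symm h1.1) (D.adj_symm h2.1)))]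
    rw [finsum_congr hF, finsum_eq_sum_of_fintype, Finset.sum_const, Finset.card_univ, ← Nat.card_eq_fintype_card,
      D.toFrame.card_V]
    rfl
  rw [near, Set.ncard_insert_of_notMem hX1, Set.ncard_union_eq hdis, hL2c, hL1, D.card_nb_X]

theorem exists_escape : ∃ W Y : Subgroup G, W ≠ D.X ∧ D.Adj D.Z W ∧ D.Adj W Y ∧ Y ∉ D.near D.X := by
  classical
  have hfixS : ∀ n : G, A7.cj n D.X = D.X → A7.cj n '' D.near D.X = D.near D.X := fun n hn => by rw [D.near_cj, hn]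
  suffices h : ∃ W Y : Subgroup G, W ≠ D.X ∧ (∃ B, D.Adj D.X B ∧ D.Adj B W) ∧ D.Adj W Y ∧ Y ∉ D.near D.X by
    obtain ⟨W, Y, hW, ⟨B, hB, hBW⟩, hWY, hY⟩ := h
    obtain ⟨b, hb, rfl⟩ := D.nb_X.1 hB
    have hbX := D.C_fix (inv_mem (D.toFrame.V_le hb))
    have h1 := Adj.cj D hBW b⁻¹
    rw [cj_inv_cancel] at h1
    refine ⟨_, _, fun e => hW ?_, h1, Adj.cj D hWY b⁻¹, fun h => hY ?_⟩
    · rw [← cj_cancel_inv b W, e, D.C_fix (D.toFrame.V_le hb)]
    · rw [← hfixS b (D.C_fix (D.toFrame.V_le hb))]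
      exact ⟨_, h, cj_cancel_inv b Y⟩
  by_contra hno
  push Not at hno
  have hclosed : ∀ A ∈ D.near D.X, ∀ B, D.Adj A B → B ∈ D.near D.X := by
    rintro A (rfl | h | ⟨h1, C', h2, h3⟩) B hAB
    · exact Or.inr (Or.inl hAB)
    · by_cases hB : B = D.X
      · exact Or.inl hB
      · exact Or.inr (Or.inr ⟨hB, A, h, hAB⟩)
    · exact hno A B h1 ⟨C', h2, h3⟩ hAB
  have hsub : ∀ A ∈ D.near D.X, D.near A ⊆ D.near D.X := by
    rintro A hA W (rfl | h | ⟨-, B, h2, h3⟩)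
    · exact hA
    · exact hclosed A hA W h
    · exact hclosed B (hclosed A hA B h2) W h3
  have hfin : (D.near D.X).Finite := Set.toFinite _
  have hstab : ∀ g : G, A7.cj g D.X ∈ D.near D.X → A7.cj g '' D.near D.X = D.near D.X := fun g hg =>
    Set.eq_of_subset_of_ncard_le (by rw [D.near_cj]; exact hsub _ hg)
      (by rw [Set.ncard_image_of_injective _ fun a b e => cj_inj e]) hfin
  let H : Subgroup G :=
    { carrier := {g | A7.cj g D.X ∈ D.near D.X}
      one_mem' := by show A7.cj 1 D.X ∈ D.near D.X; rw [cj_one]; exact Or.inl rfl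
      mul_mem' := fun {a b} ha hb => by
        show A7.cj (a * b) D.X ∈ D.near D.X
        rw [cj_mul, ← hstab a ha]
        exact ⟨_, hb, rfl⟩
      inv_mem' := fun {a} ha => by
        show A7.cj a⁻¹ D.X ∈ D.near D.X
        obtain ⟨W, hW, e⟩ : D.X ∈ A7.cj a '' D.near D.X := by rw [hstab a ha]; exact Or.inl rfl
        have e2 : A7.cj a⁻¹ D.X = W := by rw [← e, cj_inv_cancel]
        rw [e2]
        exact hW }
  have hrep : ∀ A : ↥(D.near D.X), ∃ k : G, A7.cj k D.X = A := by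
    rintro ⟨A, rfl | h | ⟨-, B, h2, h3⟩⟩
    · exact ⟨1, cj_one _⟩
    · exact (D.adj_symm h).imp fun k hk => hk.1
    · exact (D.adj_symm h3).imp fun k hk => hk.1
  choose k hk using hrep
  let f : ↥(D.near D.X) × Subgroup.normalizer (D.X : Set G) → H := fun p =>
    ⟨k p.1 * p.2, show A7.cj (k p.1 * p.2) D.X ∈ D.near D.X by rw [cj_mul, cj_eq_iff.2 p.2.2, hk]; exact p.1.2⟩
  have hf : Function.Bijective f := by
    constructor
    · rintro ⟨A, n⟩ ⟨B, m⟩ e
      have e' : k A * (n : G) = k B * m := congrArg Subtype.val e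
      have hAB : A = B := Subtype.ext (by
        rw [← hk A, ← hk B, ← cj_eq_iff.2 n.2, ← cj_mul, e', cj_mul, cj_eq_iff.2 m.2, cj_eq_iff.2 n.2])
      subst hAB
      exact Prod.ext rfl (Subtype.ext (mul_left_cancel e'))
    · rintro ⟨g, hg⟩
      refine ⟨(⟨_, hg⟩, ⟨(k ⟨_, hg⟩)⁻¹ * g, cj_eq_iff.1 ?_⟩), Subtype.ext (mul_inv_cancel_left _ g)⟩
      have e : A7.cj (k ⟨_, hg⟩) D.X = A7.cj g D.X := hk ⟨_, hg⟩
      rw [cj_mul]
      have e2 := congrArg (A7.cj (k ⟨_, hg⟩)⁻¹) e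
      rw [cj_inv_cancel] at e2
      exact e2.symm
  have hc := Nat.card_congr (Equiv.ofBijective f hf)
  have hNX : Nat.card (Subgroup.normalizer (D.X : Set G)) = 2 * 36 := by
    rw [X, normalizer_zpowers_card D.hx (D.inv _ D.hxP)]
    rw [show Nat.card (Subgroup.centralizer ({D.x} : Set G)) = 36 from D.toFrame.card_C]
  rw [Nat.card_prod, Nat.card_coe_set_eq, D.card_near, hNX] at hc
  have h17 : 17 ∣ Nat.card G := (Dvd.intro _ hc : 17 ∣ Nat.card H).trans (Subgroup.card_subgroup_dvd_card H)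
  rw [D.hG] at h17
  norm_num at h17

/-- A vertex commuting with the base is the base or a neighbour. -/
theorem vtx_comm {k : G} (h : k * D.x * k⁻¹ * D.x = D.x * (k * D.x * k⁻¹)) :
    A7.cj k D.X = D.X ∨ D.Adj D.X (A7.cj k D.X) := by
  haveI : Fact (Nat.Prime 3) := ⟨Nat.prime_three⟩
  set y := k * D.x * k⁻¹ with hy
  have hy3 : orderOf y = 3 := by rw [hy, show k * D.x * k⁻¹ = MulAut.conj k D.x by simp, MulEquiv.orderOf_eq, D.hx]
  have hyC : y ∈ D.toFrame.C := Subgroup.mem_centralizer_singleton_iff.2 h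
  obtain ⟨R, hR⟩ := (IsPGroup.of_card (n := 1) (p := 3)
    (by rw [Nat.card_zpowers, ← Subgroup.orderOf_coe, hy3, pow_one]) :
      IsPGroup 3 (Subgroup.zpowers (⟨y, hyC⟩ : D.toFrame.C))).exists_le_sylow
  obtain ⟨c, hc⟩ := MulAction.exists_smul_eq D.toFrame.C (D.P.subtype D.toFrame.P_le) R
  have hm := hR (Subgroup.mem_zpowers _)
  rw [← hc] at hm
  obtain ⟨p, hp, e⟩ := hm
  have e' : (c : G) * (p : G) * (c : G)⁻¹ = y := congrArg Subtype.val e
  obtain ⟨v, hv, q, hq, hcq⟩ := D.toFrame.decomp c.2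
  have hpP : (p : G) ∈ (D.P : Subgroup G) := by
    rw [SetLike.mem_coe, Sylow.coe_subtype, Subgroup.mem_subgroupOf] at hp
    exact hp
  have hp' : v⁻¹ * k * D.x * (v⁻¹ * k)⁻¹ ∈ (D.P : Subgroup G) := by
    have : v⁻¹ * k * D.x * (v⁻¹ * k)⁻¹ = q * (p : G) * q⁻¹ := by
      calc v⁻¹ * k * D.x * (v⁻¹ * k)⁻¹ = v⁻¹ * y * v := by rw [hy]; group
        _ = q * (p : G) * q⁻¹ := by rw [← e', hcq]; group
    rw [this]
    exact mul_mem (mul_mem hq hpP) (inv_mem hq)
  rcases D.classA hp' with h1 | h1 <;> rw [cj_mul] at h1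
  · left
    rw [← cj_cancel_inv v (A7.cj k D.X), h1, D.C_fix (D.toFrame.V_le hv)]
  · right
    rw [← cj_cancel_inv v (A7.cj k D.X), h1]
    exact D.nb_X.2 ⟨v, hv, rfl⟩

theorem escape_not_three {Y : Subgroup G} {k : G} (hk : A7.cj k D.X = Y) (hY : Y ∉ D.near D.X) {p : G}
    (hp : p ∈ (D.P : Subgroup G)) (hp3 : orderOf p = 3) : p * (k * D.x * k⁻¹) ≠ k * D.x * k⁻¹ * p := by
  haveI : Fact (Nat.Prime 3) := ⟨Nat.prime_three⟩
  intro hcomm
  have hbad : ∀ q : G, q ∈ D.X → orderOf q = 3 → Commute q (k * D.x * k⁻¹) → False := by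
    intro q hq hq3 hc
    refine (D.vtx_comm (k := k) ?_).elim (fun h => hY (by rw [← hk, h]; exact Or.inl rfl))
      fun h => hY (by rw [← hk]; exact Or.inr (Or.inl h))
    have hxq : D.x ∈ Subgroup.zpowers q := (zpowers_eq_of_mem D.hx hq3 hq).symm ▸ Subgroup.mem_zpowers D.x
    obtain ⟨j, hj⟩ := Subgroup.mem_zpowers_iff.1 hxq
    have := (hc.zpow_left j).eq.symm
    rwa [hj] at this
  by_cases htw : Twice p
  · obtain ⟨h, hh⟩ := twice_conj D.toFrame ⟨D.hG, D.P, p, htw, hp⟩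
    have hh' : h * D.x * h⁻¹ ∈ Subgroup.zpowers p := hh
    have hpe : Subgroup.zpowers p = A7.cj h D.X := by
      rw [X, cj_zpowers]
      exact (zpowers_eq_of_mem hp3 (by rw [show h * D.x * h⁻¹ = MulAut.conj h D.x by simp, MulEquiv.orderOf_eq, D.hx]) hh').symm
    rcases D.classA (Subgroup.zpowers_le.2 hp hh') with e | e
    · exact hbad p (e ▸ hpe ▸ Subgroup.mem_zpowers p) hp3 hcomm
    · -- the companion case, moved by the swap
      have hgp : D.g⁻¹ * p * D.g ∈ D.X := by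
        have : p ∈ A7.cj D.g D.X := by rw [D.g_swap.1, ← e, ← hpe]; exact Subgroup.mem_zpowers p
        exact mem_cj.1 this
      have hc' : Commute D.x (D.g⁻¹ * k * D.x * (D.g⁻¹ * k)⁻¹) := by
        have hxq : D.x ∈ Subgroup.zpowers (D.g⁻¹ * p * D.g) := (zpowers_eq_of_mem D.hx (by
          rw [show D.g⁻¹ * p * D.g = MulAut.conj D.g⁻¹ p by simp, MulEquiv.orderOf_eq, hp3]) hgp).symm ▸ Subgroup.mem_zpowers D.x
        obtain ⟨j, hj⟩ := Subgroup.mem_zpowers_iff.1 hxq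
        rw [← hj]
        refine Commute.zpow_left ?_ j
        show D.g⁻¹ * p * D.g * (D.g⁻¹ * k * _ * (D.g⁻¹ * k)⁻¹) = _ * (D.g⁻¹ * p * D.g)
        rw [hj]
        calc D.g⁻¹ * p * D.g * (D.g⁻¹ * k * D.x * (D.g⁻¹ * k)⁻¹) = D.g⁻¹ * (p * (k * D.x * k⁻¹)) * D.g := by group
          _ = D.g⁻¹ * (k * D.x * k⁻¹ * p) * D.g := by rw [hcomm]
          _ = _ := by group
      rcases D.vtx_comm hc'.eq.symm with h1 | h1 <;> rw [cj_mul, hk] at h1
      · refine hY (Or.inr (Or.inl ?_))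
        rw [← cj_cancel_inv D.g Y, h1, D.g_swap.1]
        exact D.adj_base
      · have h2 := Adj.cj D h1 D.g
        rw [D.g_swap.1, cj_cancel_inv] at h2
        rcases eq_or_ne Y D.X with e | e
        · exact hY (Or.inl e)
        · exact hY (Or.inr (Or.inr ⟨e, _, D.adj_base, h2⟩))
  · -- both in one Sylow subgroup
    set y := k * D.x * k⁻¹ with hy
    have hy3 : orderOf y = 3 := by rw [hy, show k * D.x * k⁻¹ = MulAut.conj k D.x by simp, MulEquiv.orderOf_eq, D.hx]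
    have hle : Subgroup.zpowers y ≤ Subgroup.normalizer (Subgroup.zpowers p : Set G) := by
      refine Subgroup.zpowers_le.2 (cj_eq_iff.1 (cj_of_commute hcomm.symm))
    obtain ⟨R, hR⟩ := ((IsPGroup.of_card (n := 1) (p := 3) (by rw [Nat.card_zpowers, hp3, pow_one]) :
      IsPGroup 3 (Subgroup.zpowers p)).to_sup_of_normal_left'
      (IsPGroup.of_card (n := 1) (by rw [Nat.card_zpowers, hy3, pow_one])) hle).exists_le_sylow
    have hRP : R = D.P := by
      by_contra h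
      exact htw ⟨hp3, R, D.P, h, hR (Subgroup.mem_sup_left (Subgroup.mem_zpowers p)), hp⟩
    have hyP : y ∈ (D.P : Subgroup G) := hRP ▸ hR (Subgroup.mem_sup_right (Subgroup.mem_zpowers y))
    rcases D.classA hyP with e | e <;> rw [hk] at e
    · exact hY (Or.inl e)
    · exact hY (Or.inr (Or.inl (e ▸ D.adj_base)))

theorem exists_fixer {Y W : Subgroup G} (hWY : D.Adj W Y) (hY : Y ∉ D.near D.X) :
    ∃ v ∈ D.toFrame.V, v ≠ 1 ∧ A7.cj v Y = Y := by
  classical
  obtain ⟨k, hk, -⟩ := D.adj_symm hWY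
  set N := Subgroup.normalizer (D.X : Set G) with hN
  set St := N ⊓ Subgroup.normalizer (Y : Set G) with hSt
  have hNc : Nat.card N = 2 * 36 := by
    rw [hN, X, normalizer_zpowers_card D.hx (D.inv _ D.hxP)]
    rw [show Nat.card (Subgroup.centralizer ({D.x} : Set G)) = 36 from D.toFrame.card_C]
  -- thirty-five vertices
  set Vt := Set.range (fun h : G => A7.cj h D.X) with hVt
  have hVc : Vt.ncard ≤ 35 := by
    choose r hr using fun A : Vt => A.2
    have hinj : Function.Injective (fun p : Vt × N => r p.1 * (p.2 : G)) := by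
      rintro ⟨A, n⟩ ⟨B, m⟩ e
      have e' : r A * (n : G) = r B * m := e
      have hAB : A = B := Subtype.ext (by
        rw [← hr A, ← hr B]
        show A7.cj (r A) D.X = A7.cj (r B) D.X
        rw [← cj_eq_iff.2 n.2, ← cj_mul, e', cj_mul, cj_eq_iff.2 m.2, cj_eq_iff.2 n.2])
      subst hAB
      exact Prod.ext rfl (Subtype.ext (mul_left_cancel e'))
    have := Nat.card_le_card_of_injective _ hinj
    rw [Nat.card_prod, Nat.card_coe_set_eq, hNc, D.hG] at this
    omega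
  set O := Set.range (fun n : N => A7.cj (n : G) Y) with hO
  have hOc : O.ncard ≤ 18 := by
    have hsub : O ⊆ Vt \ D.near D.X := by
      rintro _ ⟨n, rfl⟩
      refine ⟨⟨(n : G) * k, by show A7.cj ((n : G) * k) D.X = _; rw [cj_mul, hk]⟩, fun h => hY ?_⟩
      have hn := cj_eq_iff.2 n.2
      rw [show A7.cj (n : G) Y ∈ D.near D.X ↔ A7.cj (n : G) Y ∈ A7.cj (n : G) '' D.near D.X by rw [D.near_cj, hn]] at h
      obtain ⟨W', hW', e⟩ := h
      rwa [← cj_inj e]
    have hnV : D.near D.X ⊆ Vt := by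
      rintro A (rfl | h | ⟨-, B, h2, h3⟩)
      · exact ⟨1, cj_one _⟩
      · exact (D.adj_symm h).imp fun k hk => hk.1
      · exact (D.adj_symm h3).imp fun k hk => hk.1
    have := Set.ncard_le_ncard hsub (Set.toFinite _)
    rw [Set.ncard_sdiff hnV, D.card_near] at this
    omega
  have hSt4 : 4 ≤ Nat.card St := by
    choose r hr using fun A : O => A.2
    let f : N → O × St := fun n => (⟨_, n, rfl⟩, ⟨((r ⟨_, n, rfl⟩ : N) : G)⁻¹ * n, Subgroup.mem_inf.2 ⟨N.mul_mem (N.inv_mem (r _).2) n.2,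
      cj_eq_iff.1 (by
        have e : A7.cj ((r ⟨_, n, rfl⟩ : N) : G) Y = A7.cj (n : G) Y := hr ⟨_, n, rfl⟩
        rw [cj_mul, ← e, cj_inv_cancel])⟩⟩)
    have hf : Function.Injective f := by
      intro a b e
      have e1 := congrArg Prod.fst e
      have e2 : ((r ⟨_, a, rfl⟩ : N) : G)⁻¹ * a = ((r ⟨_, b, rfl⟩ : N) : G)⁻¹ * b := congrArg (fun q : O × St => (q.2 : G)) e
      have : r ⟨_, a, rfl⟩ = r ⟨_, b, rfl⟩ := congrArg r e1
      rw [this] at e2
      exact Subtype.ext (mul_left_cancel e2)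
    have := Nat.card_le_card_of_injective f hf
    rw [Nat.card_prod, Nat.card_coe_set_eq, hNc] at this
    nlinarith
  obtain ⟨s, hs, hs1, hsC⟩ : ∃ s ∈ St, s ≠ 1 ∧ s ∈ D.toFrame.C := by
    by_contra hno
    push Not at hno
    let f : St → Bool := fun s => decide ((s : G) = 1)
    have hf : Function.Injective f := fun a b e => by
      simp only [f, decide_eq_decide] at e
      by_cases ha : (a : G) = 1
      · exact Subtype.ext (ha.trans (e.1 ha).symm)
      · have hb : (b : G) ≠ 1 := fun h => ha (e.2 h)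
        have ha' := (D.cases_NX (cj_eq_iff.2 a.2.1)).resolve_left (hno a a.2 ha)
        have hb' := (D.cases_NX (cj_eq_iff.2 b.2.1)).resolve_left (hno b b.2 hb)
        by_contra hne
        have hab : (a : G) * (b : G)⁻¹ ∈ D.toFrame.C := by
          have := mul_mem ha' (inv_mem hb')
          rwa [mul_inv_rev, ← mul_assoc, mul_inv_cancel_right] at this
        exact hno _ (mul_mem a.2 (inv_mem b.2)) (fun h => hne (Subtype.ext (mul_inv_eq_one.1 h))) hab
    have := Nat.card_le_card_of_injective f hf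
    rw [Nat.card_eq_fintype_card (α := Bool), Fintype.card_bool] at this
    omega
  by_cases h3 : 3 ∣ orderOf s
  · exfalso
    haveI : Fact (Nat.Prime 3) := ⟨Nat.prime_three⟩
    set q := s ^ (orderOf s / 3) with hq
    have hqo : orderOf q = 3 := orderOf_pow_orderOf_div (orderOf_pos s).ne' h3
    have hqC : q ∈ D.toFrame.C := pow_mem hsC _
    have hqY : A7.cj q Y = Y := cj_eq_iff.2 (pow_mem hs _).2
    set y := k * D.x * k⁻¹ with hy
    have hy3 : orderOf y = 3 := by rw [hy, show k * D.x * k⁻¹ = MulAut.conj k D.x by simp, MulEquiv.orderOf_eq, D.hx]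
    have hYe : Y = Subgroup.zpowers y := by rw [← hk, X, cj_zpowers]
    have hqy := mem_centralizer_of_mem_normalizer (q := 3) Y (by rw [hYe, Nat.card_zpowers, hy3])
      (cj_eq_iff.1 hqY) (by rw [hqo]; norm_num)
    have hcom : Commute q y := (Subgroup.mem_centralizer_iff.1 hqy y (hYe ▸ Subgroup.mem_zpowers y)).symm
    -- move the element into the base Sylow subgroup
    obtain ⟨R, hR⟩ := (IsPGroup.of_card (n := 1) (p := 3)
      (by rw [Nat.card_zpowers, ← Subgroup.orderOf_coe, hqo, pow_one]) :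
        IsPGroup 3 (Subgroup.zpowers (⟨q, hqC⟩ : D.toFrame.C))).exists_le_sylow
    obtain ⟨c, hc⟩ := MulAction.exists_smul_eq D.toFrame.C (D.P.subtype D.toFrame.P_le) R
    have hm := hR (Subgroup.mem_zpowers _)
    rw [← hc] at hm
    obtain ⟨p, hp, e⟩ := hm
    have e' : (c : G) * (p : G) * (c : G)⁻¹ = q := congrArg Subtype.val e
    have hpP : (p : G) ∈ (D.P : Subgroup G) := by
      rw [SetLike.mem_coe, Sylow.coe_subtype, Subgroup.mem_subgroupOf] at hp
      exact hp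
    refine D.escape_not_three (k := (c : G)⁻¹ * k) (Y := A7.cj (c : G)⁻¹ Y) (by rw [cj_mul, hk]) ?_ hpP ?_ ?_
    · intro h
      refine hY ?_
      rw [← show A7.cj (c : G) '' D.near D.X = D.near D.X by rw [D.near_cj, D.C_fix c.2]]
      exact ⟨_, h, cj_cancel_inv _ _⟩
    · rw [← hqo, ← e', show (c : G) * (p : G) * (c : G)⁻¹ = MulAut.conj (c : G) (p : G) by simp, MulEquiv.orderOf_eq]
    · calc (p : G) * ((c : G)⁻¹ * k * D.x * ((c : G)⁻¹ * k)⁻¹) = (c : G)⁻¹ * (q * y) * c := by rw [← e', hy]; group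
        _ = (c : G)⁻¹ * (y * q) * c := by rw [hcom.eq]
        _ = _ := by rw [← e', hy]; group
  · refine ⟨s, D.toFrame.two_mem_V hsC (k := 2) ?_, hs1, cj_eq_iff.2 hs.2⟩
    have hd : orderOf s ∣ 36 := D.toFrame.card_C ▸ Subgroup.orderOf_dvd_natCard _ hsC
    have key : ∀ d ∈ Nat.divisors 36, ¬ 3 ∣ d → d ∣ 2 ^ 2 := by decide
    exact key _ (Nat.mem_divisors.2 ⟨hd, by norm_num⟩) h3

theorem V_sq {v : G} (hv : v ∈ D.toFrame.V) : v * v = 1 := by
  by_contra h
  have h4 : v ^ 4 = 1 := orderOf_dvd_iff_pow_eq_one.1 (D.toFrame.card_V ▸ Subgroup.orderOf_dvd_natCard _ hv)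
  have h2 : orderOf v = 4 := orderOf_eq_prime_pow (p := 2) (n := 1) (by rwa [pow_one, pow_two]) (by norm_num; exact h4)
  have hgen : Subgroup.zpowers v = D.toFrame.V := Subgroup.eq_of_le_of_card_ge (Subgroup.zpowers_le.2 hv)
    (by rw [Nat.card_zpowers, h2, D.toFrame.card_V])
  have hzv := D.toFrame.V_conj D.zC hv
  rw [← hgen] at hzv
  obtain ⟨j, hj⟩ := Subgroup.mem_zpowers_iff.1 hzv
  refine h (D.z_fpf (mul_mem hv hv) ?_)
  have hjodd : j % 2 = 1 := by
    by_contra hh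
    obtain ⟨m, rfl⟩ : 2 ∣ j := Int.dvd_of_emod_eq_zero (by omega)
    have h5 : orderOf (v ^ (2 * m)) ∣ 2 := orderOf_dvd_of_pow_eq_one (by
      rw [← zpow_natCast, ← zpow_mul, show 2 * m * ((2 : ℕ) : ℤ) = ((4 : ℕ) : ℤ) * m by push_cast; ring, zpow_mul,
        zpow_natCast, h4, one_zpow])
    rw [hj, show D.z * v * D.z⁻¹ = MulAut.conj D.z v by simp, MulEquiv.orderOf_eq, h2] at h5
    norm_num at h5
  refine mul_inv_eq_iff_eq_mul.1 ?_
  calc D.z * (v * v) * D.z⁻¹ = (D.z * v * D.z⁻¹) * (D.z * v * D.z⁻¹) := by group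
    _ = v ^ (2 * j) := by rw [← hj, ← zpow_add]; ring_nf
    _ = v * v := by
      obtain ⟨m, rfl⟩ : ∃ m, j = 2 * m + 1 := ⟨j / 2, by omega⟩
      rw [show 2 * (2 * m + 1) = ((4 : ℕ) : ℤ) * m + ((2 : ℕ) : ℤ) by push_cast; ring, zpow_add, zpow_mul, zpow_natCast,
        zpow_natCast, h4, one_zpow, one_mul, pow_two]

/-- The second generator. -/
theorem exists_s : ∃ s v : G, orderOf s = 3 ∧ v ∈ D.toFrame.V ∧ v ≠ 1 ∧ D.z * s = s * D.z ∧
    s ∉ D.X ∧ (D.x * s) * (D.x * s) = 1 ∧ (s * (v * s * v⁻¹)) * (s * (v * s * v⁻¹)) = 1 ∧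
    D.g⁻¹ * (D.x * s) * D.g ∈ D.toFrame.V := by
  obtain ⟨W, Y, hWX, hZW, hWY, hY⟩ := D.exists_escape
  obtain ⟨v, hv, hv1, hvY⟩ := D.exists_fixer hWY hY
  -- the vertex in terms of the swap
  have h1 := Adj.cj D hZW D.g⁻¹
  rw [show A7.cj D.g⁻¹ D.Z = D.X by rw [← D.g_swap.1, cj_inv_cancel]] at h1
  obtain ⟨u, hu, hu'⟩ := D.nb_X.1 h1
  set b := D.g * u * D.g⁻¹ with hb
  have hWb : W = A7.cj b D.X := by
    rw [← cj_cancel_inv D.g W, ← hu', hb, cj_mul, cj_mul,
      show A7.cj D.g⁻¹ D.X = D.Z by conv_lhs => rw [← D.g_swap.2, cj_inv_cancel]]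
  set s := (b * D.x * b⁻¹)⁻¹ with hs
  have hsW : s ∈ W := by rw [hWb, X, cj_zpowers]; exact inv_mem (Subgroup.mem_zpowers _)
  have hs3 : orderOf s = 3 := by
    rw [hs, orderOf_inv, show b * D.x * b⁻¹ = MulAut.conj b D.x by simp, MulEquiv.orderOf_eq, D.hx]
  refine ⟨s, v, hs3, hv, hv1, D.adj_comm hZW (Subgroup.mem_zpowers _) hsW, fun h => hWX ?_, ?_, ?_, ?_⟩
  · rw [hWb, X, cj_zpowers, ← Subgroup.zpowers_inv (g := b * D.x * b⁻¹), ← hs]
    exact zpowers_eq_of_mem D.hx hs3 h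
  swap
  · -- inside the centralizer of the common neighbour
    obtain ⟨k, hkY, -⟩ := D.adj_symm hWY
    have hsY : ∀ a : G, a ∈ W ∨ a ∈ A7.cj v W → k⁻¹ * a * k ∈ D.toFrame.C := by
      intro a ha
      have hya : Commute (k * D.x * k⁻¹) a := by
        have hyY : k * D.x * k⁻¹ ∈ Y := by rw [← hkY, X, cj_zpowers]; exact Subgroup.mem_zpowers _
        rcases ha with ha | ha
        · exact (D.adj_comm hWY ha hyY).symm
        · have h2 := Adj.cj D hWY v
          rw [hvY] at h2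
          exact (D.adj_comm h2 ha hyY).symm
      refine Subgroup.mem_centralizer_singleton_iff.2 ?_
      calc k⁻¹ * a * k * D.x = k⁻¹ * (a * (k * D.x * k⁻¹)) * k := by group
        _ = k⁻¹ * ((k * D.x * k⁻¹) * a) * k := by rw [hya.eq]
        _ = D.x * (k⁻¹ * a * k) := by group
    set s' := k⁻¹ * s * k with hs'
    set v' := k⁻¹ * v * k with hv'
    have hs'C := hsY s (Or.inl hsW)
    have hv'X : A7.cj v' D.X = D.X := by
      rw [hv', cj_mul, cj_mul, hkY, hvY, ← hkY, cj_inv_cancel]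
    have hv'C : v' ∉ D.toFrame.C := fun h => hY (by
      have hyv : k * D.x * k⁻¹ * v = v * (k * D.x * k⁻¹) := by
        have e : v' * D.x = D.x * v' := Subgroup.mem_centralizer_singleton_iff.1 h
        calc k * D.x * k⁻¹ * v = k * (D.x * v') * k⁻¹ := by rw [hv']; group
          _ = k * (v' * D.x) * k⁻¹ := by rw [e]
          _ = v * (k * D.x * k⁻¹) := by rw [hv']; group
      have hy3 : orderOf (k * D.x * k⁻¹) = 3 := by
        rw [show k * D.x * k⁻¹ = MulAut.conj k D.x by simp, MulEquiv.orderOf_eq, D.hx]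
      have := zpowers_eq_of_mem D.hx hy3 (D.toFrame.unique_three hv hv1 hy3 hyv)
      rw [← hkY, X, cj_zpowers, this]
      exact Or.inl rfl)
    have hc := (D.cases_NX hv'X).resolve_left hv'C
    obtain ⟨u₁, hu₁, q, hq, e1⟩ := D.toFrame.decomp hc
    obtain ⟨u₂, hu₂, p, hp, e2⟩ := D.toFrame.decomp hs'C
    have hv'e : v' = u₁ * q * D.i := by
      rw [← e1, mul_assoc, ← pow_two, ← D.hi, pow_orderOf_eq_one, mul_one]
    have hnV : ∀ w ∈ D.toFrame.V, v' * w * v'⁻¹ ∈ D.toFrame.V := by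
      intro w hw
      refine D.toFrame.two_mem_V (k := 2) ?_ ?_
      · refine Subgroup.mem_centralizer_singleton_iff.2 (mul_inv_eq_iff_eq_mul.1 ?_)
        have e : v'⁻¹ * D.x * v' ∈ Subgroup.zpowers D.x := by
          have h : D.x ∈ A7.cj v' D.X := by rw [hv'X]; exact Subgroup.mem_zpowers _
          exact mem_cj.1 h
        obtain ⟨j, hj⟩ := Subgroup.mem_zpowers_iff.1 e
        have hwx : Commute w (D.x ^ j) :=
          (show Commute w D.x from Subgroup.mem_centralizer_singleton_iff.1 (D.toFrame.V_le hw)).zpow_right j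
        calc v' * w * v'⁻¹ * D.x * (v' * w * v'⁻¹)⁻¹ = v' * (w * (v'⁻¹ * D.x * v') * w⁻¹) * v'⁻¹ := by group
          _ = v' * (v'⁻¹ * D.x * v') * v'⁻¹ := by rw [← hj, hwx.eq, mul_inv_cancel_right]
          _ = D.x := by group
      · rw [show v' * w * v'⁻¹ = MulAut.conj v' w by simp, MulEquiv.orderOf_eq]
        exact (Subgroup.orderOf_dvd_natCard _ hw).trans (by rw [D.toFrame.card_V]; norm_num)
    have hkey : v' * p * v'⁻¹ = u₁ * p⁻¹ * u₁⁻¹ := by
      calc v' * p * v'⁻¹ = u₁ * (q * (D.i * p * D.i⁻¹) * q⁻¹) * u₁⁻¹ := by rw [hv'e]; group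
        _ = u₁ * p⁻¹ * u₁⁻¹ := by
          rw [D.inv p hp, sylow_comm D.hG D.P q hq _ (inv_mem hp), mul_inv_cancel_right]
    have hV : s' * (v' * s' * v'⁻¹) ∈ D.toFrame.V := by
      have hw : v' * u₂ * v'⁻¹ * (u₁ * (p⁻¹ * u₁⁻¹ * p)) ∈ D.toFrame.V := by
        refine mul_mem (hnV _ hu₂) (mul_mem hu₁ ?_)
        have := D.toFrame.V_conj (D.toFrame.P_le (inv_mem hp)) (inv_mem hu₁)
        rwa [inv_inv] at this
      have e3 : s' * (v' * s' * v'⁻¹) = u₂ * (p * (v' * u₂ * v'⁻¹ * (u₁ * (p⁻¹ * u₁⁻¹ * p))) * p⁻¹) := by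
        calc s' * (v' * s' * v'⁻¹) = u₂ * p * (v' * u₂ * v'⁻¹ * (v' * p * v'⁻¹)) := by
              rw [show s' = u₂ * p from e2]; group
          _ = _ := by rw [hkey]; group
      rw [e3]
      exact mul_mem hu₂ (D.toFrame.V_conj (D.toFrame.P_le hp) hw)
    have h5 := D.V_sq hV
    calc s * (v * s * v⁻¹) * (s * (v * s * v⁻¹))
        = k * (s' * (v' * s' * v'⁻¹) * (s' * (v' * s' * v'⁻¹))) * k⁻¹ := by rw [hs', hv']; group
      _ = 1 := by rw [h5]; group
  all_goals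
    have hxs : D.g⁻¹ * (D.x * s) * D.g ∈ D.toFrame.V := by
      have hgx : D.g⁻¹ * D.x * D.g ∈ D.toFrame.C := by
        refine Subgroup.mem_centralizer_singleton_iff.2 ?_
        calc D.g⁻¹ * D.x * D.g * D.x = D.g⁻¹ * (D.x * (D.g * D.x * D.g⁻¹)) * D.g := by group
          _ = D.g⁻¹ * ((D.g * D.x * D.g⁻¹) * D.x) * D.g := by rw [← show D.z = D.g * D.x * D.g⁻¹ from rfl, D.zx]
          _ = D.x * (D.g⁻¹ * D.x * D.g) := by group
      have e : D.g⁻¹ * (D.x * s) * D.g =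
          (D.g⁻¹ * D.x * D.g) * u * (D.g⁻¹ * D.x * D.g)⁻¹ * u⁻¹ := by rw [hs, hb]; group
      rw [e]
      exact mul_mem (D.toFrame.V_conj hgx hu) (inv_mem hu)
  · calc D.x * s * (D.x * s) = D.g * ((D.g⁻¹ * (D.x * s) * D.g) * (D.g⁻¹ * (D.x * s) * D.g)) * D.g⁻¹ := by group
      _ = 1 := by rw [D.V_sq hxs]; group
  · exact hxs

end Conf

end Cfsg.Agent.FGB.A7
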