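import Cfsg.Agent.Lib.FGB.A7Graph

/-!
# A subgroup of index seven
-/

set_option autoImplicit false
set_option linter.style.haveILetI false
set_option linter.unusedSectionVars false

namespace Cfsg.Agent.FGB.A7

open Cfsg
open Cfsg.Agent.SmallSimple
open scoped Pointwise

universe u

variable {G : Type u} [Group G] [Finite G]

/-- Adjoining one element of an alternating-type generating family. -/
theorem card_step [DecidableEq G] (S : Finset G) {t : G} (ht : t * t * t = 1) (h3 : ∀ k ∈ S, k * k * k = 1)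
    (hkt : ∀ k ∈ S, (k * t) * (k * t) = 1) (hkl : ∀ k ∈ S, ∀ l ∈ S, k ≠ l → (k * l) * (k * l) = 1) :
    Nat.card (Subgroup.closure ((insert t S : Finset G) : Set G)) ≤
      Nat.card (Subgroup.closure (S : Set G)) * (3 + S.card) := by
  classical
  set K := Subgroup.closure (S : Set G) with hK
  have hSK : ∀ k ∈ S, k ∈ K := fun k hk => Subgroup.subset_closure hk
  -- relations
  have htinv : t⁻¹ = t * t := inv_eq_of_mul_eq_one_left ht
  have hinv : ∀ {a b : G}, (a * b) * (a * b) = 1 → a * b = b⁻¹ * a⁻¹ := fun {a b} h => by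
    rw [← mul_inv_rev]; exact eq_inv_of_mul_eq_one_left h
  have hsq : ∀ k ∈ S, k * k = k⁻¹ := fun k hk => eq_inv_of_mul_eq_one_left (h3 k hk)
  have htk : ∀ k ∈ S, t * k * (t * k) = 1 := fun k hk => by
    calc t * k * (t * k) = k⁻¹ * ((k * t) * (k * t)) * k := by group
      _ = 1 := by rw [hkt k hk]; group
  set R : Finset G := {1, t, t * t} ∪ S.image (fun k => t * t * k) with hR
  have hR0 : (1 : G) ∈ R := by simp [hR]
  have hR1 : t ∈ R := by simp [hR]
  have hR2 : t * t ∈ R := by simp [hR]
  have hRk : ∀ k ∈ S, t * t * k ∈ R := fun k hk => Finset.mem_union_right _ (Finset.mem_image_of_mem _ hk)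
  have step : ∀ r ∈ R, ∀ a ∈ insert t S, ∃ q ∈ K, ∃ r' ∈ R, r * a = q * r' := by
    intro r hr a ha
    simp only [hR, Finset.mem_union, Finset.mem_insert, Finset.mem_singleton, Finset.mem_image] at hr
    rcases Finset.mem_insert.1 ha with hat | ha
    · rw [hat]
      rcases hr with (h | h | h) | ⟨k, hk, h⟩
      · exact ⟨1, one_mem _, _, hR1, by rw [h]⟩
      · exact ⟨1, one_mem _, _, hR2, by rw [h, one_mul]⟩
      · exact ⟨1, one_mem _, _, hR0, by rw [h, ht, one_mul]⟩
      · refine ⟨k⁻¹, inv_mem (hSK k hk), _, hRk k hk, ?_⟩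
        rw [← h, ← htinv]
        calc t⁻¹ * k * t = t⁻¹ * (k * t) := by group
          _ = t⁻¹ * (t⁻¹ * k⁻¹) := by rw [hinv (hkt k hk)]
          _ = (t⁻¹ * t⁻¹) * k⁻¹ := by group
          _ = t * k⁻¹ := by
              rw [htinv]
              congr 1
              calc t * t * (t * t) = t * t * t * t := by group
                _ = t := by rw [ht, one_mul]
          _ = k⁻¹ * (t⁻¹ * k) := by
              calc t * k⁻¹ = t * (k * k) := by rw [hsq k hk]
                _ = (t * k) * k := by group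
                _ = (k⁻¹ * t⁻¹) * k := by rw [hinv (htk k hk)]
                _ = k⁻¹ * (t⁻¹ * k) := by group
    · rcases hr with (h | h | h) | ⟨k, hk, h⟩
      · exact ⟨a, hSK a ha, _, hR0, by rw [h, one_mul, mul_one]⟩
      · refine ⟨a⁻¹, inv_mem (hSK a ha), _, hR2, ?_⟩
        rw [h, hinv (htk a ha), htinv]
      · exact ⟨1, one_mem _, _, hRk a ha, by rw [h, one_mul]⟩
      · rw [← h]
        by_cases hka : k = a
        · subst hka
          refine ⟨k, hSK k hk, _, hR1, ?_⟩
          calc t * t * k * k = t⁻¹ * (k * k) := by rw [htinv]; group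
            _ = t⁻¹ * k⁻¹ := by rw [hsq k hk]
            _ = k * t := (hinv (hkt k hk)).symm
        · refine ⟨a * k⁻¹, mul_mem (hSK a ha) (inv_mem (hSK k hk)), _, hRk k hk, ?_⟩
          calc t * t * k * a = t⁻¹ * (k * a) := by rw [htinv]; group
            _ = t⁻¹ * (a⁻¹ * k⁻¹) := by rw [hinv (hkl k hk a ha hka)]
            _ = (t⁻¹ * a⁻¹) * k⁻¹ := by group
            _ = (a * t) * k⁻¹ := by rw [← hinv (hkt a ha)]
            _ = a * (t * k⁻¹) := by group
            _ = a * (k⁻¹ * t⁻¹ * k) := by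
              congr 1
              calc t * k⁻¹ = t * (k * k) := by rw [hsq k hk]
                _ = (t * k) * k := by group
                _ = (k⁻¹ * t⁻¹) * k := by rw [hinv (htk k hk)]
            _ = a * k⁻¹ * (t * t * k) := by rw [htinv]; group
  have step' : ∀ g : G, (∃ q ∈ K, ∃ r ∈ R, g = q * r) → ∀ a ∈ insert t S, ∃ q ∈ K, ∃ r ∈ R, g * a = q * r := by
    rintro g ⟨q, hq, r, hr, rfl⟩ a ha
    obtain ⟨q', hq', r', hr', e⟩ := step r hr a ha
    exact ⟨q * q', mul_mem hq hq', r', hr', by rw [mul_assoc, e, mul_assoc]⟩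
  have hall : ∀ g ∈ Subgroup.closure ((insert t S : Finset G) : Set G), ∃ q ∈ K, ∃ r ∈ R, g = q * r := by
    intro g hg
    induction hg using Subgroup.closure_induction_right with
    | one => exact ⟨1, one_mem _, 1, hR0, by group⟩
    | mul_right g hg a ha ih => exact step' g ih a ha
    | mul_inv_cancel g hg a ha ih =>
      have h2 : a⁻¹ = a * a := by
        rcases Finset.mem_insert.1 ha with rfl | h
        · exact htinv
        · exact (hsq a h).symm
      rw [h2, ← mul_assoc]
      exact step' _ (step' g ih a ha) a ha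
  choose q hq r hr e using hall
  have hinj : Function.Injective (fun g : Subgroup.closure ((insert t S : Finset G) : Set G) =>
      ((⟨q g g.2, hq g g.2⟩ : K), (⟨r g g.2, hr g g.2⟩ : R))) := by
    intro a b h
    have h1 : q a a.2 = q b b.2 := congrArg (fun p => ((p.1 : K) : G)) h
    have h2 : r a a.2 = r b b.2 := congrArg (fun p => ((p.2 : R) : G)) h
    exact Subtype.ext (by rw [e a a.2, e b b.2, h1, h2])
  have := Nat.card_le_card_of_injective _ hinj
  rw [Nat.card_prod, Nat.card_eq_finsetCard] at this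
  refine this.trans (Nat.mul_le_mul_left _ ?_)
  exact (Finset.card_union_le _ _).trans (add_le_add Finset.card_le_three Finset.card_image_le)

variable [IsSimpleGroup G]

theorem exists_index_seven (hG : Nat.card G = 2520) : ∃ H : Subgroup G, H ≠ ⊤ ∧ H.index = 7 := by
  classical
  obtain ⟨D⟩ := Conf.exists_conf hG
  obtain ⟨s, v, hs3, hv, hv1, hzs, hsX, hxs, hsv, hgV⟩ := D.exists_s
  set v1 := D.z * v * D.z⁻¹ with hv1d
  set v2 := D.z⁻¹ * v * D.z with hv2d
  have hv1V : v1 ∈ D.toFrame.V := D.toFrame.V_conj D.zC hv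
  have hv2V : v2 ∈ D.toFrame.V := by
    have := D.toFrame.V_conj (inv_mem D.zC) hv
    rwa [inv_inv] at this
  have hz3 : D.z * D.z * D.z = 1 := by rw [← pow_two, ← pow_succ]; exact orderOf_dvd_iff_pow_eq_one.1 D.hz.dvd
  have hd1 : v1 ≠ 1 := fun h => hv1 (conj_eq_one_iff.1 h)
  have hd2 : v2 ≠ 1 := fun h => hv1 (by calc v = D.z * v2 * D.z⁻¹ := by rw [hv2d]; group
                                      _ = 1 := by rw [h]; group)
  have hn1 : v1 ≠ v := fun h => hv1 (D.z_fpf hv (mul_inv_eq_iff_eq_mul.1 h))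
  have hn2 : v2 ≠ v := fun h => hn1 (by
    calc v1 = D.z * v * D.z⁻¹ := hv1d
      _ = D.z * v2 * D.z⁻¹ := by rw [h]
      _ = v := by rw [hv2d]; group)
  have hn12 : v1 ≠ v2 := fun h => hn1 (by
    have e : D.z * v1 * D.z⁻¹ = D.z * v2 * D.z⁻¹ := by rw [h]
    have e1 : D.z * v2 * D.z⁻¹ = v := by rw [hv2d]; group
    have e2 : D.z * v1 * D.z⁻¹ = v2 := by
      calc D.z * v1 * D.z⁻¹ = (D.z * D.z * D.z) * (D.z⁻¹ * v * D.z) * (D.z * D.z * D.z)⁻¹ := by rw [hv1d]; group
        _ = v2 := by rw [hz3, hv2d]; group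
    rw [e2, e1] at e
    rw [h, e])
  have hV : ∀ w ∈ D.toFrame.V, w = 1 ∨ w = v ∨ w = v1 ∨ w = v2 := by
    intro w hw
    have hsub : ({1, v, v1, v2} : Finset G) ⊆ (Set.toFinite (D.toFrame.V : Set G)).toFinset := by
      intro a ha
      simp only [Finset.mem_insert, Finset.mem_singleton] at ha
      rw [Set.Finite.mem_toFinset]
      rcases ha with rfl | rfl | rfl | rfl
      exacts [one_mem _, hv, hv1V, hv2V]
    have hc : ({1, v, v1, v2} : Finset G).card = 4 := Finset.card_eq_four.2
      ⟨1, v, v1, v2, hv1.symm, hd1.symm, hd2.symm, hn1.symm, hn2.symm, hn12, rfl⟩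
    have he := Finset.eq_of_subset_of_card_le hsub (by
      rw [hc, ← Set.ncard_eq_toFinset_card _ (Set.toFinite _), ← Nat.card_coe_set_eq]
      exact D.toFrame.card_V.le)
    have : w ∈ ({1, v, v1, v2} : Finset G) := he ▸ (Set.Finite.mem_toFinset _).2 hw
    simpa using this
  -- the five generators
  set c : G → G := fun w => w * s * w⁻¹ with hc
  have hzc : ∀ w, D.z * c w * D.z⁻¹ = c (D.z * w * D.z⁻¹) := fun w => by
    show D.z * (w * s * w⁻¹) * D.z⁻¹ = D.z * w * D.z⁻¹ * s * (D.z * w * D.z⁻¹)⁻¹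
    calc D.z * (w * s * w⁻¹) * D.z⁻¹ = D.z * w * D.z⁻¹ * (D.z * s * D.z⁻¹) * (D.z * w * D.z⁻¹)⁻¹ := by group
      _ = _ := by rw [hzs, mul_inv_cancel_right]
  have hpair : ∀ w ∈ D.toFrame.V, w ≠ 1 → s * c w * (s * c w) = 1 := by
    intro w hw hw1
    have key : ∀ a, s * c a * (s * c a) = 1 → s * c (D.z * a * D.z⁻¹) * (s * c (D.z * a * D.z⁻¹)) = 1 := by
      intro a h
      rw [← hzc]
      calc s * (D.z * c a * D.z⁻¹) * (s * (D.z * c a * D.z⁻¹))
          = D.z * ((D.z⁻¹ * s * D.z) * c a * ((D.z⁻¹ * s * D.z) * c a)) * D.z⁻¹ := by group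
        _ = 1 := by rw [show D.z⁻¹ * s * D.z = s by rw [mul_assoc, ← hzs, inv_mul_cancel_left], h]; group
    rcases hV w hw with rfl | rfl | rfl | rfl
    · exact absurd rfl hw1
    · exact hsv
    · exact key v hsv
    · have := key _ (key v hsv)
      rwa [show D.z * (D.z * v * D.z⁻¹) * D.z⁻¹ = v2 by
        rw [hv2d]
        calc D.z * (D.z * v * D.z⁻¹) * D.z⁻¹ = (D.z * D.z * D.z) * (D.z⁻¹ * v * D.z) * (D.z * D.z * D.z)⁻¹ := by group
          _ = _ := by rw [hz3]; group] at this
  have hxV : ∀ w ∈ D.toFrame.V, D.x * c w * (D.x * c w) = 1 := fun w hw => by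
    have e : w * D.x = D.x * w := Subgroup.mem_centralizer_singleton_iff.1 (D.toFrame.V_le hw)
    calc D.x * c w * (D.x * c w) = (D.x * w) * s * w⁻¹ * (D.x * w) * s * w⁻¹ := by rw [hc]; group
      _ = w * ((D.x * s) * (D.x * s)) * w⁻¹ := by rw [← e]; group
      _ = 1 := by rw [hxs]; group
  have hcx : ∀ w ∈ D.toFrame.V, c w * D.x * (c w * D.x) = 1 := fun w hw => by
    calc c w * D.x * (c w * D.x) = D.x⁻¹ * (D.x * c w * (D.x * c w)) * D.x := by group
      _ = 1 := by rw [hxV w hw]; group
  have hcc : ∀ a ∈ D.toFrame.V, ∀ b ∈ D.toFrame.V, a ≠ b → c a * c b * (c a * c b) = 1 := fun a ha b hb hab => by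
    have e : c a * c b = a * (s * c (a⁻¹ * b)) * a⁻¹ := by rw [hc]; group
    rw [e]
    calc a * (s * c (a⁻¹ * b)) * a⁻¹ * (a * (s * c (a⁻¹ * b)) * a⁻¹)
        = a * ((s * c (a⁻¹ * b)) * (s * c (a⁻¹ * b))) * a⁻¹ := by group
      _ = 1 := by rw [hpair _ (mul_mem (inv_mem ha) hb) (fun h => hab (inv_mul_eq_one.1 h))]; group
  have hc3 : ∀ w, c w * c w * c w = 1 := fun w => by
    calc c w * c w * c w = w * (s * s * s) * w⁻¹ := by rw [hc]; group
      _ = 1 := by rw [show s * s * s = 1 by rw [← pow_two, ← pow_succ]; exact orderOf_dvd_iff_pow_eq_one.1 hs3.dvd]; group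
  have hx3 : D.x * D.x * D.x = 1 := by rw [← pow_two, ← pow_succ]; exact orderOf_dvd_iff_pow_eq_one.1 D.hx.dvd
  -- bounds
  have hb : ∀ (A : Finset G) (a : G), a ∈ D.toFrame.V → (A : Set G) ⊆ D.toFrame.V → a ∉ A →
      Nat.card (Subgroup.closure ((insert (c a) (insert D.x (A.image c)) : Finset G) : Set G)) ≤
        Nat.card (Subgroup.closure ((insert D.x (A.image c) : Finset G) : Set G)) * (4 + A.card) := by
    intro A a ha hA haA
    refine (card_step (insert D.x (A.image c)) (hc3 a) ?_ ?_ ?_).trans (Nat.mul_le_mul_left _ ?_)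
    · intro k hk
      rcases Finset.mem_insert.1 hk with rfl | hk
      · exact hx3
      · obtain ⟨b, -, rfl⟩ := Finset.mem_image.1 hk; exact hc3 b
    · intro k hk
      rcases Finset.mem_insert.1 hk with rfl | hk
      · exact hxV a ha
      · obtain ⟨b, hb, rfl⟩ := Finset.mem_image.1 hk
        exact hcc b (hA hb) a ha (fun h => haA (h ▸ hb))
    · intro k hk l hl hkl
      rcases Finset.mem_insert.1 hk with rfl | hk <;> rcases Finset.mem_insert.1 hl with rfl | hl
      · exact absurd rfl hkl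
      · obtain ⟨b, hb, rfl⟩ := Finset.mem_image.1 hl; exact hxV b (hA hb)
      · obtain ⟨b, hb, rfl⟩ := Finset.mem_image.1 hk; exact hcx b (hA hb)
      · obtain ⟨b, hb, rfl⟩ := Finset.mem_image.1 hk
        obtain ⟨b', hb', rfl⟩ := Finset.mem_image.1 hl
        exact hcc b (hA hb) b' (hA hb') (fun h => hkl (by rw [h]))
    · have := Finset.card_insert_le D.x (A.image c)
      have := Finset.card_image_le (f := c) (s := A)
      omega
  have hins : ∀ (A : Finset G) (a : G), insert (c a) (insert D.x (A.image c)) = insert D.x ((insert a A).image c) :=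
    fun A a => by rw [Finset.image_insert, Finset.insert_comm]
  have b0 : Nat.card (Subgroup.closure ((insert D.x ((∅ : Finset G).image c) : Finset G) : Set G)) ≤ 3 := by
    rw [Finset.image_empty, insert_empty_eq, Finset.coe_singleton, ← Subgroup.zpowers_eq_closure, Nat.card_zpowers, D.hx]
  have s1 : ((∅ : Finset G) : Set G) ⊆ D.toFrame.V := by simp
  have s2 : (({1} : Finset G) : Set G) ⊆ D.toFrame.V := by simp
  have s3 : (({v, 1} : Finset G) : Set G) ⊆ D.toFrame.V := by simp [Set.insert_subset_iff, hv]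
  have s4 : (({v1, v, 1} : Finset G) : Set G) ⊆ D.toFrame.V := by simp [Set.insert_subset_iff, hv, hv1V]
  have m1 := hb ∅ 1 (one_mem _) s1 (Finset.notMem_empty _)
  have m2 := hb {1} v hv s2 (by simp [hv1])
  have m3 := hb {v, 1} v1 hv1V s3 (by simp [hd1, hn1])
  have m4 := hb {v1, v, 1} v2 hv2V s4 (by simp [hd2, hn2, hn12.symm])
  rw [hins] at m1 m2 m3 m4
  rw [Finset.card_empty, insert_empty_eq] at m1
  rw [Finset.card_singleton] at m2
  have c2 : ({v, 1} : Finset G).card ≤ 2 := Finset.card_le_two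
  have c3 : ({v1, v, 1} : Finset G).card ≤ 3 := Finset.card_le_three
  set K4 := Subgroup.closure ((insert D.x (({v1, v, 1} : Finset G).image c) : Finset G) : Set G) with hK4
  set K5 := Subgroup.closure ((insert D.x ((insert v2 ({v1, v, 1} : Finset G)).image c) : Finset G) : Set G) with hK5
  have hK4c : Nat.card K4 ≤ 360 := by
    have e1 : Nat.card (Subgroup.closure ((insert D.x (({1} : Finset G).image c) : Finset G) : Set G)) ≤ 12 :=
      m1.trans (Nat.mul_le_mul_right _ b0)
    have e2 : Nat.card (Subgroup.closure ((insert D.x (({v, 1} : Finset G).image c) : Finset G) : Set G)) ≤ 60 :=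
      m2.trans (Nat.mul_le_mul_right _ e1)
    exact m3.trans (Nat.mul_le_mul e2 (show 4 + _ ≤ 6 by omega))
  have hK5c : Nat.card K5 ≤ Nat.card K4 * 7 := m4.trans (Nat.mul_le_mul_left _ (by omega))
  -- normalizer of the big closure
  have hgen : ∀ w ∈ D.toFrame.V, c w ∈ K5 := fun w hw => by
    refine Subgroup.subset_closure ?_
    rw [Finset.coe_insert]
    refine Set.mem_insert_of_mem _ ?_
    rw [Finset.coe_image]
    refine ⟨w, ?_, rfl⟩
    rcases hV w hw with rfl | rfl | rfl | rfl <;> simp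
  have hxK : D.x ∈ K5 := Subgroup.subset_closure (by simp)
  set M := Subgroup.normalizer (K5 : Set G) with hM
  have hnorm : ∀ a : G, a * D.x * a⁻¹ ∈ K5 → (∀ w ∈ D.toFrame.V, a * c w * a⁻¹ ∈ K5) → a ∈ M := by
    intro a h1 h2
    refine cj_eq_iff.1 (Subgroup.eq_of_le_of_card_ge ?_ (by
      rw [cj, Subgroup.card_map_of_injective (f := (MulAut.conj a).toMonoidHom) (MulAut.conj a).injective]))
    show Subgroup.map _ K5 ≤ K5
    rw [Subgroup.map_le_iff_le_comap]
    refine (Subgroup.closure_le _).2 fun g hg => ?_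
    rw [SetLike.mem_coe, Subgroup.mem_comap]
    rw [Finset.coe_insert, Finset.coe_image] at hg
    rcases hg with rfl | ⟨w, hw, rfl⟩
    · simpa using h1
    · have hwV : w ∈ D.toFrame.V := by
        simp only [Finset.coe_insert, Finset.coe_singleton, Set.mem_insert_iff, Set.mem_singleton_iff] at hw
        rcases hw with rfl | rfl | rfl | rfl
        exacts [hv2V, hv1V, hv, one_mem _]
      simpa using h2 w hwV
  have hzM : D.z ∈ M := hnorm _ (by rw [D.zx, mul_inv_cancel_right]; exact hxK)
    fun w hw => by rw [hzc]; exact hgen _ (D.toFrame.V_conj D.zC hw)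
  have hVM : D.toFrame.V ≤ M := fun a ha => hnorm a (by
      have e : a * D.x = D.x * a := Subgroup.mem_centralizer_singleton_iff.1 (D.toFrame.V_le ha)
      rw [e, mul_inv_cancel_right]; exact hxK)
    fun w hw => by
      rw [show a * c w * a⁻¹ = c (a * w) by rw [hc]; group]
      exact hgen _ (mul_mem ha hw)
  have hKM : K5 ≤ M := Subgroup.le_normalizer
  have hPM : (D.P : Subgroup G) ≤ M := by
    rw [← D.P_eq]
    exact sup_le (Subgroup.zpowers_le.2 (hKM hxK)) (Subgroup.zpowers_le.2 hzM)
  have hCM : D.toFrame.C ≤ M := fun a ha => by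
    obtain ⟨w, hw, p, hp, rfl⟩ := D.toFrame.decomp ha
    exact mul_mem (hVM hw) (hPM hp)
  -- the centralizer of the companion
  set Cz := D.toFrame.C.map (MulAut.conj D.g).toMonoidHom with hCz
  have hgx : D.g * D.x * D.g⁻¹ = D.z := rfl
  set w₀ := D.g⁻¹ * (D.x * s) * D.g with hw₀d
  have hw₀ : w₀ ∈ D.toFrame.V := hgV
  have hw₁ : w₀ ≠ 1 := fun h => hsX (by
    have e : D.x * s = 1 := by
      calc D.x * s = D.g * w₀ * D.g⁻¹ := by rw [hw₀d]; group
        _ = 1 := by rw [h]; group
    rw [← inv_eq_of_mul_eq_one_right e]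
    exact inv_mem (Subgroup.mem_zpowers _))
  have hgM : ∀ w ∈ D.toFrame.V, D.g * w * D.g⁻¹ ∈ M := by
    set y := D.g⁻¹ * D.x * D.g with hy
    have hyC : y ∈ D.toFrame.C := by
      refine Subgroup.mem_centralizer_singleton_iff.2 ?_
      calc D.g⁻¹ * D.x * D.g * D.x = D.g⁻¹ * (D.x * (D.g * D.x * D.g⁻¹)) * D.g := by group
        _ = D.g⁻¹ * ((D.g * D.x * D.g⁻¹) * D.x) * D.g := by rw [hgx, D.zx]
        _ = D.x * (D.g⁻¹ * D.x * D.g) := by group
    have hyo : orderOf y = 3 := by rw [hy, show D.g⁻¹ * D.x * D.g = MulAut.conj D.g⁻¹ D.x by simp, MulEquiv.orderOf_eq, D.hx]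
    have hy3 : y * y * y = 1 := by rw [← pow_two, ← pow_succ]; exact orderOf_dvd_iff_pow_eq_one.1 hyo.dvd
    have hyfix : y * w₀ * y⁻¹ ≠ w₀ := by
      intro h
      have hyX := D.toFrame.unique_three hw₀ hw₁ hyo (mul_inv_eq_iff_eq_mul.1 h)
      have hyX2 : Subgroup.zpowers y = D.X := zpowers_eq_of_mem D.hx hyo hyX
      have : cj D.g (Subgroup.zpowers y) = D.X := by
        rw [cj_zpowers, show D.g * y * D.g⁻¹ = D.x by rw [hy]; group]; rfl
      rw [hyX2, D.g_swap.1] at this
      exact D.Z_ne_X this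
    have base : D.g * w₀ * D.g⁻¹ ∈ M := by
      rw [show D.g * w₀ * D.g⁻¹ = D.x * s by rw [hw₀d]; group]
      exact hKM (mul_mem hxK (by simpa [hc] using hgen 1 (one_mem _)))
    have conjM : ∀ a, D.g * a * D.g⁻¹ ∈ M → D.g * (y * a * y⁻¹) * D.g⁻¹ ∈ M := fun a ha => by
      rw [show D.g * (y * a * y⁻¹) * D.g⁻¹ = D.x * (D.g * a * D.g⁻¹) * D.x⁻¹ by rw [hy]; group]
      exact mul_mem (mul_mem (hKM hxK) ha) (inv_mem (hKM hxK))
    set w1 := y * w₀ * y⁻¹ with hw1d
    set w2 := y * w1 * y⁻¹ with hw2d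
    intro w hw
    have hw1V : w1 ∈ D.toFrame.V := D.toFrame.V_conj hyC hw₀
    have hw2V : w2 ∈ D.toFrame.V := D.toFrame.V_conj hyC hw1V
    have n1 : w1 ≠ 1 := fun h => hw₁ (conj_eq_one_iff.1 h)
    have n2 : w2 ≠ 1 := fun h => n1 (conj_eq_one_iff.1 h)
    have n12 : w2 ≠ w1 := fun h => hyfix (mul_left_cancel (mul_right_cancel h))
    have n02 : w2 ≠ w₀ := fun h => hyfix (by
      have e : y * w2 * y⁻¹ = w₀ := by
        rw [hw2d, hw1d]
        calc y * (y * (y * w₀ * y⁻¹) * y⁻¹) * y⁻¹ = y * y * y * w₀ * (y * y * y)⁻¹ := by group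
          _ = w₀ := by rw [hy3]; group
      rw [h] at e
      exact e)
    have hsub : ({1, w₀, w1, w2} : Finset G) ⊆ (Set.toFinite (D.toFrame.V : Set G)).toFinset := by
      intro a ha
      simp only [Finset.mem_insert, Finset.mem_singleton] at ha
      rw [Set.Finite.mem_toFinset]
      rcases ha with rfl | rfl | rfl | rfl
      exacts [one_mem _, hw₀, hw1V, hw2V]
    have hcard : ({1, w₀, w1, w2} : Finset G).card = 4 := Finset.card_eq_four.2
      ⟨1, w₀, w1, w2, hw₁.symm, n1.symm, n2.symm, (fun h => hyfix h.symm), n02.symm, n12.symm, rfl⟩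
    have he := Finset.eq_of_subset_of_card_le hsub (by
      rw [hcard, ← Set.ncard_eq_toFinset_card _ (Set.toFinite _), ← Nat.card_coe_set_eq]
      exact D.toFrame.card_V.le)
    have hwm : w ∈ ({1, w₀, w1, w2} : Finset G) := he ▸ (Set.Finite.mem_toFinset _).2 hw
    simp only [Finset.mem_insert, Finset.mem_singleton] at hwm
    rcases hwm with rfl | rfl | rfl | rfl
    · simp
    · exact base
    · exact conjM _ base
    · exact conjM _ (conjM _ base)
  have hCzM : Cz ≤ M := by
    intro a ha
    obtain ⟨b, hb, rfl⟩ := Subgroup.mem_map.1 ha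
    obtain ⟨w, hw, p, hp, rfl⟩ := D.toFrame.decomp hb
    show D.g * (w * p) * D.g⁻¹ ∈ M
    rw [show D.g * (w * p) * D.g⁻¹ = (D.g * w * D.g⁻¹) * (D.g * p * D.g⁻¹) by group]
    exact mul_mem (hgM w hw) (hPM ((Subgroup.mem_normalizer_iff.1 D.hgN p).1 hp))
  have hCzc : Nat.card Cz = 36 := by
    rw [hCz, Subgroup.card_map_of_injective (f := (MulAut.conj D.g).toMonoidHom) (MulAut.conj D.g).injective]
    exact D.toFrame.card_C
  have hVCz : ∀ w ∈ D.toFrame.V, w ∈ Cz → w = 1 := fun w hw hwz => by
    obtain ⟨b, hb, rfl⟩ := Subgroup.mem_map.1 hwz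
    refine D.z_fpf hw ?_
    have e : b * D.x = D.x * b := Subgroup.mem_centralizer_singleton_iff.1 hb
    show D.z * (D.g * b * D.g⁻¹) = D.g * b * D.g⁻¹ * D.z
    rw [← hgx]
    calc D.g * D.x * D.g⁻¹ * (D.g * b * D.g⁻¹) = D.g * (D.x * b) * D.g⁻¹ := by group
      _ = D.g * (b * D.x) * D.g⁻¹ := by rw [e]
      _ = D.g * b * D.g⁻¹ * (D.g * D.x * D.g⁻¹) := by group
  have h144 : 144 ≤ Nat.card M := by
    let f : D.toFrame.V × Cz → M := fun p => ⟨(p.1 : G) * p.2, mul_mem (hVM p.1.2) (hCzM p.2.2)⟩
    have hf : Function.Injective f := by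
      rintro ⟨a, b⟩ ⟨a', b'⟩ h
      have h' : (a : G) * b = a' * b' := congrArg Subtype.val h
      have e : (a' : G)⁻¹ * a = b' * (b : G)⁻¹ := by
        calc (a' : G)⁻¹ * a = (a' : G)⁻¹ * (a * b) * (b : G)⁻¹ := by group
          _ = _ := by rw [h']; group
      have h1 := hVCz _ (mul_mem (inv_mem a'.2) a.2) (e ▸ mul_mem b'.2 (inv_mem b.2))
      have h2 : a = a' := Subtype.ext (inv_mul_eq_one.1 h1).symm
      subst h2
      exact Prod.ext rfl (Subtype.ext (mul_left_cancel h'))
    have := Nat.card_le_card_of_injective f hf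
    rwa [Nat.card_prod, D.toFrame.card_V, hCzc] at this
  by_cases hMtop : M = ⊤
  · -- the closure is everything
    have hK5top : K5 = ⊤ := by
      refine ((Subgroup.normalizer_eq_top_iff.1 hMtop).eq_bot_or_eq_top).resolve_left fun h => ?_
      have : D.x = 1 := Subgroup.mem_bot.1 (h ▸ hxK)
      have h3 := D.hx
      rw [this, orderOf_one] at h3
      omega
    have e : Nat.card K5 = 2520 := by rw [hK5top, Subgroup.card_top, hG]
    have h1 := Subgroup.card_mul_index K4
    rw [hG, show Nat.card K4 = 360 by omega] at h1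
    refine ⟨K4, fun h => ?_, by omega⟩
    rw [h, Subgroup.index_top] at h1
    omega
  · refine ⟨M, hMtop, ?_⟩
    have h1 := Subgroup.card_mul_index M
    rw [hG] at h1
    have h36 : 36 ∣ Nat.card M := D.toFrame.card_C ▸ Subgroup.card_dvd_of_le hCM
    have hfac := card_dvd_factorial_index (H := M) hMtop
    rw [hG] at hfac
    have h7 : 7 ≤ M.index := by
      by_contra hlt
      push Not at hlt
      revert hfac
      generalize M.index = j at hlt
      intro hfac
      interval_cases j <;> revert hfac <;> decide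
    have hd : Nat.card M ∣ 2520 := Dvd.intro _ h1
    have hle : Nat.card M ≤ 360 := by nlinarith
    have hcases : Nat.card M = 180 ∨ Nat.card M = 252 ∨ Nat.card M = 360 := by
      obtain ⟨k, hk⟩ := h36
      rw [hk] at hd h144 hle ⊢
      have hk70 : k ∣ 70 := Nat.dvd_of_mul_dvd_mul_left (show 0 < 36 by norm_num) hd
      have key : ∀ k ∈ Nat.divisors 70, 4 ≤ k → k ≤ 10 → k = 5 ∨ k = 7 ∨ k = 10 := by decide
      rcases key k (Nat.mem_divisors.2 ⟨hk70, by norm_num⟩) (by omega) (by omega) with rfl | rfl | rfl <;> norm_num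
    -- a normal complement of order 36 would contain both centralizers
    have hbad : ∀ q : ℕ, q.Prime → (q = 5 ∨ q = 7) → Nat.card M ≠ 36 * q := by
      intro q hq hq' hMc
      haveI : Fact q.Prime := ⟨hq⟩
      obtain ⟨Q₀⟩ : Nonempty (Sylow q M) := inferInstance
      have hQc : Nat.card Q₀ = q := by
        simpa using card_sylow_of_eq (k := 1) (m := 36) Q₀ (by rw [hMc]; ring) (by rcases hq' with rfl | rfl <;> norm_num)
      obtain ⟨R, hR⟩ := (IsPGroup.of_card (n := 1) (p := q) (by
        rw [Subgroup.card_map_of_injective M.subtype_injective, pow_one]; exact hQc) :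
        IsPGroup q ((Q₀ : Subgroup M).map M.subtype)).exists_le_sylow
      have hRc : Nat.card R = q := sylow_prime_card hG R hq'
      have hRe : (Q₀ : Subgroup M).map M.subtype = (R : Subgroup G) := Subgroup.eq_of_le_of_card_ge hR (by
        rw [hRc, Subgroup.card_map_of_injective M.subtype_injective]; exact hQc.ge)
      have hRM : (R : Subgroup G) ≤ M := hRe ▸ Subgroup.map_subtype_le _
      have hmul := card_sylow_subgroup_mul R M hRM
      set NR := Subgroup.normalizer ((R : Subgroup G) : Set G) ⊓ M with hNR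
      have hmod : Nat.card (Sylow q M) % q = 1 := by
        have h0 : Nat.card (Sylow q M) % q = 1 % q := card_sylow_modEq_one q M
        rwa [Nat.one_mod_eq_one.2 hq.one_lt.ne'] at h0
      have hdq : q ∣ Nat.card NR := hRc ▸ Subgroup.card_dvd_of_le (le_inf Subgroup.le_normalizer hRM)
      have hdN : Nat.card NR ∣ Nat.card (Subgroup.normalizer ((R : Subgroup G) : Set G)) := Subgroup.card_dvd_of_le inf_le_left
      have hNRc : Nat.card NR = q := by
        obtain ⟨k, hk⟩ := hdq
        rw [hk, hMc] at hmul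
        have h36' : Nat.card (Sylow q M) * k = 36 :=
          Nat.eq_of_mul_eq_mul_left hq.pos (by linarith)
        rw [hk]
        rw [hk] at hdN
        have hn : Nat.card (Sylow q M) ∈ Nat.divisors 36 := Nat.mem_divisors.2 ⟨Dvd.intro _ h36', by norm_num⟩
        suffices k = 1 by rw [this, mul_one]
        rcases hq' with rfl | rfl
        · rw [five hG R] at hdN
          have key : ∀ n ∈ Nat.divisors 36, n % 5 = 1 → n = 1 ∨ n = 6 ∨ n = 36 := by decide
          rcases key _ hn hmod with h | h | h <;> rw [h] at h36'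
          · rw [show k = 36 by omega] at hdN; norm_num at hdN
          · rw [show k = 6 by omega] at hdN; norm_num at hdN
          · omega
        · have hN21 : Nat.card (Subgroup.normalizer ((R : Subgroup G) : Set G)) = 21 := by
            obtain ⟨e, he, he1, heC⟩ := sylow_relIndex (not_comm hG) R hRc
            rw [seven hG R] at heC
            have h5 := Subgroup.card_subgroup_dvd_card (Subgroup.normalizer ((R : Subgroup G) : Set G))
            have h6 := card_sylow_mul R
            rw [hG] at h5 h6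
            have h7' := card_sylow_modEq_one 7 G
            have he6 : e ∈ Nat.divisors 6 := Nat.mem_divisors.2 ⟨he, by norm_num⟩
            rw [← heC] at h6 ⊢
            have h8 : Nat.card (Sylow 7 G) * e = 360 := by linarith
            have key : ∀ e ∈ Nat.divisors 6, (360 / e) % 7 = 1 → e = 3 := by decide
            rw [key e he6 (by
              rw [← h8, Nat.mul_div_cancel _ (Nat.pos_of_mem_divisors he6)]
              exact h7')]
          rw [hN21] at hdN
          have key : ∀ n ∈ Nat.divisors 36, n % 7 = 1 → n = 1 ∨ n = 36 := by decide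
          rcases key _ hn hmod with h | h <;> rw [h] at h36'
          · rw [show k = 36 by omega] at hdN; norm_num at hdN
          · omega
      set P' : Sylow q M := R.subtype hRM with hP'
      have hle' : Subgroup.normalizer ((P' : Subgroup M) : Set M) ≤ Subgroup.centralizer ((P' : Subgroup M) : Set M) := by
        intro a ha
        rw [hP', Sylow.coe_subtype, ← Subgroup.subgroupOf_normalizer_eq hRM] at ha
        have haR : (a : G) ∈ (R : Subgroup G) := by
          have e : (R : Subgroup G) = NR := Subgroup.eq_of_le_of_card_ge (le_inf Subgroup.le_normalizer hRM) (by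
            rw [hNRc]; exact hRc.ge)
          rw [e]; exact ⟨ha, a.2⟩
        refine Subgroup.mem_centralizer_iff.2 fun b hb => Subtype.ext ?_
        haveI : IsCyclic (R : Subgroup G) := isCyclic_of_prime_card hRc
        letI := IsCyclic.commGroup (α := (R : Subgroup G))
        have hb' : (b : G) ∈ (R : Subgroup G) := by
          rw [SetLike.mem_coe, hP', Sylow.coe_subtype, Subgroup.mem_subgroupOf] at hb
          exact hb
        exact congrArg (fun r : (R : Subgroup G) => (r : G)) (mul_comm (⟨b, hb'⟩ : (R : Subgroup G)) ⟨a, haR⟩)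
      have hcomp := MonoidHom.ker_transferSylow_isComplement' P' hle'
      set K := (MonoidHom.transferSylow P' hle').ker with hKdef
      have hP'c : Nat.card (P' : Subgroup M) = q := by
        rw [hP', Sylow.coe_subtype, Nat.card_congr (Subgroup.subgroupOfEquivOfLe hRM).toEquiv]; exact hRc
      have hKc : Nat.card K = 36 := by
        have := Subgroup.IsComplement'.card_mul_card hcomp
        rw [hP'c, hMc] at this
        exact Nat.eq_of_mul_eq_mul_right hq.pos this
      have hin : ∀ (A : Subgroup G), A ≤ M → Nat.card A = 36 → A = K.map M.subtype := by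
        intro A hA hAc
        refine Subgroup.eq_of_le_of_card_ge (fun a ha => Subgroup.mem_map.2 ⟨⟨a, hA ha⟩, MonoidHom.mem_ker.2 ?_, rfl⟩)
          (by rw [Subgroup.card_map_of_injective M.subtype_injective, hKc, hAc])
        refine orderOf_eq_one_iff.1 (Nat.eq_one_of_dvd_coprimes (a := 36) (b := q) ?_ ?_ ?_)
        · rcases hq' with rfl | rfl <;> norm_num
        · refine (orderOf_map_dvd _ _).trans ?_
          rw [← hAc, Subgroup.orderOf_mk]
          exact Subgroup.orderOf_dvd_natCard _ ha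
        · exact (orderOf_dvd_natCard _).trans hP'c.dvd
      have he := (hin _ hCM D.toFrame.card_C).trans (hin _ hCzM hCzc).symm
      have : v ∈ Cz := he ▸ D.toFrame.V_le hv
      exact hv1 (hVCz v hv this)
    rcases hcases with h | h | h
    · exact absurd h (hbad 5 (by norm_num) (Or.inl rfl))
    · exact absurd h (hbad 7 (by norm_num) (Or.inr rfl))
    · rw [h] at h1; omega

theorem mulEquiv_seven (hG : Nat.card G = 2520) : Nonempty (G ≃* alternatingGroup (Fin 7)) := by
  obtain ⟨H, hH, hidx⟩ := exists_index_seven hG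
  have hx := exists_hom_alternating (not_comm hG) hH
  rw [hidx] at hx
  obtain ⟨f, hf⟩ := hx
  refine ⟨MulEquiv.ofBijective f ((Nat.bijective_iff_injective_and_card f).2 ⟨hf, ?_⟩)⟩
  rw [hG]
  have h := card_alternating_fin (m := 7) (by norm_num)
  rw [show (7 : ℕ).factorial = 5040 by rfl] at h
  omega

end Cfsg.Agent.FGB.A7
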