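import Cfsg.Agent.Lib.FGB.A7Basic
import Cfsg.Agent.Lib.Invol.ThompsonX

/-!
# Elements of order three in a simple group of order 2520
-/

set_option autoImplicit false
set_option linter.style.haveILetI false
set_option linter.unusedSectionVars false

namespace Cfsg.Agent.FGB.A7

open Cfsg
open Cfsg.Agent.SmallSimple
open scoped Pointwise

universe u

variable {G : Type u} [Group G] [Finite G]

theorem sylow_three_card (hG : Nat.card G = 2520) (P : Sylow 3 G) : Nat.card (P : Subgroup G) = 9 := by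
  haveI : Fact (Nat.Prime 3) := ⟨Nat.prime_three⟩
  simpa using card_sylow_of_eq (k := 2) (m := 280) P (by rw [hG]; norm_num) (by norm_num)

theorem sylow_comm (hG : Nat.card G = 2520) (P : Sylow 3 G) :
    ∀ a ∈ (P : Subgroup G), ∀ b ∈ (P : Subgroup G), a * b = b * a := fun a ha b hb => by
  haveI : Fact (Nat.Prime 3) := ⟨Nat.prime_three⟩
  haveI := IsPGroup.isMulCommutative_of_card_eq_prime_sq (p := 3) (G := (P : Subgroup G))
    (by rw [sylow_three_card hG P]; norm_num)
  exact congrArg Subtype.val (mul_comm' (⟨a, ha⟩ : (P : Subgroup G)) ⟨b, hb⟩)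

variable [IsSimpleGroup G]

theorem sylow_three_normalizer (hG : Nat.card G = 2520) (P : Sylow 3 G) :
    Nat.card (Subgroup.normalizer ((P : Subgroup G) : Set G)) = 36 := by
  classical
  haveI : Fact (Nat.Prime 3) := ⟨Nat.prime_three⟩
  have hnc := not_comm hG
  have h3 : 3 ∣ Nat.card G := by rw [hG]; norm_num
  have hP := sylow_three_card hG P
  have hmul := card_sylow_mul P
  rw [hG] at hmul
  set N := Subgroup.normalizer ((P : Subgroup G) : Set G) with hN
  set n := Nat.card (Sylow 3 G) with hn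
  have hn280 : n ∣ 280 := by
    have h1 : 9 ∣ Nat.card N := hP ▸ Subgroup.card_dvd_of_le Subgroup.le_normalizer
    obtain ⟨k, hk⟩ := h1
    exact ⟨k, Nat.eq_of_mul_eq_mul_left (show 0 < 9 by norm_num) (by rw [hk] at hmul; linarith)⟩
  -- a prime five or seven in the normalizer
  have hbad : ∀ q : ℕ, q.Prime → (q = 5 ∨ q = 7) → ¬ q ∣ Nat.card N := by
    intro q hq hq' hd
    haveI : Fact q.Prime := ⟨hq⟩
    obtain ⟨g, hg⟩ := exists_prime_orderOf_dvd_card' (G := N) q hd
    have hgo : orderOf (g : G) = q := by rw [Subgroup.orderOf_coe, hg]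
    haveI := Fintype.ofFinite (P : Subgroup G)
    let σ : Equiv.Perm (P : Subgroup G) :=
      ((MulAut.conj (g : G)).toEquiv.subtypeEquiv fun a => (Subgroup.mem_normalizer_iff.1 g.2 a))
    have hσval : ∀ a, (σ a : G) = (g : G) * a * (g : G)⁻¹ := fun a => rfl
    have hσpow : ∀ (m : ℕ) a, ((σ ^ m) a : G) = (g : G) ^ m * a * ((g : G) ^ m)⁻¹ := by
      intro m
      induction m with
      | zero => intro a; simp
      | succ m ih => intro a; rw [pow_succ' σ, Equiv.Perm.mul_apply, hσval, ih, pow_succ']; group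
    have hσ : σ ^ q ^ 1 = 1 := Equiv.ext fun a => Subtype.ext (by
      rw [hσpow, pow_one, orderOf_dvd_iff_pow_eq_one.1 hgo.dvd]
      simp)
    have hmod := Equiv.Perm.card_compl_support_modEq (n := 1) hσ
    set F := (P : Subgroup G) ⊓ Subgroup.centralizer ({(g : G)} : Set G) with hF
    have hFc : Nat.card F = (σ.supportᶜ).card := by
      rw [← Nat.card_eq_finsetCard]
      let e : (σ.supportᶜ : Finset (P : Subgroup G)) ≃ F :=
        { toFun := fun a => ⟨a.1.1, a.1.2, Subgroup.mem_centralizer_singleton_iff.2 (mul_inv_eq_iff_eq_mul.1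
            (congrArg Subtype.val (Equiv.Perm.notMem_support.1 (Finset.mem_compl.1 a.2)))).symm⟩
          invFun := fun a => ⟨⟨a.1, a.2.1⟩, Finset.mem_compl.2 (Equiv.Perm.notMem_support.2 (Subtype.ext
            (mul_inv_eq_iff_eq_mul.2 (Subgroup.mem_centralizer_singleton_iff.1 a.2.2).symm)))⟩
          left_inv := fun a => rfl
          right_inv := fun a => rfl }
      exact (Nat.card_congr e).symm
    have hFd : Nat.card F ∣ 9 := hP ▸ Subgroup.card_dvd_of_le inf_le_left
    rw [← hFc, ← Nat.card_eq_fintype_card, hP] at hmod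
    have key : ∀ d ∈ Nat.divisors 9, ∀ q ∈ ({5, 7} : Finset ℕ), d % q = 9 % q → d = 9 := by decide
    have h9 := key _ (Nat.mem_divisors.2 ⟨hFd, by norm_num⟩) q (by simpa using hq') hmod
    have hle : (P : Subgroup G) ≤ Subgroup.centralizer ({(g : G)} : Set G) :=
      (Subgroup.eq_of_le_of_card_ge (inf_le_left : F ≤ (P : Subgroup G)) (by rw [h9, hP])).ge.trans inf_le_right
    obtain ⟨w, hw⟩ := exists_prime_orderOf_dvd_card' (G := (P : Subgroup G)) 3 (by rw [hP]; norm_num)
    have hwo : orderOf (w : G) = 3 := by rw [Subgroup.orderOf_coe, hw]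
    have hc := centralizer_three_coprime hG hwo
    have hgw := Subgroup.orderOf_dvd_natCard (Subgroup.centralizer ({(w : G)} : Set G))
      (Subgroup.mem_centralizer_singleton_iff.2 (Subgroup.mem_centralizer_singleton_iff.1 (hle w.2)).symm)
    rw [hgo] at hgw
    rcases hq' with rfl | rfl
    · exact hc.1 hgw
    · exact hc.2 hgw
  have key : ∀ n ∈ Nat.divisors 280, n % 3 = 1 → n = 1 ∨ n = 4 ∨ n = 7 ∨ n = 10 ∨ n = 28 ∨ n = 40 ∨ n = 70 ∨ n = 280 := by
    decide
  rcases key n (Nat.mem_divisors.2 ⟨hn280, by norm_num⟩) (card_sylow_modEq_one 3 G) with h | h | h | h | h | h | h | h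
  · exact absurd h (card_sylow_ne_one hnc h3)
  · have := card_dvd_factorial_sylow (p := 3) hnc h3
    rw [← hn, h, hG] at this
    exact absurd this (by decide)
  · rw [h] at hmul; exact absurd (show 5 ∣ Nat.card N from ⟨72, by omega⟩) (hbad 5 (by norm_num) (Or.inl rfl))
  · rw [h] at hmul; exact absurd (show 7 ∣ Nat.card N from ⟨36, by omega⟩) (hbad 7 (by norm_num) (Or.inr rfl))
  · rw [h] at hmul; exact absurd (show 5 ∣ Nat.card N from ⟨18, by omega⟩) (hbad 5 (by norm_num) (Or.inl rfl))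
  · rw [h] at hmul; exact absurd (show 7 ∣ Nat.card N from ⟨9, by omega⟩) (hbad 7 (by norm_num) (Or.inr rfl))
  · rw [h] at hmul; omega
  · exfalso
    rw [h] at hmul
    refine not_normalizer_le_centralizer hnc h3 P ?_
    have e : (P : Subgroup G) = N := Subgroup.eq_of_le_of_card_ge Subgroup.le_normalizer (by
      rw [hP]
      omega)
    rw [← hN, ← e]
    exact fun a ha => Subgroup.mem_centralizer_iff.2 fun b hb => sylow_comm hG P b hb a ha

/-- An element of order three in two different Sylow subgroups. -/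
def Twice (x : G) : Prop :=
  orderOf x = 3 ∧ ∃ R R' : Sylow 3 G, R ≠ R' ∧ x ∈ (R : Subgroup G) ∧ x ∈ (R' : Subgroup G)

theorem mem_of_fixes {R : Sylow 3 G} {w : G} (hw : orderOf w = 3) (h : w • R = R) : w ∈ (R : Subgroup G) := by
  haveI : Fact (Nat.Prime 3) := ⟨Nat.prime_three⟩
  refine (Cfsg.Agent.SylowFive.le_of_fixes (IsPGroup.of_card (n := 1) (by rw [Nat.card_zpowers, hw, pow_one])) R ?_)
    (Subgroup.mem_zpowers w)
  intro d hd
  exact MulAction.mem_stabilizer_iff.1 (Subgroup.zpowers_le.2 (MulAction.mem_stabilizer_iff.2 h) hd)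

theorem exists_twice (hG : Nat.card G = 2520) : ∃ x : G, Twice x := by
  classical
  haveI : Fact (Nat.Prime 3) := ⟨Nat.prime_three⟩
  obtain ⟨P⟩ : Nonempty (Sylow 3 G) := inferInstance
  have hP := sylow_three_card hG P
  have hn : Nat.card (Sylow 3 G) = 70 := by
    have := card_sylow_mul P
    rw [sylow_three_normalizer hG P, hG] at this
    omega
  by_contra hno
  push Not at hno
  have hfree : ∀ R : Sylow 3 G, R ≠ P → ∀ p ∈ (P : Subgroup G), p • R = R → p = 1 := by
    intro R hR p hp hpR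
    by_contra hp1
    have h3 : 3 ∣ orderOf p := by
      obtain ⟨k, -, hk⟩ := (Nat.dvd_prime_pow Nat.prime_three).1
        (show orderOf p ∣ 3 ^ 2 by rw [show 3 ^ 2 = 9 by norm_num, ← hP]; exact Subgroup.orderOf_dvd_natCard _ hp)
      rw [hk]
      refine dvd_pow_self 3 fun h => ?_
      rw [h, pow_zero] at hk
      exact hp1 (orderOf_eq_one_iff.1 hk)
    have ho := orderOf_pow_orderOf_div (orderOf_pos p).ne' h3
    exact hno _ ⟨ho, P, R, hR.symm, pow_mem hp _, mem_of_fixes ho
      (MulAction.mem_stabilizer_iff.1 (pow_mem (MulAction.mem_stabilizer_iff.2 hpR) _))⟩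
  haveI := Fintype.ofFinite (Sylow 3 G)
  haveI := Fintype.ofFinite (P : Subgroup G)
  let S : Finset (Sylow 3 G) := Finset.univ.erase P
  have hsum := Finset.card_eq_sum_card_image (fun R : Sylow 3 G => MulAction.orbit (P : Subgroup G) R) S
  have hfib : ∀ O ∈ S.image (fun R : Sylow 3 G => MulAction.orbit (P : Subgroup G) R),
      (S.filter fun R => MulAction.orbit (P : Subgroup G) R = O).card = 9 := by
    intro O hO
    obtain ⟨R, hR, rfl⟩ := Finset.mem_image.1 hO
    have hRP : R ≠ P := Finset.ne_of_mem_erase hR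
    rw [show (S.filter fun R' => MulAction.orbit (P : Subgroup G) R' = MulAction.orbit (P : Subgroup G) R) =
        Finset.univ.image (fun p : (P : Subgroup G) => (p : G) • R) from ?_,
      Finset.card_image_of_injective _ fun p q h => by
        refine Subtype.ext (inv_mul_eq_one.1 (hfree R hRP _ (mul_mem (inv_mem q.2) p.2) ?_)).symm
        rw [← smul_smul, show (p : G) • R = (q : G) • R from h, inv_smul_smul],
      Finset.card_univ, ← Nat.card_eq_fintype_card, hP]
    ext R'
    simp only [Finset.mem_filter, Finset.mem_image, Finset.mem_univ, true_and, S, Finset.mem_erase, and_true,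
      MulAction.orbit_eq_iff]
    constructor
    · rintro ⟨-, ⟨p, hp⟩⟩
      exact ⟨p, hp⟩
    · rintro ⟨p, rfl⟩
      refine ⟨fun h => hRP ?_, ⟨p, rfl⟩⟩
      exact smul_left_cancel (p : G) (h.trans (Sylow.smul_eq_iff_mem_normalizer.2 (Subgroup.le_normalizer p.2)).symm)
  rw [Finset.sum_congr rfl hfib, Finset.sum_const, smul_eq_mul] at hsum
  rw [Finset.card_erase_of_mem (Finset.mem_univ P), Finset.card_univ, ← Nat.card_eq_fintype_card, hn] at hsum
  omega

theorem centralizer_base (hG : Nat.card G = 2520) (P : Sylow 3 G) :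
    (P : Subgroup G) ≤ Subgroup.centralizer ((P : Subgroup G) : Set G) := fun a ha =>
  Subgroup.mem_centralizer_iff.2 fun b hb => sylow_comm hG P b hb a ha

theorem no_central (hG : Nat.card G = 2520) (P : Sylow 3 G) {w : G} (hw : w ∈ (P : Subgroup G)) (hw1 : w ≠ 1)
    (h : ∀ n ∈ Subgroup.normalizer ((P : Subgroup G) : Set G), n * w = w * n) : False := by
  haveI : Fact (Nat.Prime 3) := ⟨Nat.prime_three⟩
  haveI hcomm : IsMulCommutative (P : Subgroup G) :=
    ⟨⟨fun a b => Subtype.ext (sylow_comm hG P a a.2 b b.2)⟩⟩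
  letI : CommGroup (P : Subgroup G) := { (inferInstance : Group (P : Subgroup G)) with mul_comm := hcomm.is_comm.comm }
  let f : G →* (P : Subgroup G) := MonoidHom.transfer (MonoidHom.id (P : Subgroup G))
  have hkey : ∀ (k : ℕ) (g₀ : G), g₀⁻¹ * w ^ k * g₀ ∈ (P : Subgroup G) → g₀⁻¹ * w ^ k * g₀ = w ^ k := by
    intro k g₀ hk
    obtain ⟨n, hn, e⟩ := Sylow.conj_eq_normalizer_conj_of_mem P (w ^ k) g₀ (pow_mem hw k) hk
    exact e.trans (Commute.inv_mul_cancel ((show Commute n w from h n hn).pow_right k))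
  have hfw : (f w : G) = w ^ (P : Subgroup G).index := congrArg Subtype.val (MonoidHom.transfer_eq_pow _ w hkey)
  have hidx : (P : Subgroup G).index = 280 := by
    have := Subgroup.card_mul_index (P : Subgroup G)
    rw [sylow_three_card hG P, hG] at this
    omega
  rcases (MonoidHom.normal_ker f).eq_bot_or_eq_top with hk | hk
  · exact not_comm hG ⟨⟨fun a b => (MonoidHom.ker_eq_bot_iff f).1 hk (by rw [map_mul, map_mul, mul_comm])⟩⟩
  · have h1 : f w = 1 := MonoidHom.mem_ker.1 (hk ▸ Subgroup.mem_top w)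
    rw [h1, OneMemClass.coe_one, hidx] at hfw
    have h2 := Nat.dvd_gcd (orderOf_dvd_of_pow_eq_one hfw.symm) (Subgroup.orderOf_dvd_natCard _ hw)
    rw [sylow_three_card hG P] at h2
    norm_num at h2
    exact hw1 h2

theorem centralizer_ne_normalizer (hG : Nat.card G = 2520) (P : Sylow 3 G) :
    Nat.card (Subgroup.centralizer ((P : Subgroup G) : Set G)) ≠ 36 := fun h => by
  haveI : Fact (Nat.Prime 3) := ⟨Nat.prime_three⟩
  refine not_normalizer_le_centralizer (not_comm hG) (by rw [hG]; norm_num) P ?_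
  exact (Subgroup.eq_of_le_of_card_ge (SmallSimple.centralizer_le_normalizer _)
    (by rw [sylow_three_normalizer hG P, h])).ge

theorem normalizer_zpowers_card {x g : G} (hx : orderOf x = 3) (hg : g * x * g⁻¹ = x⁻¹) :
    Nat.card (Subgroup.normalizer ((Subgroup.zpowers x) : Set G)) =
      2 * Nat.card (Subgroup.centralizer ({x} : Set G)) := by
  have hN : ∀ a : G, (a * x * a⁻¹ = x ∨ a * x * a⁻¹ = x⁻¹) → a ∈ Subgroup.normalizer ((Subgroup.zpowers x) : Set G) := by
    intro a ha
    have e : (Subgroup.zpowers x).map (MulAut.conj a).toMonoidHom = Subgroup.zpowers x := by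
      rw [MonoidHom.map_zpowers]
      rcases ha with h | h <;> simp [h]
    refine Subgroup.mem_normalizer_iff.2 fun w => ?_
    conv_rhs => rw [← e]
    rw [Subgroup.mem_map_equiv, MulAut.conj_symm_apply]
    simp [mul_assoc]
  let f : Bool × Subgroup.centralizer ({x} : Set G) → Subgroup.normalizer ((Subgroup.zpowers x) : Set G) := fun p =>
    ⟨(if p.1 then g else 1) * p.2, by
      refine mul_mem ?_ (hN _ (Or.inl (mul_inv_eq_iff_eq_mul.2 (Subgroup.mem_centralizer_singleton_iff.1 p.2.2))))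
      split_ifs
      · exact hN _ (Or.inr hg)
      · exact one_mem _⟩
  have hinvne : x⁻¹ ≠ x := fun h => by
    have h2 : orderOf x ∣ 2 := orderOf_dvd_of_pow_eq_one (by rw [pow_two]; exact mul_eq_one_iff_eq_inv.2 h.symm)
    rw [hx] at h2
    norm_num at h2
  have hf : Function.Bijective f := by
    constructor
    · rintro ⟨a, c⟩ ⟨b, d⟩ e
      have e' : (if a then g else 1) * (c : G) = (if b then g else 1) * d := congrArg Subtype.val e
      have hgc : g ∉ Subgroup.centralizer ({x} : Set G) := fun h => hinvne (by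
        rw [← hg]; exact mul_inv_eq_iff_eq_mul.2 (Subgroup.mem_centralizer_singleton_iff.1 h))
      cases a <;> cases b <;> simp only [Bool.false_eq_true, if_false, if_true, one_mul] at e'
      · exact Prod.ext rfl (Subtype.ext e')
      · exact absurd (by rw [show g = (c : G) * (d : G)⁻¹ by rw [e']; group]; exact mul_mem c.2 (inv_mem d.2)) hgc
      · exact absurd (by rw [show g = (d : G) * (c : G)⁻¹ by rw [← e']; group]; exact mul_mem d.2 (inv_mem c.2)) hgc
      · exact Prod.ext rfl (Subtype.ext (mul_left_cancel e'))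
    · rintro ⟨n, hn⟩
      rcases FGB.M11.mem_zpowers_three hx ((Subgroup.mem_normalizer_iff.1 hn x).1 (Subgroup.mem_zpowers x)) with h | h | h
      · exact absurd (conj_eq_one_iff.1 h) (fun h => by rw [h, orderOf_one] at hx; omega)
      · exact ⟨(false, ⟨n, Subgroup.mem_centralizer_singleton_iff.2 (mul_inv_eq_iff_eq_mul.1 h)⟩), Subtype.ext (one_mul n)⟩
      · refine ⟨(true, ⟨g⁻¹ * n, Subgroup.mem_centralizer_singleton_iff.2 (mul_inv_eq_iff_eq_mul.1 ?_)⟩), Subtype.ext (mul_inv_cancel_left g n)⟩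
        calc g⁻¹ * n * x * (g⁻¹ * n)⁻¹ = g⁻¹ * (n * x * n⁻¹) * g := by group
          _ = g⁻¹ * (g * x * g⁻¹) * g := by rw [h, hg]
          _ = x := by group
  have := Nat.card_congr (Equiv.ofBijective f hf)
  rw [Nat.card_prod, Nat.card_eq_fintype_card, Fintype.card_bool] at this
  exact this.symm

/-- An element of `N(P)` inverting a given element of `P`, unless one is central. -/
theorem exists_inverting (hG : Nat.card G = 2520) (P : Sylow 3 G) {x : G} (hx : x ∈ (P : Subgroup G))
    (hC : Nat.card (Subgroup.centralizer ((P : Subgroup G) : Set G)) = 9) :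
    ∃ i : G, orderOf i = 2 ∧ ∀ p ∈ (P : Subgroup G), i * p * i⁻¹ = p⁻¹ := by
  haveI : Fact (Nat.Prime 2) := ⟨Nat.prime_two⟩
  haveI : Fact (Nat.Prime 3) := ⟨Nat.prime_three⟩
  set N := Subgroup.normalizer ((P : Subgroup G) : Set G)
  have hP := sylow_three_card hG P
  have e : (P : Subgroup G) = Subgroup.centralizer ((P : Subgroup G) : Set G) :=
    Subgroup.eq_of_le_of_card_ge (centralizer_base hG P) (by rw [hC, hP])
  have hself : ∀ g : G, (∀ p ∈ (P : Subgroup G), g * p = p * g) → g ∈ (P : Subgroup G) := fun g h => by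
    rw [e]; exact Subgroup.mem_centralizer_iff.2 fun p hp => (h p hp).symm
  obtain ⟨T₀, hT₀⟩ := Sylow.exists_subgroup_card_pow_prime (G := N) 2 (n := 2) (by rw [sylow_three_normalizer hG P]; norm_num)
  have hTc : Nat.card (T₀.map N.subtype) = 4 := by
    rw [Subgroup.card_map_of_injective N.subtype_injective, hT₀]; norm_num
  obtain ⟨i, hiT, hi⟩ := FGB.M11.exists_inverter hP (sylow_comm hG P) hself (T := T₀.map N.subtype) hTc
    (fun g hg p hp => (Subgroup.mem_normalizer_iff.1 (Subgroup.map_subtype_le _ hg) p).1 hp)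
  have hii : i ^ 2 ∈ (P : Subgroup G) := hself _ fun p hp => by
    refine mul_inv_eq_iff_eq_mul.1 ?_
    calc i ^ 2 * p * (i ^ 2)⁻¹ = i * (i * p * i⁻¹) * i⁻¹ := by rw [pow_two]; group
      _ = i * p⁻¹ * i⁻¹ := by rw [hi p hp]
      _ = (i * p * i⁻¹)⁻¹ := by group
      _ = p := by rw [hi p hp, inv_inv]
  have h2 : i ^ 2 = 1 := by
    have h := Nat.dvd_gcd (Subgroup.orderOf_dvd_natCard _ (pow_mem hiT 2)) (Subgroup.orderOf_dvd_natCard _ hii)
    rw [hTc, hP] at h
    norm_num at h
    exact h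
  refine ⟨i, orderOf_eq_prime h2 fun h1 => ?_, hi⟩
  obtain ⟨w, hw⟩ := exists_prime_orderOf_dvd_card' (G := (P : Subgroup G)) 3 (by rw [hP]; norm_num)
  have h := hi w w.2
  rw [h1, one_mul, inv_one, mul_one] at h
  have h4 : orderOf (w : G) ∣ 2 := orderOf_dvd_of_pow_eq_one (by rw [pow_two]; exact mul_eq_one_iff_eq_inv.2 h)
  rw [Subgroup.orderOf_coe, hw] at h4
  norm_num at h4

theorem twice_centralizer (hG : Nat.card G = 2520) {x : G} (ht : Twice x) :
    Nat.card (Subgroup.centralizer ({x} : Set G)) = 36 ∧ ∀ P : Sylow 3 G, x ∈ (P : Subgroup G) →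
      Nat.card (Subgroup.centralizer ((P : Subgroup G) : Set G)) = 9 ∧
      Nat.card ↥(Subgroup.normalizer ((P : Subgroup G) : Set G) ⊓ Subgroup.centralizer ({x} : Set G)) = 9 := by
  classical
  haveI : Fact (Nat.Prime 2) := ⟨Nat.prime_two⟩
  haveI : Fact (Nat.Prime 3) := ⟨Nat.prime_three⟩
  obtain ⟨hx, R, R', hne, hR, hR'⟩ := ht
  set C := Subgroup.centralizer ({x} : Set G) with hCdef
  have hle : ∀ {Q : Sylow 3 G}, x ∈ (Q : Subgroup G) → (Q : Subgroup G) ≤ C := fun {Q} hQ g hg =>
    Subgroup.mem_centralizer_singleton_iff.2 (sylow_comm hG Q g hg x hQ)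
  obtain ⟨h5, h7⟩ := centralizer_three_coprime hG hx
  rw [← hCdef] at h5 h7
  have hC72 : Nat.card C ∣ 72 := by
    have h1 : Nat.card C ∣ 5 * (7 * 72) := by
      rw [show 5 * (7 * 72) = 2520 by norm_num, ← hG]; exact Subgroup.card_subgroup_dvd_card C
    exact (Nat.Coprime.dvd_mul_left ((Nat.Prime.coprime_iff_not_dvd (by norm_num)).2 h7).symm).1
      ((Nat.Coprime.dvd_mul_left ((Nat.Prime.coprime_iff_not_dvd (by norm_num)).2 h5).symm).1 h1)
  have hn1 : Nat.card (Sylow 3 C) ≠ 1 := fun h => by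
    haveI : Subsingleton (Sylow 3 C) := (Nat.card_eq_one_iff_unique.1 h).1
    exact hne (Sylow.subtype_injective (hP := hle hR) (hQ := hle hR') (Subsingleton.elim _ _))
  have hmain : ∀ P : Sylow 3 G, x ∈ (P : Subgroup G) → Nat.card C = 36 ∧
      Nat.card (Subgroup.centralizer ((P : Subgroup G) : Set G)) = 9 ∧
      Nat.card ↥(Subgroup.normalizer ((P : Subgroup G) : Set G) ⊓ C) = 9 := by
    intro P hxP
    have hP := sylow_three_card hG P
    set N := Subgroup.normalizer ((P : Subgroup G) : Set G) with hN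
    have hN36 := sylow_three_normalizer hG P
    rw [← hN] at hN36
    have hmul := card_sylow_subgroup_mul P C (hle hxP)
    rw [← hN] at hmul
    have h9 : 9 ∣ Nat.card ↥(N ⊓ C) := hP ▸ Subgroup.card_dvd_of_le (le_inf Subgroup.le_normalizer (hle hxP))
    have hn : Nat.card (Sylow 3 C) = 4 := by
      obtain ⟨k, hk⟩ := h9
      have h3 : Nat.card (Sylow 3 C) * k ∣ 8 := by
        refine Nat.dvd_of_mul_dvd_mul_left (show 0 < 9 by norm_num) ?_
        rw [show 9 * (Nat.card (Sylow 3 C) * k) = Nat.card C by rw [← hmul, hk]; ring]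
        exact hC72
      have key : ∀ n ∈ Nat.divisors 8, n % 3 = 1 → n ≠ 1 → n = 4 := by decide
      exact key _ (Nat.mem_divisors.2 ⟨dvd_of_mul_right_dvd h3, by norm_num⟩) (card_sylow_modEq_one 3 _) hn1
    rw [hn] at hmul
    have hCP : Subgroup.centralizer ((P : Subgroup G) : Set G) ≤ N ⊓ C := le_inf (SmallSimple.centralizer_le_normalizer _)
      (Subgroup.centralizer_le (Set.singleton_subset_iff.2 hxP))
    have hCPd := Subgroup.card_dvd_of_le hCP
    have hCP9 : 9 ∣ Nat.card (Subgroup.centralizer ((P : Subgroup G) : Set G)) :=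
      hP ▸ Subgroup.card_dvd_of_le (centralizer_base hG P)
    obtain ⟨k, hk⟩ := h9
    rw [hk] at hmul hCPd
    have hk12 : k = 1 ∨ k = 2 := by
      refine (Nat.dvd_prime Nat.prime_two).1 (Nat.dvd_of_mul_dvd_mul_left (show 0 < 36 by norm_num) ?_)
      rw [show 36 * k = Nat.card C by rw [← hmul]; ring]
      exact hC72
    rcases hk12 with rfl | rfl
    · exact ⟨by omega, Nat.dvd_antisymm (by simpa using hCPd) hCP9, hk⟩
    exfalso
    have hCc : Nat.card C = 72 := by omega
    have hreal : ¬ ∃ g : G, g * x * g⁻¹ = x⁻¹ := fun ⟨g, hg⟩ => by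
      have h1 := normalizer_zpowers_card hx hg
      rw [← hCdef, hCc] at h1
      have h2 := Subgroup.card_subgroup_dvd_card (Subgroup.normalizer ((Subgroup.zpowers x) : Set G))
      rw [h1, hG] at h2
      norm_num at h2
    obtain ⟨j, hj⟩ := hCP9
    rw [hj] at hCPd
    rcases (Nat.dvd_prime Nat.prime_two).1 (Nat.dvd_of_mul_dvd_mul_left (show 0 < 9 by norm_num) hCPd) with rfl | rfl
    · obtain ⟨i, -, hi⟩ := exists_inverting hG P hxP (by omega)
      exact hreal ⟨i, hi x hxP⟩
    set CP := Subgroup.centralizer ((P : Subgroup G) : Set G) with hCPdef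
    have heq : CP = N ⊓ C := Subgroup.eq_of_le_of_card_ge hCP (by rw [hk, hj])
    obtain ⟨g, hgN, hgC⟩ : ∃ g ∈ N, g ∉ CP := by
      by_contra h
      push Not at h
      have := Nat.le_of_dvd Nat.card_pos (Subgroup.card_dvd_of_le h)
      omega
    have hidx : (CP.subgroupOf N).index = 2 := by
      have h1 := Subgroup.card_mul_index (CP.subgroupOf N)
      rw [Nat.card_congr (Subgroup.subgroupOfEquivOfLe (SmallSimple.centralizer_le_normalizer _)).toEquiv, hj, hN36] at h1
      omega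
    have hg2 : g * g ∈ CP := by
      have := Subgroup.mul_self_mem_of_index_two hidx (⟨g, hgN⟩ : N)
      exact this
    set w := g * x * g⁻¹ * x with hw
    have hxg : g * x * g⁻¹ ∈ (P : Subgroup G) := (Subgroup.mem_normalizer_iff.1 hgN x).1 hxP
    have hwP : w ∈ (P : Subgroup G) := mul_mem hxg hxP
    by_cases hw1 : w = 1
    · exact hreal ⟨g, eq_inv_of_mul_eq_one_left hw1⟩
    refine no_central hG P hwP hw1 fun n hn => ?_
    have hgw : g * w = w * g := by
      refine mul_inv_eq_iff_eq_mul.1 ?_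
      have e : g * g * x * (g * g)⁻¹ = x := mul_inv_eq_iff_eq_mul.2 (Subgroup.mem_centralizer_iff.1 hg2 x hxP).symm
      calc g * w * g⁻¹ = g * g * x * (g * g)⁻¹ * (g * x * g⁻¹) := by rw [hw]; group
        _ = x * (g * x * g⁻¹) := by rw [e]
        _ = w := by rw [hw]; exact sylow_comm hG P _ hxP _ hxg
    by_cases hnC : n ∈ CP
    · exact (Subgroup.mem_centralizer_iff.1 hnC w hwP).symm
    · have hgn : g⁻¹ * n ∈ CP := by
        have h := (Subgroup.mul_mem_iff_of_index_two hidx (a := (⟨g, hgN⟩ : N)⁻¹) (b := ⟨n, hn⟩))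
        rw [Subgroup.inv_mem_iff] at h
        simp only [Subgroup.mem_subgroupOf, Subgroup.coe_mul, InvMemClass.coe_inv] at h
        exact h.2 (iff_of_false hgC hnC)
      calc n * w = g * (g⁻¹ * n * w) := by group
        _ = g * (w * (g⁻¹ * n)) := by rw [(Subgroup.mem_centralizer_iff.1 hgn w hwP).symm]
        _ = g * w * (g⁻¹ * n) := by group
        _ = w * g * (g⁻¹ * n) := by rw [hgw]
        _ = w * n := by group
  exact ⟨(hmain R hR).1, fun P hP => (hmain P hP).2⟩

/-- The frame at a doubly contained element. -/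
structure Frame (G : Type u) [Group G] [Finite G] where
  hG : Nat.card G = 2520
  P : Sylow 3 G
  x : G
  twice : Twice x
  hxP : x ∈ (P : Subgroup G)

namespace Frame

variable (D : Frame G)

/-- The centralizer of the base element. -/
abbrev C : Subgroup G := Subgroup.centralizer ({D.x} : Set G)

theorem hx : orderOf D.x = 3 := D.twice.1

theorem card_C : Nat.card D.C = 36 := (twice_centralizer D.hG D.twice).1

theorem card_P : Nat.card (D.P : Subgroup G) = 9 := sylow_three_card D.hG D.P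

theorem P_le : (D.P : Subgroup G) ≤ D.C := fun g hg =>
  Subgroup.mem_centralizer_singleton_iff.2 (sylow_comm D.hG D.P g hg D.x D.hxP)

theorem self_centr {g : G} (h : ∀ p ∈ (D.P : Subgroup G), g * p = p * g) : g ∈ (D.P : Subgroup G) := by
  have e : (D.P : Subgroup G) = Subgroup.centralizer ((D.P : Subgroup G) : Set G) :=
    Subgroup.eq_of_le_of_card_ge (centralizer_base D.hG D.P) (by
      rw [((twice_centralizer D.hG D.twice).2 D.P D.hxP).1, D.card_P])
  rw [e]
  exact Subgroup.mem_centralizer_iff.2 fun p hp => (h p hp).symm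

theorem exists_V : ∃ V : Subgroup G, Nat.card V = 4 ∧ V ≤ D.C ∧ (∀ c ∈ D.C, ∀ v ∈ V, c * v * c⁻¹ ∈ V) ∧
    (∀ c ∈ D.C, ∃ v ∈ V, ∃ p ∈ (D.P : Subgroup G), c = v * p) ∧
    (∀ c ∈ D.C, ∀ k : ℕ, orderOf c ∣ 2 ^ k → c ∈ V) := by
  classical
  haveI : Fact (Nat.Prime 3) := ⟨Nat.prime_three⟩
  set P' : Sylow 3 D.C := D.P.subtype D.P_le with hP'
  have h9 : Nat.card (P' : Subgroup D.C) = 9 := by
    rw [hP', Sylow.coe_subtype, Nat.card_congr (Subgroup.subgroupOfEquivOfLe D.P_le).toEquiv, D.card_P]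
  have hNle : Subgroup.normalizer ((P' : Subgroup D.C) : Set D.C) ≤ Subgroup.centralizer ((P' : Subgroup D.C) : Set D.C) := by
    intro c hc
    rw [hP', Sylow.coe_subtype, ← Subgroup.subgroupOf_normalizer_eq D.P_le] at hc
    have hcP : (c : G) ∈ (D.P : Subgroup G) := by
      have e : (D.P : Subgroup G) = Subgroup.normalizer ((D.P : Subgroup G) : Set G) ⊓ D.C :=
        Subgroup.eq_of_le_of_card_ge (le_inf Subgroup.le_normalizer D.P_le) (by
          rw [((twice_centralizer D.hG D.twice).2 D.P D.hxP).2, D.card_P])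
      rw [e]; exact ⟨hc, c.2⟩
    refine Subgroup.mem_centralizer_iff.2 fun a ha => Subtype.ext ?_
    exact sylow_comm D.hG D.P a (by simpa [hP', Subgroup.mem_subgroupOf] using ha) c hcP
  have hc := MonoidHom.ker_transferSylow_isComplement' P' hNle
  obtain ⟨K, hcK, hKn, hker⟩ : ∃ K : Subgroup D.C, Subgroup.IsComplement' K (P' : Subgroup D.C) ∧ K.Normal ∧
      ∀ (c : D.C) (k : ℕ), orderOf c ∣ 2 ^ k → c ∈ K := by
    refine ⟨_, hc, MonoidHom.normal_ker _, fun c k hk => MonoidHom.mem_ker.2 (orderOf_eq_one_iff.1 ?_)⟩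
    refine Nat.eq_one_of_dvd_coprimes (a := 2 ^ k) (b := Nat.card (P' : Subgroup D.C))
      (by rw [h9]; exact Nat.Coprime.pow_left k (by norm_num)) ?_ ?_
    · exact (orderOf_map_dvd _ _).trans hk
    · exact orderOf_dvd_natCard _
  clear hc
  have hKc : Nat.card K = 4 := by
    have := Subgroup.IsComplement'.card_mul_card hcK
    rw [h9, D.card_C] at this
    omega
  refine ⟨K.map D.C.subtype, by rw [Subgroup.card_map_of_injective D.C.subtype_injective, hKc],
    Subgroup.map_subtype_le _, ?_, ?_, ?_⟩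
  · intro c hc' v hv
    obtain ⟨v, hv', rfl⟩ := Subgroup.mem_map.1 hv
    exact Subgroup.mem_map.2 ⟨⟨c, hc'⟩ * v * ⟨c, hc'⟩⁻¹, hKn.conj_mem v hv' _, rfl⟩
  · intro c hc'
    haveI := hKn
    have hmem : (⟨c, hc'⟩ : D.C) ∈ K ⊔ (P' : Subgroup D.C) := by rw [hcK.sup_eq_top]; exact Subgroup.mem_top _
    obtain ⟨v, hv, p, hp, e⟩ := Subgroup.mem_sup_of_normal_left.1 hmem
    refine ⟨(v : G), Subgroup.mem_map.2 ⟨v, hv, rfl⟩, (p : G), ?_, ?_⟩
    · rw [hP', Sylow.coe_subtype, Subgroup.mem_subgroupOf] at hp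
      exact hp
    · rw [← Subgroup.coe_mul, e]
  · intro c hc' k hk
    exact Subgroup.mem_map.2 ⟨⟨c, hc'⟩, hker ⟨c, hc'⟩ k (by rw [Subgroup.orderOf_mk]; exact hk), rfl⟩

/-- The four-group of the frame. -/
noncomputable def V : Subgroup G := D.exists_V.choose

theorem card_V : Nat.card D.V = 4 := D.exists_V.choose_spec.1

theorem V_le : D.V ≤ D.C := D.exists_V.choose_spec.2.1

theorem V_conj {c v : G} (hc : c ∈ D.C) (hv : v ∈ D.V) : c * v * c⁻¹ ∈ D.V := D.exists_V.choose_spec.2.2.1 c hc v hv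

theorem decomp {c : G} (hc : c ∈ D.C) : ∃ v ∈ D.V, ∃ p ∈ (D.P : Subgroup G), c = v * p :=
  D.exists_V.choose_spec.2.2.2.1 c hc

theorem two_mem_V {c : G} (hc : c ∈ D.C) {k : ℕ} (hk : orderOf c ∣ 2 ^ k) : c ∈ D.V :=
  D.exists_V.choose_spec.2.2.2.2 c hc k hk

theorem V_comm {a b : G} (ha : a ∈ D.V) (hb : b ∈ D.V) : a * b = b * a := by
  haveI : Fact (Nat.Prime 2) := ⟨Nat.prime_two⟩
  haveI := IsPGroup.isMulCommutative_of_card_eq_prime_sq (p := 2) (G := D.V) (by rw [D.card_V]; norm_num)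
  exact congrArg Subtype.val (mul_comm' (⟨a, ha⟩ : D.V) ⟨b, hb⟩)

theorem V_P {v : G} (hv : v ∈ D.V) (hvP : v ∈ (D.P : Subgroup G)) : v = 1 := by
  have h := Nat.dvd_gcd (Subgroup.orderOf_dvd_natCard _ hv) (Subgroup.orderOf_dvd_natCard _ hvP)
  rw [D.card_V, D.card_P] at h
  norm_num at h
  exact h

/-- A non-trivial element of the four-group centralizes only one subgroup of order three. -/
theorem unique_three {v : G} (hv : v ∈ D.V) (hv1 : v ≠ 1) {w : G} (hw : orderOf w = 3) (hwv : w * v = v * w) :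
    w ∈ Subgroup.zpowers D.x := by
  classical
  haveI : Fact (Nat.Prime 3) := ⟨Nat.prime_three⟩
  haveI : Fact (Nat.Prime 5) := ⟨by norm_num⟩
  haveI : Fact (Nat.Prime 7) := ⟨by norm_num⟩
  set H := Subgroup.centralizer ({v} : Set G) with hH
  have hxH : D.x ∈ H := Subgroup.mem_centralizer_singleton_iff.2
    (Subgroup.mem_centralizer_singleton_iff.1 (D.V_le hv)).symm
  have hv4 : orderOf v ∣ 4 := D.card_V ▸ Subgroup.orderOf_dvd_natCard _ hv
  have h9 : ¬ 9 ∣ Nat.card H := by
    intro h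
    obtain ⟨B, hB⟩ := Sylow.exists_subgroup_card_pow_prime (G := H) 3 (n := 2) (by norm_num; exact h)
    have hBc : Nat.card (B.map H.subtype) = 9 := by
      rw [Subgroup.card_map_of_injective H.subtype_injective, hB]; norm_num
    obtain ⟨R, hR⟩ := (IsPGroup.of_card (n := 2) (p := 3) (by rw [hBc]; norm_num) :
      IsPGroup 3 (B.map H.subtype)).exists_le_sylow
    have hRe : B.map H.subtype = (R : Subgroup G) :=
      Subgroup.eq_of_le_of_card_ge hR (by rw [hBc, sylow_three_card D.hG R])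
    obtain ⟨g, hg⟩ := MulAction.exists_smul_eq G R D.P
    have hmem := D.self_centr (g := g * v * g⁻¹) (fun p hp => by
      rw [← hg] at hp
      obtain ⟨r, hr, rfl⟩ := hp
      have hrH : r ∈ H := Subgroup.map_subtype_le _ (hRe.symm ▸ hr)
      have e : r * v = v * r := Subgroup.mem_centralizer_singleton_iff.1 hrH
      show g * v * g⁻¹ * (g * r * g⁻¹) = g * r * g⁻¹ * (g * v * g⁻¹)
      calc g * v * g⁻¹ * (g * r * g⁻¹) = g * (v * r) * g⁻¹ := by group
        _ = g * (r * v) * g⁻¹ := by rw [e]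
        _ = g * r * g⁻¹ * (g * v * g⁻¹) := by group)
    have h1 := Subgroup.orderOf_dvd_natCard _ hmem
    rw [show g * v * g⁻¹ = MulAut.conj g v by simp, MulEquiv.orderOf_eq, D.card_P] at h1
    have := Nat.dvd_gcd h1 hv4
    norm_num at this
    exact hv1 this
  have h7 : ¬ 7 ∣ Nat.card H := fun h => by
    obtain ⟨y, hy⟩ := exists_prime_orderOf_dvd_card' (G := H) 7 h
    obtain ⟨Q⟩ : Nonempty (Sylow 7 G) := inferInstance
    have hc := SmallSimple5040.card_centralizer_of_order Q (sylow_prime_card D.hG Q (Or.inr rfl)) (g := (y : G))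
      (by rw [Subgroup.orderOf_coe, hy])
    have h1 := Subgroup.orderOf_dvd_natCard (Subgroup.centralizer ({(y : G)} : Set G))
      (Subgroup.mem_centralizer_singleton_iff.2 (Subgroup.mem_centralizer_singleton_iff.1 y.2).symm)
    rw [hc, seven D.hG Q] at h1
    have := Nat.dvd_gcd h1 hv4
    norm_num at this
    exact hv1 this
  set X := Subgroup.zpowers D.x with hX
  have hXH : X ≤ H := Subgroup.zpowers_le.2 hxH
  obtain ⟨R, hR⟩ : ∃ R : Sylow 3 H, X.subgroupOf H ≤ (R : Subgroup H) :=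
    (IsPGroup.of_card (n := 1) (p := 3) (by
      rw [Nat.card_congr (Subgroup.subgroupOfEquivOfLe hXH).toEquiv, hX, Nat.card_zpowers, D.hx, pow_one]) :
      IsPGroup 3 (X.subgroupOf H)).exists_le_sylow
  have hH840 : Nat.card H ∣ 2520 := D.hG ▸ Subgroup.card_subgroup_dvd_card H
  have hR3 : Nat.card R = 3 := by
    have h3 : 3 ∣ Nat.card R := by
      have := Subgroup.card_dvd_of_le hR
      rwa [Nat.card_congr (Subgroup.subgroupOfEquivOfLe hXH).toEquiv, hX, Nat.card_zpowers, D.hx] at this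
    obtain ⟨k, hk⟩ := IsPGroup.iff_card.1 R.2
    rw [hk] at h3 ⊢
    have hle : k ≤ 1 := by
      by_contra hlt
      exact h9 ((pow_dvd_pow 3 (show 2 ≤ k by omega)).trans (hk ▸ Subgroup.card_subgroup_dvd_card (R : Subgroup H)))
    interval_cases k <;> first | rfl | (exfalso; revert h3; decide)
  have hRX : (R : Subgroup H) = X.subgroupOf H := (Subgroup.eq_of_le_of_card_ge hR (by
    rw [Nat.card_congr (Subgroup.subgroupOfEquivOfLe hXH).toEquiv, hX, Nat.card_zpowers, D.hx, hR3])).symm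
  suffices hone : Nat.card (Sylow 3 H) = 1 by
    haveI : Subsingleton (Sylow 3 H) := (Nat.card_eq_one_iff_unique.1 hone).1
    have hwH : w ∈ H := Subgroup.mem_centralizer_singleton_iff.2 hwv
    obtain ⟨R', hR'⟩ := (IsPGroup.of_card (n := 1) (p := 3) (by rw [Nat.card_zpowers, ← Subgroup.orderOf_coe, hw, pow_one]) :
      IsPGroup 3 (Subgroup.zpowers (⟨w, hwH⟩ : H))).exists_le_sylow
    have := hR' (Subgroup.mem_zpowers _)
    rw [Subsingleton.elim R' R, hRX] at this
    exact this
  have hmul := card_sylow_mul R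
  set NR := Subgroup.normalizer ((R : Subgroup H) : Set H) with hNR
  have hCR : X ⊔ D.V ≤ H := sup_le hXH fun a ha => Subgroup.mem_centralizer_singleton_iff.2 (D.V_comm ha hv)
  have h12 : 12 ∣ Nat.card NR := by
    have hsub : (X ⊔ D.V).subgroupOf H ≤ Subgroup.centralizer ((R : Subgroup H) : Set H) := by
      intro a ha
      refine Subgroup.mem_centralizer_iff.2 fun r hr => Subtype.ext ?_
      rw [hRX] at hr
      have hle : X ⊔ D.V ≤ D.C := sup_le (Subgroup.zpowers_le.2 (Subgroup.mem_centralizer_singleton_iff.2 rfl)) D.V_le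
      obtain ⟨i, hi⟩ := Subgroup.mem_zpowers_iff.1 (show (r : G) ∈ X from hr)
      show (r : G) * a = a * r
      rw [← hi]
      exact ((show Commute (a : G) D.x from Subgroup.mem_centralizer_singleton_iff.1 (hle ha)).zpow_right i).eq.symm
    have h := Subgroup.card_dvd_of_le (hsub.trans (SmallSimple.centralizer_le_normalizer _))
    rw [Nat.card_congr (Subgroup.subgroupOfEquivOfLe hCR).toEquiv] at h
    have h3 : 3 ∣ Nat.card ↥(X ⊔ D.V) := by
      have := Subgroup.card_dvd_of_le (le_sup_left : X ≤ X ⊔ D.V)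
      rwa [hX, Nat.card_zpowers, D.hx] at this
    exact (Nat.Coprime.mul_dvd_of_dvd_of_dvd (show Nat.Coprime 3 4 by norm_num) h3
      (D.card_V ▸ Subgroup.card_dvd_of_le le_sup_right)).trans h
  obtain ⟨k, hk⟩ := h12
  rw [hk] at hmul
  have hd120 : Nat.card H ∣ 120 := by
    have h1 : Nat.card H ∣ 7 * 360 := by norm_num; exact hH840
    have h2 := (Nat.Coprime.dvd_mul_left ((Nat.Prime.coprime_iff_not_dvd (by norm_num)).2 h7).symm).1 h1
    have key : ∀ d ∈ Nat.divisors 360, ¬ 9 ∣ d → d ∣ 120 := by decide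
    exact key _ (Nat.mem_divisors.2 ⟨h2, by norm_num⟩) h9
  have h10 : Nat.card (Sylow 3 H) * k ∣ 10 := by
    refine Nat.dvd_of_mul_dvd_mul_left (show 0 < 12 by norm_num) ?_
    rw [show 12 * (Nat.card (Sylow 3 H) * k) = Nat.card H by rw [← hmul]; ring]
    exact hd120
  have key : ∀ n ∈ Nat.divisors 10, n % 3 = 1 → n = 1 ∨ n = 10 := by decide
  refine (key _ (Nat.mem_divisors.2 ⟨dvd_of_mul_right_dvd h10, by norm_num⟩) (card_sylow_modEq_one 3 _)).resolve_right ?_
  intro h
  rw [h] at hmul h10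
  have hk1 : k = 1 := Nat.dvd_one.1 (Nat.dvd_of_mul_dvd_mul_left (show 0 < 10 by norm_num) h10)
  subst hk1
  have hNc : NR ≤ Subgroup.centralizer ((R : Subgroup H) : Set H) := by
    have hRc : Nat.card (R : Subgroup H) = 3 := hR3
    intro a ha
    by_contra hna
    have hsub : (X ⊔ D.V).subgroupOf H ≤ Subgroup.centralizer ((R : Subgroup H) : Set H) := by
      intro a ha
      refine Subgroup.mem_centralizer_iff.2 fun r hr => Subtype.ext ?_
      rw [hRX] at hr
      have hle : X ⊔ D.V ≤ D.C := sup_le (Subgroup.zpowers_le.2 (Subgroup.mem_centralizer_singleton_iff.2 rfl)) D.V_le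
      obtain ⟨i, hi⟩ := Subgroup.mem_zpowers_iff.1 (show (r : G) ∈ X from hr)
      show (r : G) * a = a * r
      rw [← hi]
      exact ((show Commute (a : G) D.x from Subgroup.mem_centralizer_singleton_iff.1 (hle ha)).zpow_right i).eq.symm
    have e := Subgroup.eq_of_le_of_card_ge (hsub.trans (SmallSimple.centralizer_le_normalizer _) :
      (X ⊔ D.V).subgroupOf H ≤ NR) (by
      rw [hk, Nat.card_congr (Subgroup.subgroupOfEquivOfLe hCR).toEquiv]
      have h3 : 3 ∣ Nat.card ↥(X ⊔ D.V) := by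
        have := Subgroup.card_dvd_of_le (le_sup_left : X ≤ X ⊔ D.V)
        rwa [hX, Nat.card_zpowers, D.hx] at this
      exact Nat.le_of_dvd Nat.card_pos (show 3 * 4 ∣ _ from Nat.Coprime.mul_dvd_of_dvd_of_dvd
        (show Nat.Coprime 3 4 by norm_num) h3 (D.card_V ▸ Subgroup.card_dvd_of_le le_sup_right)))
    exact hna (hsub (e.symm ▸ ha))
  have hcomp := MonoidHom.ker_transferSylow_isComplement' R hNc
  set K := (MonoidHom.transferSylow R hNc).ker with hK
  have hHc : Nat.card H = 120 := by omega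
  have hKc : Nat.card K = 40 := by
    have := Subgroup.IsComplement'.card_mul hcomp
    rw [show Nat.card (R : Subgroup H) = 3 from hR3, hHc] at this
    omega
  obtain ⟨a, ha⟩ := exists_prime_orderOf_dvd_card' (G := K) 5 (by rw [hKc]; norm_num)
  have hK1 : Nat.card (Sylow 5 K) = 1 := by
    have h1 := card_sylow_mul (default : Sylow 5 K)
    rw [hKc] at h1
    have h5 : 5 ∣ Nat.card (Subgroup.normalizer (((default : Sylow 5 K) : Subgroup K) : Set K)) := by
      have := Subgroup.card_dvd_of_le (Subgroup.le_normalizer (H := ((default : Sylow 5 K) : Subgroup K)))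
      rwa [show Nat.card (default : Sylow 5 K) = 5 by
        simpa using card_sylow_of_eq (k := 1) (m := 8) (default : Sylow 5 K) (by rw [hKc]; norm_num) (by norm_num)] at this
    obtain ⟨j, hj⟩ := h5
    have h8 : Nat.card (Sylow 5 K) ∣ 8 := ⟨j, Nat.eq_of_mul_eq_mul_left (show 0 < 5 by norm_num) (by rw [hj] at h1; linarith)⟩
    have key : ∀ n ∈ Nat.divisors 8, n % 5 = 1 → n = 1 := by decide
    exact key _ (Nat.mem_divisors.2 ⟨h8, by norm_num⟩) (card_sylow_modEq_one 5 _)
  haveI : Subsingleton (Sylow 5 K) := (Nat.card_eq_one_iff_unique.1 hK1).1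
  set xH : H := ⟨D.x, hxH⟩
  have hb : xH * (a : H) * xH⁻¹ ∈ K := (MonoidHom.normal_ker _).conj_mem _ a.2 _
  set b : K := ⟨_, hb⟩ with hbdef
  have hbo : orderOf b = 5 := by
    rw [← Subgroup.orderOf_coe, hbdef]
    show orderOf (xH * (a : H) * xH⁻¹) = 5
    rw [show xH * (a : H) * xH⁻¹ = MulAut.conj xH (a : H) by simp, MulEquiv.orderOf_eq, Subgroup.orderOf_coe, ha]
  obtain ⟨Q₁, hQ₁⟩ := (IsPGroup.of_card (n := 1) (p := 5) (by rw [Nat.card_zpowers, ha, pow_one]) :
    IsPGroup 5 (Subgroup.zpowers a)).exists_le_sylow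
  have hQc : Nat.card Q₁ = 5 := by
    simpa using card_sylow_of_eq (k := 1) (m := 8) Q₁ (by rw [hKc]; norm_num) (by norm_num)
  have hQe : Subgroup.zpowers a = (Q₁ : Subgroup K) := Subgroup.eq_of_le_of_card_ge hQ₁ (by rw [hQc, Nat.card_zpowers, ha])
  obtain ⟨Q₂, hQ₂⟩ := (IsPGroup.of_card (n := 1) (p := 5) (by rw [Nat.card_zpowers, hbo, pow_one]) :
    IsPGroup 5 (Subgroup.zpowers b)).exists_le_sylow
  have hbQ : b ∈ Subgroup.zpowers a := by
    rw [hQe, ← Subsingleton.elim Q₂ Q₁]
    exact hQ₂ (Subgroup.mem_zpowers b)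
  have hbG : D.x * ((a : H) : G) * D.x⁻¹ ∈ Subgroup.zpowers ((a : H) : G) := by
    obtain ⟨i, hi⟩ := Subgroup.mem_zpowers_iff.1 hbQ
    refine Subgroup.mem_zpowers_iff.2 ⟨i, ?_⟩
    simpa [hbdef, xH] using congrArg (fun t : K => ((t : H) : G)) hi
  have hao : orderOf ((a : H) : G) = 5 := by rw [Subgroup.orderOf_coe, Subgroup.orderOf_coe, ha]
  have hxN : D.x ∈ Subgroup.normalizer ((Subgroup.zpowers ((a : H) : G)) : Set G) := by
    have e : (Subgroup.zpowers ((a : H) : G)).map (MulAut.conj D.x).toMonoidHom = Subgroup.zpowers ((a : H) : G) := by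
      refine Subgroup.eq_of_le_of_card_ge ?_ (by rw [Subgroup.card_map_of_injective (f := (MulAut.conj D.x).toMonoidHom) (MulAut.conj D.x).injective])
      rw [MonoidHom.map_zpowers, Subgroup.zpowers_le]
      simpa using hbG
    refine Subgroup.mem_normalizer_iff.2 fun y => ?_
    conv_rhs => rw [← e]
    rw [Subgroup.mem_map_equiv, MulAut.conj_symm_apply]
    simp [mul_assoc]
  have hcent := mem_centralizer_of_mem_normalizer (q := 5) _ (by rw [Nat.card_zpowers, hao]) hxN (by rw [D.hx]; norm_num)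
  have h5 := Subgroup.orderOf_dvd_natCard D.C (Subgroup.mem_centralizer_singleton_iff.2
    (Subgroup.mem_centralizer_iff.1 hcent ((a : H) : G) (Subgroup.mem_zpowers _)))
  rw [hao, D.card_C] at h5
  norm_num at h5

theorem exists_i : ∃ i : G, orderOf i = 2 ∧ ∀ p ∈ (D.P : Subgroup G), i * p * i⁻¹ = p⁻¹ :=
  exists_inverting D.hG D.P D.hxP ((twice_centralizer D.hG D.twice).2 D.P D.hxP).1

/-- Every involution is conjugate into the four-group. -/
theorem invol_into_V {t : G} (ht : orderOf t = 2) : ∃ g : G, g⁻¹ * t * g ∈ D.V := by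
  classical
  haveI : Fact (Nat.Prime 2) := ⟨Nat.prime_two⟩
  obtain ⟨i, hi, hinv⟩ := D.exists_i
  have hiN : ∀ v ∈ D.V, i * v * i⁻¹ ∈ D.V := by
    intro v hv
    refine D.two_mem_V (k := 2) ?_ ?_
    · refine Subgroup.mem_centralizer_singleton_iff.2 (mul_inv_eq_iff_eq_mul.1 ?_)
      have h1 : v * D.x⁻¹ = D.x⁻¹ * v := (show Commute v D.x from Subgroup.mem_centralizer_singleton_iff.1 (D.V_le hv)).inv_right.eq
      have hix : i⁻¹ * D.x * i = D.x⁻¹ := by
        have hii : i⁻¹ = i := inv_eq_of_mul_eq_one_right (by rw [← pow_two, ← hi, pow_orderOf_eq_one])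
        rw [hii]
        calc i * D.x * i = i * D.x * i⁻¹ := by rw [hii]
          _ = D.x⁻¹ := hinv _ D.hxP
      calc i * v * i⁻¹ * D.x * (i * v * i⁻¹)⁻¹ = i * (v * (i⁻¹ * D.x * i) * v⁻¹) * i⁻¹ := by group
        _ = i * (D.x⁻¹ * v * v⁻¹) * i⁻¹ := by rw [hix, h1]
        _ = (i * D.x * i⁻¹)⁻¹ := by group
        _ = D.x := by rw [hinv _ D.hxP, inv_inv]
    · rw [show i * v * i⁻¹ = MulAut.conj i v by simp, MulEquiv.orderOf_eq]
      exact (Subgroup.orderOf_dvd_natCard _ hv).trans (by rw [D.card_V]; norm_num)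
  have hiV : i ∉ D.V := fun h => by
    have h1 : i * D.x = D.x * i := Subgroup.mem_centralizer_singleton_iff.1 (D.V_le h)
    have h2 := hinv _ D.hxP
    rw [h1, mul_inv_cancel_right] at h2
    have h3 := orderOf_dvd_of_pow_eq_one (show D.x ^ 2 = 1 by rw [pow_two]; exact mul_eq_one_iff_eq_inv.2 h2)
    rw [D.hx] at h3
    norm_num at h3
  have hnorm : Subgroup.zpowers i ≤ Subgroup.normalizer (D.V : Set G) := by
    refine Subgroup.zpowers_le.2 (Subgroup.mem_normalizer_iff.2 fun v => ⟨hiN v, fun h => ?_⟩)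
    have := hiN _ h
    rwa [FGB.M11.conj_conj_involution hi] at this
  have hS2 : IsPGroup 2 ↥(D.V ⊔ Subgroup.zpowers i) :=
    (IsPGroup.of_card (n := 2) (by rw [D.card_V]; norm_num) : IsPGroup 2 D.V).to_sup_of_normal_left'
      (IsPGroup.of_card (n := 1) (by rw [Nat.card_zpowers, hi, pow_one])) hnorm
  obtain ⟨S, hS⟩ := hS2.exists_le_sylow
  have hSc : Nat.card S = 8 := by
    simpa using card_sylow_of_eq (k := 3) (m := 315) S (by rw [D.hG]; norm_num) (by norm_num)
  have hrel : D.V.relIndex (S : Subgroup G) = 2 := by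
    have h1 := Subgroup.card_mul_index (D.V.subgroupOf (S : Subgroup G))
    rw [Nat.card_congr (Subgroup.subgroupOfEquivOfLe (le_sup_left.trans hS)).toEquiv, D.card_V, hSc] at h1
    show (D.V.subgroupOf (S : Subgroup G)).index = 2
    omega
  obtain ⟨g, hg, -⟩ := Cfsg.Agent.Invol.thompson_transfer_elem S D.V (le_sup_left.trans hS) hrel 1
    (fun y hy hyV => by
      have : orderOf y ≠ 1 := fun h => hyV (by rw [orderOf_eq_one_iff.1 h]; exact one_mem _)
      have := orderOf_pos y
      norm_num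
      omega)
    t (fun f => by
      rcases (MonoidHom.normal_ker f).eq_bot_or_eq_top with h | h
      · exact absurd ⟨⟨fun a b => (MonoidHom.ker_eq_bot_iff f).1 h (by rw [map_mul, map_mul, mul_comm])⟩⟩ (not_comm D.hG)
      · exact MonoidHom.mem_ker.1 (h ▸ Subgroup.mem_top t))
    (by rw [ht]; norm_num) ⊥ (IsPGroup.of_bot) (fun r hr => by rw [Subgroup.mem_bot.1 hr]; group)
  exact ⟨g, hg⟩

end Frame

/-- All doubly contained elements generate conjugate subgroups. -/
theorem twice_conj (D E : Frame G) : ∃ h : G, h * D.x * h⁻¹ ∈ Subgroup.zpowers E.x := by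
  haveI : Fact (Nat.Prime 2) := ⟨Nat.prime_two⟩
  obtain ⟨v, hv⟩ := exists_prime_orderOf_dvd_card' (G := D.V) 2 (by rw [D.card_V]; norm_num)
  have hvo : orderOf (v : G) = 2 := by rw [Subgroup.orderOf_coe, hv]
  obtain ⟨g, hg⟩ := E.invol_into_V hvo
  refine ⟨g⁻¹, E.unique_three hg ?_ ?_ ?_⟩
  · intro h
    have : (v : G) = 1 := by
      calc (v : G) = g * (g⁻¹ * v * g) * g⁻¹ := by group
        _ = 1 := by rw [h]; group
    rw [this, orderOf_one] at hvo
    omega
  · rw [show g⁻¹ * D.x * g⁻¹⁻¹ = MulAut.conj g⁻¹ D.x by simp, MulEquiv.orderOf_eq, D.hx]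
  · have e : (v : G) * D.x = D.x * v := Subgroup.mem_centralizer_singleton_iff.1 (D.V_le v.2)
    calc g⁻¹ * D.x * g⁻¹⁻¹ * (g⁻¹ * v * g) = g⁻¹ * (D.x * v) * g := by group
      _ = g⁻¹ * (v * D.x) * g := by rw [e]
      _ = g⁻¹ * v * g * (g⁻¹ * D.x * g⁻¹⁻¹) := by group

end Cfsg.Agent.FGB.A7
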