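import Cfsg.Agent.Lib.FGB.CaminaPairChar
import Cfsg.Agent.S4142
import Cfsg.Agent.S0033
import Mathlib.GroupTheory.FiniteAbelian.Duality
import Mathlib.GroupTheory.Nilpotent

/-!
# Structure of Camina pairs

In a Camina pair `(G, N)` at most one prime divides both `|N|` and `|G : N|`; for such a prime `p`
every linear character of `N` has `p`-power order.
-/

namespace Cfsg.Agent.FGB.CaminaPair

open Cfsg.Agent

universe u

variable {G : Type u} [Group G] [Finite G] (N : Subgroup G) [hN : N.Normal]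

variable (hcam : ∀ g : G, g ∉ N → ∀ n ∈ N, ∃ x : G, x * g * x⁻¹ = g * n)

include hcam in
/-- A `p`-element outside `N` centralizes only `p`-elements of `N`. -/
theorem isPElem {p : ℕ} [hp : Fact p.Prime] {g : G} {k : ℕ} (hgk : orderOf g = p ^ k) (hg : g ∉ N)
    {x : G} (hx : x ∈ N) (hgx : Commute g x) : ∃ j : ℕ, orderOf x = p ^ j := by
  by_contra hcon
  push_neg at hcon
  obtain ⟨q, hq, hqx, hqp⟩ : ∃ q : ℕ, q.Prime ∧ q ∣ orderOf x ∧ q ≠ p := by
    by_contra hno
    push_neg at hno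
    exact hcon _ (Nat.eq_prime_pow_of_unique_prime_dvd (orderOf_pos x).ne'
      fun {d} hd hdx => hno d hd hdx)
  set x0 := x ^ (orderOf x / q)
  have hx0 : orderOf x0 = q := by
    rw [orderOf_pow_orderOf_div (orderOf_pos x).ne' hqx]
  have hcop : (orderOf g).Coprime (orderOf x0) := by
    rw [hgk, hx0]
    exact ((Nat.coprime_primes hp.out hq).2 (Ne.symm hqp)).pow_left k
  have h1 := (hgx.pow_right (orderOf x / q)).orderOf_mul_eq_mul_orderOf_of_coprime hcop
  obtain ⟨c, hc⟩ := hcam g hg x0 (N.pow_mem hx _)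
  rw [← hc] at h1
  have h2 : orderOf (c * g * c⁻¹) = orderOf g := by
    rw [← MulAut.conj_apply]; exact MulEquiv.orderOf_eq _ g
  rw [h2, hx0] at h1
  have := Nat.mul_left_cancel (orderOf_pos g) (h1.symm.trans (mul_one _).symm)
  exact hq.ne_one this

include hcam in
/-- A nontrivial element of `N` centralized outside `N` gives a shared prime. -/
theorem exists_shared {x : G} (hx : x ∈ N) (hx1 : x ≠ 1) {g : G} (hg : g ∉ N) (hgx : Commute g x) :
    ∃ p : ℕ, p.Prime ∧ p ∣ Nat.card N ∧ p ∣ N.index := by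
  have hd : orderOf (g : G ⧸ N) ≠ 1 := fun h =>
    hg ((QuotientGroup.eq_one_iff g).1 (orderOf_eq_one_iff.1 h))
  obtain ⟨p, hp, hpd⟩ := Nat.exists_prime_and_dvd hd
  haveI := Fact.mk hp
  refine ⟨p, hp, ?_, hpd.trans (orderOf_dvd_natCard _)⟩
  set k := (orderOf g).factorization p
  have hdvd : orderOf g / p ^ k ∣ orderOf g := Nat.div_dvd_of_dvd (Nat.ordProj_dvd _ p)
  have hord : orderOf (g ^ (orderOf g / p ^ k)) = p ^ k := by
    rw [orderOf_pow_orderOf_div (orderOf_pos g).ne' (Nat.ordProj_dvd _ p)]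
  have hout : g ^ (orderOf g / p ^ k) ∉ N := by
    intro h
    have h' : (g : G ⧸ N) ^ (orderOf g / p ^ k) = 1 := by
      rw [← QuotientGroup.mk_pow]; exact (QuotientGroup.eq_one_iff _).2 h
    exact Nat.not_dvd_ordCompl hp (orderOf_pos g).ne' (hpd.trans (orderOf_dvd_of_pow_eq_one h'))
  obtain ⟨j, hj⟩ := isPElem N hcam hord hout hx (hgx.pow_left _)
  have hj0 : j ≠ 0 := by
    rintro rfl
    exact hx1 (orderOf_eq_one_iff.1 (by simpa using hj))
  calc p ∣ orderOf x := hj ▸ dvd_pow_self p hj0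
    _ ∣ Nat.card N := (Subgroup.orderOf_mk x hx).symm ▸ orderOf_dvd_natCard (⟨x, hx⟩ : N)

include hcam in
/-- For a shared prime the quotient contains two independent commuting elements of order `p`. -/
theorem exists_pair {p : ℕ} [hp : Fact p.Prime] (hpN : p ∣ Nat.card N) (hpi : p ∣ N.index) :
    ∃ a b : G ⧸ N, orderOf a = p ∧ orderOf b = p ∧ Commute a b ∧ b ∉ Subgroup.zpowers a := by
  classical
  by_contra hno
  push_neg at hno
  have hlem : ∀ (k m : ℕ) (s a : G ⧸ N), orderOf s = p ^ k → orderOf a = p ^ m → k ≤ m →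
      Commute s a → s ∈ Subgroup.zpowers a := by
    intro k
    induction k with
    | zero =>
      intro m s a hs _ _ _
      rw [pow_zero, orderOf_eq_one_iff] at hs
      rw [hs]; exact one_mem _
    | succ k ih =>
      intro m s a hs ha hkm hcomm
      have hsp : orderOf (s ^ p) = p ^ k := by
        rw [orderOf_pow_of_dvd hp.out.ne_zero (hs ▸ dvd_pow_self p k.succ_ne_zero), hs, pow_succ,
          Nat.mul_div_cancel _ hp.out.pos]
      obtain ⟨j, hj : a ^ j = s ^ p⟩ :=
        (mem_zpowers_iff_mem_range_orderOf.1 (ih m _ a hsp ha (by omega) (hcomm.pow_left p))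
          |> Finset.mem_image.1 |>.imp fun j h => h.2)
      have hpj : p ∣ j := by
        by_contra hpj
        have h1 : orderOf (a ^ j) = p ^ m := by
          rw [Nat.Coprime.orderOf_pow, ha]
          rw [ha]
          exact ((hp.out.coprime_iff_not_dvd.2 hpj)).pow_left m
        rw [hj, hsp] at h1
        have := Nat.pow_right_injective hp.out.two_le h1
        omega
      obtain ⟨j', rfl⟩ := hpj
      set t := s * (a ^ j')⁻¹ with ht
      have ht1 : t ^ p = 1 := by
        rw [ht, ((hcomm.pow_right j').inv_right).mul_pow, inv_pow, ← pow_mul, mul_comm j', hj,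
          mul_inv_cancel]
      have hmem : t ∈ Subgroup.zpowers a := by
        by_cases ht0 : t = 1
        · rw [ht0]; exact one_mem _
        · have hto : orderOf t = p := orderOf_eq_prime ht1 ht0
          have ha' : orderOf (a ^ (orderOf a / p)) = p :=
            orderOf_pow_orderOf_div (orderOf_pos a).ne'
              (ha ▸ dvd_pow_self p (by omega))
          have hc : Commute t a :=
            hcomm.mul_left ((Commute.refl a).pow_left j').inv_left
          exact Subgroup.zpowers_le.2 (Subgroup.pow_mem _ (Subgroup.mem_zpowers a) _)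
            (hno _ _ ha' hto (hc.pow_right _).symm)
      have : s = t * a ^ j' := by rw [ht, inv_mul_cancel_right]
      rw [this]
      exact mul_mem hmem (Subgroup.pow_mem _ (Subgroup.mem_zpowers a) _)
  -- an element of maximal order
  haveI := Fintype.ofFinite (G ⧸ N)
  obtain ⟨a0, ha0, hmax⟩ := (Finset.univ.filter fun q : G ⧸ N => ∃ k, orderOf q = p ^ k).exists_max_image
    orderOf ⟨1, by simpa using ⟨0, by simp⟩⟩
  simp only [Finset.mem_filter, Finset.mem_univ, true_and] at ha0 hmax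
  obtain ⟨m, hm⟩ := ha0
  have hm0 : m ≠ 0 := by
    rintro rfl
    obtain ⟨c, hc⟩ := exists_prime_orderOf_dvd_card' p (show p ∣ Nat.card (G ⧸ N) from hpi)
    have := hmax c ⟨1, by rw [hc, pow_one]⟩
    rw [hc, hm, pow_zero] at this
    have := hp.out.two_le
    omega
  obtain ⟨g0, rfl⟩ := QuotientGroup.mk_surjective a0
  set k := (orderOf g0).factorization p
  set g := g0 ^ (orderOf g0 / p ^ k) with hgdef
  have hgord : orderOf g = p ^ k :=
    orderOf_pow_orderOf_div (orderOf_pos g0).ne' (Nat.ordProj_dvd _ p)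
  have hmk : orderOf (g : G ⧸ N) = p ^ m := by
    rw [hgdef, QuotientGroup.mk_pow, Nat.Coprime.orderOf_pow, hm]
    rw [hm]
    exact (hp.out.coprime_iff_not_dvd.2 (Nat.not_dvd_ordCompl hp.out (orderOf_pos g0).ne')).pow_left m
  have hg : g ∉ N := fun h => by
    rw [(QuotientGroup.eq_one_iff g).2 h, orderOf_one] at hmk
    exact (Nat.one_lt_pow hm0 hp.out.one_lt).ne hmk
  -- Sylow subgroup of the centralizer in the quotient
  obtain ⟨S⟩ : Nonempty (Sylow p ↥(Subgroup.centralizer ({(g : G ⧸ N)} : Set (G ⧸ N)))) :=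
    Sylow.nonempty
  have hS : Nat.card S ∣ p ^ m := by
    have hle : (S : Subgroup ↥(Subgroup.centralizer ({(g : G ⧸ N)} : Set (G ⧸ N)))).map (Subgroup.subtype _) ≤ Subgroup.zpowers (g : G ⧸ N) := by
      rintro _ ⟨s, hs, rfl⟩
      obtain ⟨j, hj⟩ := (IsPGroup.iff_orderOf.1 S.isPGroup') ⟨s, hs⟩
      rw [Subgroup.orderOf_mk, ← Subgroup.orderOf_coe] at hj
      refine hlem j m _ _ hj hmk ?_ (Subgroup.mem_centralizer_singleton_iff.1 s.2)
      have := hmax _ ⟨j, hj⟩
      rw [hm] at this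
      exact (Nat.pow_le_pow_iff_right hp.out.one_lt).1 (by simpa [hj] using this)
    have := Subgroup.card_dvd_of_le hle
    rwa [Subgroup.card_map_of_injective (Subgroup.subtype_injective _), Nat.card_zpowers, hmk] at this
  have hbound : ∀ K : Subgroup G, IsPGroup p K → K ≤ Subgroup.centralizer ({g} : Set G) →
      Nat.card K ≤ p ^ m := by
    intro K hK hKC
    obtain ⟨j, hj⟩ := hK.exists_card_eq
    have h1 : p ^ j ∣ Nat.card ↥(Subgroup.centralizer ({(g : G ⧸ N)} : Set (G ⧸ N))) := by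
      rw [← (S4142.result N).1 hcam g hg, ← hj]
      exact Subgroup.card_dvd_of_le hKC
    exact Nat.le_of_dvd (pow_pos hp.out.pos m)
      (hj ▸ ((S.pow_dvd_card_of_pow_dvd_card h1).trans hS))
  -- a fixed point in N
  have hgz : IsPGroup p (Subgroup.zpowers g) :=
    IsPGroup.of_card (n := k) (by rw [Nat.card_zpowers, hgord])
  let act : MulAction (Subgroup.zpowers g) N :=
    MulAction.compHom N ((MulAut.conjNormal (H := N)).comp (Subgroup.zpowers g).subtype)
  obtain ⟨z, hz, hz1⟩ : ∃ z ∈ MulAction.fixedPoints (Subgroup.zpowers g) N, z ≠ 1 := by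
    have := hgz.exists_fixed_point_of_prime_dvd_card_of_fixed_point N hpN
      (a := 1) (fun h => map_one (MulAut.conjNormal (H := N) (h : G)))
    obtain ⟨b, hb, hb1⟩ := this
    exact ⟨b, hb, fun h => hb1 h.symm⟩
  have hgzc : Commute g (z : G) := by
    have := congrArg Subtype.val (hz ⟨g, Subgroup.mem_zpowers g⟩)
    change ((MulAut.conjNormal (H := N) g z : N) : G) = z at this
    rw [MulAut.conjNormal_apply] at this
    exact mul_inv_eq_iff_eq_mul.1 this
  obtain ⟨j, hj⟩ := isPElem N hcam hgord hg z.2 hgzc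
  have hzz : IsPGroup p (Subgroup.zpowers (z : G)) :=
    IsPGroup.of_card (n := j) (by rw [Nat.card_zpowers, hj])
  let K := Subgroup.zpowers g ⊔ Subgroup.zpowers (z : G)
  have hKC : K ≤ Subgroup.centralizer ({g} : Set G) :=
    sup_le (Subgroup.zpowers_le.2 (Subgroup.mem_centralizer_singleton_iff.2 rfl))
      (Subgroup.zpowers_le.2 (Subgroup.mem_centralizer_singleton_iff.2 hgzc.symm))
  have hKp : IsPGroup p K := by
    refine IsPGroup.to_sup_of_normal_left' hgz hzz ((Subgroup.zpowers_le).2 ?_)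
    refine Subgroup.centralizer_le_normalizer _ ?_
    rw [Subgroup.mem_centralizer_iff]
    rintro y hy
    obtain ⟨i, rfl⟩ := Subgroup.mem_zpowers_iff.1 hy
    exact (hgzc.zpow_left i).eq
  have hle : Subgroup.zpowers g ≤ K := le_sup_left
  have hmle : p ^ m ≤ orderOf g := by
    rw [← hmk]
    exact Nat.le_of_dvd (orderOf_pos g) (orderOf_map_dvd (QuotientGroup.mk' N) g)
  have heq : Nat.card K ≤ Nat.card (Subgroup.zpowers g) := by
    rw [Nat.card_zpowers]; exact (hbound K hKp hKC).trans hmle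
  have hzmem : (z : G) ∈ Subgroup.zpowers g := by
    rw [Subgroup.eq_of_le_of_card_ge hle heq]
    exact (le_sup_right : Subgroup.zpowers (z : G) ≤ K) (Subgroup.mem_zpowers _)
  obtain ⟨i, hi⟩ := Subgroup.mem_zpowers_iff.1 hzmem
  have hi1 : (g : G ⧸ N) ^ i = 1 := by
    rw [← QuotientGroup.mk_zpow, hi]; exact (QuotientGroup.eq_one_iff _).2 z.2
  have hord : orderOf g = p ^ m := le_antisymm
    ((Nat.card_zpowers g).symm.trans_le (hbound _ hgz
      (Subgroup.zpowers_le.2 (Subgroup.mem_centralizer_singleton_iff.2 rfl)))) hmle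
  have hdi : ((orderOf g : ℕ) : ℤ) ∣ i := by
    rw [hord, ← hmk]; exact orderOf_dvd_iff_zpow_eq_one.2 hi1
  exact hz1 (Subtype.ext (hi.symm.trans (orderOf_dvd_iff_zpow_eq_one.1 hdi)))

/-- Conjugation on linear characters of `N`. -/
noncomputable def conjHom (g : G) : (N →* ℂˣ) →* (N →* ℂˣ) :=
  MonoidHom.compHom' (MulAut.conjNormal (H := N) g).toMonoidHom

theorem conjHom_apply (g : G) (μ : N →* ℂˣ) (n : N) :
    conjHom N g μ n = μ (MulAut.conjNormal (H := N) g n) := rfl

theorem conjHom_mul (g h : G) (μ : N →* ℂˣ) :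
    conjHom N (g * h) μ = conjHom N h (conjHom N g μ) :=
  MonoidHom.ext fun n => by simp only [conjHom_apply, map_mul, MulAut.mul_apply]

theorem conjHom_of_mem {g : G} (hg : g ∈ N) (μ : N →* ℂˣ) : conjHom N g μ = μ :=
  MonoidHom.ext fun n => by
    have h : MulAut.conjNormal (H := N) g n = (⟨g, hg⟩ : N) * n * (⟨g, hg⟩ : N)⁻¹ :=
      Subtype.ext (by simp [MulAut.conjNormal_apply])
    rw [conjHom_apply, h, map_mul, map_mul, map_inv, mul_comm (μ _) (μ n), mul_inv_cancel_right]

theorem conjHom_congr {g h : G} (hgh : (g : G ⧸ N) = h) (μ : N →* ℂˣ) :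
    conjHom N g μ = conjHom N h μ := by
  have hm : g⁻¹ * h ∈ N := QuotientGroup.eq.1 hgh
  conv_rhs => rw [show h = g * (g⁻¹ * h) by group, conjHom_mul, conjHom_of_mem N hm]

/-- Conjugation by a class of the quotient. -/
noncomputable def classHom (q : G ⧸ N) : (N →* ℂˣ) →* (N →* ℂˣ) := conjHom N q.out

theorem classHom_mul (q r : G ⧸ N) (μ : N →* ℂˣ) :
    classHom N (q * r) μ = classHom N r (classHom N q μ) := by
  rw [classHom, classHom, classHom, ← conjHom_mul]
  exact conjHom_congr N (by simp) μ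

theorem classHom_one (μ : N →* ℂˣ) : classHom N 1 μ = μ :=
  conjHom_of_mem N ((QuotientGroup.eq_one_iff _).1 (by simp)) μ

theorem deg_lin (μ : N →* ℂˣ) : CT.deg (fun n : N => (μ n : ℂ)) = 1 := by
  simp [CT.deg]

theorem detOrder_lin (μ : N →* ℂˣ) : Cfsg.detOrder (fun n : N => (μ n : ℂ)) = orderOf μ := by
  rw [← CT.linRep_character, CoprimeExt.detOrder_eq]
  congr 1
  ext n
  rw [CoprimeExt.detHom_apply]
  show LinearMap.det ((μ n : ℂ) • (LinearMap.id : (Fin 1 → ℂ) →ₗ[ℂ] (Fin 1 → ℂ))) = _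
  rw [LinearMap.det_smul, LinearMap.det_id, mul_one, Module.finrank_fin_fun, pow_one]

include hcam in
/-- The product of a linear character of order prime to `p` along a cycle of order `p`. -/
theorem norm_eq_one {p : ℕ} [hp : Fact p.Prime] {q : G ⧸ N} (hq : orderOf q = p) (μ : N →* ℂˣ)
    (hμ : ¬ p ∣ orderOf μ) : ∏ i ∈ Finset.range p, classHom N (q ^ i) μ = 1 := by
  set ν := ∏ i ∈ Finset.range p, classHom N (q ^ i) μ with hν
  have hfix : classHom N q ν = ν := by
    rw [hν, map_prod]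
    simp only [← classHom_mul, ← pow_succ]
    have h1 := Finset.prod_range_succ' (fun i => classHom N (q ^ i) μ) p
    have h2 := Finset.prod_range_succ (fun i => classHom N (q ^ i) μ) p
    have h3 : classHom N (q ^ p) μ = classHom N (q ^ 0) μ := by
      rw [pow_zero, ← hq, pow_orderOf_eq_one]
    rw [h1, h3] at h2
    exact mul_right_cancel h2
  have hνp : ¬ p ∣ orderOf ν := by
    refine fun h => hμ (h.trans (orderOf_dvd_of_pow_eq_one ?_))
    rw [hν, ← Finset.prod_pow]
    exact Finset.prod_eq_one fun i _ => by rw [← map_pow, pow_orderOf_eq_one, map_one]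
  by_contra h1
  haveI := Fintype.ofFinite G
  haveI := Fintype.ofFinite N
  refine not_fixed N hcam ⟨_, CT.isIrrCharacter_lin ν⟩ (fun h => h1 (MonoidHom.ext fun n =>
    Units.ext (congrFun h n))) (by rw [deg_lin]; exact hp.out.not_dvd_one)
    (by rw [detOrder_lin]; exact hνp) (g := q.out) ?_ ?_ ?_
  · intro h
    have : q = 1 := by rw [← QuotientGroup.out_eq' q]; exact (QuotientGroup.eq_one_iff _).2 h
    rw [this, orderOf_one] at hq
    exact hp.out.ne_one hq.symm
  · refine (QuotientGroup.eq_one_iff _).1 ?_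
    rw [QuotientGroup.mk_pow, QuotientGroup.out_eq', ← hq, pow_orderOf_eq_one]
  · funext n
    have := congrArg (fun l : N →* ℂˣ => (l n : ℂ)) hfix
    refine Eq.trans ?_ this
    show (ν ⟨_, _⟩ : ℂ) = (ν (MulAut.conjNormal (H := N) q.out n) : ℂ)
    exact congrArg (fun m : N => (ν m : ℂ)) (Subtype.ext rfl)

include hcam in
/-- Linear characters of order prime to a shared prime are trivial. -/
theorem linear_eq_one {p : ℕ} [hp : Fact p.Prime] (hpN : p ∣ Nat.card N) (hpi : p ∣ N.index)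
    (μ : N →* ℂˣ) (hμ : ¬ p ∣ orderOf μ) : μ = 1 := by
  obtain ⟨a, b, ha, hb, hab, hnot⟩ := exists_pair N hcam hpN hpi
  have hline : ∀ j : ℕ, orderOf (a ^ j * b) = p := fun j => by
    refine orderOf_eq_prime ?_ fun h => hnot ?_
    · rw [(hab.pow_left j).mul_pow, ← pow_mul, mul_comm, pow_mul, ← ha, pow_orderOf_eq_one,
        one_pow, one_mul, ha, ← hb, pow_orderOf_eq_one]
    · rw [← inv_eq_of_mul_eq_one_right h]
      exact inv_mem (Subgroup.pow_mem _ (Subgroup.mem_zpowers a) _)
  have h1 : ∏ j ∈ Finset.range p, ∏ i ∈ Finset.range p, classHom N ((a ^ j * b) ^ i) μ = 1 :=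
    Finset.prod_eq_one fun j _ => norm_eq_one N hcam (hline j) μ hμ
  rw [Finset.prod_comm, Finset.prod_eq_single 0] at h1
  · simp only [pow_zero, classHom_one, Finset.prod_const, Finset.card_range] at h1
    have : orderOf μ = 1 := by
      rcases (Nat.dvd_prime hp.out).1 (orderOf_dvd_of_pow_eq_one h1) with h | h
      · exact h
      · exact absurd (h ▸ dvd_rfl) hμ
    exact orderOf_eq_one_iff.1 this
  · intro i hi hi0
    have hai : orderOf (a ^ i) = p := by
      rw [Nat.Coprime.orderOf_pow, ha]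
      rw [ha]
      exact hp.out.coprime_iff_not_dvd.2 fun h => hi0 (Nat.eq_zero_of_dvd_of_lt h (Finset.mem_range.1 hi))
    calc ∏ j ∈ Finset.range p, classHom N ((a ^ j * b) ^ i) μ
        = ∏ j ∈ Finset.range p, classHom N (b ^ i) (classHom N ((a ^ i) ^ j) μ) :=
          Finset.prod_congr rfl fun j _ => by
            rw [← classHom_mul, (hab.pow_left j).mul_pow, ← pow_mul, ← pow_mul, mul_comm i j]
      _ = 1 := by rw [← map_prod, norm_eq_one N hcam hai μ hμ, map_one]
  · intro h; exact absurd (Finset.mem_range.2 hp.out.pos) h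

include hcam in
/-- A shared prime divides the order of some linear character of `N`. -/
theorem exists_linear {p : ℕ} [hp : Fact p.Prime] (hpN : p ∣ Nat.card N) (hpi : p ∣ N.index) :
    ∃ μ : N →* ℂˣ, μ ≠ 1 ∧ ∃ k, orderOf μ = p ^ k := by
  classical
  by_contra hno
  push_neg at hno
  have hall : ∀ μ : N →* ℂˣ, μ = 1 := by
    intro μ
    have hfin : IsOfFinOrder μ := isOfFinOrder_iff_pow_eq_one.2 ⟨Nat.card N, Nat.card_pos,
      MonoidHom.ext fun n => by rw [MonoidHom.pow_apply, ← map_pow, pow_card_eq_one', map_one]; rfl⟩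
    set k := (orderOf μ).factorization p
    have h0 : orderOf μ ≠ 0 := (orderOf_pos_iff.2 hfin).ne'
    have h1 : μ ^ (p ^ k) = 1 := by
      refine linear_eq_one N hcam hpN hpi _ ?_
      rw [orderOf_pow_of_dvd (pow_ne_zero _ hp.out.ne_zero) (Nat.ordProj_dvd _ p)]
      exact Nat.not_dvd_ordCompl hp.out h0
    obtain ⟨j, -, hj⟩ := (Nat.dvd_prime_pow hp.out).1
      (show orderOf μ ∣ p ^ k by rw [orderOf_dvd_iff_pow_eq_one]; exact h1)
    by_contra h2
    exact hno μ h2 j hj
  obtain ⟨a, -, ha, -⟩ := exists_pair N hcam hpN hpi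
  set g := a.out
  have hg : g ∉ N := fun h => by
    have : a = 1 := by rw [← QuotientGroup.out_eq' a]; exact (QuotientGroup.eq_one_iff _).2 h
    rw [this, orderOf_one] at ha
    exact hp.out.ne_one ha.symm
  have hgp : g ^ p ∈ N := by
    refine (QuotientGroup.eq_one_iff _).1 ?_
    rw [QuotientGroup.mk_pow, QuotientGroup.out_eq', ← ha, pow_orderOf_eq_one]
  haveI := Fintype.ofFinite G
  haveI := Fintype.ofFinite N
  letI := CT.irrFintype N
  let σ : Equiv.Perm (Cfsg.IrrCharacter N) :=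
    { toFun := fun θ => ⟨_, CT.isIrrCharacter_conjFun N g θ.2⟩
      invFun := fun θ => ⟨_, CT.isIrrCharacter_conjFun N g⁻¹ θ.2⟩
      left_inv := fun θ => Subtype.ext (by
        show CT.conjFun N g⁻¹ (CT.conjFun N g (θ : N → ℂ)) = _
        rw [← CT.conjFun_mul, mul_inv_cancel, CT.conjFun_one])
      right_inv := fun θ => Subtype.ext (by
        show CT.conjFun N g (CT.conjFun N g⁻¹ (θ : N → ℂ)) = _
        rw [← CT.conjFun_mul, inv_mul_cancel, CT.conjFun_one]) }
  have hdegσ : ∀ θ, CT.deg ((σ θ : Cfsg.IrrCharacter N) : N → ℂ) = CT.deg (θ : N → ℂ) := fun θ => by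
    show CT.deg (CT.conjFun N g (θ : N → ℂ)) = _
    have h1 : CT.conjFun N g (θ : N → ℂ) 1 = (θ : N → ℂ) 1 :=
      congrArg (θ : N → ℂ) (Subtype.ext (by simp))
    simp only [CT.deg, h1]
  have hpowσ : ∀ (n : ℕ) θ, (((σ ^ n) θ : Cfsg.IrrCharacter N) : N → ℂ) =
      CT.conjFun N (g ^ n) (θ : N → ℂ) := by
    intro n
    induction n with
    | zero => intro θ; rw [pow_zero, pow_zero, CT.conjFun_one]; rfl
    | succ n ih =>
      intro θ
      rw [pow_succ', pow_succ, CT.conjFun_mul]
      exact congrArg (CT.conjFun N g) (ih θ)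
  have hσp : σ ^ p = 1 := Equiv.ext fun θ => Subtype.ext (by
    rw [hpowσ, CT.conjFun_of_mem N (CT.isClassFunction_of_isIrr θ.2) hgp]; rfl)
  have hσfix : ∀ θ : Cfsg.IrrCharacter N, (θ : N → ℂ) ≠ (fun _ => 1) →
      ¬ p ∣ CT.deg (θ : N → ℂ) → σ θ ≠ θ := by
    intro θ h1 h2 h3
    refine not_fixed N hcam θ h1 h2 ?_ hg hgp (congrArg Subtype.val h3)
    obtain ⟨θ', d, ρ, hρ, rfl⟩ := θ
    rw [CoprimeExt.detOrder_eq, hall (CoprimeExt.detHom ρ), orderOf_one]
    exact hp.out.not_dvd_one
  have hfib : ∀ d : ℕ, ¬ p ∣ d → p ∣ (Finset.univ.filter fun θ : Cfsg.IrrCharacter N =>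
      θ ≠ CT.trivIrr N ∧ CT.deg (θ : N → ℂ) = d).card := by
    intro d hd
    let P : Cfsg.IrrCharacter N → Prop := fun θ => θ ≠ CT.trivIrr N ∧ CT.deg (θ : N → ℂ) = d
    have hP : ∀ θ, P θ ↔ P (σ θ) := by
      intro θ
      refine and_congr (not_congr ?_) (by rw [hdegσ])
      constructor
      · intro h; rw [h]; exact Subtype.ext (funext fun n => rfl)
      · intro h
        apply σ.injective
        rw [h]; exact Subtype.ext (funext fun n => rfl)
    let τ : Equiv.Perm {θ // P θ} := σ.subtypePerm (fun θ => (hP θ).symm)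
    have hτ : τ ^ p = 1 := by
      refine Equiv.ext fun θ => Subtype.ext ?_
      simp only [τ, Equiv.Perm.subtypePerm_pow, Equiv.Perm.subtypePerm_apply, hσp]
      rfl
    have hτp : IsPGroup p (Subgroup.zpowers τ) := by
      obtain ⟨j, -, hj⟩ := (Nat.dvd_prime_pow hp.out).1 (show orderOf τ ∣ p ^ 1 by
        rw [pow_one]; exact orderOf_dvd_of_pow_eq_one hτ)
      exact IsPGroup.of_card (n := j) (by rw [Nat.card_zpowers, hj])
    have hmod := hτp.card_modEq_card_fixedPoints {θ // P θ}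
    have hempty : IsEmpty (MulAction.fixedPoints (Subgroup.zpowers τ) {θ // P θ}) := by
      refine ⟨fun ⟨θ, hθ⟩ => hσfix θ.1 (fun h => θ.2.1 (Subtype.ext h)) ?_ ?_⟩
      · rw [θ.2.2]; exact hd
      · exact congrArg Subtype.val (hθ ⟨τ, Subgroup.mem_zpowers τ⟩)
    rw [Nat.card_of_isEmpty (α := MulAction.fixedPoints (Subgroup.zpowers τ) {θ // P θ}),
      Nat.modEq_zero_iff_dvd, Nat.card_eq_fintype_card, Fintype.card_subtype] at hmod
    exact hmod
  have hsum : ∑ θ : Cfsg.IrrCharacter N, CT.deg (θ : N → ℂ) ^ 2 = Nat.card N := by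
    have h := CT.sum_degree_sq (G := N)
    simp only [fun θ : Cfsg.IrrCharacter N => CT.deg_eq (CT.isCharacter_of_isIrr θ.2)] at h
    exact_mod_cast h
  rw [← Finset.add_sum_erase _ _ (Finset.mem_univ (CT.trivIrr N)),
    show CT.deg ((CT.trivIrr N : Cfsg.IrrCharacter N) : N → ℂ) = 1 by simp [CT.deg, CT.trivIrr],
    one_pow] at hsum
  have hrest : p ∣ ∑ θ ∈ Finset.univ.erase (CT.trivIrr N), CT.deg (θ : N → ℂ) ^ 2 := by
    rw [← Finset.sum_fiberwise_of_maps_to (g := fun θ : Cfsg.IrrCharacter N => CT.deg (θ : N → ℂ))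
      (t := (Finset.univ.erase (CT.trivIrr N)).image fun θ : Cfsg.IrrCharacter N => CT.deg (θ : N → ℂ))
      (fun θ hθ => Finset.mem_image_of_mem _ hθ)]
    refine Finset.dvd_sum fun d _ => ?_
    rw [Finset.sum_congr rfl (g := fun _ => d ^ 2) fun θ hθ => by rw [(Finset.mem_filter.1 hθ).2],
      Finset.sum_const, smul_eq_mul]
    by_cases hd : p ∣ d
    · exact Dvd.dvd.mul_left (dvd_pow hd two_ne_zero) _
    · refine Dvd.dvd.mul_right ?_ _
      rw [show ((Finset.univ.erase (CT.trivIrr N)).filter fun θ : Cfsg.IrrCharacter N =>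
          CT.deg (θ : N → ℂ) = d) = Finset.univ.filter fun θ : Cfsg.IrrCharacter N =>
          θ ≠ CT.trivIrr N ∧ CT.deg (θ : N → ℂ) = d by ext θ; simp]
      exact hfib d hd
  rw [← hsum] at hpN
  exact hp.out.not_dvd_one ((Nat.dvd_add_left hrest).1 hpN)

end Cfsg.Agent.FGB.CaminaPair
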