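import Cfsg.Agent.Lib.CT.GallagherExt
import Cfsg.Agent.Lib.CT.RelCorrBase
import Cfsg.Agent.Lib.CoprimeExt.Gallagher

/-!
# Characters of a Camina pair

`(G, N)` is a Camina pair when every element outside `N` is conjugate to every element of its
coset.  An irreducible non-principal character of `N` whose degree and determinant order are
prime to `p` has inertia group with trivial Sylow `p`-subgroup over `N`.
-/

namespace Cfsg.Agent.FGB.CaminaPair

open Cfsg.Agent
open scoped ComplexConjugate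

universe u

variable {G : Type u} [Group G] [Fintype G] (N : Subgroup G) [hN : N.Normal] [Fintype N]

theorem vanish (hcam : ∀ g : G, g ∉ N → ∀ n ∈ N, ∃ x : G, x * g * x⁻¹ = g * n)
    {χ : G → ℂ} (hχ : IsIrrCharacter G χ)
    (h1 : classInner (fun n : N => χ n) (fun _ => 1) = 0) {g : G} (hg : g ∉ N) : χ g = 0 := by
  have hs := CT.GallagherExt.coset_sum_eq_zero N hχ h1 g
  have hv : ∀ n : N, χ ((n : G) * g) = χ g := by
    intro n
    have hm : g⁻¹ * n * g ∈ N := by simpa using hN.conj_mem n n.2 g⁻¹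
    obtain ⟨x, hx⟩ := hcam g hg _ hm
    have h2 : x * g * x⁻¹ = (n : G) * g := by rw [hx]; group
    exact ((CT.isClassFunction_isConj (CT.isClassFunction_of_isIrr hχ)
      (isConj_iff.2 ⟨x, h2⟩))).symm
  simp only [hv, Finset.sum_const, Finset.card_univ, nsmul_eq_mul, mul_eq_zero, Nat.cast_eq_zero,
    Fintype.card_ne_zero, false_or] at hs
  exact hs

/-- The key vanishing consequence: no element outside `N`, of `p`-power order modulo `N`, fixes a
non-principal character of `N` with degree and determinant order prime to `p`. -/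
theorem not_fixed (hcam : ∀ g : G, g ∉ N → ∀ n ∈ N, ∃ x : G, x * g * x⁻¹ = g * n)
    {p : ℕ} [hp : Fact p.Prime] (θ : Cfsg.IrrCharacter N) (hθ1 : (θ : N → ℂ) ≠ fun _ => 1)
    (hdeg : ¬ p ∣ CT.deg (θ : N → ℂ)) (hdet : ¬ p ∣ Cfsg.detOrder (θ : N → ℂ))
    {g : G} (hg : g ∉ N) (hgp : g ^ p ∈ N)
    (hfix : CT.conjFun N g (θ : N → ℂ) = (θ : N → ℂ)) : False := by
  classical
  obtain ⟨χ, hχ⟩ := CT.exists_irr_over N θ.2
  have hχN : classInner (fun n : N => (χ : G → ℂ) n) (fun _ => 1) = 0 := by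
    rw [CT.clifford N χ.2 θ.2 hχ, CT.classInner_smul_left, CT.classInner_sum_left,
      Finset.sum_eq_zero, mul_zero]
    intro ψ hψ
    obtain ⟨a, rfl⟩ := (CT.mem_conjOrbit N).1 hψ
    refine CT.irr_inner_of_ne (CT.isIrrCharacter_conjFun N a θ.2) CT.isIrrCharacter_one fun he => ?_
    refine hθ1 ?_
    have := congrArg (CT.conjFun N a⁻¹) he
    rw [← CT.conjFun_mul] at this
    rw [mul_inv_cancel, CT.conjFun_one] at this
    exact this.trans rfl
  have hvan : ∀ x : G, x ∉ N → (χ : G → ℂ) x = 0 := fun x hx => vanish N hcam χ.2 hχN hx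
  set e := CT.mult (fun n : N => (χ : G → ℂ) n) (θ : N → ℂ) with he
  have hres := CT.isCharacter_restrict N (CT.isCharacter_of_isIrr χ.2)
  have hee : classInner (fun n : N => (χ : G → ℂ) n) (θ : N → ℂ) = (e : ℂ) :=
    CT.mult_spec hres (CT.isCharacter_of_isIrr θ.2)
  set T := CT.inertia N (θ : N → ℂ) with hT
  have hNT : N ≤ T := CT.le_inertia N (CT.isClassFunction_of_isIrr θ.2)
  have hnorm : classInner (fun n : N => (χ : G → ℂ) n) (fun n : N => (χ : G → ℂ) n) =
      (e : ℂ) ^ 2 * (T.index : ℂ) := by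
    have horth : ∀ ψ ∈ CT.conjOrbit N (θ : N → ℂ),
        classInner (fun n : N => (χ : G → ℂ) n) ψ = (e : ℂ) := by
      intro ψ hψ
      obtain ⟨a, rfl⟩ := (CT.mem_conjOrbit N).1 hψ
      rw [CT.classInner_restrict_conjFun N (CT.isClassFunction_of_isIrr χ.2), hee]
    conv_lhs => arg 2; rw [CT.clifford N χ.2 θ.2 hχ]
    rw [CT.classInner_smul_right, CT.classInner_sum_right, Finset.sum_congr rfl horth,
      Finset.sum_const, CT.card_conjOrbit, hee, map_natCast, nsmul_eq_mul, ← hT]
    ring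
  have he2 : e ^ 2 = N.relIndex T := by
    have h1 := CT.classInner_self_eq_sum (χ : G → ℂ)
    rw [CT.irr_inner_self χ.2, mul_one,
      ← Finset.sum_subset (Finset.subset_univ (Finset.univ.filter fun x => x ∈ N))
        (fun x _ hx => by rw [hvan x (by simpa using hx), zero_mul]),
      Finset.sum_subtype (Finset.univ.filter fun x => x ∈ N) (p := fun x => x ∈ N) (fun x => by simp),
      ← CT.classInner_self_eq_sum (fun n : N => (χ : G → ℂ) n), hnorm, ← N.card_mul_index,
      ← Subgroup.relIndex_mul_index hNT] at h1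
    push_cast at h1
    have h3 := mul_left_cancel₀ (Nat.cast_ne_zero.2 (Nat.card_pos (α := N)).ne') h1
    exact_mod_cast (mul_right_cancel₀ (Nat.cast_ne_zero.2 T.index_ne_zero_of_finite) h3).symm
  -- a Sylow subgroup over N
  obtain ⟨Sb⟩ : Nonempty (Sylow p ↥(T.map (QuotientGroup.mk' N))) := Sylow.nonempty
  let S : Subgroup (G ⧸ N) := (Sb : Subgroup _).map (T.map (QuotientGroup.mk' N)).subtype
  let V : Subgroup G := S.comap (QuotientGroup.mk' N)
  have hNV : N ≤ V := fun x hx => by
    show QuotientGroup.mk' N x ∈ S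
    rw [show QuotientGroup.mk' N x = 1 from (QuotientGroup.eq_one_iff x).2 hx]
    exact S.one_mem
  have hVT : V ≤ T := by
    intro x hx
    obtain ⟨y, hy, hxy⟩ := Subgroup.map_subtype_le _ (Subgroup.mem_comap.1 hx)
    have : y⁻¹ * x ∈ N := QuotientGroup.eq.1 hxy
    simpa using T.mul_mem hy (hNT this)
  have hcardT : Nat.card ↥(T.map (QuotientGroup.mk' N)) = N.relIndex T := by
    have h := Subgroup.relIndex_comap (⊥ : Subgroup (G ⧸ N)) (QuotientGroup.mk' N) T
    rw [MonoidHom.comap_bot, QuotientGroup.ker_mk', Subgroup.relIndex_bot_left] at h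
    exact h.symm
  have hcardS : Nat.card S = p ^ (N.relIndex T).factorization p := by
    show Nat.card ↥((Sb : Subgroup ↥(T.map (QuotientGroup.mk' N))).map _) = _
    rw [Subgroup.card_map_of_injective (Subgroup.subtype_injective _), Sb.card_eq_multiplicity,
      hcardT]
  have hindex : (N.subgroupOf V).index = p ^ (N.relIndex T).factorization p := by
    rw [show (N.subgroupOf V).index = N.relIndex V from rfl, ← hcardS]
    have h := Subgroup.relIndex_comap (⊥ : Subgroup (G ⧸ N)) (QuotientGroup.mk' N) V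
    rw [MonoidHom.comap_bot, QuotientGroup.ker_mk', Subgroup.relIndex_bot_left,
      Subgroup.map_comap_eq_self_of_surjective (QuotientGroup.mk'_surjective N)] at h
    exact h
  set v := (N.relIndex T).factorization p with hv
  have hne : N.relIndex T ≠ 0 := Subgroup.index_ne_zero_of_finite
  have hv0 : v ≠ 0 := by
    intro h0
    have hgT : QuotientGroup.mk' N g ∈ T.map (QuotientGroup.mk' N) :=
      Subgroup.mem_map_of_mem _ hfix
    have hord : orderOf (QuotientGroup.mk' N g) = p := by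
      refine orderOf_eq_prime ?_ fun h => hg ((QuotientGroup.eq_one_iff g).1 h)
      rw [← map_pow]
      exact (QuotientGroup.eq_one_iff _).2 hgp
    have hpd : p ∣ N.relIndex T := by
      rw [← hcardT, ← hord]
      exact (Subgroup.orderOf_mk _ hgT).symm ▸ orderOf_dvd_natCard (⟨_, hgT⟩ : ↥(T.map (QuotientGroup.mk' N)))
    exact (Nat.Prime.factorization_pos_of_dvd hp.out hne hpd).ne' h0
  let N' : Subgroup V := N.subgroupOf V
  haveI : Fintype V := Fintype.ofFinite _
  haveI : Fintype N' := Fintype.ofFinite _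
  let j : N' ≃* N := Subgroup.subgroupOfEquivOfLe hNV
  have hθ' : IsIrrCharacter N' (fun m => (θ : N → ℂ) (j m)) :=
    CT.isIrrCharacter_comp j.toMonoidHom j.surjective θ.2
  have hinv : ∀ (a : V) (m : N'), (fun m => (θ : N → ℂ) (j m))
      ⟨a * m * a⁻¹, (inferInstance : N'.Normal).conj_mem m m.2 a⟩ =
      (fun m => (θ : N → ℂ) (j m)) m := fun a m =>
    congrFun (show CT.conjFun N (a : G) (θ : N → ℂ) = (θ : N → ℂ) from hVT a.2) (j m)
  have hcop : Nat.Coprime N'.index (CT.deg (fun m => (θ : N → ℂ) (j m))) := by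
    rw [show N'.index = p ^ v from hindex, show CT.deg (fun m => (θ : N → ℂ) (j m)) = CT.deg (θ : N → ℂ) by
      rw [CT.deg, CT.deg, map_one]]
    exact (hp.out.coprime_iff_not_dvd.2 hdeg).pow_left v
  have hdo : Nat.Coprime N'.index (Cfsg.detOrder (fun m => (θ : N → ℂ) (j m))) := by
    rw [show N'.index = p ^ v from hindex]
    exact Nat.Coprime.coprime_dvd_right
      (RelCorr.detOrder_comp_dvd j.toMonoidHom (CT.isCharacter_of_isIrr θ.2))
      ((hp.out.coprime_iff_not_dvd.2 hdet).pow_left v)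
  obtain ⟨ψ, ⟨hψ, -⟩, -⟩ := CoprimeExt.exists_coprime_ext N' ⟨_, hθ'⟩ hinv hcop hdo
  -- the inner product over V
  obtain ⟨k, hk⟩ := CT.classInner_character_nat
    (CT.isCharacter_restrict V (CT.isCharacter_of_isIrr χ.2)) (CT.isCharacter_of_isIrr ψ.2)
  rw [classInner, ← Finset.sum_subset (Finset.subset_univ (Finset.univ.filter fun x : V => (x : G) ∈ N))
      (fun x _ hx => by rw [hvan x (by simpa using hx), zero_mul]),
    Finset.sum_subtype (Finset.univ.filter fun x : V => (x : G) ∈ N) (p := fun x => x ∈ N')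
      (fun x => by simp [N', Subgroup.mem_subgroupOf])] at hk
  rw [Fintype.sum_equiv j.toEquiv (fun m : N' => (χ : G → ℂ) ((m : V) : G) * conj ((ψ : V → ℂ) m))
    (fun n : N => (χ : G → ℂ) n * conj ((θ : N → ℂ) n)) (fun m => by rw [hψ m]; rfl)] at hk
  have hee' : (Nat.card N : ℂ) * (e : ℂ) = ∑ n : N, (χ : G → ℂ) n * conj ((θ : N → ℂ) n) := by
    rw [← hee, classInner, mul_inv_cancel_left₀ (Nat.cast_ne_zero.2 Nat.card_pos.ne')]
  have hcardV : Nat.card V = p ^ v * Nat.card N := by
    rw [← hindex, ← Nat.card_congr j.toEquiv]; exact (N'.index_mul_card).symm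
  rw [← hee', hcardV] at hk
  push_cast at hk
  have hk' : (e : ℂ) = ((p ^ v * k : ℕ) : ℂ) := by
    push_cast
    rw [← hk]
    have : (p : ℂ) ^ v ≠ 0 := pow_ne_zero _ (Nat.cast_ne_zero.2 hp.out.ne_zero)
    have : (Nat.card N : ℂ) ≠ 0 := Nat.cast_ne_zero.2 Nat.card_pos.ne'
    field_simp
  have hk'' : e = p ^ v * k := by exact_mod_cast hk'
  have hdvd : p ^ (2 * v) ∣ N.relIndex T := ⟨k ^ 2, by rw [← he2, hk'']; ring⟩
  have := (hp.out.pow_dvd_iff_le_factorization hne).1 hdvd
  omega

end Cfsg.Agent.FGB.CaminaPair
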