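import Cfsg.Agent.Lib.FGB.CoprimeFixedLinear
import Cfsg.Agent.Lib.Basics.CoprimeAction
import Cfsg.Agent.Lib.Basics.Frattini
import Cfsg.Agent.Lib.LocalEvenA.FStarComm

/-!
# The product of the fixed-point orders of a coprime action of a `p`-group
-/

set_option autoImplicit false
set_option linter.all false

namespace Cfsg.Agent.FGB

open Subgroup Module
open scoped commutatorElement

universe u v

variable {G : Type u} [Group G] [Finite G] {p q : ℕ} [hp : Fact p.Prime] [hq : Fact q.Prime]

/-- The order of the fixed points of `A` in `K`. -/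
noncomputable def fixCard (K A : Subgroup G) : ℕ := Nat.card ↥(K ⊓ centralizer (A : Set G))

theorem fixed_product_qgroup_aux (hpq : q ≠ p) {P : Type v} [Group P] [Fintype P] (hP : IsPGroup p P)
    (f : P →* G) : ∀ (N : ℕ) (K : Subgroup G), Nat.card K = N → IsPGroup q K →
      f.range ≤ normalizer (K : Set G) →
      ∏ x : P, fixCard K (zpowers (f x)) ^ p ∣
        Nat.card K ^ Nat.card P * fixCard K f.range ^ ((p - 1) * Nat.card P) := by
  intro N
  induction N using Nat.strong_induction_on with
  | _ N ih =>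
  intro K hN hK hfK
  classical
  by_cases hK1 : K = ⊥
  · subst hK1
    have hone : ∀ A : Subgroup G, fixCard (⊥ : Subgroup G) A = 1 := fun A => by
      rw [fixCard, bot_inf_eq, card_bot]
    simp [hone]
  haveI : Nontrivial K := (nontrivial_iff_ne_bot _).mpr hK1
  haveI : Group.IsNilpotent K := hK.isNilpotent
  set Φ : Subgroup G := (frattini K).map K.subtype with hΦ
  have hΦK : Φ ≤ K := map_subtype_le _
  have hKΦ : K ≤ normalizer (Φ : Set G) :=
    le_normalizer.trans (LocalEvenA.normalizer_le_normalizer_map_char _)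
  have hfΦ : f.range ≤ normalizer (Φ : Set G) :=
    hfK.trans (LocalEvenA.normalizer_le_normalizer_map_char _)
  have hΦlt : Nat.card Φ < N := by
    rw [← hN]
    refine lt_of_le_of_ne (Nat.le_of_dvd Nat.card_pos (card_dvd_of_le hΦK)) fun h => ?_
    have h1 : frattini K = ⊤ := by
      refine map_injective K.subtype_injective ?_
      rw [← MonoidHom.range_eq_map, range_subtype]
      exact eq_of_le_of_card_ge hΦK h.ge
    exact (bot_ne_top (α := Subgroup K)) (frattini_nongenerating (by rw [h1, bot_sup_eq]))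
  have hih := ih _ hΦlt Φ rfl (hK.to_le hΦK) hfΦ
  haveI hΦn : (Φ.subgroupOf K).Normal := ⟨fun t ht g => mem_subgroupOf.mpr
    ((mem_normalizer_iff.mp (hKΦ g.2) _).mp (mem_subgroupOf.mp ht))⟩
  letI : CommGroup (↥K ⧸ Φ.subgroupOf K) :=
    { (inferInstance : Group (↥K ⧸ Φ.subgroupOf K)) with
      mul_comm := by
        intro a b
        induction a using QuotientGroup.induction_on with
        | H a =>
          induction b using QuotientGroup.induction_on with
          | H b =>
            rw [← commutatorElement_eq_one_iff_mul_comm]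
            refine (QuotientGroup.eq_one_iff (N := Φ.subgroupOf K) ⁅a, b⁆).mpr ?_
            exact mem_subgroupOf.mpr ⟨⁅a, b⁆,
              Basics.commutator_le_frattini (commutator_mem_commutator (mem_top _) (mem_top _)), rfl⟩ }
  have hMq : ∀ m : ↥K ⧸ Φ.subgroupOf K, m ^ q = 1 := by
    intro m
    induction m using QuotientGroup.induction_on with
    | H a =>
      rw [← QuotientGroup.mk_pow, QuotientGroup.eq_one_iff]
      exact mem_subgroupOf.mpr ⟨a ^ q, Basics.pow_mem_frattini hK a, rfl⟩
  haveI : Module (ZMod q) (Additive (↥K ⧸ Φ.subgroupOf K)) :=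
    AddCommGroup.zmodModule fun x => hMq x.toMul
  haveI : Module.Finite (ZMod q) (Additive (↥K ⧸ Φ.subgroupOf K)) := Module.Finite.of_finite
  let cj : P → (↥K →* ↥K) := fun g =>
    { toFun := fun t => ⟨f g * t * (f g)⁻¹, (mem_normalizer_iff.mp (hfK ⟨g, rfl⟩) (t : G)).mp t.2⟩
      map_one' := Subtype.ext (by simp)
      map_mul' := fun a b => Subtype.ext (by simp [mul_assoc]) }
  let π : P → ((↥K ⧸ Φ.subgroupOf K) →* (↥K ⧸ Φ.subgroupOf K)) := fun g =>
    QuotientGroup.map _ _ (cj g) fun t ht => mem_comap.mpr (mem_subgroupOf.mpr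
      ((mem_normalizer_iff.mp (hfΦ ⟨g, rfl⟩) _).mp (mem_subgroupOf.mp ht)))
  have hπone : ∀ m, π 1 m = m := by
    intro m
    induction m using QuotientGroup.induction_on with
    | H t => exact congrArg QuotientGroup.mk (Subtype.ext (by simp [cj]))
  have hπmul : ∀ a b m, π (a * b) m = π a (π b m) := by
    intro a b m
    induction m using QuotientGroup.induction_on with
    | H t => exact congrArg QuotientGroup.mk (Subtype.ext (by simp [cj, mul_assoc]))
  let ρ : P →* Module.End (ZMod q) (Additive (↥K ⧸ Φ.subgroupOf K)) :=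
    { toFun := fun g => (MonoidHom.toAdditive (π g)).toZModLinearMap q
      map_one' := LinearMap.ext fun v => by
        show (MonoidHom.toAdditive (π 1)) v = v
        exact congrArg Additive.ofMul (hπone v.toMul)
      map_mul' := fun a b => LinearMap.ext fun v => by
        show (MonoidHom.toAdditive (π (a * b))) v =
          (MonoidHom.toAdditive (π a)) ((MonoidHom.toAdditive (π b)) v)
        exact congrArg Additive.ofMul (hπmul a b v.toMul) }
  -- the reduction map on fixed points
  let red : (A : Subgroup G) → (↥(K ⊓ centralizer (A : Set G)) →* (↥K ⧸ Φ.subgroupOf K)) := fun A =>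
    (QuotientGroup.mk' _).comp (Subgroup.inclusion inf_le_left)
  have hred : ∀ A : Subgroup G,
      fixCard K A = fixCard Φ A * Nat.card (red A).range := by
    intro A
    rw [fixCard, ← (red A).ker.card_mul_index, index_ker]
    congr 1
    refine Nat.card_congr
      { toFun := fun x => ⟨(x.1 : G), mem_inf.mpr ⟨?_, (mem_inf.mp x.1.2).2⟩⟩
        invFun := fun x => ⟨⟨x.1, mem_inf.mpr ⟨hΦK (mem_inf.mp x.2).1, (mem_inf.mp x.2).2⟩⟩, ?_⟩
        left_inv := fun x => rfl
        right_inv := fun x => rfl }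
    · exact mem_subgroupOf.mp ((QuotientGroup.eq_one_iff (N := Φ.subgroupOf K)
        (Subgroup.inclusion inf_le_left x.1)).mp (MonoidHom.mem_ker.mp x.2))
    · exact MonoidHom.mem_ker.mpr ((QuotientGroup.eq_one_iff _).mpr
        (mem_subgroupOf.mpr (mem_inf.mp x.2).1))
  have hpowcard : ∀ S : Submodule (ZMod q) (Additive (↥K ⧸ Φ.subgroupOf K)),
      Nat.card ↥S = q ^ finrank (ZMod q) ↥S := fun S => by
    rw [Module.natCard_eq_pow_finrank (K := ZMod q) (V := ↥S), Nat.card_zmod]
  have hrangecard : ∀ A : Subgroup G, ∃ r, Nat.card (red A).range = q ^ r := fun A =>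
    IsPGroup.iff_card.mp ((hK.to_quotient _).to_subgroup _)
  choose r hr using hrangecard
  have hup : ∀ x : P, r (zpowers (f x)) ≤ finrank (ZMod q) (LinearMap.ker (ρ x - 1)) := by
    intro x
    rw [← Nat.pow_le_pow_iff_right hq.out.one_lt, ← hr, ← hpowcard]
    refine Nat.card_le_card_of_injective
      (fun m => ⟨Additive.ofMul (m : ↥K ⧸ Φ.subgroupOf K), ?_⟩) fun a b h => Subtype.ext ?_
    · obtain ⟨⟨k, hk⟩, hkm⟩ := m.2
      rw [LinearMap.mem_ker, LinearMap.sub_apply, sub_eq_zero, Module.End.one_apply]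
      refine Additive.toMul.injective ?_
      show π x (m : ↥K ⧸ Φ.subgroupOf K) = m
      rw [← hkm]
      refine congrArg QuotientGroup.mk (Subtype.ext ?_)
      show f x * k * (f x)⁻¹ = k
      rw [mem_centralizer_iff.mp (mem_inf.mp hk).2 (f x) (mem_zpowers _), mul_inv_cancel_right]
    · have h' := congrArg Subtype.val h
      exact Additive.ofMul.injective h'
  have hdown : finrank (ZMod q) (⨅ x : P, LinearMap.ker (ρ x - 1) :
      Submodule (ZMod q) (Additive (↥K ⧸ Φ.subgroupOf K))) ≤ r f.range := by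
    rw [← Nat.pow_le_pow_iff_right hq.out.one_lt, ← hr, ← hpowcard]
    refine Nat.card_le_card_of_injective (fun v => ⟨v.1.toMul, ?_⟩) fun a b h =>
      Subtype.ext (by
        have h' := congrArg Subtype.val h
        exact Additive.toMul.injective h')
    obtain ⟨⟨t, htK⟩, ht⟩ := QuotientGroup.mk'_surjective _ v.1.toMul
    have hcop' : (Nat.card f.range).Coprime (Nat.card K) := by
      obtain ⟨i, hi⟩ := IsPGroup.iff_card.mp (hP.of_surjective f.rangeRestrict f.rangeRestrict_surjective)
      obtain ⟨j, hj⟩ := IsPGroup.iff_card.mp hK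
      rw [hi, hj]
      exact Nat.Coprime.pow i j ((Nat.coprime_primes hp.out hq.out).mpr hpq.symm)
    have hfix' : ∀ g ∈ f.range, g * t * g⁻¹ * t⁻¹ ∈ Φ := by
      rintro _ ⟨x, rfl⟩
      have h := (Submodule.mem_iInf _).mp v.2 x
      rw [LinearMap.mem_ker, LinearMap.sub_apply, sub_eq_zero, Module.End.one_apply] at h
      have h' : π x v.1.toMul = v.1.toMul := congrArg Additive.toMul h
      rw [← ht] at h'
      have h2 := QuotientGroup.eq_iff_div_mem.mp h'
      rw [mem_subgroupOf, div_eq_mul_inv] at h2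
      exact h2
    obtain ⟨c, hc, hcΦ⟩ := Basics.exists_inf_centralizer_mem_coset f.range K Φ hΦK hKΦ hfΦ hcop'
      (Or.inr inferInstance) t htK hfix'
    refine ⟨⟨c, hc⟩, ?_⟩
    rw [← ht]
    exact (QuotientGroup.eq.mpr (mem_subgroupOf.mpr (show t⁻¹ * c ∈ Φ from hcΦ))).symm
  have hV : Nat.card K = Nat.card Φ * q ^ finrank (ZMod q) (Additive (↥K ⧸ Φ.subgroupOf K)) := by
    rw [show (q : ℕ) ^ finrank (ZMod q) (Additive (↥K ⧸ Φ.subgroupOf K)) =
        Nat.card (Additive (↥K ⧸ Φ.subgroupOf K)) by
      rw [Module.natCard_eq_pow_finrank (K := ZMod q), Nat.card_zmod],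
      Nat.card_congr Additive.toMul, ← (Φ.subgroupOf K).card_mul_index, ← Subgroup.index_eq_card]
    congr 1
    exact Nat.card_congr (subgroupOfEquivOfLe hΦK).toEquiv
  have hlin := fixed_bound (q := q) hpq hP ρ
  have hexp : p * ∑ x : P, r (zpowers (f x)) ≤
      Nat.card P * finrank (ZMod q) (Additive (↥K ⧸ Φ.subgroupOf K)) +
        (p - 1) * Nat.card P * r f.range :=
    ((Nat.mul_le_mul_left p (Finset.sum_le_sum fun x _ => hup x)).trans hlin).trans
      (Nat.add_le_add_left (Nat.mul_le_mul_left _ hdown) _)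
  have hprod : ∏ x : P, fixCard K (zpowers (f x)) ^ p =
      (∏ x : P, fixCard Φ (zpowers (f x)) ^ p) * q ^ (p * ∑ x : P, r (zpowers (f x))) := by
    rw [Finset.mul_sum, ← Finset.prod_pow_eq_pow_sum, ← Finset.prod_mul_distrib]
    refine Finset.prod_congr rfl fun x _ => ?_
    rw [hred, hr, mul_pow, ← pow_mul, mul_comm p]
  rw [hprod, hred f.range, hr, hV, mul_pow, mul_pow, ← pow_mul, ← pow_mul,
    mul_mul_mul_comm, ← pow_add]
  refine mul_dvd_mul hih (pow_dvd_pow q ?_)
  refine hexp.trans (le_of_eq ?_)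
  ring

/-- The orders of the fixed points of the elements of a `p`-group acting coprimely. -/
theorem fixed_product {P : Type v} [Group P] [Fintype P] (hP : IsPGroup p P) (f : P →* G)
    (K : Subgroup G) (hfK : f.range ≤ normalizer (K : Set G)) (hcop : (Nat.card K).Coprime p) :
    ∏ x : P, fixCard K (zpowers (f x)) ^ p ∣
      Nat.card K ^ Nat.card P * fixCard K f.range ^ ((p - 1) * Nat.card P) := by
  classical
  have hpos : ∀ A : Subgroup G, fixCard K A ≠ 0 := fun A => Nat.card_pos.ne'
  refine (Nat.factorization_prime_le_iff_dvd (Finset.prod_ne_zero_iff.mpr fun x _ => pow_ne_zero _ (hpos _))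
    (mul_ne_zero (pow_ne_zero _ Nat.card_pos.ne') (pow_ne_zero _ (hpos _)))).mp fun l hl => ?_
  haveI := Fact.mk hl
  rw [Nat.factorization_prod (fun x _ => pow_ne_zero _ (hpos _)),
    Nat.factorization_mul (pow_ne_zero _ Nat.card_pos.ne') (pow_ne_zero _ (hpos _))]
  simp only [Nat.factorization_pow, Finsupp.coe_finsetSum, Finset.sum_apply, Finsupp.add_apply,
    Finsupp.smul_apply, smul_eq_mul]
  by_cases hlp : l = p
  · subst hlp
    have hK0 : ∀ A : Subgroup G, (fixCard K A).factorization l = 0 := fun A =>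
      Nat.factorization_eq_zero_of_not_dvd fun hd => hl.one_lt.ne'
        (Nat.eq_one_of_dvd_coprimes hcop (hd.trans (card_dvd_of_le inf_le_left)) dvd_rfl)
    simp [hK0]
  have hfpg : IsPGroup p f.range := hP.of_surjective f.rangeRestrict f.rangeRestrict_surjective
  have hcopA : ∀ A : Subgroup G, A ≤ f.range → (Nat.card A).Coprime (Nat.card K) := fun A hA => by
    obtain ⟨i, hi⟩ := IsPGroup.iff_card.mp (hfpg.to_le hA)
    rw [hi]
    exact hcop.symm.pow_left i
  obtain ⟨Q, hQ, hQn⟩ := Basics.exists_invariant_isSylowIn f.range K hfK (hcopA _ le_rfl)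
    (Or.inl (haveI := hfpg.isNilpotent; inferInstance)) l
  -- the `l`-parts
  have hpart : ∀ A : Subgroup G, A ≤ f.range →
      fixCard Q A = l ^ (fixCard K A).factorization l := by
    intro A hA
    haveI := (hfpg.to_le hA).isNilpotent
    obtain ⟨U⟩ : Nonempty (Sylow l ↥(K ⊓ centralizer (A : Set G))) := inferInstance
    set U0 := (U : Subgroup _).map (K ⊓ centralizer (A : Set G)).subtype
    have hU0 : U0 ≤ K ⊓ centralizer (A : Set G) := map_subtype_le _
    have hU0c : Nat.card U0 = l ^ (fixCard K A).factorization l := by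
      rw [card_map_of_injective (K ⊓ centralizer (A : Set G)).subtype_injective]
      exact U.card_eq_multiplicity
    have hAU : A ≤ normalizer (U0 : Set G) := fun a ha => mem_normalizer_iff.mpr fun g => by
      constructor
      · intro hg
        rwa [mem_centralizer_iff.mp (mem_inf.mp (hU0 hg)).2 a ha, mul_inv_cancel_right]
      · intro hg
        have h := mem_centralizer_iff.mp (mem_inf.mp (hU0 hg)).2 a ha
        have : g = a * g * a⁻¹ := by
          have h' := congrArg (fun z => a⁻¹ * z) h
          simp only [inv_mul_cancel_left] at h'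
          rw [h']
          group
        rwa [this]
    obtain ⟨Q', hQ', hUQ', hAQ'⟩ := Basics.exists_invariant_isSylowIn_ge A K (hA.trans hfK)
      (hcopA A hA) (Or.inl inferInstance) l U0 (hU0.trans inf_le_left)
      (IsPGroup.of_card hU0c) hAU
    obtain ⟨c, hc, hcQ⟩ := Basics.invariant_isSylowIn_conj A K (hA.trans hfK) (hcopA A hA)
      (Or.inl inferInstance) l hQ' hQ hAQ' (hA.trans hQn)
    refine Nat.dvd_antisymm ?_ ?_
    · obtain ⟨i, hi⟩ := IsPGroup.iff_card.mp (hQ.isPGroup.to_le (inf_le_left (b := centralizer (A : Set G))))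
      rw [fixCard, hi]
      refine pow_dvd_pow l ((hl.pow_dvd_iff_le_factorization Nat.card_pos.ne').mp ?_)
      rw [← hi]
      exact card_dvd_of_le (inf_le_inf_right _ hQ.1)
    · rw [← hU0c, ← Basics.card_conj_smul c U0]
      refine card_dvd_of_le ?_
      intro x hx
      rw [Subgroup.mem_pointwise_smul_iff_inv_smul_mem, MulAut.smul_def, MulAut.inv_def,
        MulAut.conj_symm_apply] at hx
      refine mem_inf.mpr ⟨?_, ?_⟩
      · rw [← hcQ, Subgroup.mem_pointwise_smul_iff_inv_smul_mem, MulAut.smul_def, MulAut.inv_def,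
          MulAut.conj_symm_apply]
        exact hUQ' hx
      · have hcc := (mem_inf.mp hc).2
        have h := mul_mem (mul_mem hcc (mem_inf.mp (hU0 hx)).2) (inv_mem hcc)
        rwa [show c * (c⁻¹ * x * c) * c⁻¹ = x by group] at h
  have hfact : ∀ A : Subgroup G, A ≤ f.range →
      (Nat.card ↥(Q ⊓ centralizer (A : Set G))).factorization l = (fixCard K A).factorization l :=
    fun A hA => by
    rw [show Nat.card ↥(Q ⊓ centralizer (A : Set G)) = fixCard Q A from rfl, hpart A hA, Nat.factorization_pow, Finsupp.smul_apply, hl.factorization_self, smul_eq_mul,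
      mul_one]
  have hmain := fixed_product_qgroup_aux (q := l) hlp hP f _ Q rfl hQ.isPGroup hQn
  have h := (Nat.factorization_le_iff_dvd (Finset.prod_ne_zero_iff.mpr fun x _ =>
      pow_ne_zero _ (Nat.card_pos (α := ↥(Q ⊓ centralizer (zpowers (f x) : Set G)))).ne')
    (mul_ne_zero (pow_ne_zero _ Nat.card_pos.ne')
      (pow_ne_zero _ (Nat.card_pos (α := ↥(Q ⊓ centralizer (f.range : Set G)))).ne'))).mpr hmain l
  rw [Nat.factorization_prod (fun x _ => pow_ne_zero _
      (Nat.card_pos (α := ↥(Q ⊓ centralizer (zpowers (f x) : Set G)))).ne'),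
    Nat.factorization_mul (pow_ne_zero _ Nat.card_pos.ne')
      (pow_ne_zero _ (Nat.card_pos (α := ↥(Q ⊓ centralizer (f.range : Set G)))).ne')] at h
  simp only [Nat.factorization_pow, Finsupp.coe_finsetSum, Finset.sum_apply, Finsupp.add_apply,
    Finsupp.smul_apply, smul_eq_mul, fixCard, hfact _ le_rfl,
    fun x : P => hfact (zpowers (f x)) (zpowers_le.mpr (MonoidHom.mem_range.mpr ⟨x, rfl⟩)),
    hQ.2, hl.factorization_self, mul_one] at h
  simpa only [fixCard] using h

end Cfsg.Agent.FGB
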