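import Mathlib

/-!
# The average dimension of fixed point spaces in a coprime representation of a `p`-group
-/

set_option autoImplicit false
set_option linter.all false

namespace Cfsg.Agent.FGB

open Module

universe u

variable {p q : ℕ} [hp : Fact p.Prime] [hq : Fact q.Prime]

theorem eigen_indep {V : Type*} [AddCommGroup V] [Module (ZMod q) V]
    (X Z : Module.End (ZMod q) V) (hXZ : Commute X Z) (W : ℕ → Submodule (ZMod q) V)
    (hWZ : ∀ i, ∀ v ∈ W i, Z v ∈ W i) (m : ℕ → ℕ) (hW : ∀ i, ∀ v ∈ W i, X v = (Z ^ m i) v) :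
    ∀ s : Finset ℕ, (∀ i ∈ s, ∀ j ∈ s, i ≠ j → ∀ v ∈ W i, (Z ^ m i) v = (Z ^ m j) v → v = 0) →
      ∀ w : ℕ → V, (∀ i, w i ∈ W i) → ∑ i ∈ s, w i = 0 → ∀ i ∈ s, w i = 0 := by
  classical
  intro s
  induction s using Finset.induction_on with
  | empty => simp
  | insert j s hj ih =>
    intro hsep w hw hsum
    rw [Finset.sum_insert hj] at hsum
    have hZpow : ∀ (k i : ℕ), ∀ v ∈ W i, (Z ^ k) v ∈ W i := by
      intro k i v hv
      induction k with
      | zero => simpa using hv
      | succ k ihk => rw [pow_succ', Module.End.mul_apply]; exact hWZ i _ ihk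
    have hs : ∀ i ∈ s, w i = 0 := by
      intro i hi
      let w' : ℕ → V := fun l => (Z ^ m l) (w l) - (Z ^ m j) (w l)
      have h1 : ∑ l ∈ s, w' l = 0 := by
        have h2 := congrArg (X - Z ^ m j) hsum
        rw [map_add, map_sum, map_zero, LinearMap.sub_apply, hW j _ (hw j), sub_self, zero_add] at h2
        rw [← h2]
        exact Finset.sum_congr rfl fun l _ => by rw [LinearMap.sub_apply, hW l _ (hw l)]
      have h3 := ih (fun a ha b hb => hsep a (Finset.mem_insert_of_mem ha) b
        (Finset.mem_insert_of_mem hb)) w'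
        (fun l => sub_mem (hZpow _ _ _ (hw l)) (hZpow _ _ _ (hw l))) h1 i hi
      exact hsep i (Finset.mem_insert_of_mem hi) j (Finset.mem_insert_self _ _)
        (ne_of_mem_of_not_mem hi hj) _ (hw i) (sub_eq_zero.mp h3)
    intro i hi
    rcases Finset.mem_insert.mp hi with rfl | hi
    · rwa [Finset.sum_eq_zero hs, add_zero] at hsum
    · exact hs i hi

theorem fixed_bound_aux (hpq : q ≠ p) : ∀ (N : ℕ) {P : Type u} [Group P] [Fintype P],
    Nat.card P = N → IsPGroup p P → ∀ {V : Type*} [AddCommGroup V] [Module (ZMod q) V]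
    [FiniteDimensional (ZMod q) V] (ρ : P →* Module.End (ZMod q) V),
    p * ∑ x : P, finrank (ZMod q) (LinearMap.ker (ρ x - 1)) ≤
      Nat.card P * finrank (ZMod q) V +
        (p - 1) * Nat.card P * finrank (ZMod q) (⨅ x : P, LinearMap.ker (ρ x - 1) : Submodule (ZMod q) V) := by
  intro N
  induction N using Nat.strong_induction_on with
  | _ N ih =>
  intro P _ _ hN hP V _ _ _ ρ
  classical
  rcases subsingleton_or_nontrivial P with hs | hnt
  · have h1 : ∀ x : P, ρ x = 1 := fun x => by rw [Subsingleton.elim x 1, map_one]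
    have hk : ∀ x : P, LinearMap.ker (ρ x - 1) = ⊤ := fun x => by rw [h1, sub_self, LinearMap.ker_zero]
    have hc : Nat.card P = 1 := Nat.card_of_subsingleton 1
    haveI : Unique P := uniqueOfSubsingleton 1
    rw [Fintype.sum_unique, hk, hc, show (⨅ x : P, LinearMap.ker (ρ x - 1)) = (⊤ : Submodule (ZMod q) V) by
      simp [hk], finrank_top]
    obtain ⟨r, hr⟩ : ∃ r, p = r + 1 := ⟨p - 1, by have := hp.out.pos; omega⟩
    rw [hr, Nat.add_sub_cancel]
    exact le_of_eq (by ring)
  haveI := hP.center_nontrivial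
  obtain ⟨z, hzord⟩ : ∃ z : Subgroup.center P, orderOf z = p := by
    obtain ⟨k, hk0, hk⟩ := (hP.to_subgroup (Subgroup.center P)).nontrivial_iff_card.mp inferInstance
    exact exists_prime_orderOf_dvd_card' p (by rw [hk]; exact dvd_pow_self p hk0.ne')
  have hzc : ∀ g : P, Commute g (z : P) := fun g => Subgroup.mem_center_iff.mp z.2 g
  have hzp : orderOf (z : P) = p := by rw [Subgroup.orderOf_coe]; exact hzord
  set Z := Subgroup.zpowers (z : P) with hZ
  have hZc : Z ≤ Subgroup.center P := Subgroup.zpowers_le.mpr z.2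
  haveI : Z.Normal := ⟨fun a ha g => by
    rw [(Subgroup.mem_center_iff.mp (hZc ha) g), mul_inv_cancel_right]; exact ha⟩
  have hcardZ : Nat.card Z = p := by rw [hZ, Nat.card_zpowers, hzp]
  set T : Module.End (ZMod q) V := ρ z
  have hTp : T ^ p = 1 := by
    rw [← map_pow, ← hzp, pow_orderOf_eq_one, map_one]
  have hTc : ∀ g, Commute (ρ g) T := fun g => (hzc g).map ρ
  set U := LinearMap.ker (T - 1)
  have hmemU : ∀ v, v ∈ U ↔ T v = v := fun v => by simp [U, sub_eq_zero]
  have hpne : (p : ZMod q) ≠ 0 := by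
    rw [Ne, ZMod.natCast_eq_zero_iff]
    exact fun h => hpq ((Nat.prime_dvd_prime_iff_eq hq.out hp.out).mp h)
  let e : Module.End (ZMod q) V := (p : ZMod q)⁻¹ • ∑ i ∈ Finset.range p, T ^ i
  have heU : ∀ v, e v ∈ U := by
    intro v
    rw [LinearMap.mem_ker, LinearMap.smul_apply, map_smul, ← Module.End.mul_apply, mul_geom_sum,
      hTp, sub_self, LinearMap.zero_apply, smul_zero]
  have hefix : ∀ v ∈ U, e v = v := by
    intro v hv
    have hpw : ∀ i : ℕ, (T ^ i) v = v := fun i => by
      induction i with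
      | zero => rfl
      | succ i ihi => rw [pow_succ, Module.End.mul_apply, (hmemU v).mp hv, ihi]
    rw [LinearMap.smul_apply, LinearMap.sum_apply, Finset.sum_congr rfl (fun i _ => hpw i),
      Finset.sum_const, Finset.card_range, ← Nat.cast_smul_eq_nsmul (ZMod q), smul_smul,
      inv_mul_cancel₀ hpne, one_smul]
  have hec : ∀ g, Commute (ρ g) e := fun g =>
    (Commute.sum_right _ _ _ fun i _ => (hTc g).pow_right i).smul_right _
  set E := LinearMap.ker e
  have hVsplit : finrank (ZMod q) U + finrank (ZMod q) E = finrank (ZMod q) V := by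
    rw [← LinearMap.finrank_range_add_finrank_ker e]
    congr 1
    rw [show LinearMap.range e = U from le_antisymm (by rintro _ ⟨v, rfl⟩; exact heU v)
      fun v hv => ⟨v, hefix v hv⟩]
  let W : P → Submodule (ZMod q) V := fun x => LinearMap.ker (ρ x - 1)
  have hmemW : ∀ x v, v ∈ W x ↔ ρ x v = v := fun x v => by simp [W, sub_eq_zero]
  have hWsplit : ∀ x, finrank (ZMod q) (W x) ≤
      finrank (ZMod q) (U ⊓ W x : Submodule (ZMod q) V) +
        finrank (ZMod q) (E ⊓ W x : Submodule (ZMod q) V) := by
    intro x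
    rw [← LinearMap.finrank_range_add_finrank_ker (e.comp (W x).subtype), LinearMap.range_comp,
      Submodule.range_subtype]
    refine Nat.add_le_add (Submodule.finrank_mono ?_) ?_
    · rintro _ ⟨v, hv, rfl⟩
      refine ⟨heU v, (hmemW x _).mpr ?_⟩
      rw [← Module.End.mul_apply, (hec x).eq, Module.End.mul_apply, (hmemW x v).mp hv]
    · refine LinearMap.finrank_le_finrank_of_injective
        (f := ((W x).subtype.comp (LinearMap.ker (e.comp (W x).subtype)).subtype).codRestrict
          (E ⊓ W x) fun v => ⟨LinearMap.mem_ker.mp v.2, v.1.2⟩) fun a b h => ?_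
      refine Subtype.ext (Subtype.ext ?_)
      exact congrArg (fun w : (E ⊓ W x : Submodule (ZMod q) V) => (w : V)) h
  -- the part fixed by `z`
  have hUinv : ∀ g, ∀ v ∈ U, ρ g v ∈ U := by
    intro g v hv
    rw [hmemU] at hv ⊢
    rw [← Module.End.mul_apply, ← (hTc g).eq, Module.End.mul_apply, hv]
  let ρU : P →* Module.End (ZMod q) U :=
    { toFun := fun g => (ρ g).restrict (hUinv g)
      map_one' := LinearMap.ext fun w => Subtype.ext (by simp)
      map_mul' := fun a b => LinearMap.ext fun w => Subtype.ext (by simp [map_mul]) }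
  have hZker : ∀ a ∈ Z, ρU a = 1 := by
    intro a ha
    obtain ⟨i, rfl⟩ := (mem_powers_iff_mem_zpowers (x := (z : P))).mpr ha
    show ρU ((z : P) ^ i) = 1
    rw [map_pow, show ρU (z : P) = 1 from LinearMap.ext fun v => Subtype.ext ((hmemU _).mp v.2),
      one_pow]
  let ρQ : P ⧸ Z →* Module.End (ZMod q) U :=
    QuotientGroup.lift Z ρU fun a ha => MonoidHom.mem_ker.mpr (hZker a ha)
  haveI : Fintype (P ⧸ Z) := Fintype.ofFinite _
  have hcardQ : Nat.card P = Nat.card (P ⧸ Z) * p := by
    rw [← hcardZ]; exact Z.card_eq_card_quotient_mul_card_subgroup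
  have hlt : Nat.card (P ⧸ Z) < N := by
    rw [← hN, hcardQ]
    exact lt_mul_of_one_lt_right Nat.card_pos hp.out.one_lt
  have hih := ih _ hlt rfl (hP.to_quotient Z) (V := U) ρQ
  have hU1 : ∀ x : P, finrank (ZMod q) (U ⊓ W x : Submodule (ZMod q) V) ≤
      finrank (ZMod q) (LinearMap.ker (ρQ (QuotientGroup.mk x) - 1)) := by
    intro x
    refine LinearMap.finrank_le_finrank_of_injective
      (f := LinearMap.codRestrict (LinearMap.ker (ρQ (QuotientGroup.mk x) - 1))
        (Submodule.inclusion (inf_le_left : U ⊓ W x ≤ U)) fun v => ?_) fun a b h => ?_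
    · rw [LinearMap.mem_ker, LinearMap.sub_apply, sub_eq_zero]
      exact Subtype.ext ((hmemW x _).mp v.2.2)
    · exact Submodule.inclusion_injective _ (congrArg Subtype.val h)
  have hsumU : ∑ x : P, finrank (ZMod q) (U ⊓ W x : Submodule (ZMod q) V) ≤
      p * ∑ y : P ⧸ Z, finrank (ZMod q) (LinearMap.ker (ρQ y - 1)) := by
    refine (Finset.sum_le_sum fun x _ => hU1 x).trans (le_of_eq ?_)
    rw [← Finset.sum_fiberwise (Finset.univ) (QuotientGroup.mk : P → P ⧸ Z), Finset.mul_sum]
    refine Finset.sum_congr rfl fun y _ => ?_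
    rw [Finset.sum_congr rfl (fun x hx => by rw [(Finset.mem_filter.mp hx).2]), Finset.sum_const,
      smul_eq_mul]
    congr 1
    rw [← Fintype.card_subtype, ← Nat.card_eq_fintype_card, ← hcardZ]
    obtain ⟨x0, rfl⟩ := QuotientGroup.mk_surjective y
    exact Nat.card_congr
      { toFun := fun x => ⟨x0⁻¹ * x.1, QuotientGroup.eq.mp x.2.symm⟩
        invFun := fun a => ⟨x0 * a.1, (QuotientGroup.eq.mpr (by simp [a.2])).symm⟩
        left_inv := fun x => Subtype.ext (by simp)
        right_inv := fun a => Subtype.ext (by simp) }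
  have hCU : finrank (ZMod q) (⨅ y : P ⧸ Z, LinearMap.ker (ρQ y - 1) : Submodule (ZMod q) U) ≤
      finrank (ZMod q) (⨅ x : P, W x : Submodule (ZMod q) V) := by
    refine LinearMap.finrank_le_finrank_of_injective
      (f := (U.subtype.comp (⨅ y : P ⧸ Z, LinearMap.ker (ρQ y - 1)).subtype).codRestrict _
        fun v => (Submodule.mem_iInf _).mpr fun x => (hmemW x _).mpr ?_) fun a b h => ?_
    · have h := (Submodule.mem_iInf _).mp v.2 (QuotientGroup.mk x)
      rw [LinearMap.mem_ker, LinearMap.sub_apply, sub_eq_zero] at h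
      exact congrArg Subtype.val h
    · refine Subtype.ext (Subtype.ext ?_)
      have h' := congrArg Subtype.val h
      simpa using h'
  -- the part moved by `z`
  have hfree : ∀ v ∈ E, T v = v → v = 0 := fun v hv hfix => by
    rw [← hefix v ((hmemU v).mpr hfix)]; exact LinearMap.mem_ker.mp hv
  have hcoset : ∀ x : P, ∑ i : Fin p,
      finrank (ZMod q) (E ⊓ W (x * (z : P) ^ (i : ℕ)) : Submodule (ZMod q) V) ≤ finrank (ZMod q) E := by
    intro x
    let F : ℕ → Submodule (ZMod q) V := fun i => E ⊓ W (x * (z : P) ^ i)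
    rw [← Module.finrank_pi_fintype]
    let L : (∀ i : Fin p, F (i : ℕ)) →ₗ[ZMod q] V :=
      ∑ i : Fin p, (F (i : ℕ)).subtype ∘ₗ LinearMap.proj i
    have hL : ∀ f, L f = ∑ i : Fin p, (f i : V) := fun f => by simp [L]
    refine LinearMap.finrank_le_finrank_of_injective
      (f := L.codRestrict E fun f => ?_) ((injective_iff_map_eq_zero _).mpr fun f hf => ?_)
    · rw [hL]; exact Submodule.sum_mem _ fun i _ => (f i).2.1
    have h0 : L f = 0 := congrArg Subtype.val hf
    let w : ℕ → V := fun i => if h : i < p then (f ⟨i, h⟩ : V) else 0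
    have hwi : ∀ i : Fin p, w (i : ℕ) = (f i : V) := fun i => dif_pos i.2
    have key := eigen_indep (ρ x) T (hTc x) F
      (fun i v hv => ⟨LinearMap.mem_ker.mpr (by
          rw [ ← Module.End.mul_apply, ← (hec (z : P)).eq, Module.End.mul_apply,
            LinearMap.mem_ker.mp hv.1, map_zero]), (hmemW _ _).mpr (by
          rw [← Module.End.mul_apply, (hTc _).eq, Module.End.mul_apply, (hmemW _ _).mp hv.2])⟩)
      (fun i => p - i % p) (fun i v hv => by
        have h := (hmemW _ _).mp hv.2
        rw [map_mul, map_pow, Module.End.mul_apply] at h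
        change ρ x ((T ^ i) v) = v at h
        conv_rhs => rw [← h]
        rw [← Module.End.mul_apply, ← ((hTc x).pow_right _).eq, Module.End.mul_apply,
          ← Module.End.mul_apply (T ^ _), ← pow_add]
        obtain ⟨k, hk⟩ : ∃ k, p - i % p + i = p * k := ⟨i / p + 1, by
          have h1 := Nat.div_add_mod i p
          have h2 := Nat.mod_lt i hp.out.pos
          rw [Nat.mul_succ]; omega⟩
        rw [hk, pow_mul, hTp, one_pow, Module.End.one_apply]
        try rfl)
      (Finset.range p) (fun a ha b hb hab v hv heq => ?_) w (fun i => ?_) (by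
        rw [← Fin.sum_univ_eq_sum_range, ← h0, hL]
        exact Finset.sum_congr rfl fun i _ => hwi i)
    · refine funext fun i => Subtype.ext ?_
      rw [← hwi]
      exact key i (Finset.mem_range.mpr i.2)
    · rw [Finset.mem_range] at ha hb
      simp only [Nat.mod_eq_of_lt ha, Nat.mod_eq_of_lt hb] at heq
      -- some nontrivial power of `T` fixes `v`
      have hd : ∀ a b : ℕ, a < b → b < p → (T ^ (p - a)) v = (T ^ (p - b)) v → v = 0 := by
        intro a b hlt hb heq
        have h1 := congrArg (T ^ b) heq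
        rw [← Module.End.mul_apply, ← Module.End.mul_apply, ← pow_add, ← pow_add,
          show b + (p - a) = (b - a) + p by omega, show b + (p - b) = p by omega, pow_add, hTp,
          mul_one, Module.End.one_apply] at h1
        obtain ⟨k, -, hk⟩ := Nat.exists_mul_mod_eq_one_of_coprime
          ((hp.out.coprime_iff_not_dvd.mpr (Nat.not_dvd_of_pos_of_lt (by omega : 0 < b - a)
            (by omega))).symm) hp.out.one_lt
        refine hfree v hv.1 ?_
        have hpw : ∀ l : ℕ, ((T ^ (b - a)) ^ l) v = v := fun l => by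
          induction l with
          | zero => rfl
          | succ l ihl => rw [pow_succ, Module.End.mul_apply, h1, ihl]
        have h2 := hpw k
        rw [← pow_mul, ← Nat.div_add_mod ((b - a) * k) p, hk, pow_add, pow_mul, hTp, one_pow,
          one_mul, pow_one] at h2
        exact h2
      rcases lt_or_gt_of_ne hab with h | h
      · exact hd a b h hb heq
      · exact hd b a h ha heq.symm
    · show (if h : i < p then ((f ⟨i, h⟩ : F i) : V) else 0) ∈ F i
      split_ifs with h
      · exact (f ⟨i, h⟩).2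
      · exact zero_mem _
  have hsumE : p * ∑ x : P, finrank (ZMod q) (E ⊓ W x : Submodule (ZMod q) V) ≤
      Nat.card P * finrank (ZMod q) E := by
    calc p * ∑ x : P, finrank (ZMod q) (E ⊓ W x : Submodule (ZMod q) V)
        = ∑ i : Fin p, ∑ x : P, finrank (ZMod q) (E ⊓ W (x * (z : P) ^ (i : ℕ)) : Submodule (ZMod q) V) := by
          rw [show (∑ i : Fin p, ∑ x : P,
              finrank (ZMod q) (E ⊓ W (x * (z : P) ^ (i : ℕ)) : Submodule (ZMod q) V)) =
              ∑ _i : Fin p, ∑ x : P, finrank (ZMod q) (E ⊓ W x : Submodule (ZMod q) V) from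
            Finset.sum_congr rfl fun i _ => Equiv.sum_comp (Equiv.mulRight ((z : P) ^ (i : ℕ)))
              (fun x => finrank (ZMod q) (E ⊓ W x : Submodule (ZMod q) V))]
          simp
      _ = ∑ x : P, ∑ i : Fin p, finrank (ZMod q) (E ⊓ W (x * (z : P) ^ (i : ℕ)) : Submodule (ZMod q) V) :=
          Finset.sum_comm
      _ ≤ ∑ _x : P, finrank (ZMod q) E := Finset.sum_le_sum fun x _ => hcoset x
      _ = Nat.card P * finrank (ZMod q) E := by simp [Nat.card_eq_fintype_card]
  have htot : ∑ x : P, finrank (ZMod q) (W x) ≤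
      (∑ x : P, finrank (ZMod q) (U ⊓ W x : Submodule (ZMod q) V)) +
        ∑ x : P, finrank (ZMod q) (E ⊓ W x : Submodule (ZMod q) V) := by
    rw [← Finset.sum_add_distrib]
    exact Finset.sum_le_sum fun x _ => hWsplit x
  calc p * ∑ x : P, finrank (ZMod q) (LinearMap.ker (ρ x - 1))
      ≤ p * (p * ∑ y : P ⧸ Z, finrank (ZMod q) (LinearMap.ker (ρQ y - 1))) +
          Nat.card P * finrank (ZMod q) E := by
        refine (Nat.mul_le_mul_left p htot).trans ?_
        rw [Nat.mul_add]
        exact Nat.add_le_add (Nat.mul_le_mul_left p hsumU) hsumE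
    _ ≤ p * (Nat.card (P ⧸ Z) * finrank (ZMod q) U + (p - 1) * Nat.card (P ⧸ Z) *
          finrank (ZMod q) (⨅ x : P, W x : Submodule (ZMod q) V)) +
          Nat.card P * finrank (ZMod q) E := by
        refine Nat.add_le_add_right (Nat.mul_le_mul_left p (hih.trans ?_)) _
        exact Nat.add_le_add_left (Nat.mul_le_mul_left _ hCU) _
    _ = _ := by rw [← hVsplit, hcardQ]; ring

/-- The fixed-point dimensions of a coprime representation. -/
theorem fixed_bound (hpq : q ≠ p) {P : Type u} [Group P] [Fintype P] (hP : IsPGroup p P)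
    {V : Type*} [AddCommGroup V] [Module (ZMod q) V] [FiniteDimensional (ZMod q) V]
    (ρ : P →* Module.End (ZMod q) V) :
    p * ∑ x : P, finrank (ZMod q) (LinearMap.ker (ρ x - 1)) ≤
      Nat.card P * finrank (ZMod q) V +
        (p - 1) * Nat.card P * finrank (ZMod q) (⨅ x : P, LinearMap.ker (ρ x - 1) : Submodule (ZMod q) V) :=
  fixed_bound_aux hpq _ rfl hP ρ

end Cfsg.Agent.FGB
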