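import Mathlib
import Cfsg.Agent.S0643
import Cfsg.Agent.Lib.FGS.RegularPow
import Cfsg.Agent.Lib.OddLocal.Rank
import Cfsg.Agent.Lib.Transfer.ClassTwo

/-! p-groups, p odd, with cyclic derived subgroup are regular. -/

set_option autoImplicit false

namespace Cfsg.Agent.FGB.CyclicDerived

open scoped commutatorElement

variable {p : ℕ} [hp : Fact p.Prime]

theorem pow_formula {K : Type*} [Group K] [Finite K] (hp2 : p ≠ 2) (hK : IsPGroup p K)
    (hcyc : IsCyclic (commutator K)) (x y : K) :
    ∃ c ∈ commutator K, (x * y) ^ p = x ^ p * y ^ p * c ^ p := by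
  haveI := hcyc
  set D := commutator K with hD
  have hcomm : ∀ a ∈ D, ∀ b ∈ D, Commute a b := fun a ha b hb => by
    obtain ⟨d, hd⟩ := IsCyclic.exists_generator (α := D)
    obtain ⟨i, hi⟩ := Subgroup.mem_zpowers_iff.mp (hd ⟨a, ha⟩)
    obtain ⟨j, hj⟩ := Subgroup.mem_zpowers_iff.mp (hd ⟨b, hb⟩)
    have h := (Commute.refl d).zpow_zpow i j
    rw [hi, hj] at h
    exact congrArg Subtype.val h
  let N : Subgroup K :=
    { carrier := {v | ∃ c ∈ D, c ^ p = v}
      one_mem' := ⟨1, one_mem D, one_pow p⟩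
      mul_mem' := by
        rintro _ _ ⟨a, ha, rfl⟩ ⟨b, hb, rfl⟩
        exact ⟨a * b, mul_mem ha hb, (hcomm a ha b hb).mul_pow p⟩
      inv_mem' := by
        rintro _ ⟨a, ha, rfl⟩
        exact ⟨a⁻¹, inv_mem ha, inv_pow a p⟩ }
  haveI hNn : N.Normal := ⟨by
    rintro _ ⟨c, hc, rfl⟩ g
    exact ⟨g * c * g⁻¹, (inferInstance : (commutator K).Normal).conj_mem c hc g, conj_pow⟩⟩
  let f := QuotientGroup.mk' N
  haveI : IsCyclic (D.map f) := isCyclic_of_surjective (f.subgroupMap D) (f.subgroupMap_surjective D)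
  have hexp : ∀ w ∈ D.map f, w ^ p = 1 := by
    rintro _ ⟨c, hc, rfl⟩
    rw [← map_pow]
    exact (QuotientGroup.eq_one_iff _).mpr ⟨c, hc, rfl⟩
  have hcard : Nat.card (D.map f) ≤ p := by
    rw [← IsCyclic.exponent_eq_card]
    exact Nat.le_of_dvd hp.out.pos (Monoid.exponent_dvd_of_forall_pow_eq_one fun w => Subtype.ext (hexp w w.2))
  haveI : (D.map f).Normal :=
    (inferInstance : (commutator K).Normal).map f (QuotientGroup.mk'_surjective N)
  have hcen := OddLocal.le_center_of_card_le (hK.to_quotient N) (D.map f) hcard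
  have hm : ⁅f y, f x⁆ ∈ D.map f := by
    rw [← map_commutatorElement]
    exact Subgroup.mem_map_of_mem f (Subgroup.commutator_mem_commutator (Subgroup.mem_top y) (Subgroup.mem_top x))
  have hcc : ∀ g, Commute ⁅f y, f x⁆ g := fun g => (Subgroup.mem_center_iff.mp (hcen hm) g).symm
  have h := Transfer.mul_pow_of_commute (hcc (f x)) (hcc (f y)) p
  obtain ⟨m, hm2⟩ : p ∣ p.choose 2 :=
    hp.out.dvd_choose_self two_ne_zero (lt_of_le_of_ne hp.out.two_le (Ne.symm hp2))
  rw [hm2, pow_mul, hexp _ hm, one_pow, mul_one, ← map_mul, ← map_pow, ← map_pow, ← map_pow, ← map_mul] at h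
  obtain ⟨c, hc, he⟩ := QuotientGroup.eq.mp h.symm
  exact ⟨c, hc, by rw [he, mul_inv_cancel_left]⟩

theorem regular {G : Type*} [Group G] [Finite G] (hp2 : p ≠ 2) (hG : IsPGroup p G)
    (hcyc : IsCyclic (commutator G)) : Cfsg.IsRegularPGroup p G := by
  refine (S0643.result hG).mpr fun a b => ?_
  set H := Subgroup.closure ({a, b} : Set G) with hH
  haveI := hcyc
  have hmap : (commutator H).map H.subtype = ⁅H, H⁆ := Subgroup.map_subtype_commutator H
  have hle : (commutator H).map H.subtype ≤ commutator G := by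
    rw [hmap]; exact Subgroup.commutator_mono le_top le_top
  haveI : IsCyclic (commutator H) := by
    let f : commutator H →* commutator G :=
      (H.subtype.comp (commutator H).subtype).codRestrict (commutator G)
        fun x => hle (Subgroup.mem_map_of_mem H.subtype x.2)
    exact isCyclic_of_injective f fun u v h =>
      Subtype.ext (Subtype.ext (congrArg (fun z : commutator G => (z : G)) h))
  obtain ⟨c, hc, he⟩ := pow_formula hp2 (hG.to_subgroup H) inferInstance
    ⟨a, Subgroup.subset_closure (Set.mem_insert a _)⟩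
    ⟨b, Subgroup.subset_closure (Set.mem_insert_of_mem a rfl)⟩
  exact ⟨(c : G), hmap ▸ Subgroup.mem_map_of_mem H.subtype hc, by simpa using congrArg Subtype.val he⟩

/-- The subgroup of elements of exponent dividing `p` in a regular `p`-group. -/
def omegaOne {G : Type*} [Group G] [Finite G] (hG : Cfsg.IsRegularPGroup p G) : Subgroup G where
  carrier := {x | x ^ p = 1}
  one_mem' := one_pow p
  mul_mem' := by
    intro x y hx hy
    have := FGS.RegularPow.mul_pow_of_left hG (k := 1) (a := x) (by rw [pow_one]; exact hx) y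
    rw [pow_one] at this
    exact this.trans hy
  inv_mem' := by
    intro x hx
    show x⁻¹ ^ p = 1
    rw [inv_pow, show x ^ p = 1 from hx, inv_one]

theorem mem_omegaOne {G : Type*} [Group G] [Finite G] (hG : Cfsg.IsRegularPGroup p G) (x : G) :
    x ∈ omegaOne hG ↔ x ^ p = 1 := Iff.rfl

theorem omegaOne_normal {G : Type*} [Group G] [Finite G] (hG : Cfsg.IsRegularPGroup p G) :
    (omegaOne hG).Normal :=
  ⟨fun x hx g => by rw [mem_omegaOne] at hx ⊢; rw [conj_pow, hx, mul_one, mul_inv_cancel]⟩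

/-- If `x ^ p` commutes with `y` then `(x * y) ^ p = x ^ p * y ^ p`. -/
theorem mul_pow_of_commute_pow {G : Type*} [Group G] [Finite G] (hG : Cfsg.IsRegularPGroup p G) (x y : G)
    (h : Commute (x ^ p) y) : (x * y) ^ p = x ^ p * y ^ p := by
  set E := omegaOne hG with hE
  haveI := omegaOne_normal hG
  have hxy : y * x * y⁻¹ * x⁻¹ ∈ E := by
    have h1 : (y * x * y⁻¹) ^ p ^ 1 = x ^ p ^ 1 := by
      rw [pow_one, conj_pow, h.symm.eq, mul_inv_cancel_right]
    have h2 := (FGS.RegularPow.pow_eq_iff hG _ x 1).mp h1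
    rw [pow_one] at h2
    exact h2
  let f := QuotientGroup.mk' E
  have hcomm : Commute (f x) (f y) := by
    have : f (y * x * y⁻¹ * x⁻¹) = 1 := (QuotientGroup.eq_one_iff _).mpr hxy
    rw [map_mul, map_mul, map_mul, map_inv, map_inv, mul_inv_eq_one, mul_inv_eq_iff_eq_mul] at this
    exact this.symm
  set H := Subgroup.closure ({x, y} : Set G) with hH
  have hHE : ⁅H, H⁆ ≤ E := by
    rw [← QuotientGroup.ker_mk' E, ← Subgroup.map_eq_bot_iff, Subgroup.map_commutator,
      Subgroup.commutator_self_eq_bot_iff]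
    refine ⟨⟨fun u v => Subtype.ext ?_⟩⟩
    have hcl : H.map f = Subgroup.closure ({f x, f y} : Set (G ⧸ E)) := by
      rw [hH, MonoidHom.map_closure, Set.image_pair]
    have h2 : H.map f ≤ Subgroup.centralizer ((H.map f : Subgroup (G ⧸ E)) : Set (G ⧸ E)) := by
      rw [hcl, Subgroup.closure_le, Subgroup.centralizer_closure]
      intro w hw
      rw [SetLike.mem_coe, Subgroup.mem_centralizer_iff]
      intro z hz
      simp only [Set.mem_insert_iff, Set.mem_singleton_iff] at hw hz
      rcases hw with rfl | rfl <;> rcases hz with rfl | rfl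
      · rfl
      · exact hcomm.symm.eq
      · exact hcomm.eq
      · rfl
    exact Subgroup.mem_centralizer_iff.mp (h2 v.2) u u.2
  obtain ⟨c, hc, he⟩ := hG.2 x y 1
  have hc1 : c = 1 := by
    have hle : powerClosure p 1 ⁅H, H⁆ ≤ ⊥ := by
      refine (Subgroup.closure_le _).mpr ?_
      rintro _ ⟨d, hd, rfl⟩
      rw [pow_one]
      exact Subgroup.mem_bot.mpr ((mem_omegaOne hG d).mp (hHE hd))
    exact Subgroup.mem_bot.mp (hle hc)
  rw [pow_one] at he
  rw [he, hc1, mul_one]

end Cfsg.Agent.FGB.CyclicDerived
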