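/-
Automorphisms of cyclic `p`-subgroups induced by elements of order prime to `p`.
-/
import Mathlib

set_option autoImplicit false
set_option linter.all false

namespace Cfsg.Agent.FGB

/-- A unit of `ℤ / p ^ k` of order prime to `p` that is `1` modulo `p` is `1`. -/
theorem zpow_eq_self_of_coprime {G : Type*} [Group G] {p k : ℕ} [Fact p.Prime] (x b : G) (i : ℤ)
    (hx : x ^ p ^ k = 1) (hb : (orderOf b).Coprime p) (hbx : b * x * b⁻¹ = x ^ i) (hi : (p : ℤ) ∣ i - 1) :
    b * x * b⁻¹ = x := by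
  rcases k with _ | k
  · have : x = 1 := by simpa using hx
    simp [this]
  have hiter : ∀ n : ℕ, b ^ n * x * (b ^ n)⁻¹ = x ^ (i ^ n) := by
    intro n
    induction n with
    | zero => simp
    | succ j ih =>
      calc b ^ (j + 1) * x * (b ^ (j + 1))⁻¹ = b * (b ^ j * x * (b ^ j)⁻¹) * b⁻¹ := by
            rw [pow_succ', mul_inv_rev]; simp only [mul_assoc]
        _ = (b * x * b⁻¹) ^ (i ^ j) := by rw [ih, conj_zpow]
        _ = x ^ (i ^ (j + 1)) := by rw [hbx, ← zpow_mul, pow_succ']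
  have hc : Commute (b ^ p ^ k) x := by
    have h1 : ((p : ℤ) ^ (k + 1)) ∣ i ^ p ^ k - 1 ^ p ^ k := dvd_sub_pow_of_dvd_sub hi k
    rw [one_pow] at h1
    obtain ⟨c, hc⟩ := h1
    have h2 := hiter (p ^ k)
    have h3 : x ^ (i ^ p ^ k) = x := by
      rw [show i ^ p ^ k = ((p ^ (k + 1) : ℕ) : ℤ) * c + 1 by push_cast; linarith, zpow_add_one, zpow_mul,
        zpow_natCast, hx, one_zpow, one_mul]
    rw [h3] at h2
    exact mul_inv_eq_iff_eq_mul.mp h2
  have hb' : b ∈ Subgroup.zpowers (b ^ p ^ k) := by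
    rw [mem_zpowers_pow_iff]
    exact Nat.Coprime.symm (hb.pow_right k)
  obtain ⟨j, hj⟩ := Subgroup.mem_zpowers_iff.mp hb'
  have := (hc.zpow_left j).eq
  rw [hj] at this
  rw [this, mul_inv_cancel_right]

/-- An element of order prime to `p` that normalizes a cyclic `p`-subgroup and centralizes one of its
nontrivial elements centralizes all of it. -/
theorem commute_of_fix_ne_one {G : Type*} [Group G] [Finite G] {p : ℕ} [Fact p.Prime] (x b : G) {k : ℕ}
    (hx : x ^ p ^ k = 1) (hb : (orderOf b).Coprime p) (hn : b * x * b⁻¹ ∈ Subgroup.zpowers x)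
    {y : G} (hy : y ∈ Subgroup.zpowers x) (hy1 : y ≠ 1) (hby : b * y * b⁻¹ = y) : b * x * b⁻¹ = x := by
  obtain ⟨i, hi⟩ := Subgroup.mem_zpowers_iff.mp hn
  obtain ⟨j, hj⟩ := Subgroup.mem_zpowers_iff.mp hy
  refine zpow_eq_self_of_coprime x b i hx hb hi.symm ?_
  by_contra hnd
  have h1 : y ^ (i - 1) = 1 := by
    have : y ^ i = y := by
      conv_rhs => rw [← hby, ← hj, ← conj_zpow, ← hi, ← zpow_mul, mul_comm]
      rw [← hj, ← zpow_mul]
    rw [zpow_sub_one, this, mul_inv_cancel]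
  have hyp : y ^ ((p ^ k : ℕ) : ℤ) = 1 := by
    rw [zpow_natCast, ← hj, ← zpow_natCast, ← zpow_mul, mul_comm, zpow_mul, zpow_natCast, hx, one_zpow]
  have hcop : IsCoprime (i - 1) ((p ^ k : ℕ) : ℤ) := by
    push_cast
    exact (((Nat.prime_iff_prime_int.mp Fact.out).coprime_iff_not_dvd.mpr hnd).symm).pow_right
  obtain ⟨u, v, huv⟩ := hcop
  exact hy1 (by
    rw [← zpow_one y, ← huv, zpow_add, mul_comm u, mul_comm v, zpow_mul, zpow_mul, h1, hyp, one_zpow,
      one_zpow, one_mul])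

end Cfsg.Agent.FGB
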