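import Mathlib

/-!
Groups of permutations of `ZMod n` containing the translations: Schur's lemma on the `p`-th power
of an orbit of a point stabiliser.
-/

set_option autoImplicit false
set_option linter.all false

namespace Cfsg.Agent.FGB.CycReg

open Subgroup

universe u

variable {A : Type u} [Group A] {N : ℕ} [NeZero N]

/-- `f` is constant on the orbits of the stabiliser of `0`. -/
def Inv (γ : A →* Equiv.Perm (ZMod N)) {X : Type*} (f : ZMod N → X) : Prop :=
  ∀ a, γ a 0 = 0 → ∀ i, f (γ a i) = f i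

theorem trans_pow {γ : A →* Equiv.Perm (ZMod N)} {g : A} (hg : ∀ i, γ g i = i + 1) (n : ℕ)
    (i : ZMod N) : γ (g ^ n) i = i + n := by
  induction n with
  | zero => simp
  | succ n ih => rw [pow_succ', map_mul, Equiv.Perm.mul_apply, ih, hg, Nat.cast_succ, add_assoc]

theorem trans_val {γ : A →* Equiv.Perm (ZMod N)} {g : A} (hg : ∀ i, γ g i = i + 1)
    (t i : ZMod N) : γ (g ^ t.val) i = i + t := by
  rw [trans_pow hg, ZMod.natCast_zmod_val]

theorem Inv.two_point {γ : A →* Equiv.Perm (ZMod N)} {X : Type*} {f : ZMod N → X} (hf : Inv γ f)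
    {g : A} (hg : ∀ i, γ g i = i + 1) (a : A) (i j : ZMod N) :
    f (γ a j - γ a i) = f (j - i) := by
  set b := g ^ (-(γ a i)).val * a * g ^ i.val with hb
  have happ : ∀ x, γ b x = γ a (x + i) - γ a i := fun x => by
    rw [hb, map_mul, map_mul, Equiv.Perm.mul_apply, Equiv.Perm.mul_apply, trans_val hg, trans_val hg,
      sub_eq_add_neg]
  have h := hf b (by rw [happ, zero_add, sub_self]) (j - i)
  rwa [happ, sub_add_cancel] at h

theorem Inv.conv {γ : A →* Equiv.Perm (ZMod N)} {R : Type*} [CommRing R] {f h : ZMod N → R}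
    (hf : Inv γ f) (hh : Inv γ h) {g : A} (hg : ∀ i, γ g i = i + 1) :
    Inv γ (fun y => ∑ t, f t * h (y - t)) := by
  intro a ha y
  show ∑ t, f t * h (γ a y - t) = ∑ t, f t * h (y - t)
  rw [← Equiv.sum_comp (γ a)]
  exact Finset.sum_congr rfl fun t _ => by rw [hf a ha t, hh.two_point hg a t y]

/-- The `p`-th convolution power of an invariant set counts `p`-th multiples modulo `p`. -/
theorem Inv.pow_count {γ : A →* Equiv.Perm (ZMod N)} {p : ℕ} [hp : Fact p.Prime]
    (T : Finset (ZMod N)) (hT : Inv γ (fun i => i ∈ T)) {g : A} (hg : ∀ i, γ g i = i + 1) :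
    Inv γ (fun y => ((T.filter fun t => p • t = y).card : ZMod p)) := by
  classical
  set D : AddMonoidAlgebra (ZMod p) (ZMod N) := ∑ t ∈ T, AddMonoidAlgebra.single t 1 with hD
  have hstep : ∀ (G : AddMonoidAlgebra (ZMod p) (ZMod N)) y,
      (G * D).coeff y = ∑ t, (if t ∈ T then (1 : ZMod p) else 0) * G.coeff (y - t) := by
    intro G y
    rw [hD, Finset.mul_sum, AddMonoidAlgebra.coeff_sum, Finsupp.finsetSum_apply]
    simp only [ite_mul, one_mul, zero_mul]
    rw [Finset.sum_ite_mem, Finset.univ_inter]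
    refine Finset.sum_congr rfl fun t _ => ?_
    rw [AddMonoidAlgebra.coeff_mul_single_apply, mul_one, sub_eq_add_neg]
  have hpow : ∀ n : ℕ, Inv γ (fun y => (D ^ n).coeff y) := by
    intro n
    induction n with
    | zero =>
      intro a ha y
      show (D ^ 0).coeff (γ a y) = (D ^ 0).coeff y
      rw [pow_zero, AddMonoidAlgebra.one_def, AddMonoidAlgebra.coeff_single,
        Finsupp.single_apply, Finsupp.single_apply]
      have : (0 = γ a y) ↔ (0 = y) := by
        constructor
        · intro h; exact (γ a).injective (ha.trans h)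
        · intro h; rw [← h, ha]
      simp only [this]
    | succ n ih =>
      have h1 : Inv γ (fun i => if i ∈ T then (1 : ZMod p) else 0) := fun a ha i => by
        simp only [eq_iff_iff.1 (hT a ha i)]
      have h2 := h1.conv ih hg
      intro a ha y
      show (D ^ (n + 1)).coeff (γ a y) = (D ^ (n + 1)).coeff y
      rw [pow_succ, hstep, hstep]
      exact h2 a ha y
  haveI : CharP (AddMonoidAlgebra (ZMod p) (ZMod N)) p :=
    charP_of_injective_ringHom (f := algebraMap (ZMod p) (AddMonoidAlgebra (ZMod p) (ZMod N)))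
      (RingHom.injective _) p
  have hfrob : ∀ y, (D ^ p).coeff y = ((T.filter fun t => p • t = y).card : ZMod p) := by
    intro y
    rw [hD, sum_pow_char p, AddMonoidAlgebra.coeff_sum, Finsupp.finsetSum_apply]
    simp only [AddMonoidAlgebra.single_pow, one_pow, AddMonoidAlgebra.coeff_single,
      Finsupp.single_apply]
    rw [Finset.sum_boole]
  intro a ha y
  show ((T.filter fun t => p • t = γ a y).card : ZMod p)
    = ((T.filter fun t => p • t = y).card : ZMod p)
  rw [← hfrob, ← hfrob]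
  exact hpow p a ha y

variable {p m : ℕ} [hp : Fact p.Prime]

theorem nsmul_eq_zero_iff (hN : N = p ^ (m + 1)) (e : ZMod N) :
    p • e = 0 ↔ ∃ j, j < p ∧ e = ((j * p ^ m : ℕ) : ZMod N) := by
  constructor
  · intro h
    have h1 : (((p * e.val : ℕ)) : ZMod N) = 0 := by
      rw [Nat.cast_mul, ZMod.natCast_zmod_val, ← nsmul_eq_mul, h]
    rw [ZMod.natCast_eq_zero_iff] at h1
    have h1' : p * p ^ m ∣ p * e.val := (dvd_of_eq (by rw [hN, pow_succ'])).trans h1
    obtain ⟨j, hj⟩ := (Nat.mul_dvd_mul_iff_left hp.out.pos).1 h1'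
    refine ⟨j, ?_, ?_⟩
    · have h2 := ZMod.val_lt e
      rw [hj] at h2
      have h3 : p ^ m * j < p ^ m * p := lt_of_lt_of_eq h2 (by rw [hN, pow_succ])
      exact Nat.lt_of_mul_lt_mul_left h3
    · rw [mul_comm, ← hj, ZMod.natCast_zmod_val]
  · rintro ⟨j, -, rfl⟩
    rw [nsmul_eq_mul, ← Nat.cast_mul, ZMod.natCast_eq_zero_iff, hN]
    exact Dvd.intro j (by ring)

/-- An invariant set of multiples of `p` with a non-zero element gives blocks. -/
theorem exists_kernel (hN : N = p ^ (m + 1)) (γ : A →* Equiv.Perm (ZMod N)) {g : A}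
    (hg : ∀ i, γ g i = i + 1) (S : Set (ZMod N)) (hSp : ∀ z ∈ S, ∃ t, z = p • t)
    (hSi : ∀ (a : A) i s, s ∈ S → γ a (i + s) - γ a i ∈ S) {y : ZMod N} (hy : y ∈ S) (hy0 : y ≠ 0) :
    ∃ K : Subgroup A, K.Normal ∧ g ∉ K ∧ g ^ (p ^ m) ∈ K ∧
      ∀ a ∈ K, ∀ i, ∃ t, γ a i - i = p • t := by
  set Hs := AddSubgroup.closure S with hHs
  let X : AddSubgroup (ZMod N) :=
    { carrier := {x | ∀ a i, γ a (i + x) - γ a i ∈ Hs}
      zero_mem' := fun a i => by rw [add_zero, sub_self]; exact Hs.zero_mem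
      add_mem' := fun {x y} hx hy a i => by
        have := Hs.add_mem (hy a (i + x)) (hx a i)
        rwa [sub_add_sub_cancel, add_assoc] at this
      neg_mem' := fun {x} hx a i => by
        have := Hs.neg_mem (hx a (i + -x))
        rwa [neg_sub, neg_add_cancel_right] at this }
  have hX : Hs ≤ X := (AddSubgroup.closure_le _).2 fun s hs a i =>
    AddSubgroup.subset_closure (hSi a i s hs)
  have hHp : ∀ z ∈ Hs, ∃ t, z = p • t := by
    intro z hz
    have hle : Hs ≤ (nsmulAddMonoidHom (α := ZMod N) p).range :=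
      (AddSubgroup.closure_le _).2 fun s hs => by
        obtain ⟨t, rfl⟩ := hSp s hs; exact ⟨t, rfl⟩
    obtain ⟨t, rfl⟩ := hle hz
    exact ⟨t, rfl⟩
  let K : Subgroup A :=
    { carrier := {a | ∀ i, γ a i - i ∈ Hs}
      one_mem' := fun i => by rw [map_one, Equiv.Perm.one_apply, sub_self]; exact Hs.zero_mem
      mul_mem' := fun {a b} ha hb i => by
        have := Hs.add_mem (ha (γ b i)) (hb i)
        rwa [sub_add_sub_cancel, ← Equiv.Perm.mul_apply, ← map_mul] at this
      inv_mem' := fun {a} ha i => by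
        have := Hs.neg_mem (ha (γ a⁻¹ i))
        rw [neg_sub, ← Equiv.Perm.mul_apply, ← map_mul, mul_inv_cancel, map_one,
          Equiv.Perm.one_apply] at this
        exact this }
  have hKmem : ∀ a, a ∈ K ↔ ∀ i, γ a i - i ∈ Hs := fun a => Iff.rfl
  refine ⟨K, ⟨fun a ha c => ?_⟩, ?_, ?_, fun a ha i => hHp _ (ha i)⟩
  · rw [hKmem]
    intro i
    have h1 : γ c (γ c⁻¹ i + (γ a (γ c⁻¹ i) - γ c⁻¹ i)) - γ c (γ c⁻¹ i) ∈ Hs :=
      hX (ha (γ c⁻¹ i)) c _
    rw [add_sub_cancel, ← Equiv.Perm.mul_apply, ← Equiv.Perm.mul_apply, ← Equiv.Perm.mul_apply,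
      ← map_mul, ← map_mul, ← map_mul, mul_inv_cancel, map_one, Equiv.Perm.one_apply] at h1
    exact h1
  · intro hgK
    obtain ⟨t, ht⟩ := hHp _ (hgK 0)
    rw [hg, zero_add, sub_zero] at ht
    have h1 : ((1 : ℕ) : ZMod N) = ((p * t.val : ℕ) : ZMod N) := by
      rw [Nat.cast_one, Nat.cast_mul, ZMod.natCast_zmod_val, ← nsmul_eq_mul, ht]
    rw [ZMod.natCast_eq_natCast_iff'] at h1
    have hpN : p ∣ N := hN ▸ dvd_pow_self p (by omega)
    have h2 : 1 % p = (p * t.val) % p := by
      rw [← Nat.mod_mod_of_dvd 1 hpN, h1, Nat.mod_mod_of_dvd _ hpN]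
    rw [Nat.one_mod_eq_one.2 hp.out.one_lt.ne', Nat.mul_mod_right] at h2
    exact one_ne_zero h2
  · rw [hKmem]
    intro i
    rw [trans_pow hg, add_sub_cancel_left]
    have hyH : y ∈ Hs := AddSubgroup.subset_closure hy
    have hv0 : y.val ≠ 0 := fun h0 => hy0 ((ZMod.val_eq_zero y).1 h0)
    obtain ⟨j, v, hv, hjv⟩ := Nat.exists_eq_pow_mul_and_not_dvd hv0 p hp.out.ne_one
    have hjm : j ≤ m := by
      by_contra hcon
      have h2 := ZMod.val_lt y
      rw [hjv] at h2
      have h3 : p ^ (m + 1) ≤ p ^ j * v :=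
        le_trans (Nat.pow_le_pow_right hp.out.pos (by omega))
          (Nat.le_mul_of_pos_right _ (Nat.pos_of_ne_zero fun h => hv0 (by rw [hjv, h, mul_zero])))
      exact absurd (lt_of_lt_of_eq h2 hN) (not_lt.2 h3)
    have hco : Nat.Coprime v N := by
      rw [hN]
      exact Nat.Coprime.pow_right _ ((Nat.Prime.coprime_iff_not_dvd hp.out).2 hv).symm
    set w := ((v : ZMod N)⁻¹).val with hw
    have hmem := Hs.nsmul_mem hyH (w * p ^ (m - j))
    have : (w * p ^ (m - j)) • y = ((p ^ m : ℕ) : ZMod N) := by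
      rw [nsmul_eq_mul, ← ZMod.natCast_zmod_val y, hjv, ← Nat.cast_mul,
        show w * p ^ (m - j) * (p ^ j * v) = v * w * (p ^ (m - j) * p ^ j) by ring,
        ← pow_add, Nat.sub_add_cancel hjm, Nat.cast_mul, Nat.cast_mul, hw,
        ZMod.natCast_zmod_val, ZMod.coe_mul_inv_eq_one v hco, one_mul]
    rwa [this] at hmem

/-- **Schur's dichotomy**: blocks, or every invariant set is translation invariant outside the
subgroup of order `p`. -/
theorem dichotomy (hN : N = p ^ (m + 1)) (γ : A →* Equiv.Perm (ZMod N)) {g : A}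
    (hg : ∀ i, γ g i = i + 1) :
    (∃ K : Subgroup A, K.Normal ∧ g ∉ K ∧ g ^ (p ^ m) ∈ K ∧
      ∀ a ∈ K, ∀ i, ∃ t, γ a i - i = p • t) ∨
    ∀ T : Finset (ZMod N), Inv γ (fun i => i ∈ T) →
      ∀ x e : ZMod N, p • x ≠ 0 → p • e = 0 → (x + e ∈ T ↔ x ∈ T) := by
  classical
  by_cases h : ∀ T : Finset (ZMod N), Inv γ (fun i => i ∈ T) →
      ∀ y : ZMod N, y ≠ 0 → ((T.filter fun t => p • t = y).card : ZMod p) = 0
  · right
    intro T hT x e hx he
    have key : ∀ x : ZMod N, p • x ≠ 0 → x ∈ T → ∀ e, p • e = 0 → x + e ∈ T := by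
      intro x hx hxT e he
      set E := (Finset.univ.filter fun e : ZMod N => p • e = 0) with hE
      have hsub : (T.filter fun t => p • t = p • x) ⊆ E.image (x + ·) := by
        intro t ht
        rw [Finset.mem_filter] at ht
        exact Finset.mem_image.2 ⟨t - x, by
          rw [hE, Finset.mem_filter]
          exact ⟨Finset.mem_univ _, by rw [nsmul_sub, ht.2, sub_self]⟩, by rw [add_sub_cancel]⟩
      have hEc : E.card ≤ p := by
        have : E ⊆ (Finset.range p).image fun j => ((j * p ^ m : ℕ) : ZMod N) := by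
          intro e he
          rw [hE, Finset.mem_filter] at he
          obtain ⟨j, hj, rfl⟩ := (nsmul_eq_zero_iff hN e).1 he.2
          exact Finset.mem_image.2 ⟨j, Finset.mem_range.2 hj, rfl⟩
        exact (Finset.card_le_card this).trans
          (Finset.card_image_le.trans (Finset.card_range p).le)
      have hd : p ∣ (T.filter fun t => p • t = p • x).card :=
        (ZMod.natCast_eq_zero_iff _ _).1 (h T hT _ hx)
      have hpos : 0 < (T.filter fun t => p • t = p • x).card :=
        Finset.card_pos.2 ⟨x, Finset.mem_filter.2 ⟨hxT, rfl⟩⟩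
      have heq := Finset.eq_of_subset_of_card_le hsub
        (Finset.card_image_le.trans (hEc.trans (Nat.le_of_dvd hpos hd)))
      have hm : x + e ∈ E.image (x + ·) := Finset.mem_image.2
        ⟨e, Finset.mem_filter.2 ⟨Finset.mem_univ _, he⟩, rfl⟩
      rw [← heq] at hm
      exact (Finset.mem_filter.1 hm).1
    refine ⟨fun h' => ?_, fun h' => key x hx h' e he⟩
    have := key (x + e) (by rw [nsmul_add, he, add_zero]; exact hx) h' (-e)
      (by rw [smul_neg, he, neg_zero])
    rwa [add_neg_cancel_right] at this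
  · left
    push_neg at h
    obtain ⟨T, hT, y, hy0, hy⟩ := h
    set S : Set (ZMod N) :=
      {z | ((T.filter fun t => p • t = z).card : ZMod p) ≠ 0} with hS
    have hSp : ∀ z ∈ S, ∃ t, z = p • t := by
      intro z hz
      have : (T.filter fun t => p • t = z).Nonempty := by
        rw [Finset.nonempty_iff_ne_empty]
        intro h0
        exact hz (by rw [h0, Finset.card_empty, Nat.cast_zero])
      obtain ⟨t, ht⟩ := this
      exact ⟨t, (Finset.mem_filter.1 ht).2.symm⟩
    have hSi : ∀ (a : A) i s, s ∈ S → γ a (i + s) - γ a i ∈ S := by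
      intro a i s hs
      have h1 := (Inv.pow_count (p := p) T hT hg).two_point hg a i (i + s)
      show _ ≠ (0 : ZMod p)
      rw [h1, add_sub_cancel_left]
      exact hs
    exact exists_kernel hN γ hg S hSp hSi hy hy0

end Cfsg.Agent.FGB.CycReg
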