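import Mathlib
import Cfsg.Prelude.Def_Transfer

/-!
# Cyclic Sylow subgroups in groups with abelian p'-subgroups: local lemmas
-/

set_option autoImplicit false

namespace Cfsg.Agent.FGB.CycAb

open Subgroup

universe u

variable {G : Type u} [Group G] [Finite G] {p : ℕ} [hp : Fact p.Prime]

/-- All subgroups of order prime to `p` are abelian. -/
def Hab (p : ℕ) (G : Type*) [Group G] : Prop :=
  ∀ H : Subgroup G, ¬ p ∣ Nat.card H → IsMulCommutative H

theorem Hab.comm (h : Hab p G) {H : Subgroup G} (hH : ¬ p ∣ Nat.card H) {a b : G} (ha : a ∈ H)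
    (hb : b ∈ H) : a * b = b * a := by
  haveI := h H hH
  exact congrArg Subtype.val (mul_comm' (⟨a, ha⟩ : H) ⟨b, hb⟩)

theorem exists_orderOf_dvd {H : Subgroup G} (h : p ∣ Nat.card H) :
    ∃ y ∈ H, orderOf y = p := by
  obtain ⟨y, hy⟩ := exists_prime_orderOf_dvd_card' (G := H) p h
  exact ⟨y, y.2, by rw [Subgroup.orderOf_coe, hy]⟩

omit [Finite G] in
theorem ne_one_of_order {y : G} (hy : orderOf y = p) : y ≠ 1 := fun h => by
  rw [h, orderOf_one] at hy
  exact hp.out.one_lt.ne hy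

/-- An element splits into a `p`-part and a `p'`-part. -/
theorem exists_parts (k : G) : ∃ a b : G, k = a * b ∧ a ∈ zpowers k ∧ b ∈ zpowers k ∧
    ¬ p ∣ orderOf a ∧ ∃ j, orderOf b = p ^ j := by
  obtain ⟨e, m, hm, hem⟩ :=
    Nat.exists_eq_pow_mul_and_not_dvd (orderOf_pos k).ne' p hp.out.ne_one
  have hcop : IsCoprime ((p ^ e : ℕ) : ℤ) (m : ℤ) :=
    Int.isCoprime_iff_nat_coprime.mpr
      (by simpa using ((hp.out.coprime_iff_not_dvd.mpr hm).pow_left e))
  obtain ⟨s, t, hst⟩ := hcop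
  have hk : k ^ ((p ^ e * m : ℕ) : ℤ) = 1 := by rw [← hem, zpow_natCast, pow_orderOf_eq_one]
  refine ⟨k ^ (s * ((p ^ e : ℕ) : ℤ)), k ^ (t * (m : ℤ)), ?_, zpow_mem_zpowers _ _,
    zpow_mem_zpowers _ _, fun hd => hm (hd.trans (orderOf_dvd_of_pow_eq_one ?_)), ?_⟩
  · rw [← zpow_add, hst, zpow_one]
  · rw [← zpow_natCast, ← zpow_mul, mul_assoc, ← Nat.cast_mul, mul_comm s, zpow_mul, hk, one_zpow]
  · obtain ⟨j, -, hj⟩ := (Nat.dvd_prime_pow hp.out).mp (orderOf_dvd_of_pow_eq_one (n := p ^ e)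
      (x := k ^ (t * (m : ℤ))) (by
        rw [← zpow_natCast, ← zpow_mul, mul_assoc, ← Nat.cast_mul, mul_comm m, mul_comm t,
          zpow_mul, hk, one_zpow]))
    exact ⟨j, hj⟩

/-- A `p`-element normalising a Sylow `p`-subgroup lies in it. -/
theorem mem_sylow_of_pElt (P : Sylow p G) {b : G} {j : ℕ} (hb : orderOf b = p ^ j)
    (hn : b ∈ normalizer ((P : Subgroup G) : Set G)) : b ∈ (P : Subgroup G) := by
  have h1 : IsPGroup p (zpowers b) := IsPGroup.of_card (n := j) (by rw [Nat.card_zpowers, hb])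
  have h2 := h1.inf_normalizer_sylow P
  exact (h2.le ⟨mem_zpowers b, hn⟩).2

theorem commute_sylow (P : Sylow p G) (hc : IsCyclic (P : Subgroup G)) {a b : G}
    (ha : a ∈ (P : Subgroup G)) (hb : b ∈ (P : Subgroup G)) : a * b = b * a := by
  haveI := hc
  letI := IsCyclic.commGroup (α := (P : Subgroup G))
  exact congrArg Subtype.val (mul_comm (⟨a, ha⟩ : (P : Subgroup G)) ⟨b, hb⟩)

theorem cyclic_eq_of_card {S : Type*} [Group S] [Finite S] [IsCyclic S] {A B : Subgroup S}
    (h : Nat.card A = Nat.card B) : A = B := by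
  letI : CommGroup S := IsCyclic.commGroup
  have key : ∀ C : Subgroup S, C = (powMonoidHom (Nat.card C) : S →* S).ker := fun C => by
    refine Subgroup.eq_of_le_of_card_ge (fun x hx => ?_) ?_
    · rw [MonoidHom.mem_ker, powMonoidHom_apply, ← orderOf_dvd_iff_pow_eq_one]
      exact Subgroup.orderOf_dvd_natCard C hx
    · rw [IsCyclic.card_powMonoidHom_ker, Nat.gcd_eq_right (Subgroup.card_subgroup_dvd_card C)]
  exact (key A).trans (by rw [h]; exact (key B).symm)

/-- In a cyclic Sylow subgroup a conjugate of a cyclic subgroup is that subgroup. -/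
theorem normalizer_le_zpowers (P : Sylow p G) (hc : IsCyclic (P : Subgroup G)) {z : G}
    (hz : z ∈ (P : Subgroup G)) :
    normalizer ((P : Subgroup G) : Set G) ≤ normalizer ((zpowers z : Subgroup G) : Set G) := by
  intro g hg
  rw [mem_normalizer_iff]
  have key : ∀ g ∈ normalizer ((P : Subgroup G) : Set G), ∀ h ∈ zpowers z,
      g * h * g⁻¹ ∈ zpowers z := by
    intro g hg h hh
    haveI := hc
    have hz' : g * z * g⁻¹ ∈ (P : Subgroup G) := (mem_normalizer_iff.mp hg z).mp hz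
    have he : (zpowers (⟨g * z * g⁻¹, hz'⟩ : (P : Subgroup G))) = zpowers ⟨z, hz⟩ := by
      refine cyclic_eq_of_card ?_
      rw [Nat.card_zpowers, Nat.card_zpowers, ← orderOf_coe, ← orderOf_coe]
      exact (MulAut.conj g).orderOf_eq z
    obtain ⟨m, rfl⟩ := mem_zpowers_iff.mp hh
    rw [show g * z ^ m * g⁻¹ = (g * z * g⁻¹) ^ m from map_zpow (MulAut.conj g) z m]
    refine zpow_mem ?_ m
    obtain ⟨l, hl⟩ := mem_zpowers_iff.mp (he ▸ mem_zpowers (⟨g * z * g⁻¹, hz'⟩ : (P : Subgroup G)))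
    exact mem_zpowers_iff.mpr ⟨l, by simpa using congrArg Subtype.val hl⟩
  intro h
  refine ⟨key g hg h, fun hh => ?_⟩
  have := key g⁻¹ (inv_mem hg) _ hh
  simpa [mul_assoc] using this

/-- Iterating a power map. -/
theorem conj_pow_eq {k z : G} {m : ℕ} (h : k * z * k⁻¹ = z ^ m) (n : ℕ) :
    k ^ n * z * (k ^ n)⁻¹ = z ^ m ^ n := by
  induction n with
  | zero => simp
  | succ n ih =>
    rw [pow_succ', show k * k ^ n * z * (k * k ^ n)⁻¹ = k * (k ^ n * z * (k ^ n)⁻¹) * k⁻¹ by group,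
      ih, show k * z ^ m ^ n * k⁻¹ = (k * z * k⁻¹) ^ m ^ n from map_pow (MulAut.conj k) z _, h,
      ← pow_mul, ← pow_succ']

theorem exists_power (P : Sylow p G) (hc : IsCyclic (P : Subgroup G)) {k z : G}
    (hk : k ∈ normalizer ((P : Subgroup G) : Set G)) (hz : z ∈ (P : Subgroup G)) :
    ∃ m : ℕ, k * z * k⁻¹ = z ^ m := by
  have h := (mem_normalizer_iff.mp (normalizer_le_zpowers P hc hz hk) z).mp (mem_zpowers z)
  obtain ⟨m, hm⟩ := (mem_powers_iff_mem_zpowers.mpr h)
  exact ⟨m, hm.symm⟩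

/-- A `p'`-element fixing a nontrivial element of a cyclic Sylow subgroup centralises it. -/
theorem centralizes_of_fixes (P : Sylow p G) (hc : IsCyclic (P : Subgroup G)) {k z : G}
    (hk : k ∈ normalizer ((P : Subgroup G) : Set G)) (hko : ¬ p ∣ orderOf k)
    (hz : z ∈ (P : Subgroup G)) (hz1 : z ≠ 1) (hkz : k * z = z * k) :
    ∀ a ∈ (P : Subgroup G), k * a = a * k := by
  haveI := hc
  obtain ⟨g, hg⟩ := IsCyclic.exists_generator (α := (P : Subgroup G))
  have hgP : (g : G) ∈ (P : Subgroup G) := g.2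
  obtain ⟨m, hm⟩ := exists_power P hc hk hgP
  obtain ⟨i, hi⟩ := mem_zpowers_iff.mp (hg ⟨z, hz⟩)
  have hi' : (g : G) ^ i = z := by simpa using congrArg Subtype.val hi
  obtain ⟨e, he⟩ := IsPGroup.iff_orderOf.mp P.2 g
  have hoe : orderOf (g : G) = p ^ e := by rw [orderOf_coe, he]
  have he0 : e ≠ 0 := by
    rintro rfl
    rw [pow_zero, orderOf_eq_one_iff] at hoe
    rw [hoe, one_zpow] at hi'
    exact hz1 hi'.symm
  have hzo : orderOf z ≠ 1 := by rwa [Ne, orderOf_eq_one_iff]
  have hfix : z ^ m = z := by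
    rw [← hi', ← zpow_natCast, ← zpow_mul, mul_comm, zpow_mul, zpow_natCast, ← hm,
      show (k * (g : G) * k⁻¹) ^ i = k * (g : G) ^ i * k⁻¹ from (map_zpow (MulAut.conj k) _ _).symm,
      hi', hkz, mul_inv_cancel_right]
  obtain ⟨f, hf⟩ := IsPGroup.iff_orderOf.mp P.2 ⟨z, hz⟩
  have hf' : orderOf z = p ^ f := by rw [← hf, ← orderOf_coe]
  have hm1 : (m : ZMod p) = 1 := by
    have h1 : m ≡ 1 [MOD orderOf z] := pow_eq_pow_iff_modEq.mp (by rw [hfix, pow_one])
    have h2 : p ∣ orderOf z := by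
      rw [hf']
      exact dvd_pow_self p fun h0 => hzo (by rw [hf', h0, pow_zero])
    have := (ZMod.natCast_eq_natCast_iff _ _ _).mpr (h1.of_dvd h2)
    simpa using this
  have hmp : k ^ p ^ (e - 1) * (g : G) * (k ^ p ^ (e - 1))⁻¹ = g := by
    rw [conj_pow_eq hm]
    refine (pow_eq_pow_iff_modEq.mpr ?_).trans (pow_one (g : G))
    rw [hoe]
    obtain ⟨f', rfl⟩ := Nat.exists_eq_succ_of_ne_zero he0
    have hd : (p : ℤ) ∣ (m : ℤ) - 1 := by
      rw [← ZMod.intCast_eq_intCast_iff_dvd_sub]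
      simpa using hm1.symm
    have h2 := dvd_sub_pow_of_dvd_sub hd f'
    rw [one_pow] at h2
    refine (Nat.modEq_of_dvd ?_).symm
    simpa using h2
  obtain ⟨s, hs⟩ : k ∈ zpowers (k ^ p ^ (e - 1)) := by
    rw [mem_zpowers_pow_iff]
    exact Nat.Coprime.gcd_eq_one
      ((hp.out.coprime_iff_not_dvd.mpr hko).pow_left (e - 1))
  have hcg : Commute (k ^ p ^ (e - 1)) (g : G) := mul_inv_eq_iff_eq_mul.mp hmp
  intro a ha
  obtain ⟨j, hj⟩ := mem_zpowers_iff.mp (hg ⟨a, ha⟩)
  have hj' : (g : G) ^ j = a := by simpa using congrArg Subtype.val hj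
  rw [← hs, ← hj']
  exact (hcg.zpow_zpow s j).eq

variable (hcyc : ∀ P : Sylow p G, IsCyclic (P : Subgroup G))
variable (htop : ∀ H : Subgroup G, H.Normal → H = ⊥ ∨ H = ⊤) (hna : ¬ IsMulCommutative G)

include htop hna in
theorem ne_top_zpowers_normalizer {z : G} (hz : z ≠ 1) :
    normalizer ((zpowers z : Subgroup G) : Set G) ≠ ⊤ := by
  intro h
  rcases htop (zpowers z) (normalizer_eq_top_iff.mp h) with hb | ht
  · exact hz (zpowers_eq_bot.mp hb)
  · refine hna ⟨⟨fun a b => ?_⟩⟩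
    obtain ⟨i, rfl⟩ := mem_zpowers_iff.mp (ht ▸ Subgroup.mem_top a : a ∈ zpowers z)
    obtain ⟨j, rfl⟩ := mem_zpowers_iff.mp (ht ▸ Subgroup.mem_top b : b ∈ zpowers z)
    exact (Commute.refl z).zpow_zpow i j

include htop hna in
theorem center_trivial {z : G} (h : ∀ g : G, z * g = g * z) : z = 1 := by
  by_contra hz
  refine ne_top_zpowers_normalizer htop hna hz (eq_top_iff.mpr fun g _ => ?_)
  exact centralizer_le_normalizer _ (mem_centralizer_iff.mpr fun y hy => by
    obtain ⟨i, rfl⟩ := mem_zpowers_iff.mp (SetLike.mem_coe.mp hy)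
    exact (Commute.zpow_left (h g) i).eq)

include htop hna in
/-- Burnside: no Sylow subgroup is central in its normaliser. -/
theorem not_normalizer_le {q : ℕ} [hq : Fact q.Prime] (Q : Sylow q G) (hd : q ∣ Nat.card G) :
    ¬ normalizer ((Q : Subgroup G) : Set G) ≤ centralizer ((Q : Subgroup G) : Set G) := by
  intro h
  have hc := MonoidHom.ker_transferSylow_isComplement' Q h
  rcases htop _ (inferInstance : (MonoidHom.transferSylow Q h).ker.Normal) with hb | ht
  · rw [hb] at hc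
    have hQt : (Q : Subgroup G) = ⊤ := isComplement'_bot_left.mp hc
    rcases subsingleton_or_nontrivial G with h0 | h0
    · exact hna ⟨⟨fun a b => Subsingleton.elim _ _⟩⟩
    have hG : IsPGroup q G := fun g => by
      obtain ⟨k, hk⟩ := Q.2 ⟨g, hQt ▸ Subgroup.mem_top g⟩
      exact ⟨k, by simpa using congrArg Subtype.val hk⟩
    haveI := hG.center_nontrivial
    obtain ⟨⟨z, hz⟩, hz1⟩ := exists_ne (1 : Subgroup.center G)
    exact hz1 (Subtype.ext (center_trivial htop hna fun g => (mem_center_iff.mp hz g).symm))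
  · rw [ht] at hc
    exact Q.ne_bot_of_dvd_card hd (isComplement'_top_left.mp hc)

variable (hloc : ∀ H : Subgroup G, H ≠ ⊤ →
  Cfsg.HasNormalPComplement p H ∨ ∀ R : Sylow p H, (R : Subgroup H).Normal)
variable (hdp : p ∣ Nat.card G)

include hcyc htop hna hloc hdp in
/-- A proper subgroup containing a Sylow normaliser equals it. -/
theorem eq_normalizer (P : Sylow p G) {H : Subgroup G} (hH : H ≠ ⊤)
    (hle : normalizer ((P : Subgroup G) : Set G) ≤ H) :
    H = normalizer ((P : Subgroup G) : Set G) := by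
  have hPH : (P : Subgroup G) ≤ H := le_normalizer.trans hle
  rcases hloc H hH with ⟨R, D, hD, hc⟩ | hn
  · refine absurd (fun k hk => ?_) (not_normalizer_le htop hna P hdp)
    haveI := hD
    have hDp : ¬ p ∣ Nat.card D := by
      have h1 : R.1.index = Nat.card D := hc.index_eq_card
      rw [← h1]
      exact R.not_dvd_index
    have hDi : D.index = Nat.card (R : Subgroup H) := hc.symm.index_eq_card
    obtain ⟨a, b, rfl, ha, hb, hao, j, hbj⟩ := exists_parts (p := p) k
    have haN : a ∈ normalizer ((P : Subgroup G) : Set G) := zpowers_le.mpr hk ha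
    have hbP : b ∈ (P : Subgroup G) := mem_sylow_of_pElt P hbj (zpowers_le.mpr hk hb)
    refine mul_mem ?_ (mem_centralizer_iff.mpr fun c hcP => commute_sylow P (hcyc P) hcP hbP)
    rw [mem_centralizer_iff]
    intro c hcP
    have haD : (⟨a, hle haN⟩ : H) ∈ D := by
      rw [← QuotientGroup.eq_one_iff, ← orderOf_eq_one_iff]
      obtain ⟨f, hf⟩ := R.2.exists_card_eq
      refine Nat.eq_one_of_dvd_coprimes
        (((hp.out.coprime_iff_not_dvd.mpr hao).pow_left f).symm) ?_ ?_
      · exact (orderOf_map_dvd (QuotientGroup.mk' D) _).trans (by rw [← orderOf_coe])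
      · rw [← hf, ← hDi]
        exact _root_.orderOf_dvd_natCard _
    have hcom : a * c * a⁻¹ * c⁻¹ ∈ (P : Subgroup G) :=
      mul_mem ((mem_normalizer_iff.mp haN c).mp hcP) (inv_mem hcP)
    have hcD : (⟨a, hle haN⟩ : H) * ⟨c, hPH hcP⟩ * (⟨a, hle haN⟩ : H)⁻¹ * (⟨c, hPH hcP⟩ : H)⁻¹ ∈ D := by
      rw [mul_assoc, mul_assoc]
      refine mul_mem haD ?_
      rw [← mul_assoc]
      exact hD.conj_mem _ (inv_mem haD) _
    obtain ⟨i, hi⟩ := IsPGroup.iff_orderOf.mp P.2 ⟨_, hcom⟩
    have h1 := Subgroup.orderOf_dvd_natCard D hcD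
    rw [← orderOf_coe] at h1
    simp only [Subgroup.coe_mul, Subgroup.coe_inv] at h1
    rw [← orderOf_coe] at hi
    have : a * c * a⁻¹ * c⁻¹ = 1 := by
      rw [← orderOf_eq_one_iff]
      exact Nat.eq_one_of_dvd_coprimes ((hp.out.coprime_iff_not_dvd.mpr hDp).pow_left i)
        (dvd_of_eq hi) h1
    exact (mul_inv_eq_iff_eq_mul.mp (mul_inv_eq_one.mp this)).symm
  · refine le_antisymm ?_ hle
    have h1 := hn (P.subtype hPH)
    rw [Sylow.coe_subtype] at h1
    exact (normal_subgroupOf_iff_le_normalizer hPH).mp h1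

include hcyc htop hna hloc hdp in
theorem normalizer_zpowers_eq (P : Sylow p G) {z : G} (hz : z ∈ (P : Subgroup G)) (hz1 : z ≠ 1) :
    normalizer ((zpowers z : Subgroup G) : Set G) = normalizer ((P : Subgroup G) : Set G) :=
  eq_normalizer hcyc htop hna hloc hdp P (ne_top_zpowers_normalizer htop hna hz1)
    (normalizer_le_zpowers P (hcyc P) hz)

include hcyc htop hna hloc hdp in
theorem mem_normalizer_of_commute (P : Sylow p G) {z g : G} (hz : z ∈ (P : Subgroup G))
    (hz1 : z ≠ 1) (hg : g * z = z * g) : g ∈ normalizer ((P : Subgroup G) : Set G) := by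
  rw [← normalizer_zpowers_eq hcyc htop hna hloc hdp P hz hz1]
  exact centralizer_le_normalizer _ (mem_centralizer_iff.mpr fun y hy => by
    obtain ⟨i, rfl⟩ := mem_zpowers_iff.mp (SetLike.mem_coe.mp hy)
    exact (Commute.zpow_left (show Commute z g from hg.symm) i).eq)

include hcyc htop hna hloc hdp in
/-- The Sylow subgroups meet trivially. -/
theorem sylow_eq_of_mem (P Q : Sylow p G) {z : G} (hzP : z ∈ (P : Subgroup G))
    (hzQ : z ∈ (Q : Subgroup G)) (hz1 : z ≠ 1) : P = Q := by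
  refine (Sylow.ext ?_).symm
  have hle : (Q : Subgroup G) ≤ normalizer ((P : Subgroup G) : Set G) := fun g hg =>
    mem_normalizer_of_commute hcyc htop hna hloc hdp P hzP hz1 (commute_sylow Q (hcyc Q) hg hzQ)
  refine (Q.3 P.2 fun g hg => ?_).symm
  obtain ⟨j, hj⟩ := IsPGroup.iff_orderOf.mp Q.2 ⟨g, hg⟩
  exact mem_sylow_of_pElt P (j := j) (by rw [← hj, ← orderOf_coe]) (hle hg)

omit [Finite G] in
theorem sylow_conj_mem (P : Sylow p G) (g : G) {a : G} :
    a ∈ ((g • P : Sylow p G) : Subgroup G) ↔ g⁻¹ * a * g ∈ (P : Subgroup G) := by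
  rw [Sylow.coe_subgroup_smul, Subgroup.mem_pointwise_smul_iff_inv_smul_mem]
  simp

omit [Finite G] in
theorem conj_smul_eq_iff (P : Sylow p G) (g : G) :
    g • P = P ↔ g ∈ normalizer ((P : Subgroup G) : Set G) := by
  exact Sylow.smul_eq_iff_mem_normalizer

variable (hab : Hab p G)

include hcyc htop hna hloc hdp hab in
/-- A `p'`-element centralising a Sylow subgroup has the Sylow normaliser as centraliser. -/
theorem centralizer_eq (P : Sylow p G) {x : G} (hx1 : x ≠ 1) (hxo : ¬ p ∣ orderOf x)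
    (hxP : ∀ a ∈ (P : Subgroup G), x * a = a * x) :
    centralizer ({x} : Set G) = normalizer ((P : Subgroup G) : Set G) := by
  have hne : centralizer ({x} : Set G) ≠ ⊤ := fun h =>
    hx1 (center_trivial htop hna fun g =>
      (mem_centralizer_singleton_iff.mp (h ▸ Subgroup.mem_top g)).symm)
  refine eq_normalizer hcyc htop hna hloc hdp P hne fun k hk => ?_
  rw [mem_centralizer_singleton_iff]
  haveI : ((P : Subgroup G).subgroupOf (normalizer ((P : Subgroup G) : Set G))).Normal :=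
    (normal_subgroupOf_iff_le_normalizer le_normalizer).mpr le_rfl
  set N := normalizer ((P : Subgroup G) : Set G) with hN
  set P' := (P : Subgroup G).subgroupOf N with hP'
  have hcop : Nat.Coprime (Nat.card P') P'.index := by
    rw [hP', Nat.card_congr (subgroupOfEquivOfLe le_normalizer).toEquiv]
    obtain ⟨f, hf⟩ := P.2.exists_card_eq
    rw [show Nat.card (P : Subgroup G) = p ^ f from hf]
    refine Nat.Coprime.pow_left f (hp.out.coprime_iff_not_dvd.mpr fun hd => ?_)
    exact P.not_dvd_index (hd.trans (relIndex_dvd_index_of_le le_normalizer))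
  obtain ⟨K, hK⟩ := exists_right_complement'_of_coprime hcop
  have hKc : ¬ p ∣ Nat.card (K.map N.subtype) := by
    rw [card_subtype, ← hK.symm.index_eq_card]
    exact fun hd => P.not_dvd_index (hd.trans (relIndex_dvd_index_of_le le_normalizer))
  have hdec : ∀ g ∈ N, ∃ a ∈ (P : Subgroup G), ∃ c ∈ K.map N.subtype, g = a * c := by
    intro g hg
    obtain ⟨⟨⟨a, ha⟩, ⟨c, hc⟩⟩, hac⟩ := hK.surjective ⟨g, hg⟩
    exact ⟨a, mem_subgroupOf.mp ha, c, mem_map_of_mem _ hc,
      by simpa using (congrArg Subtype.val hac).symm⟩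
  have hxN : x ∈ N := centralizer_le_normalizer _ (mem_centralizer_iff.mpr fun a ha => (hxP a ha).symm)
  obtain ⟨a, ha, c, hc, hxe⟩ := hdec x hxN
  have hcx : ∀ b ∈ (P : Subgroup G), c * b = b * c := by
    intro b hb
    have h1 : a⁻¹ * x = c := by rw [hxe, inv_mul_cancel_left]
    rw [← h1]
    exact ((show Commute a⁻¹ b from (show Commute a b from commute_sylow P (hcyc P) ha hb).inv_left).mul_left
      (hxP b hb)).eq
  have ha1 : a = 1 := by
    have hcm : Commute a c := (hcx a ha).symm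
    obtain ⟨i, hi⟩ := IsPGroup.iff_orderOf.mp P.2 ⟨a, ha⟩
    rw [← orderOf_coe] at hi
    rw [← orderOf_eq_one_iff]
    have hcop2 : (orderOf a).Coprime (orderOf c) := by
      rw [show orderOf a = p ^ i from hi]
      refine Nat.Coprime.pow_left i (hp.out.coprime_iff_not_dvd.mpr fun hd => hKc ?_)
      exact hd.trans (Subgroup.orderOf_dvd_natCard _ hc)
    have h2 := hcm.orderOf_mul_eq_mul_orderOf_of_coprime hcop2
    rw [← hxe] at h2
    by_contra hne'
    have hi0 : i ≠ 0 := fun h0 => hne' (by rw [show orderOf a = p ^ i from hi, h0, pow_zero])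
    exact hxo (h2 ▸ Dvd.dvd.mul_right (by rw [show orderOf a = p ^ i from hi]; exact dvd_pow_self p hi0) _)
  have hxK : x ∈ K.map N.subtype := by rw [hxe, ha1, one_mul]; exact hc
  obtain ⟨b, hb, d, hd, rfl⟩ := hdec k hk
  exact ((show Commute b x from (hxP b hb).symm).mul_left
    (show Commute d x from hab.comm hKc hd hxK)).eq

end Cfsg.Agent.FGB.CycAb
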