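import Cfsg.Agent.Lib.FGB.CyclicSylowFree
import Cfsg.Agent.Lib.SmallSimple.BlockDeg
import Cfsg.Agent.S0948
import Cfsg.Agent.S4479

/-!
# Cyclic Sylow subgroups: a p'-element centralising the Sylow subgroup
-/

set_option autoImplicit false
set_option linter.unusedSectionVars false

namespace Cfsg.Agent.FGB.CycAb

open Subgroup Finset

universe u

variable {G : Type u} [Group G] [Finite G] [Fintype G] [DecidableEq G] {p : ℕ}
  [hp : Fact p.Prime]

omit [Finite G] [Fintype G] [DecidableEq G] in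
theorem mem_normalizer_smul (P : Sylow p G) (g : G) {u : G} :
    u ∈ normalizer (((g • P : Sylow p G) : Subgroup G) : Set G) ↔
      g⁻¹ * u * g ∈ normalizer ((P : Subgroup G) : Set G) := by
  rw [← conj_smul_eq_iff, ← conj_smul_eq_iff, mul_smul, mul_smul, inv_smul_eq_iff]

omit [Finite G] [Fintype G] [DecidableEq G] in
theorem centralizes_smul (P : Sylow p G) (g : G) {x : G}
    (hx : ∀ a ∈ (P : Subgroup G), x * a = a * x) :
    ∀ a ∈ ((g • P : Sylow p G) : Subgroup G), g * x * g⁻¹ * a = a * (g * x * g⁻¹) := by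
  intro a ha
  have h := hx _ ((sylow_conj_mem P g).mp ha)
  calc g * x * g⁻¹ * a = g * (x * (g⁻¹ * a * g)) * g⁻¹ := by group
    _ = g * (g⁻¹ * a * g * x) * g⁻¹ := by rw [h]
    _ = a * (g * x * g⁻¹) := by group

variable (hp2 : p ≠ 2) (hab : Hab p G) (hcyc : ∀ P : Sylow p G, IsCyclic (P : Subgroup G))
variable (htop : ∀ H : Subgroup G, H.Normal → H = ⊥ ∨ H = ⊤) (hna : ¬ IsMulCommutative G)
variable (hloc : ∀ H : Subgroup G, H ≠ ⊤ →
  Cfsg.HasNormalPComplement p H ∨ ∀ R : Sylow p H, (R : Subgroup H).Normal)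
variable (hdp : p ∣ Nat.card G)

include hab hcyc htop hna hloc hdp in
theorem sylow_eq_of_centralizes {v : G} (hv1 : v ≠ 1) (hvo : ¬ p ∣ orderOf v) {P R : Sylow p G}
    (hvP : ∀ a ∈ (P : Subgroup G), v * a = a * v) (hvR : ∀ a ∈ (R : Subgroup G), v * a = a * v) :
    P = R := by
  have h := (centralizer_eq hcyc htop hna hloc hdp hab P hv1 hvo hvP).symm.trans
    (centralizer_eq hcyc htop hna hloc hdp hab R hv1 hvo hvR)
  refine Sylow.ext (R.3 P.2 fun g hg => ?_)
  obtain ⟨i, hi⟩ := IsPGroup.iff_orderOf.mp R.2 ⟨g, hg⟩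
  exact mem_sylow_of_pElt P (j := i) (by rw [← hi, ← Subgroup.orderOf_coe])
    (h ▸ le_normalizer hg)

include hp2 hab hcyc htop hna hloc hdp in
/-- The data attached to a prime order `p'`-element centralising a Sylow subgroup. -/
theorem central_data {P : Sylow p G} {x : G} {q : ℕ} [hq : Fact q.Prime] (hqx : orderOf x = q)
    (hqp : q ≠ p) (hxP : ∀ a ∈ (P : Subgroup G), x * a = a * x) :
    q = 2 ∧ p = 3 ∧ ∃ (Q : Sylow q G) (y : G), x ∈ (Q : Subgroup G) ∧
      (∀ u : G, u ^ q = 1 → u ∈ (Q : Subgroup G) → u = 1 ∨ ∃ i : ℕ, u = y ^ i * x * (y ^ i)⁻¹) ∧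
      ¬ p ∣ Nat.card (centralizer ((Q : Subgroup G) : Set G)) ∧
      (∀ u ∈ centralizer ((Q : Subgroup G) : Set G), u ^ 2 = 1) ∧
      Nat.card (centralizer ((Q : Subgroup G) : Set G)) ≤ 4 ∧
      4 ≤ Nat.card Q := by
  classical
  have hx1 : x ≠ 1 := fun h => by
    rw [h, orderOf_one] at hqx
    exact hq.out.one_lt.ne hqx
  have hxo : ¬ p ∣ orderOf x := by
    rw [hqx]
    exact fun h => hqp ((Nat.prime_dvd_prime_iff_eq hp.out hq.out).mp h).symm
  have hCx := centralizer_eq hcyc htop hna hloc hdp hab P hx1 hxo hxP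
  obtain ⟨Q, hQ⟩ := (IsPGroup.of_card (p := q) (n := 1) (G := zpowers x)
    (by rw [Nat.card_zpowers, hqx, pow_one])).exists_le_sylow
  have hxQ : x ∈ (Q : Subgroup G) := hQ (mem_zpowers x)
  have hQp : ¬ p ∣ Nat.card Q := by
    intro hd
    obtain ⟨f, hf⟩ := Q.2.exists_card_eq
    rw [show Nat.card Q = q ^ f from hf] at hd
    exact hqp ((Nat.prime_dvd_prime_iff_eq hp.out hq.out).mp (hp.out.dvd_of_dvd_pow hd)).symm
  have hQo : ∀ u ∈ (Q : Subgroup G), ¬ p ∣ orderOf u := fun u hu hd =>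
    hQp (hd.trans (Subgroup.orderOf_dvd_natCard _ hu))
  have hdq : q ∣ Nat.card G := hqx ▸ _root_.orderOf_dvd_natCard x
  have hQN : (Q : Subgroup G) ≤ normalizer ((P : Subgroup G) : Set G) := fun g hg =>
    hCx ▸ mem_centralizer_singleton_iff.mpr (hab.comm hQp hg hxQ)
  have hCQN : centralizer ((Q : Subgroup G) : Set G) ≤ normalizer ((P : Subgroup G) : Set G) :=
    fun g hg => hCx ▸ mem_centralizer_singleton_iff.mpr (mem_centralizer_iff.mp hg x hxQ).symm
  have hCQ : ¬ p ∣ Nat.card (centralizer ((Q : Subgroup G) : Set G)) := by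
    intro hd
    obtain ⟨z, hz, hzo⟩ := exists_orderOf_dvd hd
    have hzP : z ∈ (P : Subgroup G) :=
      mem_sylow_of_pElt P (j := 1) (by rw [hzo, pow_one]) (hCQN hz)
    have hall : ∀ u ∈ (Q : Subgroup G), ∀ a ∈ (P : Subgroup G), u * a = a * u := fun u hu =>
      centralizes_of_fixes P (hcyc P) (hQN hu) (hQo u hu) hzP (ne_one_of_order hzo)
        (mem_centralizer_iff.mp hz u hu)
    refine not_normalizer_le htop hna Q hdq fun g hg => ?_
    have hgx : g * x * g⁻¹ ∈ (Q : Subgroup G) := (mem_normalizer_iff.mp hg x).mp hxQ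
    have hgP : g • P = P := (sylow_eq_of_centralizes hab hcyc htop hna hloc hdp
      (by rw [Ne, conj_eq_one_iff]; exact hx1) (hQo _ hgx) (hall _ hgx)
      (centralizes_smul P g hxP)).symm
    rw [mem_centralizer_iff]
    intro u hu
    by_cases hu1 : u = 1
    · subst hu1
      rw [one_mul, mul_one]
    have h1 : g ∈ centralizer ({u} : Set G) := by
      rw [centralizer_eq hcyc htop hna hloc hdp hab P hu1 (hQo u hu) (hall u hu)]
      exact (conj_smul_eq_iff P g).mp hgP
    exact (mem_centralizer_singleton_iff.mp h1).symm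
  have hNQ : p ∣ Nat.card (normalizer ((Q : Subgroup G) : Set G)) := by
    by_contra hN
    exact not_normalizer_le htop hna Q hdq fun g hg => mem_centralizer_iff.mpr fun u hu =>
      hab.comm hN (le_normalizer hu) hg
  obtain ⟨y, hy, hyo⟩ := exists_orderOf_dvd hNQ
  have hyP : y ∉ normalizer ((P : Subgroup G) : Set G) := by
    intro hyN
    have hyP' : y ∈ (P : Subgroup G) := mem_sylow_of_pElt P (j := 1) (by rw [hyo, pow_one]) hyN
    refine hCQ (hyo ▸ Subgroup.orderOf_dvd_natCard _ (mem_centralizer_iff.mpr fun u hu => ?_))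
    have h1 : u * y * u⁻¹ * y⁻¹ ∈ (P : Subgroup G) :=
      mul_mem ((mem_normalizer_iff.mp (hQN hu) y).mp hyP') (inv_mem hyP')
    have h2 : u * y * u⁻¹ * y⁻¹ ∈ (Q : Subgroup G) := by
      rw [mul_assoc, mul_assoc, ← mul_assoc y]
      exact mul_mem hu ((mem_normalizer_iff.mp hy _).mp (inv_mem hu))
    obtain ⟨i, hi⟩ := IsPGroup.iff_orderOf.mp P.2 ⟨_, h1⟩
    rw [← Subgroup.orderOf_coe] at hi
    have h3 : u * y * u⁻¹ * y⁻¹ = 1 := by
      rw [← orderOf_eq_one_iff]
      exact Nat.eq_one_of_dvd_coprimes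
        ((hp.out.coprime_iff_not_dvd.mpr (hQo _ h2)).pow_left i) (dvd_of_eq hi) dvd_rfl
    exact mul_inv_eq_iff_eq_mul.mp (mul_inv_eq_one.mp h3)
  have hyi : ∀ i < p, ∀ j < p, y ^ i • P = y ^ j • P → i = j := by
    intro i hi j hj h
    have hmem : (y ^ j)⁻¹ * y ^ i ∈ normalizer ((P : Subgroup G) : Set G) := by
      rw [← conj_smul_eq_iff, mul_smul, h, inv_smul_smul]
    by_contra hne
    refine hyP ?_
    rw [← zpow_natCast, ← zpow_natCast, ← zpow_neg, ← zpow_add] at hmem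
    obtain ⟨s, t, hst⟩ : IsCoprime (-(j : ℤ) + i) (p : ℤ) := by
      refine (Int.isCoprime_iff_nat_coprime.mpr ?_)
      simp only [Int.natAbs_natCast]
      refine ((hp.out.coprime_iff_not_dvd.mpr fun hd => ?_)).symm
      have h1 := Nat.le_of_dvd (by omega) hd
      omega
    have h4 := zpow_mem hmem s
    rw [← zpow_mul, show ((-(j : ℤ) + i) * s) = 1 - t * (p : ℤ) by linarith, zpow_sub, zpow_one,
      mul_comm t, zpow_mul, zpow_natCast, show y ^ p = 1 by rw [← hyo, pow_orderOf_eq_one], one_zpow, inv_one, mul_one] at h4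
    exact h4
  -- the two conjugates
  set P₁ := y • P with hP₁
  have hPne : P₁ ≠ P := fun h => hyP ((conj_smul_eq_iff P y).mp h)
  obtain ⟨z₀, hz₀, hz₀o⟩ := exists_orderOf_dvd (P.dvd_card_of_dvd_card hdp)
  set z₁ := y * z₀ * y⁻¹ with hz₁
  have hz₁P : z₁ ∈ (P₁ : Subgroup G) := by rw [hP₁, sylow_conj_mem]; simpa [hz₁, mul_assoc] using hz₀
  have hz₁o : orderOf z₁ = p := by rw [hz₁, ← hz₀o]; exact (MulAut.conj y).orderOf_eq z₀
  have hQN₁ : centralizer ((Q : Subgroup G) : Set G) ≤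
      normalizer ((P₁ : Subgroup G) : Set G) := by
    intro g hg
    rw [hP₁, mem_normalizer_smul]
    refine hCQN (mem_centralizer_iff.mpr fun u hu => ?_)
    have h1 := mem_centralizer_iff.mp hg _ ((mem_normalizer_iff.mp hy u).mp hu)
    calc u * (y⁻¹ * g * y) = y⁻¹ * (y * u * y⁻¹ * g) * y := by group
      _ = y⁻¹ * (g * (y * u * y⁻¹)) * y := by rw [h1]
      _ = y⁻¹ * g * y * u := by group
  have hQC : (Q : Subgroup G) ≤ centralizer ((Q : Subgroup G) : Set G) := fun g hg =>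
    mem_centralizer_iff.mpr fun u hu => hab.comm hQp hu hg
  -- exponents modulo `p`
  have hex : ∀ (R : Sylow p G) (z : G), z ∈ (R : Subgroup G) → orderOf z = p →
      ∀ u : normalizer ((R : Subgroup G) : Set G),
        ∃ m : ZMod p, (u : G) * z * (u : G)⁻¹ = z ^ m.val := by
    intro R z hz hzo u
    obtain ⟨m, hm⟩ := exists_power R (hcyc R) u.2 hz
    exact ⟨(m : ZMod p), by rw [hm, ZMod.val_natCast, ← hzo, pow_mod_orderOf]⟩
  choose χ hχ using hex
  have hpowχ : ∀ (R : Sylow p G) (z : G) (hz : z ∈ (R : Subgroup G)) (hzo : orderOf z = p)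
      (u : normalizer ((R : Subgroup G) : Set G)) (n : ℕ), (u : G) ^ n = 1 →
      χ R z hz hzo u ^ n = 1 := by
    intro R z hz hzo u n hn
    have h := conj_pow_eq (hχ R z hz hzo u) n
    rw [hn, one_mul, inv_one, mul_one] at h
    nth_rewrite 1 [← pow_one z] at h
    rw [pow_eq_pow_iff_modEq, hzo, ← ZMod.natCast_eq_natCast_iff] at h
    simpa using h.symm
  have hsame : ∀ (R : Sylow p G) (z : G) (hz : z ∈ (R : Subgroup G)) (hzo : orderOf z = p)
      (u v : normalizer ((R : Subgroup G) : Set G)), χ R z hz hzo u = χ R z hz hzo v →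
      ((v : G)⁻¹ * u) * z = z * ((v : G)⁻¹ * u) := by
    intro R z hz hzo u v h
    have h1 := hχ R z hz hzo u
    rw [h, ← hχ R z hz hzo v] at h1
    calc (v : G)⁻¹ * u * z = (v : G)⁻¹ * ((u : G) * z * (u : G)⁻¹) * u := by group
      _ = (v : G)⁻¹ * ((v : G) * z * (v : G)⁻¹) * u := by rw [h1]
      _ = z * ((v : G)⁻¹ * u) := by group
  let χ₀ : centralizer ((Q : Subgroup G) : Set G) → ZMod p := fun u =>
    χ P z₀ hz₀ hz₀o ⟨u, hCQN u.2⟩
  let χ₁ : centralizer ((Q : Subgroup G) : Set G) → ZMod p := fun u =>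
    χ P₁ z₁ hz₁P hz₁o ⟨u, hQN₁ u.2⟩
  have hinj : Function.Injective fun u => (χ₀ u, χ₁ u) := by
    rintro ⟨u, hu⟩ ⟨v, hv⟩ h
    simp only [Prod.mk.injEq] at h
    have hw : v⁻¹ * u ∈ centralizer ((Q : Subgroup G) : Set G) := mul_mem (inv_mem hv) hu
    have hwo : ¬ p ∣ orderOf (v⁻¹ * u) := fun hd =>
      hCQ (hd.trans (Subgroup.orderOf_dvd_natCard _ hw))
    have h0 := centralizes_of_fixes P (hcyc P) (hCQN hw) hwo hz₀ (ne_one_of_order hz₀o)
      (hsame P z₀ hz₀ hz₀o ⟨u, hCQN hu⟩ ⟨v, hCQN hv⟩ h.1)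
    have h1 := centralizes_of_fixes P₁ (hcyc P₁) (hQN₁ hw) hwo hz₁P (ne_one_of_order hz₁o)
      (hsame P₁ z₁ hz₁P hz₁o ⟨u, hQN₁ hu⟩ ⟨v, hQN₁ hv⟩ h.2)
    refine Subtype.ext (inv_mul_eq_one.mp ?_).symm
    by_contra hne
    exact hPne (sylow_eq_of_centralizes hab hcyc htop hna hloc hdp hne hwo h1 h0)
  -- the roots of unity
  set E : Finset (centralizer ((Q : Subgroup G) : Set G)) :=
    Finset.univ.filter fun u => (u : G) ∈ (Q : Subgroup G) ∧ (u : G) ^ q = 1 with hE
  set Rq : Finset (ZMod p) := (Polynomial.nthRoots q (1 : ZMod p)).toFinset with hRq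
  have hRcard : Rq.card ≤ q :=
    (Multiset.toFinset_card_le _).trans (Polynomial.card_nthRoots q (1 : ZMod p))
  have hEle : E.card ≤ q * q := by
    refine (Finset.card_le_card_of_injOn (fun u => (χ₀ u, χ₁ u)) (t := Rq ×ˢ Rq) ?_
      (hinj.injOn)).trans ?_
    · intro u hu
      rw [Finset.mem_coe, Finset.mem_filter] at hu
      simp only [Finset.mem_coe, Finset.mem_product, hRq, Multiset.mem_toFinset,
        Polynomial.mem_nthRoots hq.out.pos]
      exact ⟨hpowχ P z₀ hz₀ hz₀o _ q hu.2.2, hpowχ P₁ z₁ hz₁P hz₁o _ q hu.2.2⟩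
    · rw [Finset.card_product]
      exact Nat.mul_le_mul hRcard hRcard
  have hxi : ∀ i : ℕ, y ^ i * x * (y ^ i)⁻¹ ∈ (Q : Subgroup G) := fun i =>
    (mem_normalizer_iff.mp (pow_mem hy i) x).mp hxQ
  have hxiq : ∀ i j : ℕ, (y ^ i * x * (y ^ i)⁻¹) ^ j = y ^ i * x ^ j * (y ^ i)⁻¹ := fun i j =>
    (map_pow (MulAut.conj (y ^ i)) x j).symm
  let f : ℕ × ℕ → centralizer ((Q : Subgroup G) : Set G) := fun a =>
    ⟨(y ^ a.1 * x * (y ^ a.1)⁻¹) ^ (a.2 + 1), hQC (pow_mem (hxi a.1) _)⟩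
  have hfinj : Set.InjOn f ((Finset.range p ×ˢ Finset.range (q - 1) : Finset (ℕ × ℕ)) : Set (ℕ × ℕ)) := by
    rintro ⟨i, j⟩ hij ⟨i', j'⟩ hij' h
    simp only [Finset.mem_coe, Finset.mem_product, Finset.mem_range] at hij hij'
    have h' : (y ^ i * x * (y ^ i)⁻¹) ^ (j + 1) = (y ^ i' * x * (y ^ i')⁻¹) ^ (j' + 1) :=
      congrArg Subtype.val h
    rw [hxiq, hxiq] at h'
    have hxj : x ^ (j + 1) ≠ 1 := fun h0 => by
      have h1 := Nat.le_of_dvd (by omega) (orderOf_dvd_of_pow_eq_one h0)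
      omega
    have hcent : ∀ k : ℕ, ∀ a ∈ (P : Subgroup G), x ^ k * a = a * x ^ k := fun k a ha =>
      ((show Commute x a from hxP a ha).pow_left k).eq
    have hii : i = i' := by
      refine hyi i hij.1 i' hij'.1 (sylow_eq_of_centralizes hab hcyc htop hna hloc hdp
        (v := y ^ i * x ^ (j + 1) * (y ^ i)⁻¹) (by rw [Ne, conj_eq_one_iff]; exact hxj) ?_
        (centralizes_smul P (y ^ i) (hcent _)) ?_)
      · rw [show orderOf (y ^ i * x ^ (j + 1) * (y ^ i)⁻¹) = orderOf (x ^ (j + 1)) from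
          (MulAut.conj (y ^ i)).orderOf_eq _]
        exact fun hd => hxo (hd.trans (orderOf_pow_dvd _))
      · rw [h']
        exact centralizes_smul P (y ^ i') (hcent _)
    subst hii
    have h5 := pow_injOn_Iio_orderOf (x := x) (by rw [hqx, Set.mem_Iio]; omega)
      (by rw [hqx, Set.mem_Iio]; omega) (mul_left_cancel (mul_right_cancel h'))
    rw [show j = j' by omega]
  have hone : (⟨1, one_mem _⟩ : centralizer ((Q : Subgroup G) : Set G)) ∈ E := by
    simp [hE, one_mem]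
  have himg : (Finset.range p ×ˢ Finset.range (q - 1)).image f ⊆ E.erase ⟨1, one_mem _⟩ := by
    intro u hu
    obtain ⟨⟨i, j⟩, hij, rfl⟩ := Finset.mem_image.mp hu
    simp only [Finset.mem_product, Finset.mem_range] at hij
    refine Finset.mem_erase.mpr ⟨fun h => ?_, Finset.mem_filter.mpr ⟨Finset.mem_univ _,
      pow_mem (hxi i) _, ?_⟩⟩
    · have h' : (y ^ i * x * (y ^ i)⁻¹) ^ (j + 1) = 1 := congrArg Subtype.val h
      rw [hxiq, conj_eq_one_iff] at h'
      have h1 := Nat.le_of_dvd (by omega) (orderOf_dvd_of_pow_eq_one h')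
      omega
    · show ((y ^ i * x * (y ^ i)⁻¹) ^ (j + 1)) ^ q = 1
      rw [← pow_mul, mul_comm, pow_mul, hxiq, ← hqx, pow_orderOf_eq_one, mul_one, mul_inv_cancel,
        one_pow]
  have hcard := Finset.card_le_card himg
  rw [Finset.card_image_of_injOn hfinj, Finset.card_product, Finset.card_range, Finset.card_range,
    Finset.card_erase_of_mem hone] at hcard
  have hEpos : 0 < E.card := Finset.card_pos.mpr ⟨_, hone⟩
  -- `q` divides `p - 1`
  have hx₁ : y * x * y⁻¹ ∈ centralizer ((Q : Subgroup G) : Set G) := by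
    simpa using hQC (hxi 1)
  have hqp1 : q ∣ p - 1 := by
    set m := χ₀ ⟨_, hx₁⟩ with hm
    have hmq : m ^ q = 1 := hpowχ P z₀ hz₀ hz₀o _ q (by
      show (y * x * y⁻¹) ^ q = 1
      rw [show (y * x * y⁻¹) ^ q = y * x ^ q * y⁻¹ from (map_pow (MulAut.conj y) x q).symm,
        ← hqx, pow_orderOf_eq_one, mul_one, mul_inv_cancel])
    have hm1 : m ≠ 1 := by
      intro h
      have hc := hχ P z₀ hz₀ hz₀o ⟨_, hCQN hx₁⟩
      rw [show χ P z₀ hz₀ hz₀o ⟨_, hCQN hx₁⟩ = 1 from h, ZMod.val_one, pow_one] at hc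
      refine hPne (sylow_eq_of_centralizes hab hcyc htop hna hloc hdp
        (v := y * x * y⁻¹) (by rw [Ne, conj_eq_one_iff]; exact hx1) ?_ (centralizes_smul P y hxP) ?_)
      · rw [show orderOf (y * x * y⁻¹) = orderOf x from (MulAut.conj y).orderOf_eq x]
        exact hxo
      · exact centralizes_of_fixes P (hcyc P) (hCQN hx₁) (by
          rw [show orderOf (y * x * y⁻¹) = orderOf x from (MulAut.conj y).orderOf_eq x]
          exact hxo) hz₀ (ne_one_of_order hz₀o) (mul_inv_eq_iff_eq_mul.mp hc)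
    have hm0 : m ≠ 0 := fun h => by rw [h, zero_pow hq.out.ne_zero] at hmq; exact zero_ne_one hmq
    rw [← orderOf_eq_prime hmq hm1]
    exact orderOf_dvd_of_pow_eq_one (ZMod.pow_card_sub_one_eq_one hm0)
  have hq2 := hq.out.two_le
  have hqle : q + 1 ≤ p := by
    have h1 := Nat.le_of_dvd (by have := hp.out.two_le; omega) hqp1
    omega
  have hqq : p * (q - 1) + 1 ≤ q * q := by omega
  have hpq : p = q + 1 := by
    obtain ⟨r, rfl⟩ : ∃ r, q = r + 1 := ⟨q - 1, by omega⟩
    simp only [Nat.add_sub_cancel] at hqq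
    nlinarith
  have hq_eq : q = 2 := by
    rcases hq.out.eq_two_or_odd' with h | h
    · exact h
    · exfalso
      have he : Even p := by rw [hpq]; exact h.add_one
      rcases hp.out.eq_two_or_odd' with h2 | h2
      · exact hp2 h2
      · exact (Nat.not_even_iff_odd.mpr h2) he
  have hp3 : p = 3 := by omega
  have hq1 : q - 1 = 1 := by omega
  have hqq4 : q * q = 4 := by
    have : ∀ r : ℕ, r = 2 → r * r = 4 := by rintro r rfl; rfl
    exact this q hq_eq
  refine ⟨hq_eq, hp3, Q, y, hxQ, ?_, hCQ, ?_, ?_, ?_⟩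
  · intro u hu1 huQ
    by_cases h1 : u = 1
    · exact Or.inl h1
    right
    have heq : (Finset.range p ×ˢ Finset.range (q - 1)).image f = E.erase ⟨1, one_mem _⟩ := by
      refine Finset.eq_of_subset_of_card_le himg ?_
      rw [Finset.card_image_of_injOn hfinj, Finset.card_product, Finset.card_range,
        Finset.card_range, Finset.card_erase_of_mem hone, hq1, mul_one]
      omega
    have hu : (⟨u, hQC huQ⟩ : centralizer ((Q : Subgroup G) : Set G)) ∈
        (Finset.range p ×ˢ Finset.range (q - 1)).image f := by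
      rw [heq]
      exact Finset.mem_erase.mpr ⟨fun h => h1 (congrArg Subtype.val h),
        Finset.mem_filter.mpr ⟨Finset.mem_univ _, huQ, hu1⟩⟩
    obtain ⟨⟨i, j⟩, hij, hf⟩ := Finset.mem_image.mp hu
    simp only [Finset.mem_product, Finset.mem_range] at hij
    have hf' : (y ^ i * x * (y ^ i)⁻¹) ^ (j + 1) = u := congrArg Subtype.val hf
    rw [show j = 0 by omega, pow_one] at hf'
    exact ⟨i, hf'.symm⟩
  · intro u hu
    have hsq : ∀ m : ZMod p, m ≠ 0 → m * m = 1 := by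
      intro m hm
      have h := ZMod.pow_card_sub_one_eq_one hm
      rwa [show p - 1 = 2 by omega, pow_two] at h
    have hne0 : ∀ (R : Sylow p G) (z : G) (hz : z ∈ (R : Subgroup G)) (hzo : orderOf z = p)
        (w : normalizer ((R : Subgroup G) : Set G)), χ R z hz hzo w ≠ 0 := by
      intro R z hz hzo w h
      have h1 := hχ R z hz hzo w
      rw [h, ZMod.val_zero, pow_zero, conj_eq_one_iff] at h1
      exact ne_one_of_order hzo h1
    have hfix : ∀ (R : Sylow p G) (z : G) (hz : z ∈ (R : Subgroup G)) (hzo : orderOf z = p)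
        (w : normalizer ((R : Subgroup G) : Set G)),
        (w : G) ^ 2 * z = z * (w : G) ^ 2 := by
      intro R z hz hzo w
      have h1 := conj_pow_eq (hχ R z hz hzo w) 2
      refine mul_inv_eq_iff_eq_mul.mp (h1.trans (Eq.trans ?_ (pow_one z)))
      rw [pow_eq_pow_iff_modEq, hzo, ← ZMod.natCast_eq_natCast_iff]
      simp only [pow_two, Nat.cast_mul, ZMod.natCast_val, ZMod.cast_id', id_eq, Nat.cast_one]
      exact hsq _ (hne0 R z hz hzo w)
    by_contra hne
    have hwo : ¬ p ∣ orderOf (u ^ 2) := fun hd =>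
      hCQ ((hd.trans (orderOf_pow_dvd _)).trans (Subgroup.orderOf_dvd_natCard _ hu))
    exact hPne (sylow_eq_of_centralizes hab hcyc htop hna hloc hdp hne hwo
      (centralizes_of_fixes P₁ (hcyc P₁) (pow_mem (hQN₁ hu) 2) hwo hz₁P (ne_one_of_order hz₁o)
        (hfix P₁ z₁ hz₁P hz₁o ⟨u, hQN₁ hu⟩))
      (centralizes_of_fixes P (hcyc P) (pow_mem (hCQN hu) 2) hwo hz₀ (ne_one_of_order hz₀o)
        (hfix P z₀ hz₀ hz₀o ⟨u, hCQN hu⟩)))
  · have hne0 : ∀ (R : Sylow p G) (z : G) (hz : z ∈ (R : Subgroup G)) (hzo : orderOf z = p)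
        (w : normalizer ((R : Subgroup G) : Set G)),
        χ R z hz hzo w ∈ (Finset.univ.erase (0 : ZMod p)) := by
      intro R z hz hzo w
      refine Finset.mem_erase.mpr ⟨fun h => ?_, Finset.mem_univ _⟩
      have h1 := hχ R z hz hzo w
      rw [h, ZMod.val_zero, pow_zero, conj_eq_one_iff] at h1
      exact ne_one_of_order hzo h1
    rw [Nat.card_eq_fintype_card, ← Finset.card_univ]
    refine (Finset.card_le_card_of_injOn (fun u => (χ₀ u, χ₁ u))
      (t := (Finset.univ.erase (0 : ZMod p)) ×ˢ (Finset.univ.erase (0 : ZMod p)))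
      (fun u _ => Finset.mem_product.mpr ⟨hne0 _ _ _ _ _, hne0 _ _ _ _ _⟩) hinj.injOn).trans ?_
    rw [Finset.card_product, Finset.card_erase_of_mem (Finset.mem_univ _), Finset.card_univ,
      ZMod.card, hp3]
  · refine le_trans (le_trans (by rw [hq1, mul_one] at hcard; omega) le_rfl)
      (Nat.card_le_card_of_injective (fun u : {u // u ∈ E} =>
        (⟨((u : centralizer ((Q : Subgroup G) : Set G)) : G), (Finset.mem_filter.mp u.2).2.1⟩ : (Q : Subgroup G)))
        (fun a b h => Subtype.ext (Subtype.ext (congrArg (fun w : (Q : Subgroup G) => (w : G)) h))) |>.trans'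
        (Nat.card_eq_finsetCard E).ge)

end Cfsg.Agent.FGB.CycAb
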