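import Cfsg.Agent.Lib.FGB.CyclicSylowCentral

/-!
# Cyclic Sylow subgroups: the Klein four case is impossible
-/

set_option autoImplicit false
set_option linter.unusedSectionVars false

namespace Cfsg.Agent.FGB.CycAb

open Subgroup Finset

universe u

variable {G : Type u} [Group G] [Finite G] [Fintype G] [DecidableEq G] {p : ℕ}
  [hp : Fact p.Prime]

/-- The number of conjugates times the order of the centraliser. -/
theorem card_class_mul {x : G} (hone : ∀ t, orderOf t = 2 → IsConj x t) (hx : orderOf x = 2) :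
    (invols G).card * Nat.card (centralizer ({x} : Set G)) = Nat.card G := by
  classical
  have hfib : ∀ t ∈ invols G,
      (Finset.univ.filter fun g : G => g * x * g⁻¹ = t).card =
        Nat.card (centralizer ({x} : Set G)) := by
    intro t ht
    obtain ⟨g₀, hg₀⟩ := isConj_iff.mp (hone t (mem_invols.mp ht))
    rw [← Nat.card_eq_finsetCard]
    refine Nat.card_congr
      { toFun := fun g => ⟨g₀⁻¹ * g, ?_⟩
        invFun := fun c => ⟨g₀ * c, ?_⟩
        left_inv := fun g => Subtype.ext (by show g₀ * (g₀⁻¹ * (g : G)) = g; group)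
        right_inv := fun c => Subtype.ext (by show g₀⁻¹ * (g₀ * (c : G)) = c; group) }
    · have hg := (Finset.mem_filter.mp g.2).2
      rw [mem_centralizer_singleton_iff]
      calc g₀⁻¹ * (g : G) * x = g₀⁻¹ * ((g : G) * x * (g : G)⁻¹) * g := by group
        _ = g₀⁻¹ * (g₀ * x * g₀⁻¹) * g := by rw [hg, hg₀]
        _ = x * (g₀⁻¹ * g) := by group
    · refine Finset.mem_filter.mpr ⟨Finset.mem_univ _, ?_⟩
      have hc := mem_centralizer_singleton_iff.mp c.2
      calc g₀ * (c : G) * x * (g₀ * c)⁻¹ = g₀ * ((c : G) * x) * (c : G)⁻¹ * g₀⁻¹ := by group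
        _ = g₀ * (x * c) * (c : G)⁻¹ * g₀⁻¹ := by rw [hc]
        _ = t := by rw [← hg₀]; group
  have h := Finset.card_eq_sum_card_fiberwise (f := fun g : G => g * x * g⁻¹) (s := Finset.univ)
    (t := invols G) (fun g _ => by
      rw [Finset.mem_coe, mem_invols, ← hx]
      exact (MulAut.conj g).orderOf_eq x)
  rw [Finset.sum_congr rfl hfib, Finset.sum_const, smul_eq_mul, Finset.card_univ] at h
  rw [← h, Nat.card_eq_fintype_card]

variable (hp2 : p ≠ 2) (hab : Hab p G) (hcyc : ∀ P : Sylow p G, IsCyclic (P : Subgroup G))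
variable (htop : ∀ H : Subgroup G, H.Normal → H = ⊥ ∨ H = ⊤) (hna : ¬ IsMulCommutative G)
variable (hloc : ∀ H : Subgroup G, H ≠ ⊤ →
  Cfsg.HasNormalPComplement p H ∨ ∀ R : Sylow p H, (R : Subgroup H).Normal)
variable (hdp : p ∣ Nat.card G)

include hp2 hab hcyc htop hna hloc hdp in
theorem exists_prime_central {R : Sylow p G} {w : G} (hwo : ¬ p ∣ orderOf w)
    (hwR : ∀ a ∈ (R : Subgroup G), w * a = a * w) {r : ℕ} [hr : Fact r.Prime]
    (hrw : r ∣ orderOf w) : ∃ v : G, orderOf v = r ∧ r = 2 ∧ p = 3 ∧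
      ∀ a ∈ (R : Subgroup G), v * a = a * v := by
  refine ⟨w ^ (orderOf w / r), ?_, ?_⟩
  · rw [orderOf_pow_orderOf_div (orderOf_pos w).ne' hrw]
  have hrp : r ≠ p := fun h => hwo (h ▸ hrw)
  have hv : ∀ a ∈ (R : Subgroup G), w ^ (orderOf w / r) * a = a * w ^ (orderOf w / r) :=
    fun a ha => ((show Commute w a from hwR a ha).pow_left _).eq
  obtain ⟨h1, h2, -⟩ := central_data hp2 hab hcyc htop hna hloc hdp
    (orderOf_pow_orderOf_div (orderOf_pos w).ne' hrw) hrp hv
  exact ⟨h1, h2, hv⟩

include hp2 hab hcyc htop hna hloc hdp in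
theorem false_of_central {P : Sylow p G} {x₀ : G} (hx₀1 : x₀ ≠ 1) (hx₀o : ¬ p ∣ orderOf x₀)
    (hx₀P : ∀ a ∈ (P : Subgroup G), x₀ * a = a * x₀) : False := by
  classical
  haveI h2f : Fact (Nat.Prime 2) := ⟨Nat.prime_two⟩
  obtain ⟨q, hq, hqx⟩ := Nat.exists_prime_and_dvd (n := orderOf x₀)
    (by rwa [Ne, orderOf_eq_one_iff])
  haveI := Fact.mk hq
  obtain ⟨x, hxo, hq2, hp3, hxP⟩ :=
    exists_prime_central hp2 hab hcyc htop hna hloc hdp hx₀o hx₀P hqx
  rw [hq2] at hxo
  obtain ⟨-, -, Q, y, hxQ, hconj, -, hsq, hCle, hQge⟩ :=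
    central_data hp2 hab hcyc htop hna hloc hdp hxo (fun h => hp2 h.symm) hxP
  have hQC : (Q : Subgroup G) = centralizer ((Q : Subgroup G) : Set G) := by
    have hQp : ¬ p ∣ Nat.card Q := by
      intro hd
      obtain ⟨f, hf⟩ := Q.2.exists_card_eq
      rw [show Nat.card Q = 2 ^ f from hf] at hd
      exact not_dvd_two hp2 (hp.out.dvd_of_dvd_pow hd)
    exact eq_of_le_of_card_ge
      (fun g hg => mem_centralizer_iff.mpr fun u hu => hab.comm hQp hu hg) (hCle.trans hQge)
  have hQ4 : Nat.card (Q : Subgroup G) = 4 :=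
    le_antisymm ((congrArg (fun H : Subgroup G => Nat.card H) hQC).le.trans hCle) hQge
  have hQsq : ∀ a ∈ (Q : Subgroup G), a ^ 2 = 1 := fun a ha => hsq a (hQC ▸ ha)
  have hxne : x ≠ 1 := fun h => by rw [h, orderOf_one] at hxo; norm_num at hxo
  have hK : IsKleinFour (Q : Subgroup G) := by
    refine ⟨hQ4, ?_⟩
    have hd : Monoid.exponent (Q : Subgroup G) ∣ 2 :=
      Monoid.exponent_dvd_of_forall_pow_eq_one fun a => Subtype.ext (by simpa using hQsq a a.2)
    rcases (Nat.dvd_prime Nat.prime_two).mp hd with h | h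
    · exfalso
      have h1 := Monoid.order_dvd_exponent (⟨x, hxQ⟩ : (Q : Subgroup G))
      rw [h, ← Subgroup.orderOf_coe, show orderOf x = 2 from hxo] at h1
      norm_num at h1
    · exact h
  have hone : ∀ t, orderOf t = 2 → IsConj x t := by
    intro t ht
    obtain ⟨Q', hQ'⟩ := (IsPGroup.of_card (p := 2) (n := 1) (G := zpowers t)
      (by rw [Nat.card_zpowers, ht, pow_one])).exists_le_sylow
    obtain ⟨g, rfl⟩ := MulAction.exists_smul_eq G Q Q'
    have htQ : g⁻¹ * t * g ∈ (Q : Subgroup G) := (sylow_conj_mem Q g).mp (hQ' (mem_zpowers t))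
    rcases hconj _ (hQsq _ htQ) htQ with h | ⟨i, hi⟩
    · exfalso
      have : t = 1 := by
        calc t = g * (g⁻¹ * t * g) * g⁻¹ := by group
          _ = 1 := by rw [h]; group
      rw [this, orderOf_one] at ht
      norm_num at ht
    · refine isConj_iff.mpr ⟨g * y ^ i, ?_⟩
      calc g * y ^ i * x * (g * y ^ i)⁻¹ = g * (y ^ i * x * (y ^ i)⁻¹) * g⁻¹ := by group
        _ = t := by rw [← hi]; group
  have hxo' : ¬ p ∣ orderOf x := by rw [hxo]; exact not_dvd_two hp2
  -- central involutions and Sylow normalisers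
  have hexx : ∀ R : Sylow p G, ∃ xR : G, orderOf xR = 2 ∧
      ∀ a ∈ (R : Subgroup G), xR * a = a * xR := by
    intro R
    obtain ⟨g, rfl⟩ := MulAction.exists_smul_eq G P R
    exact ⟨g * x * g⁻¹, by rw [← hxo]; exact (MulAut.conj g).orderOf_eq x, centralizes_smul P g hxP⟩
  have hG4 : Nat.card G = 4 * (Q : Subgroup G).index := by
    rw [← hQ4, card_mul_index]
  have hG8 : ¬ 8 ∣ Nat.card G := fun h => by
    rw [hG4, show (8 : ℕ) = 4 * 2 from rfl, Nat.mul_dvd_mul_iff_left (by norm_num)] at h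
    exact Q.not_dvd_index h
  have hN : ∀ R : Sylow p G,
      Nat.card (normalizer ((R : Subgroup G) : Set G)) = 4 * Nat.card (R : Subgroup G) := by
    intro R
    obtain ⟨xR, hxRo, hxR⟩ := hexx R
    obtain ⟨-, -, QR, -, hxQR, -, hCR, -, -, hQR⟩ :=
      central_data hp2 hab hcyc htop hna hloc hdp hxRo (fun h => hp2 h.symm) hxR
    set N := normalizer ((R : Subgroup G) : Set G) with hNdef
    have hNC : centralizer ({xR} : Set G) = N := centralizer_eq hcyc htop hna hloc hdp hab R
      (fun h => by rw [h, orderOf_one] at hxRo; norm_num at hxRo)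
      (by rw [hxRo]; exact not_dvd_two hp2) hxR
    have hQRN : (QR : Subgroup G) ≤ N := by
      rw [← hNC]
      intro g hg
      refine mem_centralizer_singleton_iff.mpr (hab.comm (fun hd => ?_) hg hxQR)
      obtain ⟨f, hf⟩ := QR.2.exists_card_eq
      rw [hf] at hd
      exact not_dvd_two hp2 (hp.out.dvd_of_dvd_pow hd)
    have h4 : 4 ∣ Nat.card N := by
      have h1 := card_dvd_of_le hQRN
      obtain ⟨f, hf⟩ := QR.2.exists_card_eq
      rw [hf] at h1
      show 2 ^ 2 ∣ _
      refine (pow_dvd_pow 2 ?_).trans h1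
      have h2 : 4 ≤ 2 ^ f := hf ▸ hQR
      rcases Nat.lt_or_ge f 2 with h | h
      · have : 2 ^ f ≤ 2 ^ 1 := Nat.pow_le_pow_right (by norm_num) (by omega)
        omega
      · exact h
    obtain ⟨f, hf⟩ := R.2.exists_card_eq
    have h4P : 4 * Nat.card (R : Subgroup G) ∣ Nat.card N := by
      refine Nat.Coprime.mul_dvd_of_dvd_of_dvd ?_ h4 (card_dvd_of_le le_normalizer)
      rw [show Nat.card (R : Subgroup G) = p ^ f from hf, hp3]
      exact Nat.Coprime.pow_right f (by norm_num)
    obtain ⟨k, hk⟩ := h4P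
    rcases eq_or_ne k 1 with rfl | hk1
    · rw [hk, mul_one]
    exfalso
    obtain ⟨r, hr, hrk⟩ := Nat.exists_prime_and_dvd hk1
    haveI := Fact.mk hr
    have hNG : Nat.card N ∣ Nat.card G := card_subgroup_dvd_card N
    rcases eq_or_ne r 2 with rfl | hr2
    · refine hG8 (Dvd.dvd.trans ?_ hNG)
      rw [hk]
      obtain ⟨c, rfl⟩ := hrk
      exact ⟨Nat.card (R : Subgroup G) * c, by ring⟩
    rcases eq_or_ne r p with rfl | hrp
    · refine R.not_dvd_index ?_
      have h1 : Nat.card (R : Subgroup G) * r ∣ Nat.card (R : Subgroup G) * (R : Subgroup G).index := by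
        rw [card_mul_index]
        refine Dvd.dvd.trans ?_ hNG
        rw [hk]
        obtain ⟨c, rfl⟩ := hrk
        exact ⟨4 * c, by ring⟩
      exact (Nat.mul_dvd_mul_iff_left Nat.card_pos).mp h1
    obtain ⟨g, hg, hgo⟩ := exists_orderOf_dvd (p := r) (H := N) (hk ▸ hrk.mul_left _)
    obtain ⟨z, hz, hzo⟩ := exists_orderOf_dvd (R.dvd_card_of_dvd_card hdp)
    obtain ⟨m, hm⟩ := exists_power R (hcyc R) hg hz
    have hm2 : g ^ 2 * z = z * g ^ 2 := by
      refine mul_inv_eq_iff_eq_mul.mp ((conj_pow_eq hm 2).trans (Eq.trans ?_ (pow_one z)))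
      rw [pow_eq_pow_iff_modEq, hzo]
      have hm0 : m % 3 ≠ 0 := by
        intro h
        have h1 : z ^ m = 1 := by
          rw [← pow_mod_orderOf, hzo]
          nth_rewrite 1 [show p = 3 from hp3]
          rw [h, pow_zero]
        rw [h1, conj_eq_one_iff] at hm
        exact ne_one_of_order hzo hm
      rw [Nat.ModEq, hp3, Nat.pow_mod]
      rcases (show m % 3 = 1 ∨ m % 3 = 2 by omega) with h | h <;> rw [h] <;> rfl
    have hg2 : orderOf (g ^ 2) = r := by
      rw [Nat.Coprime.orderOf_pow (by rw [hgo]; exact (Nat.coprime_primes hr Nat.prime_two).mpr hr2),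
        hgo]
    have hcen := centralizes_of_fixes R (hcyc R) (pow_mem hg 2)
      (by rw [hg2]; exact fun h => hrp ((Nat.prime_dvd_prime_iff_eq hp.out hr).mp h).symm)
      hz (ne_one_of_order hzo) hm2
    obtain ⟨-, -, h, -⟩ := exists_prime_central hp2 hab hcyc htop hna hloc hdp (R := R)
      (by rw [hg2]; exact fun h => hrp ((Nat.prime_dvd_prime_iff_eq hp.out hr).mp h).symm)
      hcen (r := r) (by rw [hg2])
    exact hr2 h
  have hCx : Nat.card (centralizer ({x} : Set G)) = 4 * Nat.card (P : Subgroup G) := by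
    rw [centralizer_eq hcyc htop hna hloc hdp hab P hxne hxo' hxP, hN P]
  set π := Nat.card (P : Subgroup G) with hπ
  have hπ3 : 3 ≤ π := by
    have h := Nat.le_of_dvd Nat.card_pos (P.dvd_card_of_dvd_card hdp)
    rw [hπ]
    exact le_trans hp3.ge h
  set T := (invols G).card with hT
  have hTG : T * (4 * π) = Nat.card G := hCx ▸ card_class_mul hone hxo
  -- inverting involutions
  have hB : ∀ R : Sylow p G, (inverting R).card ≤ 2 * π := by
    intro R
    obtain ⟨xR, hxRo, hxR⟩ := hexx R
    have hRπ : Nat.card (R : Subgroup G) = π := by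
      rw [hπ]
      exact Sylow.card_eq_multiplicity R |>.trans (Sylow.card_eq_multiplicity P).symm
    set N := Finset.univ.filter fun g => g ∈ normalizer ((R : Subgroup G) : Set G) with hNf
    set RF := Finset.univ.filter fun g => g ∈ (R : Subgroup G) with hRF
    have hNc : N.card = 4 * π := by
      rw [← hRπ, ← hN R, ← Nat.card_eq_finsetCard]
      exact Nat.card_congr (Equiv.subtypeEquivRight fun g => by simp [hNf])
    have hRc : RF.card = π := by
      rw [← hRπ, ← Nat.card_eq_finsetCard]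
      exact Nat.card_congr (Equiv.subtypeEquivRight fun g => by simp [hRF])
    have hxN : xR ∈ normalizer ((R : Subgroup G) : Set G) :=
      centralizer_le_normalizer _ (mem_centralizer_iff.mpr fun a ha => (hxR a ha).symm)
    have hcm : ∀ a ∈ RF ∪ RF.image (xR * ·), a ∈ N ∧ ∀ b ∈ (R : Subgroup G), a * b = b * a := by
      intro a ha
      rcases Finset.mem_union.mp ha with h | h
      · have h' := (Finset.mem_filter.mp h).2
        exact ⟨Finset.mem_filter.mpr ⟨Finset.mem_univ _, le_normalizer h'⟩,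
          fun b hb => commute_sylow R (hcyc R) h' hb⟩
      · obtain ⟨c, hc, rfl⟩ := Finset.mem_image.mp h
        have h' := (Finset.mem_filter.mp hc).2
        exact ⟨Finset.mem_filter.mpr ⟨Finset.mem_univ _, mul_mem hxN (le_normalizer h')⟩,
          fun b hb => ((show Commute xR b from hxR b hb).mul_left
            (show Commute c b from commute_sylow R (hcyc R) h' hb)).eq⟩
    have hdisj : Disjoint RF (RF.image (xR * ·)) := by
      rw [Finset.disjoint_left]
      intro a ha ha'
      obtain ⟨c, hc, rfl⟩ := Finset.mem_image.mp ha'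
      have hxr : xR ∈ (R : Subgroup G) := by
        simpa using mul_mem (Finset.mem_filter.mp ha).2 (inv_mem (Finset.mem_filter.mp hc).2)
      refine not_dvd_two hp2 (hxRo ▸ ?_)
      obtain ⟨i, hi⟩ := IsPGroup.iff_orderOf.mp R.2 ⟨xR, hxr⟩
      rw [← Subgroup.orderOf_coe] at hi
      show p ∣ orderOf xR
      rw [show orderOf xR = p ^ i from hi]
      refine dvd_pow_self p fun h0 => ?_
      rw [hxRo, h0, pow_zero] at hi
      exact absurd hi (by norm_num)
    have hsub : inverting R ⊆ N \ (RF ∪ RF.image (xR * ·)) := by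
      intro t ht
      obtain ⟨-, htN, htc⟩ := mem_inverting.mp ht
      exact Finset.mem_sdiff.mpr ⟨Finset.mem_filter.mpr ⟨Finset.mem_univ _, htN⟩,
        fun h => htc (hcm t h).2⟩
    refine (Finset.card_le_card hsub).trans ?_
    rw [Finset.card_sdiff_of_subset fun a ha => (hcm a ha).1, Finset.card_union_of_disjoint hdisj,
      Finset.card_image_of_injective _ (mul_right_injective xR), hNc, hRc]
    omega
  letI := Fintype.ofFinite (Sylow p G)
  have hnp : Fintype.card (Sylow p G) = T := by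
    have h1 := card_mul_index (normalizer ((P : Subgroup G) : Set G))
    have h0 : (normalizer ((P : Subgroup G) : Set G)).index = Fintype.card (Sylow p G) := by
      rw [← Nat.card_eq_fintype_card]
      exact (Sylow.card_eq_index_normalizer P).symm
    rw [hN P, h0, ← hTG, mul_comm T] at h1
    exact Nat.eq_of_mul_eq_mul_left (by omega) h1
  have hup : (ncPairs G).card ≤ T * (2 * π * (2 * π)) := by
    rw [card_ncPairs_eq hp2 hab hcyc htop hna hloc hdp, ← hnp, ← Finset.card_univ,
      ← smul_eq_mul, ← Finset.sum_const]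
    refine Finset.sum_le_sum fun R _ => (Finset.card_filter_le _ _).trans ?_
    rw [Finset.card_product]
    exact Nat.mul_le_mul (hB R) (hB R)
  have hlow : T * (T - 4 * π) ≤ (ncPairs G).card := by
    rw [card_ncPairs, hT, ← smul_eq_mul, ← Finset.sum_const]
    refine Finset.sum_le_sum fun s hs => ?_
    obtain ⟨g, hg⟩ := isConj_iff.mp (hone s (mem_invols.mp hs))
    have hs4 : Nat.card (centralizer ({s} : Set G)) = 4 * π := by
      rw [← hCx]
      refine (Nat.card_congr
        { toFun := fun c => ⟨g * c * g⁻¹, ?_⟩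
          invFun := fun c => ⟨g⁻¹ * c * g, ?_⟩
          left_inv := fun c => Subtype.ext (by show g⁻¹ * (g * (c : G) * g⁻¹) * g = c; group)
          right_inv := fun c => Subtype.ext (by show g * (g⁻¹ * (c : G) * g) * g⁻¹ = c; group) :
          centralizer ({x} : Set G) ≃ centralizer ({s} : Set G) }).symm
      · have hc := mem_centralizer_singleton_iff.mp c.2
        rw [mem_centralizer_singleton_iff, ← hg]
        calc g * (c : G) * g⁻¹ * (g * x * g⁻¹) = g * ((c : G) * x) * g⁻¹ := by group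
          _ = g * (x * c) * g⁻¹ := by rw [hc]
          _ = g * x * g⁻¹ * (g * c * g⁻¹) := by group
      · have hc : (c : G) * (g * x * g⁻¹) = g * x * g⁻¹ * c := by
          rw [hg]
          exact mem_centralizer_singleton_iff.mp c.2
        rw [mem_centralizer_singleton_iff]
        calc g⁻¹ * (c : G) * g * x = g⁻¹ * ((c : G) * (g * x * g⁻¹)) * g := by group
          _ = g⁻¹ * (g * x * g⁻¹ * c) * g := by rw [hc]
          _ = x * (g⁻¹ * c * g) := by group
    have hcs : ((invols G).filter fun t => s * t = t * s).card ≤ 4 * π := by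
      rw [← hs4, ← Nat.card_eq_finsetCard]
      exact Nat.card_le_card_of_injective
        (fun t => (⟨t, mem_centralizer_singleton_iff.mpr (Finset.mem_filter.mp t.2).2.symm⟩ :
          centralizer ({s} : Set G)))
        (fun a b h => Subtype.ext (congrArg (fun w : centralizer ({s} : Set G) => (w : G)) h))
    have h := Finset.card_filter_add_card_filter_not (s := invols G) (fun t => s * t = t * s)
    have hne : ((invols G).filter fun t => ¬ s * t = t * s).card =
        ((invols G).filter fun t => s * t ≠ t * s).card := by congr 1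
    omega
  have hTpos : 0 < T := Finset.card_pos.mpr ⟨x, mem_invols.mpr hxo⟩
  have hbound : T ≤ 4 * π * π + 4 * π := by
    have h1 : T - 4 * π ≤ 2 * π * (2 * π) := Nat.le_of_mul_le_mul_left (hlow.trans hup) hTpos
    have h2 : 2 * π * (2 * π) = 4 * π * π := by ring
    omega
  -- the order formula
  obtain ⟨M, hM⟩ := Blocks.exists_isPModular (p := 2) Nat.prime_two
  have hone2 : ∀ s t : G, orderOf s = 2 → orderOf t = 2 → IsConj s t :=
    fun s t hs ht => (hone s hs).symm.trans (hone t ht)
  obtain ⟨ζ₂, ζ₃, ζ₄, ε, hε, h21, h31, h23, h24, h34, hblock, hval, hd2, hd3, hd4, -⟩ :=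
    Cfsg.Agent.S0948.result M hM Q hK hone2
  obtain ⟨hv2, hv3, hv4⟩ := hval x hxo
  have h41 : (ζ₄ : G → ℂ) ≠ fun _ => 1 := by
    intro h
    rw [h] at hv4
    norm_num at hv4
  haveI : IsSimpleGroup G := by
    haveI : Nontrivial G := ⟨⟨x, 1, hxne⟩⟩
    exact ⟨htop⟩
  have hdeg : ∀ ζ : IrrCharacter G, (ζ : G → ℂ) ≠ (fun _ => 1) →
      2 ≤ charDegree (ζ : G → ℂ) := fun ζ hζ =>
    SmallSimple.two_le_charDegree hna fun e => hζ (by rw [e]; exact funext (CT.trivIrr_apply G))
  have e2 := hdeg ζ₂ h21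
  have e3 := hdeg ζ₃ h31
  have e4 := hdeg ζ₄ h41
  have hodd : Odd (Q : Subgroup G).index :=
    Nat.not_even_iff_odd.mp fun he => Q.not_dvd_index he.two_dvd
  have hform := Cfsg.Agent.S4479.result M hM (Q : Subgroup G).index hodd hG4
    (by
      rintro ⟨N, hNn, hNc⟩
      rcases htop N hNn with rfl | rfl
      · rw [Subgroup.card_bot] at hNc
        have : Nat.card G = 4 := by rw [hG4, ← hNc, mul_one]
        rw [← hTG] at this
        have h3 : 4 * π ≤ T * (4 * π) := Nat.le_mul_of_pos_left _ hTpos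
        omega
      · rw [Subgroup.card_top, hG4] at hNc
        have := hodd.pos
        omega)
    Q x hxQ hxo ζ₂ ζ₃ ζ₄ 1 ε (-1) hblock ⟨h21, h31, h41, h23, h24, h34⟩
    ⟨Or.inl rfl, hε, Or.inr rfl⟩ ⟨by simpa using hv2, hv3, by simpa using hv4⟩
  rw [← hQC, hQ4, hCx, ← hTG] at hform
  set a := charDegree (ζ₂ : G → ℂ)
  set b := charDegree (ζ₃ : G → ℂ)
  set c := charDegree (ζ₄ : G → ℂ)
  have ha5 : 5 ≤ a := by omega
  have hb5 : ε = 1 → 5 ≤ b := by intro h; subst h; omega
  push_cast at hform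
  have haR : (5 : ℚ) ≤ a := by exact_mod_cast ha5
  have hbR : (2 : ℚ) ≤ b := by exact_mod_cast e3
  have hcR : (2 : ℚ) ≤ c := by exact_mod_cast e4
  have hπR : (3 : ℚ) ≤ π := by exact_mod_cast hπ3
  have hTR : (T : ℚ) ≤ 4 * π * π + 4 * π := by exact_mod_cast hbound
  set α : ℚ := (a : ℚ) * b * c / ((a + 1) * (b + (ε : ℚ)) * (c + -1)) with hα
  have hα' : (25 / 36 : ℚ) ≤ α := by
    have h1 : (5 / 6 : ℚ) ≤ a / (a + 1) := by
      rw [div_le_div_iff₀ (by norm_num) (by linarith)]
      linarith
    have h2 : (5 / 6 : ℚ) ≤ b / (b + (ε : ℚ)) := by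
      rcases hε with h | h <;> subst h <;> push_cast
      · have h5 : (5 : ℚ) ≤ b := by exact_mod_cast hb5 rfl
        rw [div_le_div_iff₀ (by norm_num) (by linarith)]
        linarith
      · rw [div_le_div_iff₀ (by norm_num) (by linarith)]
        linarith
    have h3 : (1 : ℚ) ≤ c / (c + -1) := by
      rw [le_div_iff₀ (by linarith)]
      linarith
    have h12 := mul_le_mul h1 h2 (by norm_num) (le_trans (by norm_num) h1)
    have h123 := mul_le_mul h12 h3 (by norm_num) (le_trans (by norm_num) h12)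
    rw [hα, ← div_mul_div_comm, ← div_mul_div_comm]
    linarith
  have hTα : (T : ℚ) = 8 * α * (π : ℚ) ^ 2 := by
    have h4π : (4 * (π : ℚ)) ≠ 0 := by positivity
    refine mul_right_cancel₀ h4π ?_
    rw [hform]
    ring
  have h5 := mul_le_mul_of_nonneg_right hα' (sq_nonneg (π : ℚ))
  nlinarith

end Cfsg.Agent.FGB.CycAb
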