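import Cfsg.Agent.Lib.FGB.CyclicSylowAbelian
import Cfsg.Agent.S0182

/-!
# Cyclic Sylow subgroups: the case of a self-centralising Sylow subgroup
-/

set_option autoImplicit false
set_option linter.unusedSectionVars false

namespace Cfsg.Agent.FGB.CycAb

open Subgroup Finset

universe u

variable {G : Type u} [Group G] [Finite G] [Fintype G] [DecidableEq G] {p : ℕ}
  [hp : Fact p.Prime]

/-- The involutions. -/
noncomputable def invols (G : Type*) [Group G] [Fintype G] [DecidableEq G] : Finset G :=
  Finset.univ.filter fun t => orderOf t = 2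

theorem mem_invols {t : G} : t ∈ invols G ↔ orderOf t = 2 := by simp [invols]

/-- The involutions which invert the Sylow subgroup `P`. -/
noncomputable def inverting (P : Sylow p G) : Finset G :=
  open Classical in
  (invols G).filter fun t => t ∈ normalizer ((P : Subgroup G) : Set G) ∧
    ¬ ∀ a ∈ (P : Subgroup G), t * a = a * t

theorem mem_inverting {P : Sylow p G} {t : G} : t ∈ inverting P ↔ orderOf t = 2 ∧
    t ∈ normalizer ((P : Subgroup G) : Set G) ∧ ¬ ∀ a ∈ (P : Subgroup G), t * a = a * t := by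
  simp [inverting, mem_invols]

/-- A subgroup acting freely by conjugation on a finite set divides its size. -/
theorem card_dvd_of_free (A : Subgroup G) (s : Finset G)
    (hinv : ∀ a ∈ A, ∀ x ∈ s, a * x * a⁻¹ ∈ s)
    (hfree : ∀ a ∈ A, ∀ x ∈ s, a * x * a⁻¹ = x → a = 1) : Nat.card A ∣ s.card := by
  classical
  letI : MulAction A {x // x ∈ s} :=
    { smul := fun a x => ⟨(a : G) * x * (a : G)⁻¹, hinv a a.2 x x.2⟩
      one_smul := fun x => Subtype.ext (by show (1 : G) * x * (1 : G)⁻¹ = x; group)
      mul_smul := fun a b x => Subtype.ext (by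
        show ((a : G) * b) * x * ((a : G) * b)⁻¹ = a * (b * x * (b : G)⁻¹) * (a : G)⁻¹
        group) }
  have hs : ∀ x : {x // x ∈ s}, MulAction.stabilizer A x = ⊥ := fun x =>
    (Subgroup.eq_bot_iff_forall _).mpr fun a ha =>
      Subtype.ext (hfree a a.2 x x.2 (congrArg Subtype.val ha))
  have h := Nat.card_congr (MulAction.selfEquivSigmaOrbitsQuotientStabilizer A {x // x ∈ s})
  rw [Nat.card_sigma, Nat.card_eq_finsetCard] at h
  rw [h]
  refine Finset.dvd_sum fun ω _ => ?_
  rw [hs, ← Subgroup.index_eq_card, Subgroup.index_bot]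

variable (hp2 : p ≠ 2) (hab : Hab p G) (hcyc : ∀ P : Sylow p G, IsCyclic (P : Subgroup G))
variable (htop : ∀ H : Subgroup G, H.Normal → H = ⊥ ∨ H = ⊤) (hna : ¬ IsMulCommutative G)
variable (hloc : ∀ H : Subgroup G, H ≠ ⊤ →
  Cfsg.HasNormalPComplement p H ∨ ∀ R : Sylow p H, (R : Subgroup H).Normal)
variable (hdp : p ∣ Nat.card G)

include hp2 in
theorem not_dvd_two : ¬ p ∣ 2 := fun h =>
  hp2 ((Nat.prime_dvd_prime_iff_eq hp.out Nat.prime_two).mp h)

omit [Fintype G] [DecidableEq G] in
include hp2 in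
theorem eq_one_of_eq_inv (P : Sylow p G) {a : G} (ha : a ∈ (P : Subgroup G)) (h : a = a⁻¹) :
    a = 1 := by
  obtain ⟨i, hi⟩ := IsPGroup.iff_orderOf.mp P.2 ⟨a, ha⟩
  rw [← Subgroup.orderOf_coe] at hi
  rw [← orderOf_eq_one_iff]
  refine Nat.eq_one_of_dvd_coprimes
    ((hp.out.coprime_iff_not_dvd.mpr (not_dvd_two hp2)).pow_left i) (dvd_of_eq hi)
    (orderOf_dvd_of_pow_eq_one ?_)
  rw [pow_two]
  nth_rewrite 2 [h]
  exact mul_inv_cancel a

include hp2 hcyc in
theorem inverting_conj {P : Sylow p G} {t : G} (ht : t ∈ inverting P) {a : G}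
    (ha : a ∈ (P : Subgroup G)) : t * a * t⁻¹ = a⁻¹ := by
  obtain ⟨hto, htN, htc⟩ := mem_inverting.mp ht
  have ha' : t * a * t⁻¹ ∈ (P : Subgroup G) := (mem_normalizer_iff.mp htN a).mp ha
  have htt : t * t = 1 := by rw [← pow_two, ← hto, pow_orderOf_eq_one]
  have hc : a * (t * a * t⁻¹) = 1 := by
    by_contra hne
    refine htc (centralizes_of_fixes P (hcyc P) htN (by rw [hto]; exact not_dvd_two hp2)
      (mul_mem ha ha') hne ?_)
    have hti : t⁻¹ = t := inv_eq_of_mul_eq_one_right htt
    have h2 : a * (t * a * t⁻¹) = t * a * t⁻¹ * a := commute_sylow P (hcyc P) ha ha'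
    nth_rewrite 2 [h2]
    rw [hti]
    calc t * (a * (t * a * t)) = t * a * t * a * t := by simp [mul_assoc]
      _ = _ := by simp [mul_assoc]
  exact (eq_inv_of_mul_eq_one_right hc)

include hp2 hab hcyc htop hna hloc hdp in
/-- Two noncommuting involutions invert a common Sylow subgroup. -/
theorem pair_sylow {s t : G} (hs : orderOf s = 2) (ht : orderOf t = 2) (hst : s * t ≠ t * s) :
    ∃ P : Sylow p G, s ∈ inverting P ∧ t ∈ inverting P ∧
      ∀ R : Sylow p G, s ∈ inverting R → t ∈ inverting R → R = P := by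
  have hss : s * s = 1 := by rw [← pow_two, ← hs, pow_orderOf_eq_one]
  have htt : t * t = 1 := by rw [← pow_two, ← ht, pow_orderOf_eq_one]
  have hsi : s⁻¹ = s := inv_eq_of_mul_eq_one_right hss
  have hti : t⁻¹ = t := inv_eq_of_mul_eq_one_right htt
  set d := s * t with hd
  have hsd : s * d * s⁻¹ = d⁻¹ := by
    rw [hd, mul_inv_rev, hsi, hti, ← mul_assoc, hss, one_mul]
  have hsz : ∀ w ∈ zpowers d, s * w * s⁻¹ = w⁻¹ := by
    intro w hw
    obtain ⟨i, rfl⟩ := mem_zpowers_iff.mp hw
    rw [show s * d ^ i * s⁻¹ = (s * d * s⁻¹) ^ i from map_zpow (MulAut.conj s) d i, hsd, inv_zpow]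
  obtain ⟨a, b, hab', ha, hb, hao, j, hbj⟩ := exists_parts (p := p) d
  have haa : a * a = 1 := by
    set A := zpowers a with hA
    have hsA : zpowers s ≤ normalizer (A : Set G) := by
      rw [zpowers_le, mem_normalizer_iff]
      intro w
      have hh : ∀ w ∈ A, s * w * s⁻¹ ∈ A := fun w hw => by
        rw [hsz w (zpowers_le.mpr ha hw)]
        exact inv_mem hw
      refine ⟨hh w, fun hw => ?_⟩
      have := hh _ hw
      rw [show s * (s * w * s⁻¹) * s⁻¹ = (s * s) * w * (s * s)⁻¹ by group, hss] at this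
      simpa using this
    have hndvd : ¬ p ∣ Nat.card (A ⊔ zpowers s : Subgroup G) := by
      intro hdiv
      obtain ⟨y, hy, hyo⟩ := exists_orderOf_dvd hdiv
      rw [← SetLike.mem_coe, sup_comm, coe_mul_of_left_le_normalizer_right _ _ hsA] at hy
      obtain ⟨u, hu, v, hv, rfl⟩ := Set.mem_mul.mp hy
      obtain ⟨i, rfl⟩ := mem_zpowers_iff.mp (SetLike.mem_coe.mp hu)
      rcases Int.emod_two_eq_zero_or_one i with h0 | h0
      · rw [← zpow_mod_orderOf, hs, show ((2 : ℕ) : ℤ) = 2 from rfl, h0, zpow_zero, one_mul] at hyo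
        exact hao ((dvd_of_eq hyo.symm).trans
          ((Subgroup.orderOf_dvd_natCard A hv).trans (dvd_of_eq (Nat.card_zpowers a))))
      · rw [← zpow_mod_orderOf, hs, show ((2 : ℕ) : ℤ) = 2 from rfl, h0, zpow_one] at hyo
        refine not_dvd_two hp2 ((dvd_of_eq hyo.symm).trans (orderOf_dvd_of_pow_eq_one ?_))
        rw [pow_two, show s * v * (s * v) = (s * v * s) * v by simp [mul_assoc]]
        nth_rewrite 2 [← hsi]
        rw [hsz v (zpowers_le.mpr ha hv), inv_mul_cancel]
    have hcm := hab.comm hndvd (mem_sup_right (mem_zpowers s)) (mem_sup_left (mem_zpowers a))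
    have h1 := hsz a ha
    rw [hcm, mul_inv_cancel_right] at h1
    nth_rewrite 2 [h1]
    exact mul_inv_cancel a
  have hb1 : b ≠ 1 := by
    intro h
    rw [h, mul_one] at hab'
    refine hst ?_
    have : d⁻¹ = d := by rw [hab']; exact inv_eq_of_mul_eq_one_right haa
    rw [hd, mul_inv_rev, hsi, hti] at this
    exact this.symm
  obtain ⟨P, hP⟩ := (IsPGroup.of_card (p := p) (n := j) (G := zpowers b)
    (by rw [Nat.card_zpowers, hbj])).exists_le_sylow
  have hbP : b ∈ (P : Subgroup G) := hP (mem_zpowers b)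
  have hN := normalizer_zpowers_eq hcyc htop hna hloc hdp P hbP hb1
  have hsN : s ∈ normalizer ((P : Subgroup G) : Set G) := by
    rw [← hN, mem_normalizer_iff]
    have hh : ∀ w ∈ zpowers b, s * w * s⁻¹ ∈ zpowers b := fun w hw => by
      rw [hsz w (zpowers_le.mpr hb hw)]
      exact inv_mem hw
    intro w
    refine ⟨hh w, fun hw => ?_⟩
    have := hh _ hw
    rw [show s * (s * w * s⁻¹) * s⁻¹ = (s * s) * w * (s * s)⁻¹ by group, hss] at this
    simpa using this
  have hts : t = s * d := by rw [hd, ← mul_assoc, hss, one_mul]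
  have hdb : d * b = b * d := by
    obtain ⟨i, rfl⟩ := mem_zpowers_iff.mp hb
    exact ((Commute.refl d).zpow_right i).eq
  have htN : t ∈ normalizer ((P : Subgroup G) : Set G) := by
    rw [hts]
    exact mul_mem hsN (mem_normalizer_of_commute hcyc htop hna hloc hdp P hbP hb1 hdb)
  refine ⟨P, mem_inverting.mpr ⟨hs, hsN, fun h => hb1 ?_⟩, mem_inverting.mpr ⟨ht, htN, fun h => hb1 ?_⟩,
    fun R hsR htR => ?_⟩
  · refine eq_one_of_eq_inv hp2 P hbP ?_
    have h1 := hsz b hb
    rwa [h b hbP, mul_inv_cancel_right] at h1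
  · refine eq_one_of_eq_inv hp2 P hbP ?_
    have h1 := hsz b hb
    have h2 := h b hbP
    rw [hts, mul_assoc, hdb, ← mul_assoc, ← mul_assoc b s d] at h2
    rwa [mul_right_cancel h2, mul_inv_cancel_right] at h1
  · have hdR : d ∈ normalizer ((R : Subgroup G) : Set G) :=
      mul_mem (mem_inverting.mp hsR).2.1 (mem_inverting.mp htR).2.1
    have hbR : b ∈ (R : Subgroup G) := mem_sylow_of_pElt R hbj (zpowers_le.mpr hdR hb)
    exact sylow_eq_of_mem hcyc htop hna hloc hdp R P hbR hbP hb1

/-- The ordered pairs of noncommuting involutions. -/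
noncomputable def ncPairs (G : Type*) [Group G] [Fintype G] [DecidableEq G] : Finset (G × G) :=
  ((invols G) ×ˢ (invols G)).filter fun x => x.1 * x.2 ≠ x.2 * x.1

theorem card_ncPairs :
    (ncPairs G).card = ∑ s ∈ invols G, ((invols G).filter fun t => s * t ≠ t * s).card := by
  rw [ncPairs, Finset.card_filter, Finset.sum_product]
  exact Finset.sum_congr rfl fun s _ => (Finset.card_filter _ _).symm

include hp2 hab hcyc htop hna hloc hdp in
/-- Noncommuting pairs distribute over the Sylow subgroups. -/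
theorem card_ncPairs_eq [Fintype (Sylow p G)] :
    (ncPairs G).card = ∑ P : Sylow p G,
      (((inverting P) ×ˢ (inverting P)).filter fun x => x.1 * x.2 ≠ x.2 * x.1).card := by
  classical
  rw [← Finset.card_biUnion]
  · congr 1
    ext ⟨s, t⟩
    simp only [ncPairs, Finset.mem_filter, Finset.mem_product, Finset.mem_biUnion, Finset.mem_univ,
      true_and, mem_invols]
    constructor
    · rintro ⟨⟨hs, ht⟩, hst⟩
      obtain ⟨P, h1, h2, -⟩ := pair_sylow hp2 hab hcyc htop hna hloc hdp hs ht hst
      exact ⟨P, ⟨h1, h2⟩, hst⟩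
    · rintro ⟨P, ⟨h1, h2⟩, hst⟩
      exact ⟨⟨(mem_inverting.mp h1).1, (mem_inverting.mp h2).1⟩, hst⟩
  · intro P _ R _ hPR
    rw [Function.onFun, Finset.disjoint_left]
    rintro ⟨s, t⟩ h1 h2
    rw [Finset.mem_filter, Finset.mem_product] at h1 h2
    obtain ⟨T, -, -, hT⟩ := pair_sylow hp2 hab hcyc htop hna hloc hdp
      (mem_inverting.mp h1.1.1).1 (mem_inverting.mp h1.1.2).1 h1.2
    exact hPR ((hT P h1.1.1 h1.1.2).trans (hT R h2.1.1 h2.1.2).symm)

variable (hfree : ∀ (P : Sylow p G) (x : G), x ≠ 1 → ¬ p ∣ orderOf x →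
  ¬ ∀ a ∈ (P : Subgroup G), x * a = a * x)

include hab hcyc htop hna hloc hdp hfree in
theorem mem_of_commute_free (P : Sylow p G) {z g : G} (hz : z ∈ (P : Subgroup G)) (hz1 : z ≠ 1)
    (hg : g * z = z * g) : g ∈ (P : Subgroup G) := by
  obtain ⟨a, b, hgab, ha, hb, hao, j, hbj⟩ := exists_parts (p := p) g
  have hgN := mem_normalizer_of_commute hcyc htop hna hloc hdp P hz hz1 hg
  have haN := zpowers_le.mpr hgN ha
  have haz : a * z = z * a := by
    obtain ⟨i, rfl⟩ := mem_zpowers_iff.mp ha
    exact (Commute.zpow_left (show Commute g z from hg) i).eq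
  have ha1 : a = 1 := by
    by_contra h
    exact hfree P a h hao (centralizes_of_fixes P (hcyc P) haN hao hz hz1 haz)
  rw [hgab, ha1, one_mul]
  exact mem_sylow_of_pElt P hbj (zpowers_le.mpr hgN hb)

include hp2 hab hcyc htop hna hloc hdp hfree in
theorem not_dvd_centralizer_free {s : G} (hs : orderOf s = 2) :
    ¬ p ∣ Nat.card (centralizer ({s} : Set G)) := by
  intro h
  obtain ⟨z, hz, hzo⟩ := exists_orderOf_dvd h
  obtain ⟨P, hP⟩ := (IsPGroup.of_card (p := p) (n := 1) (G := zpowers z)
    (by rw [Nat.card_zpowers, hzo, pow_one])).exists_le_sylow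
  have hsP := mem_of_commute_free hab hcyc htop hna hloc hdp hfree P (hP (mem_zpowers z))
    (ne_one_of_order hzo) ((mem_centralizer_singleton_iff.mp hz).symm)
  obtain ⟨i, hi⟩ := IsPGroup.iff_orderOf.mp P.2 ⟨s, hsP⟩
  rw [← Subgroup.orderOf_coe, show orderOf s = 2 from hs] at hi
  exact hp2 ((Nat.prime_dvd_prime_iff_eq Nat.prime_two hp.out).mp
    (Nat.prime_two.dvd_of_dvd_pow (dvd_of_eq hi))).symm

include hab hcyc htop hna hloc hdp hfree in
theorem isCA_free {x : G} (hx : x ≠ 1) :
    ∀ a ∈ centralizer ({x} : Set G), ∀ b ∈ centralizer ({x} : Set G), a * b = b * a := by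
  intro a ha b hb
  by_cases h : p ∣ Nat.card (centralizer ({x} : Set G))
  · obtain ⟨z, hz, hzo⟩ := exists_orderOf_dvd h
    obtain ⟨P, hP⟩ := (IsPGroup.of_card (p := p) (n := 1) (G := zpowers z)
      (by rw [Nat.card_zpowers, hzo, pow_one])).exists_le_sylow
    have hxP := mem_of_commute_free hab hcyc htop hna hloc hdp hfree P (hP (mem_zpowers z))
      (ne_one_of_order hzo) ((mem_centralizer_singleton_iff.mp hz).symm)
    exact commute_sylow P (hcyc P)
      (mem_of_commute_free hab hcyc htop hna hloc hdp hfree P hxP hx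
        (mem_centralizer_singleton_iff.mp ha))
      (mem_of_commute_free hab hcyc htop hna hloc hdp hfree P hxP hx
        (mem_centralizer_singleton_iff.mp hb))
  · exact hab.comm h ha hb

include hp2 hab hcyc htop hna hloc hdp hfree in
/-- A simple group with the hypotheses has a nontrivial `p'`-element centralising a Sylow. -/
theorem false_of_free : False := by
  classical
  letI := Fintype.ofFinite (Sylow p G)
  haveI : Fact (Nat.Prime 2) := ⟨Nat.prime_two⟩
  by_cases h2 : 2 ∣ Nat.card G
  swap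
  · haveI : Nontrivial G := by
      by_contra hnt
      haveI := not_nontrivial_iff_subsingleton.mp hnt
      exact hna ⟨⟨fun a b => Subsingleton.elim _ _⟩⟩
    haveI := Cfsg.Agent.S0182.result (G := G) (Nat.not_even_iff_odd.mp fun he => h2 he.two_dvd)
      fun x hx => isCA_free hab hcyc htop hna hloc hdp hfree hx
    haveI : IsSimpleGroup G := ⟨htop⟩
    exact hna ⟨⟨IsSimpleGroup.comm_iff_isSolvable.mpr inferInstance⟩⟩
  obtain ⟨t₀, ht₀⟩ := exists_prime_orderOf_dvd_card' (G := G) 2 h2
  have hQab : ∀ Q : Sylow 2 G, ¬ p ∣ Nat.card Q := by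
    intro Q hd
    obtain ⟨f, hf⟩ := Q.2.exists_card_eq
    rw [show Nat.card Q = 2 ^ f from hf] at hd
    exact not_dvd_two hp2 (hp.out.dvd_of_dvd_pow hd)
  let Q₀ : Sylow 2 G := default
  set r := ((invols G).filter fun t => t ∈ (Q₀ : Subgroup G)).card with hr
  have hcount : ∀ s ∈ invols G, ((invols G).filter fun t => s * t = t * s).card = r := by
    intro s hs
    have hso := mem_invols.mp hs
    obtain ⟨Q, hQ⟩ := (IsPGroup.of_card (p := 2) (n := 1) (G := zpowers s)
      (by rw [Nat.card_zpowers, hso, pow_one])).exists_le_sylow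
    have hC : ¬ p ∣ Nat.card (centralizer ({s} : Set G)) :=
      not_dvd_centralizer_free hp2 hab hcyc htop hna hloc hdp hfree hso
    have hQC : (Q : Subgroup G) ≤ centralizer ({s} : Set G) := fun g hg =>
      mem_centralizer_singleton_iff.mpr (hab.comm (hQab Q) hg (hQ (mem_zpowers s)))
    have heq : ((invols G).filter fun t => s * t = t * s) =
        (invols G).filter fun t => t ∈ (Q : Subgroup G) := by
      refine Finset.filter_congr fun t ht => ⟨fun hst => ?_, fun htQ =>
        (mem_centralizer_singleton_iff.mp (hQC htQ)).symm⟩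
      have hto := mem_invols.mp ht
      have htC : t ∈ centralizer ({s} : Set G) := mem_centralizer_singleton_iff.mpr hst.symm
      have hn : t ∈ normalizer ((Q : Subgroup G) : Set G) := centralizer_le_normalizer _
        (mem_centralizer_iff.mpr fun g hg => hab.comm hC (hQC hg) htC)
      exact mem_sylow_of_pElt Q (j := 1) (by rw [hto, pow_one]) hn
    rw [heq, hr]
    obtain ⟨g, rfl⟩ := MulAction.exists_smul_eq G Q₀ Q
    refine (Finset.card_bij (fun t _ => g * t * g⁻¹) ?_ ?_ ?_).symm
    · intro t ht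
      rw [Finset.mem_filter, mem_invols] at ht ⊢
      refine ⟨by rw [← ht.1]; exact (MulAut.conj g).orderOf_eq t, ?_⟩
      rw [sylow_conj_mem]
      simpa [mul_assoc] using ht.2
    · intro a _ b _ h
      exact mul_left_cancel (mul_right_cancel h)
    · intro t ht
      rw [Finset.mem_filter, mem_invols, sylow_conj_mem] at ht
      refine ⟨g⁻¹ * t * g, ?_, by group⟩
      rw [Finset.mem_filter, mem_invols]
      refine ⟨?_, ht.2⟩
      rw [← ht.1]
      simpa using (MulAut.conj g⁻¹).orderOf_eq t
  have hd2 : 2 ∣ Nat.card G := h2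
  have hpr : p ∣ r := by
    have hN : p ∣ Nat.card (normalizer ((Q₀ : Subgroup G) : Set G)) := by
      by_contra hN
      refine not_normalizer_le htop hna Q₀ hd2 fun g hg => mem_centralizer_iff.mpr fun q hq => ?_
      exact hab.comm hN (le_normalizer hq) hg
    obtain ⟨y, hy, hyo⟩ := exists_orderOf_dvd hN
    rw [← hyo, ← Nat.card_zpowers]
    refine card_dvd_of_free _ _ ?_ ?_
    · intro a ha t ht
      rw [Finset.mem_filter, mem_invols] at ht ⊢
      refine ⟨by rw [← ht.1]; exact (MulAut.conj a).orderOf_eq t,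
        (mem_normalizer_iff.mp (zpowers_le.mpr hy ha) t).mp ht.2⟩
    · intro a ha t ht hat
      by_contra ha1
      refine not_dvd_centralizer_free hp2 hab hcyc htop hna hloc hdp hfree
        (mem_invols.mp (Finset.mem_filter.mp ht).1) ?_
      have h1 : orderOf a = p := ((Nat.dvd_prime hp.out).mp (hyo ▸
        (Subgroup.orderOf_dvd_natCard _ ha).trans (dvd_of_eq (Nat.card_zpowers y)))).resolve_left
          (by rwa [orderOf_eq_one_iff])
      rw [← h1]
      exact Subgroup.orderOf_dvd_natCard _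
        (mem_centralizer_singleton_iff.mpr (mul_inv_eq_iff_eq_mul.mp hat))
  have hPT : ∀ P : Sylow p G, Nat.card (P : Subgroup G) ∣ (invols G).card := fun P => by
    refine card_dvd_of_free _ _ (fun a _ t ht => ?_) (fun a ha t ht hat => ?_)
    · rw [mem_invols] at ht ⊢
      rw [← ht]
      exact (MulAut.conj a).orderOf_eq t
    · by_contra ha1
      have htP := mem_of_commute_free hab hcyc htop hna hloc hdp hfree P ha ha1
        (mul_inv_eq_iff_eq_mul.mp hat).symm
      obtain ⟨i, hi⟩ := IsPGroup.iff_orderOf.mp P.2 ⟨t, htP⟩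
      rw [← Subgroup.orderOf_coe, show orderOf t = 2 from mem_invols.mp ht] at hi
      exact hp2 ((Nat.prime_dvd_prime_iff_eq Nat.prime_two hp.out).mp
        (Nat.prime_two.dvd_of_dvd_pow (dvd_of_eq hi))).symm
  let P₀ : Sylow p G := default
  set b := (inverting P₀).card with hb
  have hsum : ∀ P : Sylow p G,
      (((inverting P) ×ˢ (inverting P)).filter fun x => x.1 * x.2 ≠ x.2 * x.1).card =
        b * b - b := by
    intro P
    have hB : ((inverting P) ×ˢ (inverting P)).filter (fun x => x.1 * x.2 ≠ x.2 * x.1) =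
        (inverting P).offDiag := by
      ext ⟨s, t⟩
      simp only [Finset.mem_filter, Finset.mem_product, Finset.mem_offDiag]
      refine ⟨fun h => ⟨h.1.1, h.1.2, fun e => h.2 (by rw [e])⟩, fun h => ⟨⟨h.1, h.2.1⟩, fun hc => ?_⟩⟩
      obtain ⟨hso, hsN, -⟩ := mem_inverting.mp h.1
      obtain ⟨hto, htN, -⟩ := mem_inverting.mp h.2.1
      have hss : s * s = 1 := by rw [← pow_two, ← hso, pow_orderOf_eq_one]
      have hne : s * t ≠ 1 := fun e => h.2.2 (mul_left_cancel (hss.trans e.symm))
      refine hfree P (s * t) hne ?_ fun a ha => ?_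
      · intro hd
        refine not_dvd_two hp2 (hd.trans (orderOf_dvd_of_pow_eq_one ?_))
        rw [(show Commute s t from hc).mul_pow, ← hso, pow_orderOf_eq_one, hso, ← hto,
          pow_orderOf_eq_one, one_mul]
      · have h1 := inverting_conj hp2 hcyc h.2.1 ha
        have h2 := inverting_conj hp2 hcyc h.1 (inv_mem ha)
        rw [inv_inv, ← h1] at h2
        calc s * t * a = s * (t * a * t⁻¹) * s⁻¹ * (s * t) := by group
          _ = a * (s * t) := by rw [h2]
    rw [hB, Finset.offDiag_card]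
    obtain ⟨g, rfl⟩ := MulAction.exists_smul_eq G P₀ P
    have : (inverting (g • P₀)).card = b := by
      refine (Finset.card_bij (fun t _ => g * t * g⁻¹) ?_ ?_ ?_).symm
      · intro t ht
        obtain ⟨ho, hN, hc⟩ := mem_inverting.mp ht
        refine mem_inverting.mpr ⟨by rw [← ho]; exact (MulAut.conj g).orderOf_eq t, ?_, fun h => hc
          fun a ha => ?_⟩
        · rw [← conj_smul_eq_iff] at hN ⊢
          rw [smul_smul, inv_mul_cancel_right, mul_smul, hN]
        · have h3 := h (g * a * g⁻¹) (by rw [sylow_conj_mem]; simpa [mul_assoc] using ha)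
          refine mul_right_cancel (b := g⁻¹) (mul_left_cancel (a := g) ?_)
          simpa [mul_assoc] using h3
      · intro a _ b _ h
        exact mul_left_cancel (mul_right_cancel h)
      · intro t ht
        obtain ⟨ho, hN, hc⟩ := mem_inverting.mp ht
        refine ⟨g⁻¹ * t * g, mem_inverting.mpr ⟨?_, ?_, fun h => hc fun a ha => ?_⟩, by group⟩
        · rw [← ho]
          simpa using (MulAut.conj g⁻¹).orderOf_eq t
        · rw [← conj_smul_eq_iff] at hN ⊢
          rw [mul_smul, mul_smul, hN, inv_smul_smul]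
        · rw [sylow_conj_mem] at ha
          have h3 := h _ ha
          have h4 : g⁻¹ * (t * a) * g = g⁻¹ * (a * t) * g := by
            simpa [mul_assoc] using h3
          exact mul_left_cancel (mul_right_cancel h4)
    rw [this]
  have hlhs : (ncPairs G).card = (invols G).card * ((invols G).card - r) := by
    rw [card_ncPairs, Finset.sum_congr rfl fun s hs => ?_, Finset.sum_const, smul_eq_mul]
    have h := Finset.card_filter_add_card_filter_not (s := invols G) (fun t => s * t = t * s)
    rw [hcount s hs] at h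
    refine Nat.eq_sub_of_add_eq' ?_
    convert h using 3
  have hrT : r ≤ (invols G).card := Finset.card_filter_le _ _
  have heq := card_ncPairs_eq hp2 hab hcyc htop hna hloc hdp (G := G)
  rw [Finset.sum_congr rfl fun P _ => hsum P, Finset.sum_const, smul_eq_mul, Finset.card_univ,
    hlhs] at heq
  by_cases hb0 : inverting P₀ = ∅
  · rw [hb, hb0, Finset.card_empty, mul_zero] at heq
    have hTpos : 0 < (invols G).card := Finset.card_pos.mpr ⟨t₀, mem_invols.mpr ht₀⟩
    have hTr : (invols G).card = r := by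
      rcases mul_eq_zero.mp heq with h | h <;> omega
    have hall : ∀ s ∈ invols G, ∀ t ∈ invols G, s * t = t * s := by
      intro s hs t ht
      have h := hcount s hs
      rw [← hTr] at h
      exact (Finset.card_filter_eq_iff.mp h) t ht
    have hn : (closure ((invols G : Finset G) : Set G)).Normal := ⟨fun a ha g => by
      have h1 := mem_map_of_mem (MulAut.conj g).toMonoidHom ha
      rw [MonoidHom.map_closure] at h1
      refine closure_mono ?_ h1
      rintro _ ⟨t, ht, rfl⟩
      rw [Finset.mem_coe, mem_invols] at ht ⊢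
      rw [← ht]
      exact (MulAut.conj g).orderOf_eq t⟩
    rcases htop _ hn with hbot | htp
    · have : t₀ ∈ (⊥ : Subgroup G) := hbot ▸ subset_closure (Finset.mem_coe.mpr (mem_invols.mpr ht₀))
      rw [mem_bot.mp this, orderOf_one] at ht₀
      exact absurd ht₀ (by norm_num)
    · haveI := isMulCommutative_closure
        (fun a ha b hb => hall a (Finset.mem_coe.mp ha) b (Finset.mem_coe.mp hb))
      refine hna ⟨⟨fun a b => ?_⟩⟩
      exact congrArg Subtype.val (mul_comm' (⟨a, htp ▸ Subgroup.mem_top a⟩ :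
        closure ((invols G : Finset G) : Set G)) ⟨b, htp ▸ Subgroup.mem_top b⟩)
  obtain ⟨u, hu⟩ := Finset.nonempty_iff_ne_empty.mpr hb0
  obtain ⟨huo, huN, huc⟩ := mem_inverting.mp hu
  have huu : u * u = 1 := by rw [← pow_two, ← huo, pow_orderOf_eq_one]
  have hui : u⁻¹ = u := inv_eq_of_mul_eq_one_right huu
  obtain ⟨a₀, ha₀, ha₀1⟩ : ∃ a ∈ (P₀ : Subgroup G), a ≠ 1 := by
    by_contra h
    push Not at h
    exact P₀.ne_bot_of_dvd_card hdp ((Subgroup.eq_bot_iff_forall _).mpr h)
  have hbP : b = Nat.card (P₀ : Subgroup G) := by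
    rw [hb, ← Nat.card_eq_finsetCard]
    refine Nat.card_congr
      { toFun := fun t => ⟨u * t, ?_⟩
        invFun := fun a => ⟨u * a, ?_⟩
        left_inv := fun t => Subtype.ext (by
          show u * (u * (t : G)) = t
          rw [← mul_assoc, huu, one_mul])
        right_inv := fun a => Subtype.ext (by
          show u * (u * (a : G)) = a
          rw [← mul_assoc, huu, one_mul]) }
    · refine mem_of_commute_free hab hcyc htop hna hloc hdp hfree P₀ ha₀ ha₀1 ?_
      have h1 := inverting_conj hp2 hcyc t.2 ha₀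
      have h2 := inverting_conj hp2 hcyc hu (inv_mem ha₀)
      rw [inv_inv, ← h1] at h2
      calc u * (t : G) * a₀ = u * ((t : G) * a₀ * (t : G)⁻¹) * u⁻¹ * (u * t) := by group
        _ = a₀ * (u * t) := by rw [h2]
    · have h1 := inverting_conj hp2 hcyc hu a.2
      have hsq : u * (a : G) * (u * a) = 1 := by
        rw [← mul_assoc]
        nth_rewrite 2 [← hui]
        rw [h1, inv_mul_cancel]
      refine mem_inverting.mpr ⟨orderOf_eq_prime (by rw [pow_two, hsq]) fun e => huc fun c hc => ?_,
        mul_mem huN (le_normalizer a.2), fun hcen => huc fun c hc => ?_⟩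
      · have hua : u = (a : G)⁻¹ := eq_inv_of_mul_eq_one_left e
        rw [hua]
        exact commute_sylow P₀ (hcyc P₀) (inv_mem a.2) hc
      · have h3 := hcen c hc
        rw [mul_assoc, commute_sylow P₀ (hcyc P₀) a.2 hc, ← mul_assoc, ← mul_assoc] at h3
        exact mul_right_cancel h3
  obtain ⟨e, he⟩ := P₀.2.exists_card_eq
  have hnp : ¬ p ∣ Fintype.card (Sylow p G) := by
    rw [← Nat.card_eq_fintype_card]
    exact not_dvd_card_sylow p G
  have hPpos : 0 < Nat.card (P₀ : Subgroup G) := Nat.card_pos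
  have hdvd : Nat.card (P₀ : Subgroup G) * p ∣ (invols G).card * ((invols G).card - r) := by
    refine mul_dvd_mul (hPT P₀) (Nat.dvd_sub ?_ hpr)
    exact (dvd_pow_self p fun h0 => P₀.ne_bot_of_dvd_card hdp
      (eq_bot_of_card_eq _ (he.trans (by rw [h0, pow_zero])))).trans (he ▸ hPT P₀)
  rw [heq, hbP, ← Nat.mul_sub_one, ← mul_assoc, mul_comm (Fintype.card (Sylow p G)), mul_assoc,
    Nat.mul_dvd_mul_iff_left hPpos] at hdvd
  rcases hp.out.dvd_mul.mp hdvd with h | h
  · exact hnp h
  · have h3 : p ∣ Nat.card (P₀ : Subgroup G) := P₀.dvd_card_of_dvd_card hdp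
    have : p ∣ Nat.card (P₀ : Subgroup G) - (Nat.card (P₀ : Subgroup G) - 1) := Nat.dvd_sub h3 h
    rw [show Nat.card (P₀ : Subgroup G) - (Nat.card (P₀ : Subgroup G) - 1) = 1 by omega] at this
    exact hp.out.not_dvd_one this

end Cfsg.Agent.FGB.CycAb
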