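import Cfsg.Agent.Lib.FGB.CyclicSylowFinal
import Cfsg.Agent.Lib.Transfer.Thompson
import Cfsg.Agent.Lib.Transfer.Abelian

/-!
# Cyclic Sylow subgroups and abelian p'-subgroups
-/

set_option autoImplicit false
set_option linter.unusedSectionVars false

namespace Cfsg.Agent.FGB.CycAb

open Subgroup

universe u

variable {G : Type u} [Group G] [Finite G] {p : ℕ} [hp : Fact p.Prime]

theorem isCyclic_all_of_one (P : Sylow p G) (hc : IsCyclic (P : Subgroup G)) (R : Sylow p G) :
    IsCyclic (R : Subgroup G) := by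
  haveI := hc
  exact isCyclic_of_surjective _ (P.equiv R).surjective

theorem normal_all_of_one (P : Sylow p G) (h : (P : Subgroup G).Normal) (R : Sylow p G) :
    (R : Subgroup G).Normal := by
  have h1 := P.unique_of_normal h
  rwa [Subsingleton.elim R P]

theorem Hab.subgroup (hab : Hab p G) (H : Subgroup G) : Hab p H := fun K hK => ⟨⟨fun a b =>
  Subtype.ext (Subtype.ext (hab.comm (H := K.map H.subtype) (by rwa [card_subtype])
    (mem_map_of_mem _ a.2) (mem_map_of_mem _ b.2)))⟩⟩

theorem Hab.quotient (hab : Hab p G) (N : Subgroup G) [N.Normal] (hN : ¬ p ∣ Nat.card N) :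
    Hab p (G ⧸ N) := by
  intro K hK
  refine ⟨⟨fun a b => Subtype.ext ?_⟩⟩
  obtain ⟨x, hx⟩ := QuotientGroup.mk'_surjective N (a : G ⧸ N)
  obtain ⟨y, hy⟩ := QuotientGroup.mk'_surjective N (b : G ⧸ N)
  have hcard : ¬ p ∣ Nat.card (K.comap (QuotientGroup.mk' N)) := by
    rw [Basics.card_comap_mk']
    intro hd
    rcases hp.out.dvd_mul.mp hd with h | h
    exacts [hN h, hK h]
  have h := hab.comm hcard (mem_comap.mpr (hx.symm ▸ a.2) : x ∈ K.comap (QuotientGroup.mk' N))
    (mem_comap.mpr (hy.symm ▸ b.2) : y ∈ K.comap (QuotientGroup.mk' N))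
  simp only [Subgroup.coe_mul, ← hx, ← hy, ← map_mul, h]

/-- The complement of a normal subgroup with normal complement is normal in the whole group. -/
theorem complement_eq_bot (hno : ∀ N : Subgroup G, N.Normal → ¬ p ∣ Nat.card N → N = ⊥)
    {C : Subgroup G} [hCn : C.Normal] (h : Cfsg.HasNormalPComplement p C) : IsPGroup p C := by
  obtain ⟨R, D, hD, hc⟩ := h
  have hDp : ¬ p ∣ Nat.card D := by
    rw [← hc.index_eq_card]
    exact R.not_dvd_index
  have hDi : D.index = Nat.card (R : Subgroup C) := hc.symm.index_eq_card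
  haveI := hD
  have hmem : ∀ g : C, ¬ p ∣ orderOf g → g ∈ D := by
    intro g hg
    rw [← QuotientGroup.eq_one_iff, ← orderOf_eq_one_iff]
    obtain ⟨f, hf⟩ := R.2.exists_card_eq
    refine Nat.eq_one_of_dvd_coprimes
      (((hp.out.coprime_iff_not_dvd.mpr hg).pow_left f).symm) ?_ ?_
    · exact orderOf_map_dvd (QuotientGroup.mk' D) g
    · rw [← hf, ← hDi]
      exact _root_.orderOf_dvd_natCard _
  have hN : (D.map C.subtype).Normal := ⟨by
    rintro _ ⟨d, hd, rfl⟩ g
    refine ⟨⟨g * d * g⁻¹, hCn.conj_mem _ d.2 g⟩, hmem _ ?_, rfl⟩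
    rw [← Subgroup.orderOf_coe]
    show ¬ p ∣ orderOf (g * (d : G) * g⁻¹)
    rw [show orderOf (g * (d : G) * g⁻¹) = orderOf (d : G) from (MulAut.conj g).orderOf_eq (d : G),
      Subgroup.orderOf_coe]
    exact fun h => hDp (h.trans (Subgroup.orderOf_dvd_natCard D hd))⟩
  have hbot : D = ⊥ := by
    have h1 := hno _ hN (by rw [card_subtype]; exact hDp)
    rwa [Subgroup.map_eq_bot_iff_of_injective _ C.subtype_injective] at h1
  rw [hbot] at hc
  have hRt : (R : Subgroup C) = ⊤ := isComplement'_bot_left.mp hc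
  intro g
  obtain ⟨k, hk⟩ := R.2 ⟨g, hRt ▸ mem_top g⟩
  exact ⟨k, by simpa using congrArg Subtype.val hk⟩

theorem normal_map_of_sylow {C : Subgroup G} [hCn : C.Normal] (R : Sylow p C)
    (hR : (R : Subgroup C).Normal) : ((R : Subgroup C).map C.subtype).Normal := by
  refine ⟨?_⟩
  rintro _ ⟨d, hd, rfl⟩ g
  refine ⟨⟨g * d * g⁻¹, hCn.conj_mem _ d.2 g⟩, ?_, rfl⟩
  obtain ⟨i, hi⟩ := IsPGroup.iff_orderOf.mp R.2 ⟨d, hd⟩
  refine mem_sylow_of_pElt R (j := i) ?_ (normalizer_eq_top_iff.mpr hR ▸ mem_top _)
  rw [← Subgroup.orderOf_coe]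
  show orderOf (g * (d : G) * g⁻¹) = p ^ i
  rw [show orderOf (g * (d : G) * g⁻¹) = orderOf (d : G) from (MulAut.conj g).orderOf_eq (d : G),
    ← hi, ← Subgroup.orderOf_coe, ← Subgroup.orderOf_coe]

theorem le_centralizer_of_parts (P : Sylow p G) (hc : IsCyclic (P : Subgroup G))
    (h : ∀ k ∈ normalizer ((P : Subgroup G) : Set G), ¬ p ∣ orderOf k →
      ∀ a ∈ (P : Subgroup G), k * a = a * k) :
    normalizer ((P : Subgroup G) : Set G) ≤ centralizer ((P : Subgroup G) : Set G) := by
  intro k hk
  obtain ⟨a, b, rfl, ha, hb, hao, j, hbj⟩ := exists_parts (p := p) k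
  refine mul_mem (mem_centralizer_iff.mpr fun c hcP => (h a (zpowers_le.mpr hk ha) hao c hcP).symm) ?_
  exact mem_centralizer_iff.mpr fun c hcP =>
    commute_sylow P hc hcP (mem_sylow_of_pElt P hbj (zpowers_le.mpr hk hb))

theorem main (p : ℕ) [hp : Fact p.Prime] : ∀ (n : ℕ) (G : Type u) [Group G] [Finite G],
    Nat.card G = n → Hab p G → (∀ P : Sylow p G, IsCyclic (P : Subgroup G)) →
    Cfsg.HasNormalPComplement p G ∨ ∀ P : Sylow p G, (P : Subgroup G).Normal := by
  classical
  intro n
  induction n using Nat.strong_induction_on with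
  | _ n ih =>
  intro G _ _ hn hab hcyc
  by_cases hdp : p ∣ Nat.card G
  swap
  · refine Or.inr fun P => ?_
    have h : (P : Subgroup G) = ⊥ := by
      refine eq_bot_of_card_eq _ ?_
      obtain ⟨f, hf⟩ := P.2.exists_card_eq
      rcases Nat.eq_zero_or_pos f with rfl | hpos
      · rw [hf, pow_zero]
      · exfalso
        refine hdp ((dvd_pow_self p hpos.ne').trans ?_)
        rw [← hf]
        exact card_subgroup_dvd_card _
    rw [h]
    infer_instance
  let P₀ : Sylow p G := default
  by_cases hp2 : p = 2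
  · subst hp2
    left
    have hmin : (Nat.card G).minFac = 2 := (Nat.minFac_eq_two_iff _).mpr hdp
    exact ⟨P₀, _, MonoidHom.normal_ker _, IsCyclic.isComplement' hmin (hcyc P₀)⟩
  by_contra hcon
  push Not at hcon
  obtain ⟨hnc, P, hPn⟩ := hcon
  -- the `p'`-core is trivial
  have hno : ∀ N : Subgroup G, N.Normal → ¬ p ∣ Nat.card N → N = ⊥ := by
    intro N hN hNp
    by_contra hne
    haveI := hN
    have hlt : Nat.card (G ⧸ N) < n := by
      rw [← hn, Subgroup.card_eq_card_quotient_mul_card_subgroup N]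
      exact lt_mul_of_one_lt_right Nat.card_pos (one_lt_card_iff_ne_bot N |>.mpr hne)
    have hqc : ∀ R : Sylow p (G ⧸ N), IsCyclic (R : Subgroup (G ⧸ N)) := by
      let R₀ : Sylow p (G ⧸ N) := P.mapSurjective (QuotientGroup.mk'_surjective N)
      refine isCyclic_all_of_one R₀ ?_
      haveI := hcyc P
      show IsCyclic ((P : Subgroup G).map (QuotientGroup.mk' N))
      exact isCyclic_of_surjective _ ((QuotientGroup.mk' N).subgroupMap_surjective (P : Subgroup G))
    rcases ih _ hlt (G ⧸ N) rfl (hab.quotient N hNp) hqc with h | h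
    · exact hnc (Transfer.hasNormalPComplement_of_quotient N hNp h)
    haveI hR := h (P.mapSurjective (QuotientGroup.mk'_surjective N))
    haveI hH : ((P : Subgroup G) ⊔ N).Normal := by
      have he : (P : Subgroup G) ⊔ N =
          ((P : Subgroup G).map (QuotientGroup.mk' N)).comap (QuotientGroup.mk' N) := by
        rw [comap_map_eq, QuotientGroup.ker_mk']
      rw [he]
      exact hR.comap _
    have htop' := Sylow.normalizer_sup_eq_top' (N := (P : Subgroup G) ⊔ N) P le_sup_left
    by_cases hK : ∀ k ∈ normalizer ((P : Subgroup G) : Set G), ¬ p ∣ orderOf k →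
        ∀ a ∈ (P : Subgroup G), k * a = a * k
    · exact hnc (Transfer.hasNormalPComplement_of_normalizer_le P
        (le_centralizer_of_parts P (hcyc P) hK))
    push Not at hK
    obtain ⟨k, hk, hko, a, ha, hka⟩ := hK
    have hkN : ∀ m ∈ N, k * m = m * k := by
      intro m hm
      refine hab.comm (H := zpowers k ⊔ N) ?_ (mem_sup_left (mem_zpowers k)) (mem_sup_right hm)
      intro hd
      obtain ⟨y, hy, hyo⟩ := exists_orderOf_dvd hd
      have hy' : (QuotientGroup.mk' N) y ∈ zpowers ((QuotientGroup.mk' N) k) := by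
        rw [← MonoidHom.map_zpowers]
        have h2 := mem_map_of_mem (QuotientGroup.mk' N) hy
        rwa [Subgroup.map_sup, QuotientGroup.map_mk'_self, sup_bot_eq] at h2
      have h3 : ¬ p ∣ orderOf ((QuotientGroup.mk' N) y) := fun hd' => hko
        ((hd'.trans ((Subgroup.orderOf_dvd_natCard _ hy').trans (dvd_of_eq (Nat.card_zpowers _)))).trans
          (orderOf_map_dvd _ k))
      have h4 : orderOf ((QuotientGroup.mk' N) y) = 1 :=
        ((Nat.dvd_prime hp.out).mp (hyo ▸ orderOf_map_dvd (QuotientGroup.mk' N) y)).resolve_right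
          fun e => h3 (dvd_of_eq e.symm)
      rw [orderOf_eq_one_iff, QuotientGroup.mk'_apply, QuotientGroup.eq_one_iff] at h4
      exact hNp (hyo ▸ Subgroup.orderOf_dvd_natCard N h4)
    have hPN : N ≤ normalizer ((P : Subgroup G) : Set G) := by
      haveI := hcyc P
      obtain ⟨g, hg⟩ := IsCyclic.exists_generator (α := (P : Subgroup G))
      obtain ⟨m, hm⟩ := exists_power P (hcyc P) hk g.2
      obtain ⟨e, he⟩ := IsPGroup.iff_orderOf.mp P.2 g
      rw [← Subgroup.orderOf_coe] at he
      set w : G := k * (g : G) * k⁻¹ * (g : G)⁻¹ with hw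
      have hwN : ∀ u ∈ N, w * u = u * w := by
        intro u hu
        have h1 := hkN u hu
        have hk' : Commute k u := h1
        have h2 : k * ((g : G)⁻¹ * u * (g : G)) = ((g : G)⁻¹ * u * (g : G)) * k :=
          hkN _ (by simpa using hN.conj_mem u hu (g : G)⁻¹)
        calc w * u = k * (g : G) * (k⁻¹ * ((g : G)⁻¹ * u * (g : G))) * (g : G)⁻¹ := by rw [hw]; group
          _ = k * (g : G) * (((g : G)⁻¹ * u * (g : G)) * k⁻¹) * (g : G)⁻¹ := by
            rw [(show Commute k _ from h2).inv_left.eq]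
          _ = k * u * ((g : G) * k⁻¹ * (g : G)⁻¹) := by group
          _ = u * k * ((g : G) * k⁻¹ * (g : G)⁻¹) := by rw [h1]
          _ = u * w := by rw [hw]; group
      -- `w` generates `P`
      have hgen : (g : G) ∈ zpowers w := by
        have hwe : w = (g : G) ^ ((m : ℤ) - 1) := by
          rw [hw, hm, zpow_sub, zpow_natCast, zpow_one]
        rw [hwe, mem_zpowers_zpow_iff, he]
        rw [Int.gcd_comm, ← Int.isCoprime_iff_gcd_eq_one, Nat.cast_pow]
        refine IsCoprime.pow_left ?_
        refine (Int.prime_iff_natAbs_prime.mpr (by simpa using hp.out)).coprime_iff_not_dvd.mpr ?_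
        intro hd
        refine hka ?_
        have hz : orderOf ((g : G) ^ p ^ (e - 1)) = p ∨ e = 0 := by
          rcases Nat.eq_zero_or_pos e with h0 | h0
          · exact Or.inr h0
          · left
            rw [orderOf_pow' _ (pow_ne_zero _ hp.out.ne_zero), he,
              Nat.gcd_eq_right (pow_dvd_pow p (by omega)), Nat.pow_div (by omega) hp.out.pos,
              show e - (e - 1) = 1 by omega, pow_one]
        rcases hz with hz | h0
        swap
        · rw [h0, pow_zero, orderOf_eq_one_iff] at he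
          obtain ⟨i, hi⟩ := mem_zpowers_iff.mp (hg ⟨a, ha⟩)
          have hi' : (g : G) ^ i = a := by simpa using congrArg Subtype.val hi
          rw [← hi', he, one_zpow, mul_one, one_mul]
        refine centralizes_of_fixes P (hcyc P) hk hko (pow_mem g.2 _) (ne_one_of_order hz) ?_ a ha
        refine mul_inv_eq_iff_eq_mul.mp ?_
        rw [show k * (g : G) ^ p ^ (e - 1) * k⁻¹ = (k * (g : G) * k⁻¹) ^ p ^ (e - 1) from
          map_pow (MulAut.conj k) _ _, hm, ← pow_mul, mul_comm, pow_mul]
        refine (pow_eq_pow_iff_modEq.mpr ?_).trans (pow_one _)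
        rw [hz]
        exact (Nat.modEq_of_dvd (by simpa using hd)).symm
      intro u hu
      refine centralizer_le_normalizer _ (mem_centralizer_iff.mpr fun c hcP => ?_)
      obtain ⟨i, hi⟩ := mem_zpowers_iff.mp (hg ⟨c, hcP⟩)
      have hi' : (g : G) ^ i = c := by simpa using congrArg Subtype.val hi
      obtain ⟨l, hl⟩ := mem_zpowers_iff.mp hgen
      rw [← hi', ← hl, ← zpow_mul]
      exact ((show Commute w u from hwN u hu).zpow_left _).eq
    refine hPn (normalizer_eq_top_iff.mp (top_le_iff.mp (htop'.symm.le.trans ?_)))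
    exact sup_le le_rfl (sup_le le_normalizer hPN)
  -- no nontrivial normal `p`-subgroup
  have hnop : ∀ N : Subgroup G, N.Normal → IsPGroup p N → N = ⊥ := by
    intro N hN hNp
    by_contra hne
    haveI := hN
    have hNP : ∀ R : Sylow p G, N ≤ (R : Subgroup G) := fun R => by
      obtain ⟨R', hR'⟩ := hNp.exists_le_sylow
      obtain ⟨g, rfl⟩ := MulAction.exists_smul_eq G R' R
      intro x hx
      rw [sylow_conj_mem]
      exact hR' (by simpa using hN.conj_mem x hx g⁻¹)
    set C := centralizer (N : Set G) with hC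
    have hPC : (P : Subgroup G) ≤ C := fun a ha => mem_centralizer_iff.mpr fun c hc =>
      commute_sylow P (hcyc P) (hNP P hc) ha
    by_cases hCt : C = ⊤
    · refine hnc (Transfer.hasNormalPComplement_of_normalizer_le P
        (le_centralizer_of_parts P (hcyc P) fun k hk hko a ha => ?_))
      obtain ⟨z, hz, hz1⟩ := N.ne_bot_iff_exists_ne_one.mp hne |> fun ⟨⟨z, hz⟩, h⟩ =>
        (⟨z, hz, fun e => h (Subtype.ext e)⟩ : ∃ z ∈ N, z ≠ 1)
      exact centralizes_of_fixes P (hcyc P) hk hko (hNP P hz) hz1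
        (mem_centralizer_iff.mp (hCt ▸ mem_top k : k ∈ C) z hz).symm a ha
    haveI hCn : C.Normal := by rw [hC]; infer_instance
    have hlt : Nat.card C < n := hn ▸ lt_of_le_of_ne (Nat.le_of_dvd Nat.card_pos
      (card_subgroup_dvd_card C)) fun e => hCt (eq_top_of_card_eq C e)
    have hCc : ∀ R : Sylow p C, IsCyclic (R : Subgroup C) := by
      refine isCyclic_all_of_one (P.subtype hPC) ?_
      rw [Sylow.coe_subtype]
      haveI := hcyc P
      exact isCyclic_of_surjective _ (subgroupOfEquivOfLe hPC).symm.surjective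
    refine hPn ?_
    rcases ih _ hlt C rfl (hab.subgroup C) hCc with h | h
    · have hCp := complement_eq_bot hno h
      have : (P : Subgroup G) = C := (P.3 hCp hPC).symm
      rw [this]
      exact hCn
    · have h1 := normal_map_of_sylow (P.subtype hPC) (h _)
      rwa [Sylow.coe_subtype, subgroupOf_map_subtype, inf_of_le_left hPC] at h1
  have hna : ¬ IsMulCommutative G := fun h => hPn ⟨fun a ha g => by
    haveI := h
    rwa [mul_comm' g a, mul_inv_cancel_right]⟩
  have hprop : ∀ H : Subgroup G, H ≠ ⊤ →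
      Cfsg.HasNormalPComplement p H ∨ ∀ R : Sylow p H, (R : Subgroup H).Normal := by
    intro H hH
    refine ih _ (hn ▸ lt_of_le_of_ne (Nat.le_of_dvd Nat.card_pos (card_subgroup_dvd_card H))
      fun e => hH (eq_top_of_card_eq H e)) H rfl (hab.subgroup H) fun R => ?_
    obtain ⟨S, hS⟩ := (R.2.map H.subtype).exists_le_sylow
    haveI := hcyc S
    have hinj : Function.Injective
        ((inclusion hS).comp (H.subtype.subgroupMap (R : Subgroup H))) := by
      rintro ⟨a, ha⟩ ⟨b, hb⟩ hab'
      exact Subtype.ext (Subtype.ext (congrArg (fun w : (S : Subgroup G) => (w : G)) hab'))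
    exact isCyclic_of_injective _ hinj
  have htop : ∀ H : Subgroup G, H.Normal → H = ⊥ ∨ H = ⊤ := by
    intro H hH
    by_cases hHt : H = ⊤
    · exact Or.inr hHt
    left
    haveI := hH
    rcases hprop H hHt with h | h
    · exact hnop H hH (complement_eq_bot hno h)
    · let R : Sylow p H := default
      have h1 := hnop _ (normal_map_of_sylow R (h R)) (R.2.map _)
      refine hno H hH fun hd => R.ne_bot_of_dvd_card hd ?_
      rwa [Subgroup.map_eq_bot_iff_of_injective _ H.subtype_injective] at h1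
  letI := Fintype.ofFinite G
  by_cases hfree : ∀ (R : Sylow p G) (x : G), x ≠ 1 → ¬ p ∣ orderOf x →
      ¬ ∀ a ∈ (R : Subgroup G), x * a = a * x
  · exact false_of_free hp2 hab hcyc htop hna hprop hdp hfree
  push Not at hfree
  obtain ⟨R, x, hx1, hxo, hxR⟩ := hfree
  exact false_of_central hp2 hab hcyc htop hna hprop hdp hx1 hxo hxR

end Cfsg.Agent.FGB.CycAb
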