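import Mathlib

set_option autoImplicit false

namespace Cfsg.Agent.FGB

open Polynomial

universe u

variable {p q : ℕ} [hp : Fact p.Prime] [hq : Fact q.Prime]

theorem orderOf_natCast_eq_orderOf_unit (h : p.Coprime q) :
    orderOf (p : ZMod q) = orderOf (ZMod.unitOfCoprime p h) := by
  rw [← orderOf_units, ZMod.coe_unitOfCoprime]

theorem cyclotomic_irreducible_of_primitiveRoot (hpq : p ≠ q) (hord : orderOf (p : ZMod q) = q - 1) :
    Irreducible (cyclotomic q (ZMod p)) := by
  have hnd : ¬ p ∣ q := fun h => hpq ((Nat.prime_dvd_prime_iff_eq hp.out hq.out).mp h)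
  refine ZMod.irreducible_of_dvd_cyclotomic_of_natDegree hnd dvd_rfl ?_
  rw [natDegree_cyclotomic, Nat.totient_prime hq.out, ← hord, orderOf_natCast_eq_orderOf_unit]

theorem aeval_cyclotomic_prime {V : Type u} [AddCommGroup V] [Module (ZMod p) V]
    (T : Module.End (ZMod p) V) :
    aeval T (cyclotomic q (ZMod p)) = ∑ i ∈ Finset.range q, T ^ i := by
  rw [cyclotomic_prime]
  simp [map_sum]

theorem exists_coords (hirr : Irreducible (cyclotomic q (ZMod p))) {V : Type u} [AddCommGroup V]
    [Module (ZMod p) V] [Finite V] (T : Module.End (ZMod p) V)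
    (hT : ∑ i ∈ Finset.range q, T ^ i = 0) (u : V) (hu : u ≠ 0) :
    ∃ (m : ℕ) (e : V ≃+ (Fin (m + 1) → AdjoinRoot (cyclotomic q (ZMod p)))),
      (∀ v, e (T v) = AdjoinRoot.root (cyclotomic q (ZMod p)) • e v) ∧ e u = Pi.single 0 1 := by
  classical
  haveI := Fact.mk hirr
  let K := AdjoinRoot (cyclotomic q (ZMod p))
  let ρ : K →+* Module.End (ZMod p) V :=
    Ideal.Quotient.lift _ (aeval T).toRingHom (fun a ha => by
      obtain ⟨b, rfl⟩ := Ideal.mem_span_singleton.mp ha
      show aeval T (_ * b) = 0
      rw [map_mul, aeval_cyclotomic_prime, hT, zero_mul])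
  letI : Module K V := Module.compHom V ρ
  have hroot : ∀ v : V, (AdjoinRoot.root (cyclotomic q (ZMod p)) : K) • v = T v := fun v => by
    show (aeval T X) v = T v
    rw [aeval_X]
  haveI : Module.Finite K V := Module.Finite.of_finite
  have hli : LinearIndepOn K id ({u} : Set V) := LinearIndepOn.singleton hu
  let b := Module.Basis.extend hli
  haveI := Fintype.ofFinite (hli.extend (Set.subset_univ _))
  let i0 : hli.extend (Set.subset_univ ({u} : Set V)) := ⟨u, hli.subset_extend _ rfl⟩
  obtain ⟨m, hm⟩ : ∃ m, Fintype.card (hli.extend (Set.subset_univ ({u} : Set V))) = m + 1 :=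
    ⟨_, (Nat.succ_pred_eq_of_pos (Fintype.card_pos_iff.mpr ⟨i0⟩)).symm⟩
  let f0 := Fintype.equivFinOfCardEq hm
  let f := f0.trans (Equiv.swap (f0 i0) 0)
  let b' := b.reindex f
  refine ⟨m, b'.equivFun.toAddEquiv, fun v => ?_, ?_⟩
  · show b'.equivFun (T v) = _ • b'.equivFun v
    rw [← hroot, map_smul]
  · show b'.equivFun u = _
    have hf : f i0 = 0 := by simp [f]
    have hb : b' 0 = u := by
      rw [show b' = b.reindex f from rfl, Module.Basis.reindex_apply, ← hf, Equiv.symm_apply_apply]
      exact Module.Basis.extend_apply_self hli i0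
    conv_lhs => rw [← hb]
    ext i
    rw [Module.Basis.equivFun_self, Pi.single_apply]
    exact if_congr eq_comm rfl rfl

/-- Two operators killed by an irreducible cyclotomic polynomial are intertwined, with any
nonzero vector sent to any other. -/
theorem exists_intertwine (hirr : Irreducible (cyclotomic q (ZMod p))) {V : Type u} [AddCommGroup V]
    [Module (ZMod p) V] [Finite V] (T T' : Module.End (ZMod p) V)
    (hT : ∑ i ∈ Finset.range q, T ^ i = 0) (hT' : ∑ i ∈ Finset.range q, T' ^ i = 0)
    (u w : V) (hu : u ≠ 0) (hw : w ≠ 0) :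
    ∃ ψ : V ≃+ V, ψ u = w ∧ ∀ v, ψ (T v) = T' (ψ v) := by
  classical
  haveI := Fact.mk hirr
  obtain ⟨m, e, he, heu⟩ := exists_coords hirr T hT u hu
  obtain ⟨m', e', he', heu'⟩ := exists_coords hirr T' hT' w hw
  have hmm : m' = m := by
    have hc := Nat.card_congr (e.symm.trans e').toEquiv
    rw [Nat.card_fun, Nat.card_fun, Nat.card_fin, Nat.card_fin] at hc
    have hK : 1 < Nat.card (AdjoinRoot (cyclotomic q (ZMod p))) := by
      haveI : Finite (Fin (m + 1) → AdjoinRoot (cyclotomic q (ZMod p))) := Finite.of_equiv _ e.toEquiv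
      haveI : Finite (AdjoinRoot (cyclotomic q (ZMod p))) :=
        Finite.of_injective (fun a => (fun _ => a : Fin (m + 1) → AdjoinRoot (cyclotomic q (ZMod p))))
          (fun a b h => congrFun h 0)
      exact Finite.one_lt_card
    have := Nat.pow_right_injective hK hc
    omega
  subst hmm
  refine ⟨e.trans e'.symm, ?_, fun v => ?_⟩
  · show e'.symm (e u) = w
    rw [heu, ← heu', AddEquiv.symm_apply_apply]
  · show e'.symm (e (T v)) = T' (e'.symm (e v))
    apply e'.injective
    rw [he', AddEquiv.apply_symm_apply, AddEquiv.apply_symm_apply, he]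

/-- If all non-zero vectors have the same annihilator (as expressed by transitivity of a set of
semilinear symmetries), the operator has irreducible minimal polynomial of full degree. -/
theorem orderOf_eq_of_annihilators (hpq : p ≠ q) {V : Type u} [AddCommGroup V] [Module (ZMod p) V]
    [Finite V] [Nontrivial V] (T : Module.End (ZMod p) V)
    (hT : ∑ i ∈ Finset.range q, T ^ i = 0) (hT1 : T ≠ 1)
    (htrans : ∀ v w : V, v ≠ 0 → w ≠ 0 →
      ∃ (i : ℕ) (α : V ≃+ V), α v = w ∧ ∀ z, α (T z) = (T ^ i) (α z))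
    (hpow : ∀ i : ℕ, ¬ q ∣ i → ∃ α : V ≃+ V, ∀ z, α (T z) = (T ^ i) (α z)) :
    orderOf (p : ZMod q) = q - 1 := by
  classical
  have hTq : T ^ q = 1 := by
    have := geom_sum_mul T q
    rw [hT, zero_mul] at this
    exact (sub_eq_zero.mp this.symm)
  -- the cyclic submodules
  let W : V → Submodule (ZMod p) V := fun w =>
    LinearMap.range ((LinearMap.applyₗ w).comp (aeval T).toLinearMap)
  have hWmem : ∀ w z, z ∈ W w ↔ ∃ h : (ZMod p)[X], aeval T h w = z := fun w z => Iff.rfl
  have hself : ∀ w, w ∈ W w := fun w => (hWmem w w).mpr ⟨1, by rw [map_one]; rfl⟩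
  have hmul : ∀ (a b : (ZMod p)[X]) (z : V), aeval T (a * b) z = aeval T a (aeval T b z) :=
    fun a b z => by rw [map_mul]; rfl
  have hTn : ∀ (k : ℕ) (z : V), (T ^ k) z = aeval T ((X : (ZMod p)[X]) ^ k) z := fun k z => by
    rw [map_pow, aeval_X]
  have hsub : ∀ w z, z ∈ W w → W z ≤ W w := by
    rintro w z hz y ⟨a, rfl⟩
    obtain ⟨b, rfl⟩ := (hWmem w z).mp hz
    exact (hWmem w _).mpr ⟨a * b, hmul a b w⟩
  -- symmetries
  have haev : ∀ (i : ℕ) (α : V ≃+ V), (∀ z, α (T z) = (T ^ i) (α z)) →
      ∀ (h : (ZMod p)[X]) z, α (aeval T h z) = aeval T (expand (ZMod p) i h) (α z) := by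
    intro i α hα h
    induction h using Polynomial.induction_on' with
    | add a b ha hb =>
      intro z
      simp only [map_add, LinearMap.add_apply, ha, hb]
    | monomial k c =>
      intro z
      rw [expand_monomial, aeval_monomial, aeval_monomial, Module.algebraMap_end_eq_smul_id]
      have hk : ∀ (k : ℕ) (z : V), α ((T ^ k) z) = (T ^ (k * i)) (α z) := by
        intro k
        induction k with
        | zero => intro z; simp
        | succ k ih =>
          intro z
          rw [pow_succ, Module.End.mul_apply, ih, hα, add_mul, one_mul, pow_add, Module.End.mul_apply]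
      simp only [Module.End.mul_apply, LinearMap.smul_apply, LinearMap.id_coe, id_eq]
      rw [← hk]
      exact ZMod.map_smul α.toAddMonoidHom c _
  have hcard : ∀ v w : V, v ≠ 0 → w ≠ 0 → Nat.card (W v) ≤ Nat.card (W w) := by
    intro v w hv hw
    obtain ⟨i, α, hα, hαT⟩ := htrans v w hv hw
    refine Nat.card_le_card_of_injective (fun z : W v => (⟨α z, ?_⟩ : W w)) ?_
    · obtain ⟨h, hh⟩ := (hWmem v z).mp z.2
      refine (hWmem w _).mpr ⟨expand (ZMod p) i h, ?_⟩
      rw [← hα, ← haev i α hαT, hh]
    · intro a b hab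
      exact Subtype.ext (α.injective (congrArg Subtype.val hab))
  have hmin : ∀ w z : V, z ≠ 0 → z ∈ W w → W z = W w := by
    intro w z hz hzw
    have hw : w ≠ 0 := fun e => hz (by obtain ⟨h, rfl⟩ := (hWmem w z).mp hzw; rw [e, map_zero])
    apply SetLike.coe_injective
    refine Set.eq_of_subset_of_ncard_le (hsub w z hzw) ?_
    rw [← Nat.card_coe_set_eq, ← Nat.card_coe_set_eq]
    exact hcard w z hw hz
  have hann : ∀ (h : (ZMod p)[X]) (u : V), u ≠ 0 → aeval T h u = 0 → aeval T h = 0 := by
    intro h u hu hhu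
    apply LinearMap.ext
    intro w
    rw [LinearMap.zero_apply]
    by_cases hw : w ∈ W u
    · obtain ⟨g, rfl⟩ := (hWmem u w).mp hw
      rw [← hmul, mul_comm, hmul, hhu, map_zero]
    · by_contra hne
      have hmem : aeval T h w ∈ W (u + w) := by
        refine (hWmem _ _).mpr ⟨h, ?_⟩
        rw [map_add, hhu, zero_add]
      have e1 : W (aeval T h w) = W w := hmin w _ hne ((hWmem w _).mpr ⟨h, rfl⟩)
      have e2 : W (aeval T h w) = W (u + w) := hmin _ _ hne hmem
      have huw : u + w ∈ W w := by rw [← e1, e2]; exact hself _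
      have : u ∈ W w := by simpa using (W w).sub_mem huw (hself w)
      exact hw (hmin w u hu this ▸ hself w)
  -- minimal polynomial
  haveI : Module.Finite (ZMod p) V := Module.Finite.of_finite
  have hint : IsIntegral (ZMod p) T := Algebra.IsIntegral.isIntegral T
  set μ := minpoly (ZMod p) T with hμ
  have hμdvd : ∀ h : (ZMod p)[X], aeval T h = 0 → μ ∣ h := fun h hh => minpoly.dvd _ _ hh
  have hirr : Irreducible μ := by
    refine ⟨minpoly.not_isUnit _ _, fun a b hab => ?_⟩
    have hab0 : aeval T a * aeval T b = 0 := by rw [← map_mul, ← hab, hμ, minpoly.aeval]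
    have ha0 : a ≠ 0 := fun e => minpoly.ne_zero hint (by rw [← hμ, hab, e, zero_mul])
    have hb0 : b ≠ 0 := fun e => minpoly.ne_zero hint (by rw [← hμ, hab, e, mul_zero])
    by_cases hb : aeval T b = 0
    · left
      obtain ⟨c, hc⟩ := hμdvd b hb
      refine IsUnit.of_mul_eq_one c ?_
      have : b * (a * c) = b * 1 := by
        calc b * (a * c) = a * b * c := by ring
          _ = b * 1 := by rw [← hab, ← hc, mul_one]
      exact mul_left_cancel₀ hb0 this
    · right
      obtain ⟨v, hv⟩ : ∃ v, aeval T b v ≠ 0 := by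
        by_contra h
        push Not at h
        exact hb (LinearMap.ext h)
      have ha : aeval T a = 0 := hann a _ hv (LinearMap.congr_fun hab0 v)
      obtain ⟨c, hc⟩ := hμdvd a ha
      refine IsUnit.of_mul_eq_one c ?_
      have : a * (b * c) = a * 1 := by
        calc a * (b * c) = a * b * c := by ring
          _ = a * 1 := by rw [← hab, ← hc, mul_one]
      exact mul_left_cancel₀ ha0 this
  haveI := Fact.mk hirr
  have hμcyc : μ ∣ cyclotomic q (ZMod p) := hμdvd _ (by rw [aeval_cyclotomic_prime, hT])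
  set ζ := AdjoinRoot.root μ with hζdef
  have hcop : p.Coprime q := (Nat.coprime_primes hp.out hq.out).mpr hpq
  have hdeg : μ.natDegree = orderOf (p : ZMod q) := by
    rw [orderOf_natCast_eq_orderOf_unit hcop]
    have h := Polynomial.natDegree_of_dvd_cyclotomic_of_irreducible (K := ZMod p) (p := p) (f := 1) (n := q)
      (by simp) (by simpa using hcop) hμcyc hirr
    rw [h]
    congr 1
    exact Units.ext (by simp)
  have hzero : ∀ h : (ZMod p)[X], aeval T h = 0 → aeval ζ h = 0 := fun h hh => by
    rw [hζdef, AdjoinRoot.aeval_eq, AdjoinRoot.mk_eq_zero]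
    exact hμdvd h hh
  have hζq : orderOf ζ = q := by
    refine orderOf_eq_prime ?_ ?_
    · have := hzero (X ^ q - 1) (by simp [hTq])
      simpa [sub_eq_zero] using this
    · intro h1
      apply hT1
      have hd : μ ∣ X - 1 := by
        have : aeval ζ ((X : (ZMod p)[X]) - 1) = 0 := by simp [h1]
        rwa [hζdef, AdjoinRoot.aeval_eq, AdjoinRoot.mk_eq_zero] at this
      obtain ⟨c, hc⟩ := hd
      have := congrArg (aeval T) hc
      rw [map_sub, aeval_X, map_one, map_mul, hμ, minpoly.aeval, zero_mul, sub_eq_zero] at this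
      exact this
  have hroots : ∀ i ∈ Finset.Ico 1 q, aeval (ζ ^ i) μ = 0 := by
    intro i hi
    rw [Finset.mem_Ico] at hi
    obtain ⟨α, hα⟩ := hpow i (fun h => absurd (Nat.le_of_dvd (by omega) h) (by omega))
    have : aeval T (expand (ZMod p) i μ) = 0 := by
      apply LinearMap.ext
      intro z
      obtain ⟨y, rfl⟩ := α.surjective z
      rw [← haev i α hα, hμ, minpoly.aeval, LinearMap.zero_apply, map_zero, LinearMap.zero_apply]
    have := hzero _ this
    rwa [expand_aeval] at this
  have hge : q - 1 ≤ μ.natDegree := by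
    have hμ0 : μ.map (algebraMap (ZMod p) (AdjoinRoot μ)) ≠ 0 :=
      Polynomial.map_ne_zero hirr.ne_zero
    have hsub : (Finset.Ico 1 q).image (fun i => ζ ^ i) ⊆
        (μ.map (algebraMap (ZMod p) (AdjoinRoot μ))).roots.toFinset := by
      intro z hz
      obtain ⟨i, hi, rfl⟩ := Finset.mem_image.mp hz
      rw [Multiset.mem_toFinset, mem_roots hμ0, IsRoot, eval_map, ← aeval_def]
      exact hroots i hi
    have h1 := Finset.card_le_card hsub
    rw [Finset.card_image_of_injOn ?_, Nat.card_Ico] at h1
    · exact (h1.trans (Multiset.toFinset_card_le _)).trans ((card_roots' _).trans (natDegree_map_le ..))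
    · intro i hi j hj hij
      simp only [Finset.coe_Ico, Set.mem_Ico] at hi hj
      exact pow_injOn_Iio_orderOf (by rw [hζq]; exact hi.2) (by rw [hζq]; exact hj.2) hij
  have hle : μ.natDegree ≤ q - 1 := by
    rw [← Nat.totient_prime hq.out, ← natDegree_cyclotomic q (ZMod p)]
    exact natDegree_le_of_dvd hμcyc (cyclotomic_ne_zero _ _)
  omega

end Cfsg.Agent.FGB
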