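import Cfsg.Agent.Lib.FGB.SubgroupCount
import Cfsg.Agent.Lib.Basics.Frattini

/-!
# The enumeration principle modulo `p ^ 2`
-/

set_option autoImplicit false
set_option linter.all false

namespace Cfsg.Agent.FGB

open Subgroup Module
open scoped commutatorElement

universe u

variable {p : ℕ} [hp : Fact p.Prime]

/-- The number of subgroups of order `p ^ k`. -/
noncomputable def numSub (G : Type*) [Group G] (p k : ℕ) : ℕ :=
  Nat.card {H : Subgroup G // Nat.card H = p ^ k}

/-- The number of subgroups of index `d`. -/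
noncomputable def numIndex (G : Type*) [Group G] (d : ℕ) : ℕ :=
  Nat.card {H : Subgroup G // H.index = d}

theorem numIndex_eq_numSub {G : Type*} [Group G] [Finite G] {m j : ℕ} (hG : Nat.card G = p ^ m)
    (hj : j ≤ m) : numIndex G (p ^ j) = numSub G p (m - j) := by
  refine Nat.card_congr (Equiv.subtypeEquivRight fun H => ?_)
  have h := H.card_mul_index
  have e : p ^ m = p ^ (m - j) * p ^ j := by rw [← pow_add, Nat.sub_add_cancel hj]
  rw [hG, e] at h
  constructor
  · intro hi
    rw [hi] at h
    exact Nat.eq_of_mul_eq_mul_right (pow_pos hp.out.pos j) h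
  · intro hc
    rw [hc] at h
    exact Nat.eq_of_mul_eq_mul_left (pow_pos hp.out.pos _) h

theorem numIndex_prime_elementary {V : Type u} [CommGroup V] [Finite V] (hexp : ∀ v : V, v ^ p = 1)
    {e : ℕ} (hV : Nat.card V = p ^ e) : numIndex V p * (p - 1) + 1 = p ^ e := by
  classical
  haveI : Module (ZMod p) (Additive V) := AddCommGroup.zmodModule fun x => hexp x.toMul
  haveI : Module.Finite (ZMod p) (Additive V) := Module.Finite.of_finite
  haveI : Module.Finite (ZMod p) (Additive V →ₗ[ZMod p] ZMod p) := inferInstance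
  let X := Additive V →ₗ[ZMod p] ZMod p
  haveI : Finite X := Module.finite_of_finite (ZMod p)
  haveI : Fintype X := Fintype.ofFinite X
  have hX : Nat.card X = p ^ e := by
    rw [Module.natCard_eq_pow_finrank (K := ZMod p) (V := X), Nat.card_zmod,
      show finrank (ZMod p) X = finrank (ZMod p) (Additive V) from Subspace.dual_finrank_eq, ← hV,
      ← Nat.card_congr Additive.toMul, Module.natCard_eq_pow_finrank (K := ZMod p), Nat.card_zmod]
  let toHom : X → (V →* Multiplicative (ZMod p)) := fun f =>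
    AddMonoidHom.toMultiplicativeRight f.toAddMonoidHom
  have happly : ∀ f v, toHom f v = Multiplicative.ofAdd (f (Additive.ofMul v)) := fun f v => rfl
  have hcardM : Nat.card (Multiplicative (ZMod p)) = p := Nat.card_zmod p
  have hker : ∀ f : X, f ≠ 0 → (toHom f).ker.index = p := by
    intro f hf
    rw [index_ker]
    obtain ⟨v, hv⟩ : ∃ v, f v ≠ 0 := by
      by_contra hall
      push Not at hall
      exact hf (LinearMap.ext hall)
    have hne : (toHom f).range ≠ ⊥ := fun h => hv (by
      have h1 : toHom f v.toMul ∈ (toHom f).range := ⟨_, rfl⟩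
      rw [h, mem_bot, happly] at h1
      exact Multiplicative.ofAdd.injective h1)
    haveI : Fact (Nat.card (Multiplicative (ZMod p))).Prime := ⟨by rw [hcardM]; exact hp.out⟩
    rw [((toHom f).range.eq_bot_or_eq_top_of_prime_card).resolve_left hne, card_top, hcardM]
  let Φ : {f : X // f ≠ 0} → {M : Subgroup V // M.index = p} := fun f => ⟨(toHom f.1).ker, hker f f.2⟩
  have hfib : ∀ M : {M : Subgroup V // M.index = p}, Nat.card {f // Φ f = M} = p - 1 := by
    rintro ⟨M, hM⟩
    haveI : Fact (Nat.card (V ⧸ M)).Prime := ⟨by rw [← Subgroup.index_eq_card, hM]; exact hp.out⟩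
    obtain ⟨e'⟩ : Nonempty (V ⧸ M ≃* Multiplicative (ZMod p)) := ⟨mulEquivOfPrimeCardEq (p := p)
      (by rw [← Subgroup.index_eq_card, hM]) hcardM⟩
    let g : V →* Multiplicative (ZMod p) := e'.toMonoidHom.comp (QuotientGroup.mk' M)
    let f0 : X := (MonoidHom.toAdditiveLeft g).toZModLinearMap p
    have hf0 : ∀ v, toHom f0 v = g v := fun v => rfl
    have hf0ker : (toHom f0).ker = M := by
      ext v
      rw [MonoidHom.mem_ker, hf0]
      show e' (QuotientGroup.mk v) = 1 ↔ v ∈ M
      rw [MulEquiv.map_eq_one_iff, QuotientGroup.eq_one_iff]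
    obtain ⟨v0, hv0⟩ : ∃ v0, v0 ∉ M := by
      by_contra hall
      push Not at hall
      rw [(eq_top_iff' M).mpr hall, index_top] at hM
      exact hp.out.one_lt.ne hM
    have hc0 : f0 (Additive.ofMul v0) ≠ 0 := fun h => hv0 (by
      rw [← hf0ker, MonoidHom.mem_ker, happly, h]; rfl)
    have hf0ne : f0 ≠ 0 := fun h => hc0 (by rw [h]; rfl)
    haveI : Fact (Nat.Prime p) := hp
    have hscale : ∀ f : X, (toHom f).ker = M → f = ((f (Additive.ofMul v0)) * (f0 (Additive.ofMul v0))⁻¹) • f0 := by
      intro f hf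
      refine LinearMap.ext fun w => ?_
      set t := f0 w * (f0 (Additive.ofMul v0))⁻¹
      have hw : (w - t • Additive.ofMul v0).toMul ∈ M := by
        rw [← hf0ker, MonoidHom.mem_ker, happly, ofMul_toMul, map_sub, map_smul, smul_eq_mul, mul_assoc,
          inv_mul_cancel₀ hc0, mul_one, sub_self]
        rfl
      rw [← hf, MonoidHom.mem_ker, happly, ofMul_toMul, map_sub, map_smul, smul_eq_mul] at hw
      have hw' : f w - t * f (Additive.ofMul v0) = 0 := Multiplicative.ofAdd.injective hw
      rw [LinearMap.smul_apply, smul_eq_mul, sub_eq_zero.mp hw']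
      ring
    rw [show p - 1 = Nat.card (ZMod p)ˣ by
      rw [Nat.card_units, Nat.card_zmod]]
    refine Nat.card_congr
      { toFun := fun f => Units.mk0 (f.1.1 (Additive.ofMul v0) * (f0 (Additive.ofMul v0))⁻¹) ?_
        invFun := fun c => ⟨⟨(c : ZMod p) • f0, smul_ne_zero c.ne_zero hf0ne⟩, Subtype.ext ?_⟩
        left_inv := fun f => Subtype.ext (Subtype.ext
          (hscale f.1.1 (congrArg Subtype.val f.2)).symm)
        right_inv := fun c => Units.ext ?_ }
    · intro h
      apply f.1.2
      rw [hscale f.1.1 (congrArg Subtype.val f.2), h, zero_smul]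
    · ext v
      show v ∈ (toHom ((c : ZMod p) • f0)).ker ↔ v ∈ M
      rw [← hf0ker, MonoidHom.mem_ker, MonoidHom.mem_ker, happly, happly, LinearMap.smul_apply,
        smul_eq_mul, ofAdd_eq_one, ofAdd_eq_one, mul_eq_zero, or_iff_right c.ne_zero]
    · show ((c : ZMod p) • f0) (Additive.ofMul v0) * (f0 (Additive.ofMul v0))⁻¹ = (c : ZMod p)
      rw [LinearMap.smul_apply, smul_eq_mul, mul_assoc, mul_inv_cancel₀ hc0, mul_one]
  haveI : Fintype {M : Subgroup V // M.index = p} := Fintype.ofFinite _
  have hne : Nat.card {f : X // f ≠ 0} = numIndex V p * (p - 1) := by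
    rw [← Nat.card_congr (Equiv.sigmaFiberEquiv Φ), Nat.card_sigma,
      Finset.sum_congr rfl (fun M _ => hfib M), Finset.sum_const, Finset.card_univ, smul_eq_mul,
      numIndex, Nat.card_eq_fintype_card]
  have h1 : Nat.card {f : X // f = 0} + Nat.card {f : X // ¬ f = 0} = Nat.card X := by
    rw [← Nat.card_sum, Nat.card_congr (Equiv.sumCompl _)]
  rw [show Nat.card {f : X // f = 0} = 1 from
    Nat.card_eq_one_iff_exists.mpr ⟨⟨0, rfl⟩, fun f => Subtype.ext f.2⟩, hX] at h1
  rw [← hne, ← h1]
  show Nat.card {f : X // ¬ f = 0} + 1 = _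
  rw [add_comm]

theorem modEq_one_add {N e : ℕ} (he : 2 ≤ e) (h : N * (p - 1) + 1 = p ^ e) :
    (N : ZMod (p ^ 2)) = 1 + p := by
  have hp2 : (p : ZMod (p ^ 2)) ^ e = 0 := by
    rw [show e = 2 + (e - 2) by omega, pow_add, ← Nat.cast_pow, ZMod.natCast_self, zero_mul]
  have h1 : (N : ZMod (p ^ 2)) * ((p : ZMod (p ^ 2)) - 1) = -1 := by
    have := congrArg (Nat.cast : ℕ → ZMod (p ^ 2)) h
    push_cast [Nat.cast_sub hp.out.one_le] at this
    rw [hp2] at this
    exact eq_neg_of_add_eq_zero_left this
  have h2 : (p : ZMod (p ^ 2)) * (p : ZMod (p ^ 2)) = 0 := by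
    rw [← Nat.cast_mul, ← pow_two, ZMod.natCast_self]
  linear_combination (-(1 + (p : ZMod (p ^ 2)))) * h1 + (N : ZMod (p ^ 2)) * h2

theorem mul_cast_eq_of_modEq {a b : ℕ} (h : a ≡ b [MOD p]) :
    (p : ZMod (p ^ 2)) * a = (p : ZMod (p ^ 2)) * b := by
  rw [← Nat.cast_mul, ← Nat.cast_mul, ZMod.natCast_eq_natCast_iff, pow_two]
  exact Nat.ModEq.mul_left' p h

variable {G : Type u} [Group G] [Finite G]

/-- The quotient by a subgroup containing the Frattini subgroup. -/
theorem elementary_quotient (hG : IsPGroup p G) {L : Subgroup G} [L.Normal] (hL : frattini G ≤ L) :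
    (∀ a b : G ⧸ L, a * b = b * a) ∧ ∀ a : G ⧸ L, a ^ p = 1 := by
  haveI := hG.isNilpotent
  refine ⟨fun a b => ?_, fun a => ?_⟩
  · induction a using QuotientGroup.induction_on with
    | H a =>
      induction b using QuotientGroup.induction_on with
      | H b =>
        rw [← commutatorElement_eq_one_iff_mul_comm]
        exact (QuotientGroup.eq_one_iff (N := L) ⁅a, b⁆).mpr
          (hL (Basics.commutator_le_frattini (commutator_mem_commutator (mem_top _) (mem_top _))))
  · induction a using QuotientGroup.induction_on with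
    | H a =>
      rw [← QuotientGroup.mk_pow, QuotientGroup.eq_one_iff]
      exact hL (Basics.pow_mem_frattini hG a)

theorem normal_of_frattini_le (hG : IsPGroup p G) {L : Subgroup G} (hL : frattini G ≤ L) : L.Normal := by
  haveI := hG.isNilpotent
  exact ⟨fun x hx g => by
    have h : g * x * g⁻¹ * x⁻¹ ∈ L :=
      hL (Basics.commutator_le_frattini (commutator_mem_commutator (mem_top g) (mem_top x)))
    simpa using mul_mem h hx⟩

theorem frattini_le_of_index_prime (hG : IsPGroup p G) {M : Subgroup G} (hM : M.index = p) :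
    frattini G ≤ M := by
  refine frattini_le_coatom ⟨fun h => hp.out.one_lt.ne' (by rw [← hM, h, index_top]), fun K hK => ?_⟩
  have hd := (relIndex_mul_index hK.le).trans hM
  rcases hp.out.eq_one_or_self_of_dvd _ (Dvd.intro_left _ hd) with h | h
  · exact index_eq_one.mp h
  · exfalso
    rw [h] at hd
    exact hK.not_ge (relIndex_eq_one.mp (Nat.eq_of_mul_eq_mul_right hp.out.pos (hd.trans (one_mul p).symm)))

theorem numIndex_quotient {L : Subgroup G} [L.Normal] (d : ℕ) :
    numIndex (G ⧸ L) d = Nat.card {M : Subgroup G // M.index = d ∧ L ≤ M} := by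
  have hs := QuotientGroup.mk'_surjective L
  exact Nat.card_congr
    { toFun := fun N => ⟨N.1.comap (QuotientGroup.mk' L),
        ⟨by rw [index_comap_of_surjective _ hs, N.2], QuotientGroup.le_comap_mk' L N.1⟩⟩
      invFun := fun M => ⟨M.1.map (QuotientGroup.mk' L), by
        rw [Subgroup.index_map_eq _ (QuotientGroup.mk'_surjective L)
          (by rw [QuotientGroup.ker_mk']; exact M.2.2), M.2.1]⟩
      left_inv := fun N => Subtype.ext (map_comap_eq_self_of_surjective hs _)
      right_inv := fun M => Subtype.ext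
        (comap_map_eq_self (by rw [QuotientGroup.ker_mk']; exact M.2.2)) }

/-- The number of maximal subgroups over `L`, corrected by those of index `p ^ 2`. -/
theorem max_count (hG : IsPGroup p G) {L : Subgroup G} (hL : frattini G ≤ L) (hne : L ≠ ⊤) :
    ((Nat.card {M : Subgroup G // M.index = p ∧ L ≤ M} : ℕ) : ZMod (p ^ 2)) =
      1 + p * (Nat.card {N : Subgroup G // N.index = p ^ 2 ∧ L ≤ N} : ℕ) := by
  haveI := normal_of_frattini_le hG hL
  obtain ⟨hc, hexp⟩ := elementary_quotient hG hL
  letI : CommGroup (G ⧸ L) := { (inferInstance : Group (G ⧸ L)) with mul_comm := hc }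
  obtain ⟨e, he⟩ := IsPGroup.iff_card.mp (hG.to_quotient L)
  have he0 : e ≠ 0 := fun h => hne (index_eq_one.mp (by rw [Subgroup.index_eq_card, he, h, pow_zero]))
  rw [← numIndex_quotient, ← numIndex_quotient]
  rcases Nat.lt_or_ge e 2 with h | h
  · obtain rfl : e = 1 := by omega
    have h1 : numIndex (G ⧸ L) p * (p - 1) = p - 1 := by
      have := numIndex_prime_elementary hexp he
      rw [pow_one] at this
      omega
    have hN : numIndex (G ⧸ L) p = 1 :=
      Nat.eq_of_mul_eq_mul_right (Nat.sub_pos_of_lt hp.out.one_lt) (h1.trans (one_mul _).symm)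
    have h2 : numIndex (G ⧸ L) (p ^ 2) = 0 := by
      refine Nat.card_eq_zero.mpr (Or.inl ⟨fun N => ?_⟩)
      have hd := N.1.index_dvd_card
      rw [N.2, he, Nat.pow_dvd_pow_iff_le_right hp.out.one_lt] at hd
      omega
    rw [hN, h2, Nat.cast_zero, mul_zero, Nat.cast_one, add_zero]
  · rw [modEq_one_add h (numIndex_prime_elementary hexp he)]
    have h2 : numIndex (G ⧸ L) (p ^ 2) ≡ 1 [MOD p] := by
      rw [numIndex_eq_numSub he h]
      exact card_subgroups_modEq_one hp.out (he ▸ pow_dvd_pow p (Nat.sub_le e 2))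
    rw [mul_cast_eq_of_modEq h2, Nat.cast_one, mul_one]

theorem numSub_sub (M : Subgroup G) (k : ℕ) :
    numSub M p k = Nat.card {H : {H : Subgroup G // Nat.card H = p ^ k} // H.1 ≤ M} :=
  Nat.card_congr
    { toFun := fun K => ⟨⟨K.1.map M.subtype, by rw [card_map_of_injective M.subtype_injective, K.2]⟩,
        map_subtype_le _⟩
      invFun := fun H => ⟨H.1.1.subgroupOf M, by rw [Nat.card_congr (subgroupOfEquivOfLe H.2).toEquiv, H.1.2]⟩
      left_inv := fun K => Subtype.ext (comap_map_eq_self_of_injective M.subtype_injective _)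
      right_inv := fun H => Subtype.ext (Subtype.ext (map_subgroupOf_eq_of_le H.2)) }

/-- The enumeration principle. -/
theorem enumeration (hG : IsPGroup p G) {m k : ℕ} (hm : Nat.card G = p ^ m) (hk : k + 2 ≤ m)
    (h2 : 2 ≤ m) (hnc : ∀ g : G, zpowers g ≠ ⊤) [Fintype {M : Subgroup G // M.index = p}] :
    ∑ M : {M : Subgroup G // M.index = p}, (numSub M.1 p k : ZMod (p ^ 2)) =
      (numSub G p k : ZMod (p ^ 2)) + p := by
  classical
  haveI := hG.isNilpotent
  let S := {H : Subgroup G // Nat.card H = p ^ k}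
  haveI : Fintype S := Fintype.ofFinite _
  haveI : Fintype {N : Subgroup G // N.index = p ^ 2 ∧ frattini G ≤ N} := Fintype.ofFinite _
  have hcardfilter : ∀ {α : Type u} [Fintype α] (P : α → Prop) [DecidablePred P],
      (∑ a : α, if P a then (1 : ZMod (p ^ 2)) else 0) = ((Nat.card {a // P a} : ℕ) : ZMod (p ^ 2)) := by
    intro α _ P _
    rw [Finset.sum_boole, Nat.card_eq_fintype_card, Fintype.card_subtype]
  have hswap : ∀ {α : Type u} [Fintype α] (R : α → Subgroup G),
      ∑ a : α, (numSub (R a) p k : ZMod (p ^ 2)) =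
        ∑ H : S, ((Nat.card {a : α // H.1 ≤ R a} : ℕ) : ZMod (p ^ 2)) := by
    intro α _ R
    rw [Finset.sum_congr rfl (fun (H : S) _ => (hcardfilter (fun a : α => H.1 ≤ R a)).symm),
      Finset.sum_comm]
    refine Finset.sum_congr rfl fun a _ => ?_
    rw [hcardfilter, numSub_sub]
  have hL : ∀ H : S, H.1 ⊔ frattini G ≠ ⊤ := by
    intro H h
    have h1 := frattini_nongenerating h
    have h3 := H.2
    rw [h1, card_top, hm] at h3
    have := Nat.pow_right_injective hp.out.two_le h3
    omega
  rw [hswap (fun M : {M : Subgroup G // M.index = p} => M.1)]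
  have hM : ∀ H : S, ((Nat.card {M : {M : Subgroup G // M.index = p} // H.1 ≤ M.1} : ℕ) : ZMod (p ^ 2)) =
      1 + p * (Nat.card {N : {N : Subgroup G // N.index = p ^ 2 ∧ frattini G ≤ N} // H.1 ≤ N.1} : ℕ) := by
    intro H
    have e1 : Nat.card {M : {M : Subgroup G // M.index = p} // H.1 ≤ M.1} =
        Nat.card {M : Subgroup G // M.index = p ∧ H.1 ⊔ frattini G ≤ M} :=
      Nat.card_congr ((Equiv.subtypeSubtypeEquivSubtypeInter _ (fun M => H.1 ≤ M)).trans
        (Equiv.subtypeEquivRight fun M => ⟨fun h => ⟨h.1, sup_le h.2 (frattini_le_of_index_prime hG h.1)⟩,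
          fun h => ⟨h.1, le_sup_left.trans h.2⟩⟩))
    have e2 : Nat.card {N : {N : Subgroup G // N.index = p ^ 2 ∧ frattini G ≤ N} // H.1 ≤ N.1} =
        Nat.card {N : Subgroup G // N.index = p ^ 2 ∧ H.1 ⊔ frattini G ≤ N} :=
      Nat.card_congr ((Equiv.subtypeSubtypeEquivSubtypeInter _ (fun N => H.1 ≤ N)).trans
        (Equiv.subtypeEquivRight fun N => ⟨fun h => ⟨h.1.1, sup_le h.2 h.1.2⟩,
          fun h => ⟨⟨h.1, le_sup_right.trans h.2⟩, le_sup_left.trans h.2⟩⟩))
    rw [e1, e2]
    exact max_count hG le_sup_right (hL H)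
  rw [Finset.sum_congr rfl (fun H _ => hM H), Finset.sum_add_distrib, Finset.sum_const,
    Finset.card_univ, nsmul_one, ← Nat.card_eq_fintype_card, ← Finset.mul_sum,
    ← hswap (fun N : {N : Subgroup G // N.index = p ^ 2 ∧ frattini G ≤ N} => N.1), Finset.mul_sum,
    Finset.sum_congr rfl (fun (N : {N : Subgroup G // N.index = p ^ 2 ∧ frattini G ≤ N}) _ => ?_),
    Finset.sum_const, Finset.card_univ, ← Nat.card_eq_fintype_card, nsmul_eq_mul]
  · congr 1
    haveI : (frattini G).Normal := inferInstance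
    obtain ⟨hc, hexp⟩ := elementary_quotient hG (le_refl (frattini G))
    letI : CommGroup (G ⧸ frattini G) := { (inferInstance : Group (G ⧸ frattini G)) with mul_comm := hc }
    obtain ⟨e, he⟩ := IsPGroup.iff_card.mp (hG.to_quotient (frattini G))
    have he2 : 2 ≤ e := by
      by_contra hlt
      have hcy : IsCyclic (G ⧸ frattini G) := by
        rcases (show e = 0 ∨ e = 1 by omega) with rfl | rfl
        · haveI := (Nat.card_eq_one_iff_unique.1 (by simpa using he)).1
          exact isCyclic_of_subsingleton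
        · exact isCyclic_of_prime_card (p := p) (by simpa using he)
      obtain ⟨q, hq⟩ := hcy.exists_generator
      obtain ⟨g, rfl⟩ := QuotientGroup.mk_surjective q
      refine hnc g (frattini_nongenerating (top_le_iff.1 fun x _ => ?_))
      obtain ⟨i, hi⟩ := hq (QuotientGroup.mk x)
      have h1 : (g ^ i)⁻¹ * x ∈ frattini G := QuotientGroup.eq.1 (by simpa using hi)
      have := mul_mem (mem_sup_left (zpow_mem (mem_zpowers g) i) : g ^ i ∈ zpowers g ⊔ frattini G)
        (mem_sup_right h1)
      simpa using this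
    have h := card_subgroups_modEq_one (G := G ⧸ frattini G) (β := e - 2) hp.out
      (he ▸ pow_dvd_pow p (Nat.sub_le e 2))
    rw [← numIndex_quotient, numIndex_eq_numSub he he2, mul_comm]
    show (p : ZMod (p ^ 2)) * ((numSub (G ⧸ frattini G) p (e - 2) : ℕ) : ZMod (p ^ 2)) = _
    rw [show ((numSub (G ⧸ frattini G) p (e - 2) : ℕ) : ZMod (p ^ 2)) =
      (Nat.card {H : Subgroup (G ⧸ frattini G) // Nat.card H = p ^ (e - 2)} : ℕ) from rfl,
      mul_cast_eq_of_modEq h, Nat.cast_one, mul_one]
  · have hd : p ^ k ∣ Nat.card N.1 := by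
      have h := N.1.card_mul_index
      rw [hm, N.2.1, show p ^ m = p ^ (m - 2) * p ^ 2 by rw [← pow_add, Nat.sub_add_cancel h2]] at h
      rw [Nat.eq_of_mul_eq_mul_right (pow_pos hp.out.pos 2) h]
      exact pow_dvd_pow p (by omega)
    unfold numSub
    rw [mul_cast_eq_of_modEq (card_subgroups_modEq_one hp.out hd), Nat.cast_one, mul_one]

end Cfsg.Agent.FGB
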