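import Cfsg.Agent.Lib.LieFpf.Assoc
import Cfsg.Agent.Lib.FGB.KulakoffEnum

/-!
# The order of a `p`-group of given derived length
-/

set_option autoImplicit false
set_option linter.all false

namespace Cfsg.Agent.FGB.Derived

open Subgroup LieFpf
open scoped commutatorElement

universe u

variable {G : Type u} [Group G]

/-- The iterated commutator `[H, G, …, G]`. -/
def cser (H : Subgroup G) : ℕ → Subgroup G
  | 0 => H
  | n + 1 => ⁅cser H n, (⊤ : Subgroup G)⁆

theorem cser_normal (H : Subgroup G) [H.Normal] : ∀ n, (cser H n).Normal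
  | 0 => inferInstanceAs H.Normal
  | n + 1 => haveI := cser_normal H n; inferInstanceAs (⁅cser H n, (⊤ : Subgroup G)⁆).Normal

theorem cser_succ (H : Subgroup G) (n : ℕ) : cser H (n + 1) = ⁅cser H n, (⊤ : Subgroup G)⁆ := rfl

theorem cser_shift (H : Subgroup G) : ∀ n, cser ⁅H, (⊤ : Subgroup G)⁆ n = cser H (n + 1)
  | 0 => rfl
  | n + 1 => by rw [cser_succ, cser_shift H n, ← cser_succ]

theorem commutator_sup_le {A B C N : Subgroup G} [N.Normal] (h₁ : ⁅A, C⁆ ≤ N) (h₂ : ⁅B, C⁆ ≤ N) :
    ⁅A ⊔ B, C⁆ ≤ N := by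
  have key : ∀ X : Subgroup G, ⁅X, C⁆ ≤ N →
      X ≤ (centralizer ((C.map (QuotientGroup.mk' N) : Subgroup (G ⧸ N)) : Set (G ⧸ N))).comap
        (QuotientGroup.mk' N) := fun X hX => map_le_iff_le_comap.mp
      (commutator_eq_bot_iff_le_centralizer.mp (by
        rw [← map_commutator, Subgroup.map_eq_bot_iff, QuotientGroup.ker_mk']; exact hX))
  have h := commutator_eq_bot_iff_le_centralizer.mpr
    (map_le_iff_le_comap.mpr (sup_le (key A h₁) (key B h₂)))
  rwa [← map_commutator, Subgroup.map_eq_bot_iff, QuotientGroup.ker_mk'] at h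

theorem cser_le_gam {H : Subgroup G} {m : ℕ} (hH : H ≤ gam G m) : ∀ n, cser H n ≤ gam G (m + n)
  | 0 => hH
  | n + 1 => (commutator_mono (cser_le_gam hH n) le_rfl).trans (le_of_eq (gam_succ G (m + n)).symm)

theorem commutator_gam_le : ∀ (m : ℕ) (H : Subgroup G) [H.Normal], ⁅H, gam G m⁆ ≤ cser H (m + 1)
  | 0, H, _ => le_rfl
  | m + 1, H, _ => by
    haveI := cser_normal H (m + 1 + 1)
    set N := cser H (m + 1 + 1) with hN
    let π := QuotientGroup.mk' N
    have key : ∀ K : Subgroup G, K ≤ N → K.map π = ⊥ := fun K hK => by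
      rw [Subgroup.map_eq_bot_iff, QuotientGroup.ker_mk']; exact hK
    have h := commutator_commutator_eq_bot_of_rotate
      (H₁ := (gam G m).map π) (H₂ := (⊤ : Subgroup G).map π) (H₃ := H.map π) ?_ ?_
    · rw [← map_commutator, ← map_commutator, Subgroup.map_eq_bot_iff, QuotientGroup.ker_mk'] at h
      rw [commutator_comm, gam_succ]
      exact h
    · rw [← map_commutator, ← map_commutator]
      refine key _ ?_
      rw [commutator_comm (⊤ : Subgroup G) H]
      refine (commutator_gam_le m ⁅H, (⊤ : Subgroup G)⁆).trans ?_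
      rw [cser_shift]
    · rw [← map_commutator, ← map_commutator]
      refine key _ ((commutator_mono (commutator_gam_le m H) le_rfl).trans ?_)
      rw [hN, cser_succ H (m + 1)]

/-- The preimage of `[H, G] H'`. -/
def top1 (H : Subgroup G) : Subgroup G := ⁅H, (⊤ : Subgroup G)⁆ ⊔ ⁅H, H⁆

instance top1_normal (H : Subgroup G) [H.Normal] : (top1 H).Normal := by unfold top1; infer_instance

theorem top1_le (H : Subgroup G) [H.Normal] : top1 H ≤ H :=
  sup_le (commutator_le_left H ⊤) (commutator_le_left H H)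

theorem derived_le_gam {H : Subgroup G} {m : ℕ} (hH : H ≤ gam G m) : ⁅H, H⁆ ≤ gam G (2 * m + 1) :=
  ((commutator_mono hH hH).trans (gam_commutator G m m)).trans (gam_le G (by omega))

theorem top1_le_gam {H : Subgroup G} {m : ℕ} (hH : H ≤ gam G m) : top1 H ≤ gam G (m + 1) :=
  sup_le (cser_le_gam hH 1) ((derived_le_gam hH).trans (gam_le G (by omega)))

variable {p : ℕ} [hp : Fact p.Prime] [Finite G]

theorem eq_bot_of_le_commutator (hG : IsPGroup p G) {K : Subgroup G} (h : K ≤ ⁅K, (⊤ : Subgroup G)⁆) :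
    K = ⊥ := by
  haveI := hG.isNilpotent
  have hall : ∀ n, K ≤ gam G n := fun n => by
    induction n with
    | zero => exact le_top
    | succ n ih => exact h.trans ((commutator_mono ih le_rfl).trans (le_of_eq (gam_succ G n).symm))
  exact le_bot_iff.mp ((hall _).trans (le_of_eq Subgroup.lowerCentralSeries_nilpotencyClass))

theorem exists_relIndex (hG : IsPGroup p G) (A B : Subgroup G) : ∃ e, A.relIndex B = p ^ e := by
  rw [relIndex]
  exact (hG.to_subgroup B).index _

theorem prime_le_relIndex (hG : IsPGroup p G) {A B : Subgroup G} (h : A < B) : p ≤ A.relIndex B := by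
  obtain ⟨e, he⟩ := exists_relIndex hG A B
  rw [he]
  refine Nat.le_self_pow ?_ p
  rintro rfl
  exact h.not_ge (relIndex_eq_one.mp (by rw [he, pow_zero]))

/-- Inside a quotient: a cyclic top makes the derived subgroup small. -/
theorem derived_le_of_cyclic (hG : IsPGroup p G) {H T N : Subgroup G} [N.Normal] (hTH : T ≤ H)
    (hidx : T.relIndex H ≤ p) (hcomm : ⁅H, T⁆ ≤ N) : ⁅H, H⁆ ≤ N := by
  obtain rfl | hlt := eq_or_lt_of_le hTH
  · exact hcomm
  obtain ⟨a, haH, haT⟩ := SetLike.exists_of_lt hlt
  have hlt' : T < zpowers a ⊔ T :=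
    lt_of_le_of_ne le_sup_right fun h => haT (h ▸ mem_sup_left (mem_zpowers a))
  have hle : zpowers a ⊔ T ≤ H := sup_le (zpowers_le.mpr haH) hTH
  have h1 := prime_le_relIndex hG hlt'
  have h2 := relIndex_mul_relIndex T (zpowers a ⊔ T) H hlt'.le hle
  have h3 : (zpowers a ⊔ T).relIndex H = 1 := by
    rcases Nat.lt_or_ge ((zpowers a ⊔ T).relIndex H) 2 with h | h
    · have : (zpowers a ⊔ T).relIndex H ≠ 0 := index_ne_zero_of_finite
      omega
    · have := Nat.mul_le_mul h1 h
      have := hp.out.pos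
      omega
  have hHeq : H = zpowers a ⊔ T := le_antisymm (relIndex_eq_one.mp h3) hle
  conv_lhs => enter [1]; rw [hHeq]
  refine commutator_sup_le ?_ (by rw [commutator_comm]; exact hcomm)
  rw [commutator_comm, hHeq]
  refine commutator_sup_le ?_ ?_
  · rw [commutator_le]
    intro x hx y hy
    obtain ⟨i, rfl⟩ := mem_zpowers_iff.mp hx
    obtain ⟨j, rfl⟩ := mem_zpowers_iff.mp hy
    rw [commutatorElement_eq_one_iff_mul_comm.mpr (Commute.zpow_zpow_self a i j).eq]
    exact one_mem _
  · rw [commutator_comm]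
    exact (commutator_mono (zpowers_le.mpr haH) le_rfl).trans hcomm

/-- The layers above the derived subgroup. -/
theorem le_relIndex (hG : IsPGroup p G) (H : Subgroup G) [H.Normal] {m : ℕ} (hH : H ≤ gam G m)
    (hne : ⁅H, H⁆ ≠ ⊥) :
    p ^ (m + 2) ≤ (⁅H, H⁆ : Subgroup G).relIndex H ∧
      (top1 H).relIndex H * p ^ m ≤ (⁅H, H⁆ : Subgroup G).relIndex H ∧
      ((⁅H, H⁆ : Subgroup G).relIndex H ≤ p ^ (m + 2) → p < (top1 H).relIndex H →
        (top1 H).relIndex H = p ^ 2 ∧ cser H (m + 1) ≤ ⁅H, H⁆) := by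
  haveI := hG.isNilpotent
  set K := (⁅H, H⁆ : Subgroup G) with hK
  have hKH : K ≤ H := commutator_le_left H H
  let D : ℕ → Subgroup G := fun j => cser H j ⊔ K
  have hDanti : ∀ j, D (j + 1) ≤ D j := fun j => by
    haveI := cser_normal H j
    exact sup_le_sup_right (commutator_le_left (cser H j) ⊤) K
  have hD0 : D 0 = H := sup_eq_left.mpr hKH
  have hDH : ∀ j, D j ≤ H := fun j => by
    induction j with
    | zero => exact hD0.le
    | succ j ih => exact (hDanti j).trans ih
  have hKn : ⁅K, (⊤ : Subgroup G)⁆ ≤ K := commutator_le_left K ⊤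
  have hstab : ∀ j, D j ≤ D (j + 1) → cser H j ≤ K := by
    intro j hj
    have hstep : ∀ t, cser H j ≤ cser H (j + t) ⊔ K := by
      intro t
      induction t with
      | zero => exact le_sup_left
      | succ t ih =>
        haveI := cser_normal H (j + (t + 1))
        refine (le_sup_left.trans hj).trans (sup_le ?_ le_sup_right)
        rw [cser_succ]
        haveI := cser_normal H j
        refine (commutator_mono ih le_rfl).trans ?_
        refine commutator_sup_le ?_ (hKn.trans le_sup_right)
        rw [← cser_succ]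
        exact le_sup_left
    have := hstep (Group.nilpotencyClass G)
    have h0 : cser H (j + Group.nilpotencyClass G) = ⊥ := by
      refine le_bot_iff.mp ((cser_le_gam le_top (j + _) (m := 0)).trans ?_)
      exact (gam_le G (by omega : Group.nilpotencyClass G ≤ 0 + (j + Group.nilpotencyClass G))).trans
        (le_of_eq Subgroup.lowerCentralSeries_nilpotencyClass)
    rwa [h0, bot_sup_eq] at this
  have hKm : K ≤ cser H (m + 1) := (commutator_mono le_rfl hH).trans (commutator_gam_le m H)
  have hnot : ∀ j ≤ m, ¬ cser H j ≤ K := by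
    intro j hj hle
    refine hne (eq_bot_of_le_commutator hG (hKm.trans ?_))
    have hmono : cser H m ≤ cser H j := by
      obtain ⟨t, rfl⟩ := Nat.exists_eq_add_of_le hj
      clear hKm hj hle hH
      induction t with
      | zero => exact le_rfl
      | succ t ih =>
        haveI := cser_normal H (j + t)
        exact (commutator_le_left (cser H (j + t)) ⊤).trans ih
    rw [cser_succ]
    exact commutator_mono (hmono.trans hle) le_rfl
  have hDlt : ∀ j, ¬ cser H j ≤ K → D (j + 1) < D j := fun j hj =>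
    lt_of_le_of_ne (hDanti j) fun h => hj (hstab j h.ge)
  have hchain : ∀ t, (∀ i < t, ¬ cser H (1 + i) ≤ K) →
      (D 1).relIndex H * p ^ t ≤ (D (1 + t)).relIndex H := by
    intro t
    induction t with
    | zero => intro _; rw [pow_zero, mul_one]
    | succ t ih =>
      intro h
      rw [show 1 + (t + 1) = 1 + t + 1 by ring, ← relIndex_mul_relIndex (D (1 + t + 1)) (D (1 + t)) H
        (hDanti _) (hDH _), pow_succ, ← mul_assoc, mul_comm]
      exact Nat.mul_le_mul (prime_le_relIndex hG (hDlt _ (h t (by omega))))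
        (ih fun i hi => h i (by omega))
  have hD1 : D 1 = top1 H := rfl
  have hbelow : ∀ j, (D j).relIndex H ≤ K.relIndex H := fun j => by
    rw [← relIndex_mul_relIndex K (D j) H le_sup_right (hDH j)]
    have : K.relIndex (D j) ≠ 0 := index_ne_zero_of_finite
    exact Nat.le_mul_of_pos_left _ (Nat.pos_of_ne_zero this)
  have hchain1 : ∀ t, (∀ i < t, ¬ cser H (1 + i) ≤ K) → (top1 H).relIndex H * p ^ t ≤ K.relIndex H :=
    fun t ht => (hchain t ht).trans (hbelow _)
  have h2 : (top1 H).relIndex H * p ^ m ≤ K.relIndex H := hchain1 m fun i hi => hnot _ (by omega)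
  have hpos := hp.out.two_le
  have htlt : top1 H < H := by
    rw [← hD1, ← hD0]
    exact hDlt 0 (hnot 0 (Nat.zero_le m))
  obtain ⟨e, he⟩ := exists_relIndex hG (top1 H) H
  have he1 := prime_le_relIndex hG htlt
  refine ⟨?_, h2, ?_⟩
  · rcases Nat.lt_or_ge e 2 with hlt | hge
    · have hcy : (top1 H).relIndex H ≤ p := by
        rw [he]
        exact (Nat.pow_le_pow_right hp.out.pos (by omega : e ≤ 1)).trans (pow_one p).le
      haveI := cser_normal H (m + 2)
      have hK2 : K ≤ cser H (m + 2) := derived_le_of_cyclic hG (top1_le H) hcy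
        ((commutator_mono le_rfl (top1_le_gam hH)).trans (commutator_gam_le (m + 1) H))
      have hn1 : ¬ cser H (m + 1) ≤ K := fun hle => hne (eq_bot_of_le_commutator hG
        (hK2.trans (by rw [cser_succ]; exact commutator_mono hle le_rfl)))
      have h3 := hchain1 (m + 1) fun i hi => if h : 1 + i ≤ m then hnot _ h else by
        rw [show 1 + i = m + 1 by omega]; exact hn1
      refine le_trans ?_ h3
      rw [show m + 2 = 1 + (m + 1) by ring, pow_add, pow_one]
      exact Nat.mul_le_mul_right _ he1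
    · refine le_trans ?_ h2
      rw [he, ← pow_add]
      exact Nat.pow_le_pow_right hp.out.pos (by omega)
  · intro hle hbig
    rw [he] at h2 hbig ⊢
    have he2 : 2 ≤ e := by
      by_contra hlt
      exact absurd ((Nat.pow_le_pow_right hp.out.pos (by omega : e ≤ 1)).trans (pow_one p).le) (not_le.mpr hbig)
    have he3 : e = 2 := by
      have := h2.trans hle
      rw [← pow_add, Nat.pow_le_pow_iff_right hp.out.one_lt] at this
      omega
    refine ⟨by rw [he3], ?_⟩
    by_contra hn1
    have h3 := (hchain1 (m + 1) fun i hi => if h : 1 + i ≤ m then hnot _ h else by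
      rw [show 1 + i = m + 1 by omega]; exact hn1).trans hle
    rw [he, he3, ← pow_add, Nat.pow_le_pow_iff_right hp.out.one_lt] at h3
    omega

/-- A group which is central by a group of order `p ^ 2` has derived subgroup of order at most `p`. -/
theorem card_derived_le {X : Type*} [Group X] [Finite X] (hX : IsPGroup p X) (H T : Subgroup X)
    [T.Normal] (hTH : T ≤ H) (hidx : T.relIndex H = p ^ 2) (hc : ⁅H, T⁆ = ⊥) :
    Nat.card (⁅H, H⁆ : Subgroup X) ≤ p := by
  have hTc : ∀ x ∈ H, ∀ t ∈ T, x * t = t * x := fun x hx t ht =>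
    commutatorElement_eq_one_iff_mul_comm.mp (by
      have := commutator_mem_commutator hx ht
      rwa [hc, mem_bot] at this)
  have hTlt : T < H := lt_of_le_of_ne hTH fun h => by
    rw [h, relIndex_self] at hidx
    have := Nat.one_lt_pow (n := 2) two_ne_zero hp.out.one_lt
    omega
  obtain ⟨b, hbH, hbT⟩ := SetLike.exists_of_lt hTlt
  by_cases hcy : zpowers b ⊔ T = H
  · have : (⁅H, H⁆ : Subgroup X) ≤ ⊥ := by
      nth_rewrite 1 [← hcy]
      refine commutator_sup_le ?_ (by rw [commutator_comm, hc])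
      rw [commutator_comm, ← hcy]
      refine commutator_sup_le ?_ ?_
      · rw [commutator_le]
        intro x hx y hy
        obtain ⟨i, rfl⟩ := mem_zpowers_iff.mp hx
        obtain ⟨j, rfl⟩ := mem_zpowers_iff.mp hy
        rw [commutatorElement_eq_one_iff_mul_comm.mpr (Commute.zpow_zpow_self b i j).eq]
        exact one_mem _
      · rw [commutator_comm, ← hc]
        exact commutator_mono (zpowers_le.mpr hbH) le_rfl
    rw [le_bot_iff.mp this, card_bot]
    exact hp.out.one_lt.le
  set J := zpowers b ⊔ T with hJ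
  have hJH : J ≤ H := sup_le (zpowers_le.mpr hbH) hTH
  have hTJ : T < J := lt_of_le_of_ne le_sup_right fun h => hbT (h ▸ mem_sup_left (mem_zpowers b))
  have hJlt : J < H := lt_of_le_of_ne hJH hcy
  obtain ⟨e1, he1⟩ := exists_relIndex hX T J
  obtain ⟨e2, he2⟩ := exists_relIndex hX J H
  have hsum : e1 + e2 = 2 := by
    have h := relIndex_mul_relIndex T J H hTJ.le hJH
    rw [he1, he2, hidx, ← pow_add] at h
    exact Nat.pow_right_injective hp.out.two_le h
  have hn1 : e1 ≠ 0 := fun h => hTJ.not_ge (relIndex_eq_one.mp (by rw [he1, h, pow_zero]))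
  have hn2 : e2 ≠ 0 := fun h => hJlt.not_ge (relIndex_eq_one.mp (by rw [he2, h, pow_zero]))
  obtain ⟨a, haH, haJ⟩ := SetLike.exists_of_lt hJlt
  have hgen : zpowers a ⊔ J = H := by
    refine le_antisymm (sup_le (zpowers_le.mpr haH) hJH) (relIndex_eq_one.mp ?_)
    have hlt : J < zpowers a ⊔ J := lt_of_le_of_ne le_sup_right fun h => haJ (h ▸ mem_sup_left (mem_zpowers a))
    obtain ⟨f1, hf1⟩ := exists_relIndex hX J (zpowers a ⊔ J)
    obtain ⟨f2, hf2⟩ := exists_relIndex hX (zpowers a ⊔ J) H
    have h := relIndex_mul_relIndex J (zpowers a ⊔ J) H hlt.le (sup_le (zpowers_le.mpr haH) hJH)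
    rw [hf1, hf2, he2, ← pow_add] at h
    have h0 := Nat.pow_right_injective hp.out.two_le h
    have : f1 ≠ 0 := fun h => hlt.not_ge (relIndex_eq_one.mp (by rw [hf1, h, pow_zero]))
    rw [hf2, show f2 = 0 by omega, pow_zero]
  have hJab : ⁅J, J⁆ = ⊥ := by
    refine le_bot_iff.mp ?_
    rw [hJ]
    refine commutator_sup_le ?_ (by rw [commutator_comm, ← hc]; exact commutator_mono hJH le_rfl)
    rw [commutator_comm]
    refine commutator_sup_le ?_ (by rw [commutator_comm, ← hc]; exact commutator_mono (zpowers_le.mpr hbH) le_rfl)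
    rw [commutator_le]
    intro x hx y hy
    obtain ⟨i, rfl⟩ := mem_zpowers_iff.mp hx
    obtain ⟨j, rfl⟩ := mem_zpowers_iff.mp hy
    rw [commutatorElement_eq_one_iff_mul_comm.mpr (Commute.zpow_zpow_self b i j).eq]
    exact one_mem _
  set c := ⁅a, b⁆ with hc'
  -- `H / T` is abelian, so `c ∈ T`
  have hHT : ⁅H, H⁆ ≤ T := by
    have hq : Nat.card (H ⧸ T.subgroupOf H) = p ^ 2 := by
      rw [← Subgroup.index_eq_card]; exact hidx
    haveI := IsPGroup.isMulCommutative_of_card_eq_prime_sq (p := p) hq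
    rw [commutator_le]
    intro x hx y hy
    have h : QuotientGroup.mk' (T.subgroupOf H) ⁅(⟨x, hx⟩ : H), ⟨y, hy⟩⁆ = 1 := by
      rw [map_commutatorElement, commutatorElement_eq_one_iff_mul_comm]
      exact mul_comm' _ _
    exact (QuotientGroup.eq_one_iff (N := T.subgroupOf H) ⁅(⟨x, hx⟩ : H), ⟨y, hy⟩⁆).mp h
  have hcT : c ∈ T := hHT (commutator_mem_commutator haH hbH)
  have hbJ : b ∈ J := mem_sup_left (mem_zpowers b)
  have hcp : orderOf c ∣ p := by
    obtain ⟨k, hk⟩ : ∃ k, b ^ p = k ∧ k ∈ T := by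
      refine ⟨_, rfl, ?_⟩
      have hq : Nat.card (J ⧸ T.subgroupOf J) = p := by
        rw [← Subgroup.index_eq_card]
        show T.relIndex J = p
        rw [he1, show e1 = 1 by omega, pow_one]
      have h : (QuotientGroup.mk (⟨b, hbJ⟩ : J) : J ⧸ T.subgroupOf J) ^ p = 1 := by
        rw [← hq]; exact pow_card_eq_one'
      rw [← QuotientGroup.mk_pow, QuotientGroup.eq_one_iff] at h
      exact h
    refine orderOf_dvd_of_pow_eq_one ?_
    have hcb : ∀ n : ℕ, a * b ^ n * a⁻¹ = c ^ n * b ^ n := by
      intro n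
      rw [← conj_pow, ← (show Commute c b from (hTc b hbH c hcT).symm).mul_pow]
      congr 1
      simp [hc', commutatorElement_def, mul_assoc]
    have h := hcb p
    rw [hk.1, hTc a haH k hk.2, mul_inv_cancel_right] at h
    exact (mul_eq_right.mp h.symm)
  refine le_trans (le_trans (card_le_of_le (show ⁅H, H⁆ ≤ zpowers c from ?_)) (Nat.card_zpowers c).le)
    (Nat.le_of_dvd hp.out.pos hcp)
  haveI hcn : ((zpowers c).subgroupOf H).Normal := ⟨fun x hx g => by
    rw [mem_subgroupOf] at hx ⊢
    obtain ⟨i, hi⟩ := mem_zpowers_iff.mp hx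
    rw [Subgroup.coe_mul, Subgroup.coe_mul, Subgroup.coe_inv, ← hi,
      hTc (g : X) g.2 (c ^ i) (T.zpow_mem hcT i), mul_inv_cancel_right]
    exact zpow_mem (mem_zpowers c) i⟩
  set π := QuotientGroup.mk' ((zpowers c).subgroupOf H)
  have hgen' : ∀ h : H, π h ∈ closure ({π ⟨a, haH⟩, π ⟨b, hbH⟩} ∪ (π '' {t : H | (t : X) ∈ T})) := by
    intro h
    have hle : H ≤ ((closure ({π ⟨a, haH⟩, π ⟨b, hbH⟩} ∪ (π '' {t : H | (t : X) ∈ T}))).comap π).map H.subtype := by
      refine hgen.ge.trans ?_
      refine sup_le (zpowers_le.mpr ⟨⟨a, haH⟩, subset_closure (Or.inl (Or.inl rfl)), rfl⟩) (sup_le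
        (zpowers_le.mpr ⟨⟨b, hbH⟩, subset_closure (Or.inl (Or.inr rfl)), rfl⟩) fun t ht =>
        ⟨⟨t, hTH ht⟩, subset_closure (Or.inr ⟨_, ht, rfl⟩), rfl⟩)
    obtain ⟨h', hh', he⟩ := hle h.2
    rw [Subtype.ext (he : (h' : X) = h)] at hh'
    exact hh'
  have hab : Commute (π ⟨a, haH⟩) (π ⟨b, hbH⟩) := by
    refine commutatorElement_eq_one_iff_commute.mp ?_
    rw [← map_commutatorElement]
    exact (QuotientGroup.eq_one_iff _).mpr (mem_subgroupOf.mpr (mem_zpowers c))
  have htc : ∀ (x : H) (t : H), (t : X) ∈ T → Commute (π x) (π t) := fun x t ht => by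
    refine commutatorElement_eq_one_iff_commute.mp ?_
    rw [← map_commutatorElement, show ⁅x, t⁆ = 1 from
      Subtype.ext (commutatorElement_eq_one_iff_mul_comm.mpr (hTc x x.2 t ht))]
    exact map_one π
  have hcomm : ∀ u v : H, Commute (π u) (π v) := fun u v =>
    Subgroup.closure_induction₂
      (p := fun x y _ _ => Commute x y)
      (fun x y hx hy => by
        rcases hx with (rfl | rfl) | ⟨t, ht, rfl⟩ <;> rcases hy with (rfl | rfl) | ⟨t', ht', rfl⟩
        all_goals first
          | exact Commute.refl _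
          | exact hab
          | exact hab.symm
          | exact htc _ _ ht'
          | exact (htc _ _ ht).symm)
      (fun x _ => Commute.one_left x) (fun x _ => Commute.one_right x)
      (fun x y z _ _ _ h₁ h₂ => h₁.mul_left h₂) (fun x y z _ _ _ h₁ h₂ => h₁.mul_right h₂)
      (fun x y _ _ h => h.inv_left) (fun x y _ _ h => h.inv_right) (hgen' u) (hgen' v)
  rw [commutator_le]
  intro x hx y hy
  have h : π ⁅(⟨x, hx⟩ : H), ⟨y, hy⟩⁆ = 1 := by
    rw [map_commutatorElement, commutatorElement_eq_one_iff_commute]; exact hcomm _ _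
  exact mem_subgroupOf.mp ((QuotientGroup.eq_one_iff _).mp h)

/-- The derived subgroup of a minimal layer has a cyclic top. -/
theorem top1_derived (hG : IsPGroup p G) (H : Subgroup G) [H.Normal] {m : ℕ} (hH : H ≤ gam G m)
    (hne : ⁅H, H⁆ ≠ ⊥) (hle : (⁅H, H⁆ : Subgroup G).relIndex H ≤ p ^ (m + 2))
    (hbig : p < (top1 H).relIndex H) : (top1 ⁅H, H⁆).relIndex ⁅H, H⁆ ≤ p := by
  obtain ⟨htop, hser⟩ := (le_relIndex hG H hH hne).2.2 hle hbig
  set K := (⁅H, H⁆ : Subgroup G) with hK
  set M := ⁅K, (⊤ : Subgroup G)⁆ with hM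
  haveI : M.Normal := by rw [hM]; infer_instance
  have hHT : ⁅H, top1 H⁆ ≤ M := by
    rw [commutator_comm]
    refine commutator_sup_le ?_ ?_
    · refine (commutator_mono le_rfl hH).trans ((commutator_gam_le m _).trans ?_)
      rw [cser_shift, cser_succ]
      exact commutator_mono hser le_rfl
    · exact commutator_mono le_rfl le_top
  set π := QuotientGroup.mk' M
  have hs := QuotientGroup.mk'_surjective M
  haveI : ((top1 H).map π).Normal := Subgroup.Normal.map inferInstance π hs
  have hKmap : K.map π = ⁅H.map π, H.map π⁆ := by rw [hK, map_commutator]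
  have hTtop : (top1 H).map π ≤ H.map π := map_mono (top1_le H)
  have hrel : ((top1 H).map π).relIndex (H.map π) = p ^ 2 := by
    rw [relIndex_map_map, sup_of_le_left, sup_of_le_left, htop]
    · rw [QuotientGroup.ker_mk']
      exact (commutator_mono (commutator_le_left H H) le_rfl).trans (commutator_le_left H ⊤)
    · rw [QuotientGroup.ker_mk']
      exact (commutator_le_left K ⊤).trans le_sup_right
  have hcard := card_derived_le (hG.to_quotient M) (H.map π) ((top1 H).map π) hTtop hrel
    (by rw [← map_commutator, Subgroup.map_eq_bot_iff, QuotientGroup.ker_mk']; exact hHT)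
  have hMK : M ≤ top1 K := le_sup_left
  have h1 : (top1 K).relIndex K ≤ M.relIndex K := by
    rw [← relIndex_mul_relIndex M (top1 K) K hMK (top1_le K)]
    exact Nat.le_mul_of_pos_left _ (Nat.pos_of_ne_zero index_ne_zero_of_finite)
  refine h1.trans (le_trans (le_of_eq ?_) hcard)
  rw [← hKmap]
  conv_lhs => rw [← QuotientGroup.ker_mk' M]
  exact Subgroup.relIndex_ker K π

/-- Mann's bound. -/
theorem bound (hG : IsPGroup p G) : ∀ (j : ℕ) (H : Subgroup G) [H.Normal] (s m e : ℕ),
    (fun K : Subgroup G => ⁅K, K⁆)^[j] H ≠ ⊥ → H ≤ gam G m → Nat.card H = p ^ e → 1 ≤ j →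
    (s ≤ m → s * 2 ^ j + 2 * j + 1 ≤ e + s) ∧
      (s ≤ m + 1 → (top1 H).relIndex H ≤ p → s * 2 ^ j + 2 * j ≤ e + s) ∧
      (s ≤ m + 1 → s * 2 ^ j + 2 * j ≤ e + s + 1) := by
  intro j
  induction j with
  | zero => intro H _ s m e _ _ _ h; omega
  | succ j ih =>
    intro H _ s m e hj hH he _
    rw [Function.iterate_succ_apply] at hj
    have hne : ⁅H, H⁆ ≠ ⊥ := by
      intro h
      have hbot : ∀ i : ℕ, (fun K : Subgroup G => ⁅K, K⁆)^[i] ⊥ = ⊥ := fun i => by
        induction i with
        | zero => rfl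
        | succ i ih' =>
          rw [Function.iterate_succ_apply', ih']
          exact commutator_bot_left _
      apply hj
      rw [h, hbot]
    set K := (⁅H, H⁆ : Subgroup G) with hK
    haveI : K.Normal := by rw [hK]; infer_instance
    obtain ⟨d, hd⟩ := exists_relIndex hG K H
    obtain ⟨e', he'⟩ := IsPGroup.iff_card.mp (hG.to_subgroup K)
    have hsum : e' + d = e := by
      have h := relIndex_mul_relIndex ⊥ K H bot_le (commutator_le_left H H)
      rw [relIndex_bot_left, relIndex_bot_left, hd, he', he, ← pow_add] at h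
      exact Nat.pow_right_injective hp.out.two_le h
    have he'pos : e' ≠ 0 := fun h => hne (card_eq_one.mp (by rw [he', h, pow_zero]))
    have hd2 : m + 2 ≤ d := by
      have := (le_relIndex hG H hH hne).1
      rwa [hd, Nat.pow_le_pow_iff_right hp.out.one_lt] at this
    rcases Nat.eq_zero_or_pos j with rfl | hj1
    · refine ⟨?_, ?_, ?_⟩ <;> intros <;> simp only [Nat.zero_add, pow_one] <;> omega
    have hweight : K ≤ gam G (2 * m + 1) := derived_le_gam hH
    have hpow : s * 2 ^ (j + 1) = 2 * s * 2 ^ j := by ring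
    have ihK := fun m' hm' => ih K (2 * s) m' e' hj hm' he' hj1
    refine ⟨fun hsm => ?_, fun hsm hcy => ?_, fun hsm => ?_⟩
    · have := (ihK _ hweight).1 (by omega)
      omega
    · have hw : K ≤ gam G (2 * m + 2) := derived_le_of_cyclic hG (top1_le H) hcy
        ((commutator_mono hH (top1_le_gam hH)).trans ((gam_commutator G (m + 1) m).trans
          (gam_le G (by omega))))
      have := (ihK _ hw).1 (by omega)
      omega
    · rcases Nat.lt_or_ge d (s + 2) with hlt | hge
      · by_cases hcy : (top1 H).relIndex H ≤ p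
        · have hw : K ≤ gam G (2 * m + 2) := derived_le_of_cyclic hG (top1_le H) hcy
            ((commutator_mono hH (top1_le_gam hH)).trans ((gam_commutator G (m + 1) m).trans
              (gam_le G (by omega))))
          have := (ihK _ hw).1 (by omega)
          omega
        · have hcK := top1_derived hG H hH hne
            (by rw [← hK, hd]; exact Nat.pow_le_pow_right hp.out.pos (by omega)) (not_le.mp hcy)
          have := (ihK _ hweight).2.1 (by omega) hcK
          omega
      · have := (ihK _ hweight).2.2 (by omega)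
        omega

end Cfsg.Agent.FGB.Derived
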