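import Mathlib

/-!
# Pushing up a dihedral quotient: the setting and the fixed points
-/

set_option autoImplicit false
set_option linter.unusedSectionVars false

namespace Cfsg.Agent.FGB.DPush

variable {G : Type*} [Group G] [Finite G]

/-- A group `H` with normal `T` of index two in `P` and dihedral quotient generated by two conjugates
of `P`, an element `y` normalizing `P`, and no common normal subgroup. -/
structure Ctx (H T P : Subgroup G) (y u : G) : Prop where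
  TP : T ≤ P
  PH : P ≤ H
  uH : u ∈ H
  uodd : Odd (orderOf u)
  pne : P ≠ ⊥
  p2 : IsPGroup 2 P
  twoP : ∀ a ∈ P, ∀ b ∈ P, a ∉ T → b ∉ T → a * b ∈ T
  Tn : ∀ h ∈ H, ∀ x ∈ T, h * x * h⁻¹ ∈ T
  gen1 : ∀ L : Subgroup G, P ≤ L → (∀ x ∈ P, u * x * u⁻¹ ∈ L) → H ≤ L
  gen2 : ∀ p ∈ P, p ∉ T → ∀ L : Subgroup G, (∀ x ∈ P, u * x * u⁻¹ ∈ L) →
    (∀ x ∈ P, p * u * x * (p * u)⁻¹ ∈ L) → H ≤ L
  yP : ∀ x ∈ P, y * x * y⁻¹ ∈ P
  y2 : ∃ p ∈ P, ∃ c : G, (∀ x ∈ P, c * x = x * c) ∧ y * y = p * c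
  core : ∀ Q : Subgroup G, Q ≤ P → (∀ h ∈ H, ∀ x ∈ Q, h * x * h⁻¹ ∈ Q) →
    (∀ x ∈ Q, y * x * y⁻¹ ∈ Q) → Q = ⊥

/-- The step elements. -/
def Step (y y' : G) : Prop := y' = y ∨ y' = y⁻¹

theorem Step.inv {y y' : G} (h : Step y y') : Step y y'⁻¹ := by
  rcases h with rfl | rfl
  · exact Or.inr rfl
  · exact Or.inl (inv_inv y)

/-- The central elements of order at most two. -/
def omegaZ (P : Subgroup G) : Subgroup G where
  carrier := {z | z ∈ P ∧ (∀ x ∈ P, z * x = x * z) ∧ z * z = 1}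
  one_mem' := ⟨one_mem P, fun x _ => by rw [one_mul, mul_one], one_mul 1⟩
  mul_mem' := by
    rintro a b ⟨ha, hac, ha2⟩ ⟨hb, hbc, hb2⟩
    refine ⟨mul_mem ha hb, fun x hx => by rw [mul_assoc, hbc x hx, ← mul_assoc, hac x hx, mul_assoc], ?_⟩
    rw [mul_assoc, ← mul_assoc b, ← hac b hb, mul_assoc a b, hb2, mul_one, ha2]
  inv_mem' := by
    rintro a ⟨ha, hac, ha2⟩
    rw [inv_eq_of_mul_eq_one_right ha2]
    exact ⟨ha, hac, ha2⟩

theorem mem_omegaZ {P : Subgroup G} {z : G} :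
    z ∈ omegaZ P ↔ z ∈ P ∧ (∀ x ∈ P, z * x = x * z) ∧ z * z = 1 := Iff.rfl

/-- The subgroup generated by the conjugates of `omegaZ P`. -/
def spanV (H P : Subgroup G) : Subgroup G :=
  Subgroup.closure {x | ∃ h ∈ H, ∃ z ∈ omegaZ P, x = h * z * h⁻¹}

variable {H T P : Subgroup G} {y u : G}

namespace Ctx

variable (K : Ctx H T P y u)

include K

theorem TH : T ≤ H := K.TP.trans K.PH

/-- The square of `y` acts as an element of `P`. -/
theorem sq_conj {x : G} (hx : x ∈ P) : ∃ p ∈ P, y * y * x * (y * y)⁻¹ = p * x * p⁻¹ := by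
  obtain ⟨p, hp, c, hc, e⟩ := K.y2
  refine ⟨p, hp, ?_⟩
  rw [e, mul_inv_rev, show p * c * x * (c⁻¹ * p⁻¹) = p * (c * x * c⁻¹) * p⁻¹ by group, hc x hx,
    mul_inv_cancel_right]

/-- Subgroups of `P` invariant under `P` are invariant under the square of `y`. -/
theorem sq_mem {X : Subgroup G} (hXP : X ≤ P) (hX : ∀ p ∈ P, ∀ x ∈ X, p * x * p⁻¹ ∈ X) {x : G}
    (hx : x ∈ X) : y * y * x * (y * y)⁻¹ ∈ X := by
  obtain ⟨p, hp, e⟩ := K.sq_conj (hXP hx)
  exact e ▸ hX p hp x hx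

theorem sq_inv_mem {X : Subgroup G} (hXP : X ≤ P) (hX : ∀ p ∈ P, ∀ x ∈ X, p * x * p⁻¹ ∈ X) {x : G}
    (hx : x ∈ X) : (y * y)⁻¹ * x * (y * y) ∈ X := by
  obtain ⟨p, hp, c, hc, e⟩ := K.y2
  have hxp : p⁻¹ * x * p ∈ X := by simpa using hX p⁻¹ (inv_mem hp) x hx
  rw [e, mul_inv_rev, show c⁻¹ * p⁻¹ * x * (p * c) = c⁻¹ * ((p⁻¹ * x * p) * c) by group,
    ← hc _ (hXP hxp), inv_mul_cancel_left]
  exact hxp

theorem yinvP {x : G} (hx : x ∈ P) : y⁻¹ * x * y ∈ P := by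
  have h1 := K.yP _ (K.sq_inv_mem le_rfl (fun p hp q hq => mul_mem (mul_mem hp hq) (inv_mem hp)) hx)
  simpa [mul_assoc] using h1

/-- The two steps agree on invariant subgroups of `P`. -/
theorem step_flip {X : Subgroup G} (hXP : X ≤ P) (hX : ∀ p ∈ P, ∀ x ∈ X, p * x * p⁻¹ ∈ X) {x : G}
    {y' : G} (hy : Step y y') : y' * x * y'⁻¹ ∈ X ↔ y * x * y⁻¹ ∈ X := by
  rcases hy with rfl | rfl
  · rfl
  · constructor
    · intro h
      have h1 := K.sq_mem hXP hX h
      simpa [mul_assoc] using h1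
    · intro h
      have h1 := K.sq_inv_mem hXP hX h
      simpa [mul_assoc] using h1

theorem stepP {y' x : G} (hy : Step y y') (hx : x ∈ P) : y' * x * y'⁻¹ ∈ P :=
  (K.step_flip le_rfl (fun p hp q hq => mul_mem (mul_mem hp hq) (inv_mem hp)) hy).2 (K.yP x hx)

/-- Conjugation by steps of central elements. -/
theorem step_central {y' x : G} (hy : Step y y') (hx : x ∈ P) (hc : ∀ p ∈ P, x * p = p * x) :
    y' * x * y'⁻¹ = y * x * y⁻¹ := by
  rcases hy with rfl | rfl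
  · rfl
  · obtain ⟨p, hp, e⟩ := K.sq_conj (K.yinvP hx)
    have hz : ∀ q ∈ P, y⁻¹ * x * y * q = q * (y⁻¹ * x * y) := fun q hq => by
      have h1 := hc _ (K.yP q hq)
      calc y⁻¹ * x * y * q = y⁻¹ * (x * (y * q * y⁻¹)) * y := by group
        _ = y⁻¹ * ((y * q * y⁻¹) * x) * y := by rw [h1]
        _ = q * (y⁻¹ * x * y) := by group
    rw [← hz p hp, mul_inv_cancel_right] at e
    rw [inv_inv, ← e]
    group

theorem omegaZ_ne_bot : omegaZ P ≠ ⊥ := by
  haveI : Fact (Nat.Prime 2) := ⟨Nat.prime_two⟩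
  haveI : Nontrivial P := (Subgroup.nontrivial_iff_ne_bot P).2 K.pne
  haveI := K.p2.center_nontrivial
  obtain ⟨k, hk⟩ := IsPGroup.iff_card.1 (K.p2.to_subgroup (Subgroup.center P))
  have hk0 : k ≠ 0 := fun h => by
    rw [h, pow_zero] at hk
    exact (Finite.one_lt_card (α := Subgroup.center P)).ne' hk
  obtain ⟨z, hz⟩ := exists_prime_orderOf_dvd_card' 2 (hk ▸ dvd_pow_self 2 hk0)
  intro h
  have hmem : ((z : P) : G) ∈ omegaZ P := by
    refine ⟨(z : P).2, fun x hx => ?_, ?_⟩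
    · exact congrArg Subtype.val (Subgroup.mem_center_iff.1 z.2 ⟨x, hx⟩).symm
    · have h2 : z * z = 1 := by rw [← pow_two, ← hz, pow_orderOf_eq_one]
      exact congrArg (fun w : Subgroup.center P => ((w : P) : G)) h2
  rw [h, Subgroup.mem_bot] at hmem
  have : z = 1 := Subtype.ext (Subtype.ext hmem)
  rw [this, orderOf_one] at hz
  omega

theorem omegaZ_y {z : G} (hz : z ∈ omegaZ P) : y * z * y⁻¹ ∈ omegaZ P := by
  refine ⟨K.yP z hz.1, fun x hx => ?_, ?_⟩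
  · have h1 := hz.2.1 _ (K.yinvP hx)
    calc y * z * y⁻¹ * x = y * (z * (y⁻¹ * x * y)) * y⁻¹ := by group
      _ = y * (y⁻¹ * x * y * z) * y⁻¹ := by rw [h1]
      _ = x * (y * z * y⁻¹) := by group
  · calc y * z * y⁻¹ * (y * z * y⁻¹) = y * (z * z) * y⁻¹ := by group
      _ = 1 := by rw [hz.2.2]; group

theorem omegaZ_step {y' z : G} (hy : Step y y') (hz : z ∈ omegaZ P) : y' * z * y'⁻¹ ∈ omegaZ P := by
  rw [K.step_central hy hz.1 hz.2.1]
  exact K.omegaZ_y hz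

/-- The centre of `P` of exponent two is not normal. -/
theorem omegaZ_not_normal : ¬ ∀ h ∈ H, ∀ z ∈ omegaZ P, h * z * h⁻¹ ∈ omegaZ P := fun h =>
  K.omegaZ_ne_bot (K.core _ (fun z hz => hz.1) h fun _ hz => K.omegaZ_y hz)

theorem spanV_normal {h v : G} (hh : h ∈ H) (hv : v ∈ spanV H P) : h * v * h⁻¹ ∈ spanV H P := by
  induction hv using Subgroup.closure_induction with
  | mem v hv =>
    obtain ⟨k, hk, z, hz, rfl⟩ := hv
    exact Subgroup.subset_closure ⟨h * k, mul_mem hh hk, z, hz, by group⟩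
  | one => simp
  | mul a b _ _ ha hb =>
    rw [show h * (a * b) * h⁻¹ = h * a * h⁻¹ * (h * b * h⁻¹) by group]
    exact mul_mem ha hb
  | inv a _ ha =>
    rw [show h * a⁻¹ * h⁻¹ = (h * a * h⁻¹)⁻¹ by group]
    exact inv_mem ha

theorem omegaZ_le_spanV : omegaZ P ≤ spanV H P := fun z hz =>
  Subgroup.subset_closure ⟨1, one_mem H, z, hz, by group⟩

variable (hZT : omegaZ P ≤ T)

include hZT

theorem spanV_le : spanV H P ≤ T := by
  refine (Subgroup.closure_le T).2 ?_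
  rintro _ ⟨h, hh, z, hz, rfl⟩
  exact K.Tn h hh z (hZT hz)

/-- The span is central in `T`. -/
theorem spanV_comm {v x : G} (hv : v ∈ spanV H P) (hx : x ∈ T) : v * x = x * v := by
  induction hv using Subgroup.closure_induction with
  | mem v hv =>
    obtain ⟨h, hh, z, hz, rfl⟩ := hv
    have hx' : h⁻¹ * x * h ∈ T := by simpa using K.Tn h⁻¹ (inv_mem hh) x hx
    have h1 := hz.2.1 _ (K.TP hx')
    calc h * z * h⁻¹ * x = h * (z * (h⁻¹ * x * h)) * h⁻¹ := by group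
      _ = h * (h⁻¹ * x * h * z) * h⁻¹ := by rw [h1]
      _ = x * (h * z * h⁻¹) := by group
  | one => rw [one_mul, mul_one]
  | mul a b _ _ ha hb => rw [mul_assoc, hb, ← mul_assoc, ha, mul_assoc]
  | inv a _ ha => rw [inv_mul_eq_iff_eq_mul, ← mul_assoc, ha, mul_inv_cancel_right]

theorem spanV_sq {v : G} (hv : v ∈ spanV H P) : v * v = 1 := by
  induction hv using Subgroup.closure_induction with
  | mem v hv =>
    obtain ⟨h, -, z, hz, rfl⟩ := hv
    calc h * z * h⁻¹ * (h * z * h⁻¹) = h * (z * z) * h⁻¹ := by group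
      _ = 1 := by rw [hz.2.2]; group
  | one => exact one_mul 1
  | mul a b ha hb iha ihb =>
    have e := K.spanV_comm hZT hb (K.spanV_le hZT ha)
    rw [mul_assoc, ← mul_assoc b, e, mul_assoc a b, ihb, mul_one, iha]
  | inv a _ iha => rw [← mul_inv_rev, iha, inv_one]

/-- Only `T` centralizes the span. -/
theorem mem_T_of_centralizes {p : G} (hp : p ∈ P) (h : ∀ v ∈ spanV H P, p * v = v * p) : p ∈ T := by
  by_contra hpT
  set L := Subgroup.centralizer (spanV H P : Set G) with hL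
  have hmem : ∀ {g : G}, g ∈ L ↔ ∀ v ∈ spanV H P, v * g = g * v := fun {g} => Subgroup.mem_centralizer_iff
  have hPL : P ≤ L := fun q hq => by
    by_cases hqT : q ∈ T
    · exact hmem.2 fun v hv => K.spanV_comm hZT hv hqT
    · have h2 := K.twoP _ (inv_mem hp) q hq (fun h' => hpT (by simpa using inv_mem h')) hqT
      have e : q = p * (p⁻¹ * q) := by group
      rw [e]
      exact L.mul_mem (hmem.2 fun v hv => (h v hv).symm) (hmem.2 fun v hv => K.spanV_comm hZT hv h2)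
  have hHL : H ≤ L := K.gen1 L hPL fun x hx => hmem.2 fun v hv => by
    have h1 := hmem.1 (hPL hx) _ (K.spanV_normal (inv_mem K.uH) hv)
    calc v * (u * x * u⁻¹) = u * (u⁻¹ * v * u⁻¹⁻¹ * x) * u⁻¹ := by group
      _ = u * (x * (u⁻¹ * v * u⁻¹⁻¹)) * u⁻¹ := by rw [h1]
      _ = u * x * u⁻¹ * v := by group
  refine K.omegaZ_not_normal fun g hg z hz => ?_
  rw [← hmem.1 (hHL hg) z (K.omegaZ_le_spanV hz), mul_inv_cancel_right]
  exact hz

end Ctx

/-- The data of an action by transvections. -/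
structure TData (H T P : Subgroup G) (y u r : G) : Prop where
  ctx : Ctx H T P y u
  ZT : omegaZ P ≤ T
  r1 : r ≠ 1
  rZ : r ∈ omegaZ P
  tr : ∀ v ∈ spanV H P, ∀ p ∈ P, p * v * p⁻¹ = v ∨ p * v * p⁻¹ = v * r

namespace Ctx

variable (K : Ctx H T P y u) (hZT : omegaZ P ≤ T)

include K hZT

/-- An element moving the span through a single involution gives the data. -/
theorem tdata_of_transvection {t v₀ : G} (ht : t ∈ P) (htT : t ∉ T) (hv₀ : v₀ ∈ spanV H P)
    (hne : t * v₀ * t⁻¹ ≠ v₀)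
    (htwo : ∀ v ∈ spanV H P, t * v * t⁻¹ = v ∨ t * (v₀ * v) * t⁻¹ = v₀ * v) :
    TData H T P y u (v₀ * (t * v₀ * t⁻¹)) := by
  set w := t * v₀ * t⁻¹ with hw
  have hwV : w ∈ spanV H P := K.spanV_normal (K.PH ht) hv₀
  have hcom : v₀ * w = w * v₀ := K.spanV_comm hZT hv₀ (K.spanV_le hZT hwV)
  have h2 := K.spanV_sq hZT hv₀
  have hinv : v₀⁻¹ = v₀ := inv_eq_of_mul_eq_one_right h2
  have hr1 : v₀ * w ≠ 1 := fun h => hne (by
    rw [← inv_eq_of_mul_eq_one_right h, hinv])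
  have hP : ∀ v ∈ spanV H P, ∀ p ∈ P, p * v * p⁻¹ = v ∨ p * v * p⁻¹ = v * (v₀ * w) := by
    intro v hv p hp
    by_cases hpT : p ∈ T
    · exact Or.inl (by rw [← K.spanV_comm hZT hv hpT, mul_inv_cancel_right])
    have hs : t⁻¹ * p ∈ T := K.twoP _ (inv_mem ht) p hp (fun h' => htT (by simpa using inv_mem h')) hpT
    have e : p * v * p⁻¹ = t * v * t⁻¹ := by
      calc p * v * p⁻¹ = t * ((t⁻¹ * p) * v * (t⁻¹ * p)⁻¹) * t⁻¹ := by group
        _ = t * v * t⁻¹ := by rw [← K.spanV_comm hZT hv hs, mul_inv_cancel_right]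
    rw [e]
    rcases htwo v hv with h | h
    · exact Or.inl h
    · right
      have e3 : t * (v₀ * v) * t⁻¹ = w * (t * v * t⁻¹) := by rw [hw]; group
      rw [e3] at h
      have hwinv : w⁻¹ = w := inv_eq_of_mul_eq_one_right (K.spanV_sq hZT hwV)
      have h5 : t * v * t⁻¹ = w⁻¹ * (v₀ * v) := by rw [← h, inv_mul_cancel_left]
      rw [h5, hwinv, ← mul_assoc, ← hcom]
      exact (K.spanV_comm hZT hv (K.spanV_le hZT (mul_mem hv₀ hwV))).symm
  refine ⟨K, hZT, hr1, ⟨K.TP (K.spanV_le hZT (mul_mem hv₀ hwV)), fun x hx => ?_,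
    K.spanV_sq hZT (mul_mem hv₀ hwV)⟩, hP⟩
  rcases hP _ (mul_mem hv₀ hwV) x hx with h | h
  · exact (mul_inv_eq_iff_eq_mul.1 h).symm
  · exfalso
    rw [K.spanV_sq hZT (mul_mem hv₀ hwV)] at h
    refine hr1 ?_
    calc v₀ * w = x⁻¹ * (x * (v₀ * w) * x⁻¹) * x := by group
      _ = 1 := by rw [h]; group

end Ctx

namespace TData

variable {r : G} (D : TData H T P y u r)

include D

theorem r_mem : r ∈ spanV H P := D.ctx.omegaZ_le_spanV D.rZ

theorem r_sq : r * r = 1 := D.rZ.2.2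

/-- The span is generated by two conjugates of the centre. -/
theorem exists_mul {v : G} (hv : v ∈ spanV H P) :
    ∃ z ∈ omegaZ P, ∃ z' ∈ omegaZ P, v = z * (u * z' * u⁻¹) := by
  have K := D.ctx
  set Y := (omegaZ P).map (MulAut.conj u).toMonoidHom with hY
  have hYV : Y ≤ spanV H P := by
    rintro _ ⟨z, hz, rfl⟩
    exact K.spanV_normal K.uH (K.omegaZ_le_spanV hz)
  have hsup : omegaZ P ⊔ Y ≤ spanV H P := sup_le K.omegaZ_le_spanV hYV
  have hrV : r ∈ spanV H P := D.r_mem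
  set L := Subgroup.normalizer ((omegaZ P ⊔ Y : Subgroup G) : Set G) with hL
  have hfin : ∀ g : G, (∀ w ∈ omegaZ P ⊔ Y, g * w * g⁻¹ ∈ omegaZ P ⊔ Y) → g ∈ L := by
    intro g hg
    have h2 : (omegaZ P ⊔ Y).map (MulAut.conj g).toMonoidHom = omegaZ P ⊔ Y := by
      refine Subgroup.eq_of_le_of_card_ge ?_
        (by rw [Subgroup.card_map_of_injective (f := (MulAut.conj g).toMonoidHom) (MulAut.conj g).injective])
      rintro _ ⟨x, hx, rfl⟩
      exact hg x hx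
    rw [hL, Subgroup.mem_normalizer_iff]
    intro x
    refine ⟨hg x, fun hx => ?_⟩
    rw [← h2] at hx
    obtain ⟨z, hz, hzx⟩ := hx
    have : z = x := (MulAut.conj g).injective hzx
    exact this ▸ hz
  have hrsup : r ∈ omegaZ P ⊔ Y := Subgroup.mem_sup_left D.rZ
  have hursup : u * r * u⁻¹ ∈ omegaZ P ⊔ Y := Subgroup.mem_sup_right ⟨r, D.rZ, rfl⟩
  have hHL : H ≤ L := by
    refine K.gen1 L (fun p hp => hfin p fun w hw => ?_) (fun x hx => hfin _ fun w hw => ?_)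
    · rcases D.tr w (hsup hw) p hp with h | h <;> rw [h]
      · exact hw
      · exact mul_mem hw hrsup
    · have hw' : u⁻¹ * w * u ∈ spanV H P := by simpa using K.spanV_normal (inv_mem K.uH) (hsup hw)
      have e : u * x * u⁻¹ * w * (u * x * u⁻¹)⁻¹ = u * (x * (u⁻¹ * w * u) * x⁻¹) * u⁻¹ := by group
      rw [e]
      rcases D.tr _ hw' x hx with h | h <;> rw [h]
      · rwa [show u * (u⁻¹ * w * u) * u⁻¹ = w by group]
      · rw [show u * (u⁻¹ * w * u * r) * u⁻¹ = w * (u * r * u⁻¹) by group]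
        exact mul_mem hw hursup
  have hle : spanV H P ≤ omegaZ P ⊔ Y := by
    refine (Subgroup.closure_le _).2 ?_
    rintro _ ⟨h, hh, z, hz, rfl⟩
    exact (Subgroup.mem_normalizer_iff.1 (hHL hh) z).1 (Subgroup.mem_sup_left hz)
  have hnorm : Y ≤ Subgroup.normalizer (omegaZ P : Set G) := by
    intro w hw
    refine Subgroup.centralizer_le_normalizer _ (Subgroup.mem_centralizer_iff.2 fun z hz => ?_)
    exact (hz.2.1 w (K.TP (K.spanV_le D.ZT (hYV hw))))
  have hv' := hle hv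
  rw [← SetLike.mem_coe, Subgroup.coe_mul_of_right_le_normalizer_left _ _ hnorm] at hv'
  obtain ⟨z, hz, _, ⟨z', hz', rfl⟩, e⟩ := Set.mem_mul.1 hv'
  exact ⟨z, hz, z', hz', e.symm⟩

end TData

end Cfsg.Agent.FGB.DPush
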