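import Mathlib
import Cfsg.Agent.Lib.Coprime23.Conjugacy
import Cfsg.Agent.Lib.Basics.Tools
import Cfsg.Agent.Lib.Invol.ZStarCons

/-!
# Pushing up a dihedral quotient: identification of the quotient by the odd core
-/

set_option autoImplicit false
set_option linter.unusedSectionVars false
set_option linter.style.haveILetI false

namespace Cfsg.Agent.FGB.DPush

/-- The character cut out by a subgroup of index two. -/
noncomputable def indexTwoHom {A : Type*} [Group A] (Q : Subgroup A) (h : Q.index = 2) :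
    A →* Multiplicative (ZMod 2) :=
  letI := Classical.decPred (· ∈ Q)
  MonoidHom.mk' (fun a => Multiplicative.ofAdd (if a ∈ Q then 0 else 1)) fun a b => by
    have hiff : a * b ∈ Q ↔ (a ∈ Q ↔ b ∈ Q) := Subgroup.mul_mem_iff_of_index_two h
    rw [← ofAdd_add]
    congr 1
    by_cases ha : a ∈ Q <;> by_cases hb : b ∈ Q <;> simp [ha, hb, hiff] <;> decide

theorem indexTwoHom_eq_one {A : Type*} [Group A] (Q : Subgroup A) (h : Q.index = 2) {a : A} :
    indexTwoHom Q h a = 1 ↔ a ∈ Q := by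
  classical
  show Multiplicative.ofAdd (if a ∈ Q then (0 : ZMod 2) else 1) = 1 ↔ _
  by_cases ha : a ∈ Q <;> simp [ha]

theorem zmod_two_mult (x : Multiplicative (ZMod 2)) : x = 1 ∨ x = Multiplicative.ofAdd 1 := by
  rcases (show ∀ y : ZMod 2, y = 0 ∨ y = 1 by decide) x.toAdd with h | h
  · left; exact Multiplicative.toAdd.injective (by rw [h]; rfl)
  · right; exact Multiplicative.toAdd.injective (by rw [h]; rfl)

/-- The transfer of a character of odd index fixes central elements. -/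
theorem exists_transfer {X : Type*} [Group X] [Finite X] (P : Subgroup X) (hodd : Odd P.index)
    (φ : P →* Multiplicative (ZMod 2)) :
    ∃ χ : X →* Multiplicative (ZMod 2),
      ∀ (g : X) (hg : g ∈ P), (∀ x : X, x * g = g * x) → χ g = φ ⟨g, hg⟩ := by
  refine ⟨MonoidHom.transfer φ, fun g hg hc => ?_⟩
  have key : ∀ (k : ℕ) (g₀ : X), g₀⁻¹ * g ^ k * g₀ ∈ P → g₀⁻¹ * g ^ k * g₀ = g ^ k := by
    intro k g₀ _
    rw [mul_assoc, ← ((Commute.pow_right (show Commute g₀ g from hc g₀) k)).eq, inv_mul_cancel_left]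
  rw [MonoidHom.transfer_eq_pow φ g key]
  have e : (⟨g ^ P.index, MonoidHom.transfer_eq_pow_aux g key⟩ : P) = (⟨g, hg⟩ : P) ^ P.index :=
    Subtype.ext (by rw [SubmonoidClass.coe_pow])
  rw [e, map_pow]
  obtain ⟨k, hk⟩ := hodd
  rcases zmod_two_mult (φ ⟨g, hg⟩) with h | h <;> rw [h]
  · exact one_pow _
  · rw [hk, pow_succ, pow_mul, show (Multiplicative.ofAdd (1 : ZMod 2)) ^ 2 = 1 from rfl, one_pow, one_mul]

/-- The kernel of a map onto a group of the right size is the odd core. -/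
theorem quotient_oddCore {X Y : Type*} [Group X] [Finite X] [Group Y] [Finite Y] (f : X →* Y)
    (hodd : Odd (Nat.card f.ker)) (hle : Cfsg.oddCore X ≤ f.ker) (hcard : Nat.card f.range = Nat.card Y) :
    Nonempty (X ⧸ Cfsg.oddCore X ≃* Y) := by
  have hsurj : Function.Surjective f := MonoidHom.range_eq_top.1 (Subgroup.eq_top_of_card_eq _ hcard)
  exact ⟨(QuotientGroup.quotientMulEquivOfEq
    (le_antisymm hle (Invol.le_oddCore inferInstance hodd))).trans
    (QuotientGroup.quotientKerEquivOfSurjective f hsurj)⟩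

/-- Bookkeeping for a normal subgroup meeting a Sylow subgroup trivially. -/
theorem odd_and_dvd {X : Type*} [Group X] [Finite X] (F P : Subgroup X) [F.Normal]
    (hP : IsPGroup 2 P) (hidx : Odd P.index) (h : F ⊓ P = ⊥) :
    Odd (Nat.card F) ∧ Nat.card P ∣ F.index := by
  have h1 := Basics.card_mul_card_eq_card_sup_mul_card_inf (N := F) (H := P)
    Subgroup.le_normalizer_of_normal
  rw [h, Subgroup.card_bot, mul_one] at h1
  have h2 : Nat.card F * Nat.card P ∣ Nat.card X := h1 ▸ Subgroup.card_subgroup_dvd_card _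
  refine ⟨?_, ?_⟩
  · rw [← Subgroup.card_mul_index P, mul_comm (Nat.card P)] at h2
    exact hidx.of_dvd_nat (Nat.dvd_of_mul_dvd_mul_right Nat.card_pos h2)
  · rw [← Subgroup.card_mul_index F] at h2
    exact Nat.dvd_of_mul_dvd_mul_left Nat.card_pos h2

variable {X : Type*} [Group X] [Finite X]

/-- The case of a central kernel. -/
theorem identA (T P : Subgroup X) (hP : IsPGroup 2 P) (hodd : Odd P.index)
    (sgn : X →* Multiplicative (ZMod 2)) (hsgn : ∀ p ∈ P, sgn p = 1 → p ∈ T)
    (hker : T ≤ sgn.ker) (hTP : T ≤ P) (hcard : Nat.card P = 4) {e z : X} (he : e ∈ T) (he1 : e ≠ 1)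
    (hec : ∀ x : X, x * e = e * x) (hTe : ∀ x ∈ T, x = 1 ∨ x = e) (hz : z ∈ P) (hzT : z ∉ T)
    (hz2 : z * z = 1) :
    Nonempty (X ⧸ Cfsg.oddCore X ≃* Multiplicative (ZMod 2) × Multiplicative (ZMod 2)) := by
  set Q := (Subgroup.zpowers z).subgroupOf P with hQ
  have hzP : Subgroup.zpowers z ≤ P := Subgroup.zpowers_le.2 hz
  have hoz : orderOf z = 2 := orderOf_eq_prime (by rw [pow_two]; exact hz2) fun h => hzT (h ▸ one_mem T)
  have hQi : Q.index = 2 := by
    have h1 := Subgroup.card_mul_index Q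
    rw [Nat.card_congr (Subgroup.subgroupOfEquivOfLe hzP).toEquiv, Nat.card_zpowers, hoz, hcard] at h1
    omega
  have heQ : (⟨e, hTP he⟩ : P) ∉ Q := by
    intro h
    obtain ⟨i, hi⟩ := Subgroup.mem_zpowers_iff.1 (show e ∈ Subgroup.zpowers z from h)
    rw [← zpow_mod_orderOf, hoz] at hi
    rcases (show i % ((2 : ℕ) : ℤ) = 0 ∨ i % ((2 : ℕ) : ℤ) = 1 by omega) with h' | h' <;> rw [h'] at hi
    · rw [zpow_zero] at hi; exact he1 hi.symm
    · rw [zpow_one] at hi; exact hzT (hi ▸ he)
  obtain ⟨χ, hχ⟩ := exists_transfer P hodd (indexTwoHom Q hQi)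
  have hχe : χ e ≠ 1 := by
    rw [hχ e (hTP he) hec]
    exact fun h => heQ ((indexTwoHom_eq_one Q hQi).1 h)
  set f := sgn.prod χ with hf
  have hF : f.ker ⊓ P = ⊥ := by
    refine (Subgroup.eq_bot_iff_forall _).2 fun x ⟨hxf, hxP⟩ => ?_
    have h1 : sgn x = 1 := congrArg Prod.fst (show f x = 1 from hxf)
    have h2 : χ x = 1 := congrArg Prod.snd (show f x = 1 from hxf)
    rcases hTe x (hsgn x hxP h1) with h | h
    · exact h
    · exact absurd (h ▸ h2) hχe
  obtain ⟨hFodd, hFidx⟩ := odd_and_dvd f.ker P hP hodd hF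
  refine quotient_oddCore f hFodd (fun o ho => ?_) ?_
  · obtain ⟨k, hk⟩ := (Invol.odd_card_oddCore (G := X)).of_dvd_nat
      ((Subgroup.orderOf_mk o ho).symm ▸ orderOf_dvd_natCard (⟨o, ho⟩ : Cfsg.oddCore X))
    have h2 : ∀ y : Multiplicative (ZMod 2), y ^ 2 = 1 := fun y => by
      rcases zmod_two_mult y with h | h <;> rw [h] <;> rfl
    have h3 : ∀ g : X →* Multiplicative (ZMod 2), g o = 1 := fun g => by
      have h4 : g o ^ (2 * k + 1) = 1 := by rw [← map_pow, ← hk, pow_orderOf_eq_one, map_one]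
      rwa [pow_succ, pow_mul, h2, one_pow, one_mul] at h4
    exact Prod.ext (h3 sgn) (h3 χ)
  · have h4 : Nat.card (Multiplicative (ZMod 2) × Multiplicative (ZMod 2)) = 4 := by
      rw [Nat.card_prod, Nat.card_congr Multiplicative.toAdd, Nat.card_zmod]
    rw [hcard, Subgroup.index_ker] at hFidx
    refine le_antisymm (Subgroup.card_le_card_group _) ?_
    rw [h4]
    exact Nat.le_of_dvd Nat.card_pos hFidx

/-- The case of a four-group moved by the complement. -/
theorem identB (T P : Subgroup X) [hTn : T.Normal] (hP : IsPGroup 2 P) (hodd : Odd P.index)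
    (sgn : X →* Multiplicative (ZMod 2)) (hsgn : ∀ p ∈ P, sgn p = 1 → p ∈ T) (hker : T ≤ sgn.ker)
    (hTP : T ≤ P) {u r r' t : X} (hu : Odd (orderOf u)) (ht : t ∈ P) (htT : t ∉ T)
    (htsgn : sgn t ≠ 1)
    (hcardP : Nat.card P = 2 * Nat.card T) (hT2 : ∀ x ∈ T, x * x = 1)
    (ht2 : t * t = 1) (hr : r ∈ T) (hr' : r' ∈ T) (htr : t * r * t⁻¹ = r)
    (htr' : t * r' * t⁻¹ = r' * r) (hr1 : r ≠ 1) (hr'1 : r' ≠ 1) (hne : r' ≠ r)
    (hdecomp : ∀ x ∈ T, ∃ c ∈ T, (∀ h : X, h * c = c * h) ∧
      (x = c ∨ x = c * r ∨ x = c * r' ∨ x = c * r * r'))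
    (hnr : ¬ ∀ h : X, h * r = r * h) (hnr' : ¬ ∀ h : X, h * r' = r' * h)
    (hnrr' : ¬ ∀ h : X, h * (r * r') = r * r' * h)
    (htwo : ∀ c ∈ T, ∀ c' ∈ T, (∀ h : X, h * c = c * h) → (∀ h : X, h * c' = c' * h) → c ≠ 1 → c' ≠ 1 → c' = c)
    (hfixed : ∀ v ∈ T, u * v = v * u → (∀ p ∈ P, p * u * p⁻¹ * v = v * (p * u * p⁻¹)) → ∀ h : X, h * v = v * h)
    (hcent : ∀ p ∈ P, (∀ v ∈ T, p * v = v * p) → p ∈ T) :
    ((Nat.card T = 4 ∧ Nonempty (X ⧸ Cfsg.oddCore X ≃* Equiv.Perm (Fin 4))) ∨
      (Nat.card T = 8 ∧ Nonempty (X ⧸ Cfsg.oddCore X ≃* Equiv.Perm (Fin 4) × Multiplicative (ZMod 2)))) := by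
  classical
  have hab : ∀ a ∈ T, ∀ b ∈ T, a * b = b * a := fun a ha b hb => by
    calc a * b = (b * b) * (a * b) * (a * a) := by rw [hT2 a ha, hT2 b hb, one_mul, mul_one]
      _ = b * ((b * a) * (b * a)) * a := by group
      _ = b * a := by rw [hT2 _ (mul_mem hb ha), mul_one]
  -- the central part
  set C := T ⊓ Subgroup.center X with hC
  have hCmem : ∀ {c : X}, c ∈ C ↔ c ∈ T ∧ ∀ h : X, h * c = c * h := fun {c} =>
    and_congr Iff.rfl Subgroup.mem_center_iff
  set J : Subgroup X :=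
    { carrier := {x | x = 1 ∨ x = r ∨ x = r' ∨ x = r * r'}
      one_mem' := Or.inl rfl
      mul_mem' := by
        have e1 := hT2 r hr
        have e2 := hT2 r' hr'
        have e3 := hab r' hr' r hr
        rintro a b (rfl | rfl | rfl | rfl) (rfl | rfl | rfl | rfl)
        · left; exact one_mul 1
        · right; left; exact one_mul _
        · right; right; left; exact one_mul _
        · right; right; right; exact one_mul _
        · right; left; exact mul_one _
        · left; exact e1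
        · right; right; right; rfl
        · right; right; left; rw [← mul_assoc, e1, one_mul]
        · right; right; left; exact mul_one _
        · right; right; right; exact e3
        · left; exact e2
        · right; left; rw [← mul_assoc, e3, mul_assoc, e2, mul_one]
        · right; right; right; exact mul_one _
        · right; right; left; rw [mul_assoc, e3, ← mul_assoc, e1, one_mul]
        · right; left; rw [mul_assoc, e2, mul_one]
        · left; exact hT2 _ (mul_mem hr hr')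
      inv_mem' := by
        intro a ha
        rcases ha with h | h | h | h <;> rw [h]
        · left; exact inv_one
        · right; left; exact inv_eq_of_mul_eq_one_right (hT2 r hr)
        · right; right; left; exact inv_eq_of_mul_eq_one_right (hT2 r' hr')
        · right; right; right; exact inv_eq_of_mul_eq_one_right (hT2 _ (mul_mem hr hr')) } with hJ
  have hJmem : ∀ {x : X}, x ∈ J ↔ x = 1 ∨ x = r ∨ x = r' ∨ x = r * r' := fun {x} => Iff.rfl
  have hrr' : r * r' ≠ 1 := fun h => hne (by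
    rw [← inv_eq_of_mul_eq_one_right h, inv_eq_of_mul_eq_one_right (hT2 r hr)])
  have hJT : J ≤ T := by
    intro x hx
    rcases hJmem.1 hx with h | h | h | h <;> rw [h]
    exacts [one_mem T, hr, hr', mul_mem hr hr']
  have hJC : ∀ x ∈ J, x ∈ C → x = 1 := by
    intro x hxJ hx
    rcases hJmem.1 hxJ with h | h | h | h <;> rw [h] at hx ⊢
    · exact absurd (hCmem.1 hx).2 hnr
    · exact absurd (hCmem.1 hx).2 hnr'
    · exact absurd (hCmem.1 hx).2 hnrr'
  have hJcard : Nat.card J = 4 := by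
    have e : (J : Set X) = (({1, r, r', r * r'} : Finset X) : Set X) := by
      ext x; simp only [Finset.coe_insert, Finset.coe_singleton, Set.mem_insert_iff, Set.mem_singleton_iff]
      exact Iff.rfl
    show Nat.card (J : Set X) = 4
    rw [Nat.card_coe_set_eq, e, Set.ncard_coe_finset]
    rw [Finset.card_insert_of_notMem, Finset.card_insert_of_notMem, Finset.card_insert_of_notMem,
      Finset.card_singleton]
    · simp only [Finset.mem_singleton]
      intro h
      exact hr1 (mul_eq_right.1 h.symm)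
    · simp only [Finset.mem_insert, Finset.mem_singleton, not_or]
      exact ⟨hne.symm, fun h => hr'1 (mul_eq_left.1 h.symm)⟩
    · simp only [Finset.mem_insert, Finset.mem_singleton, not_or]
      exact ⟨hr1.symm, hr'1.symm, hrr'.symm⟩
  have hTJC : ∀ x ∈ T, ∃ c ∈ C, ∃ j ∈ J, x = c * j := by
    intro x hx
    obtain ⟨c, hc, hch, h⟩ := hdecomp x hx
    refine ⟨c, hCmem.2 ⟨hc, hch⟩, c⁻¹ * x, ?_, by group⟩
    rw [hJmem]
    rcases h with h | h | h | h <;> rw [h]
    · left; group
    · right; left; group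
    · right; right; left; group
    · right; right; right; group
  have hsupCJ : C ⊔ J = T := le_antisymm (sup_le inf_le_left hJT) fun x hx => by
    obtain ⟨c, hc, j, hj, rfl⟩ := hTJC x hx
    exact Subgroup.mul_mem_sup hc hj
  have hcardT : Nat.card T = 4 * Nat.card C := by
    haveI : C.Normal := Invol.normal_of_le_center' inf_le_right
    have h1 := Basics.card_mul_card_eq_card_sup_mul_card_inf (N := C) (H := J) Subgroup.le_normalizer_of_normal
    rw [hsupCJ, hJcard, show C ⊓ J = ⊥ from (Subgroup.eq_bot_iff_forall _).2 fun x hx => hJC x hx.2 hx.1,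
      Subgroup.card_bot, mul_one] at h1
    omega
  -- the even half and a complement
  set K := sgn.ker with hK
  have hKidx : K.index = 2 := by
    rw [hK, Subgroup.index_ker]
    have h2 : Nat.card (Multiplicative (ZMod 2)) = 2 := by
      rw [Nat.card_congr Multiplicative.toAdd, Nat.card_zmod]
    have hd := Subgroup.card_subgroup_dvd_card sgn.range
    rw [h2] at hd
    refine ((Nat.dvd_prime Nat.prime_two).1 hd).resolve_left fun h1 => htsgn ?_
    have : sgn t ∈ sgn.range := ⟨t, rfl⟩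
    rwa [Subgroup.card_eq_one.1 h1, Subgroup.mem_bot] at this
  have hTKodd : Odd (T.relIndex K) := by
    have h1 := Subgroup.card_mul_index P
    have h2 := Subgroup.card_mul_index K
    rw [hKidx, ← h1, hcardP] at h2
    have h4 := Subgroup.card_mul_index (T.subgroupOf K)
    rw [Nat.card_congr (Subgroup.subgroupOfEquivOfLe hker).toEquiv] at h4
    rw [← h4, ← Subgroup.relIndex, mul_comm 2 (Nat.card T), mul_assoc, mul_assoc] at h2
    have h5 := Nat.eq_of_mul_eq_mul_left Nat.card_pos h2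
    have h6 : T.relIndex K = P.index := by omega
    rwa [h6]
  set T₀ := T.subgroupOf K with hT₀
  have hcop : (Nat.card T₀).Coprime T₀.index := by
    rw [Nat.card_congr (Subgroup.subgroupOfEquivOfLe hker).toEquiv]
    obtain ⟨k, hk⟩ := IsPGroup.iff_card.1 (hP.to_le hTP)
    rw [hk]
    exact Nat.Coprime.pow_left k (Nat.coprime_two_left.2 hTKodd)
  obtain ⟨W₀, hW₀⟩ := Subgroup.exists_right_complement'_of_coprime hcop
  set W := W₀.map K.subtype with hW
  have hWK : W ≤ K := Subgroup.map_subtype_le _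
  have hWcard : Nat.card W = T₀.index := by
    rw [hW, Subgroup.card_map_of_injective K.subtype_injective, hW₀.symm.index_eq_card]
  have hKW : ∀ g ∈ K, ∃ τ ∈ T, ∃ w ∈ W, g = τ * w := by
    intro g hg
    obtain ⟨⟨a, w⟩, h⟩ := hW₀.2 (⟨g, hg⟩ : K)
    exact ⟨a.1, a.2, _, ⟨w.1, w.2, rfl⟩, (congrArg Subtype.val h).symm⟩
  set L := Subgroup.normalizer (W : Set X) with hL
  haveI : T₀.Normal := Subgroup.Normal.comap hTn _
  haveI hsolv : Group.IsSolvable T₀ := by
    exact Group.isSolvable_of_comm fun a b => Subtype.ext (Subtype.ext (hab _ a.2 _ b.2))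
  have hfrat : ∀ g : X, ∃ τ ∈ T, τ⁻¹ * g ∈ L := by
    intro g
    have hinvK : ∀ x : K, g * x * g⁻¹ ∈ K := fun x => (inferInstance : sgn.ker.Normal).conj_mem _ x.2 g
    let α : K ≃* K := (MulAut.conjNormal g : MulAut K)
    have hα : ∀ x : K, (α x : X) = g * x * g⁻¹ := fun x => MulAut.conjNormal_apply g x
    have hcompl : T₀.IsComplement' (W₀.map α.toMonoidHom) := by
      refine Subgroup.isComplement'_of_coprime ?_ ?_
      · rw [Subgroup.card_map_of_injective (f := α.toMonoidHom) α.injective]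
        exact hW₀.card_mul
      · rw [Subgroup.card_map_of_injective (f := α.toMonoidHom) α.injective, ← hW₀.symm.index_eq_card]
        exact hcop
    obtain ⟨n, hn, hn'⟩ := Coprime23.exists_conj_complement T₀ hcop W₀ _ hW₀ hcompl
    refine ⟨(n : X), hn, ?_⟩
    have h2 : W.map (MulAut.conj ((n : X)⁻¹ * g)).toMonoidHom = W := by
      refine Subgroup.eq_of_le_of_card_ge ?_
        (by rw [Subgroup.card_map_of_injective (f := (MulAut.conj ((n : X)⁻¹ * g)).toMonoidHom)
          (MulAut.conj ((n : X)⁻¹ * g)).injective])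
      rintro _ ⟨_, ⟨w, hw, rfl⟩, rfl⟩
      obtain ⟨w', hw', he⟩ := (hn' ▸ (⟨w, hw, rfl⟩ : α w ∈ W₀.map α.toMonoidHom) :
        α w ∈ W₀.map (MulAut.conj n).toMonoidHom)
      refine ⟨w', hw', ?_⟩
      have he' : (n : X) * w' * (n : X)⁻¹ = g * w * g⁻¹ := by
        rw [← hα, ← he]; simp
      show (w' : X) = (n : X)⁻¹ * g * w * ((n : X)⁻¹ * g)⁻¹
      rw [show (n : X)⁻¹ * g * w * ((n : X)⁻¹ * g)⁻¹ = (n : X)⁻¹ * (g * w * g⁻¹) * n by group, ← he']
      group
    rw [hL, Subgroup.mem_normalizer_iff]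
    intro x
    constructor
    · intro hx
      exact h2 ▸ ⟨x, hx, rfl⟩
    · intro hx
      rw [← h2] at hx
      obtain ⟨z, hz, hzx⟩ := hx
      have : z = x := (MulAut.conj ((n : X)⁻¹ * g)).injective hzx
      exact this ▸ hz
  have hTW : T ⊓ W = ⊥ := by
    refine (Subgroup.eq_bot_iff_forall _).2 fun x ⟨hxT, hxW⟩ => ?_
    obtain ⟨w, hw, rfl⟩ := hxW
    have := Subgroup.disjoint_def.1 hW₀.disjoint (show w ∈ T₀ from hxT) hw
    simp [this]
  have huK : u ∈ K := by
    obtain ⟨k, hk⟩ := hu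
    have h1 : sgn u ^ orderOf u = 1 := by rw [← map_pow, pow_orderOf_eq_one, map_one]
    have h2 : sgn u ^ 2 = 1 := by rcases zmod_two_mult (sgn u) with h | h <;> rw [h] <;> rfl
    rw [hk, pow_succ, pow_mul, h2, one_pow, one_mul] at h1
    exact h1
  have hTL : ∀ v ∈ T, v ∈ L → v ∈ C := by
    intro v hv hvL
    have hvW : ∀ w ∈ W, v * w = w * v := by
      intro w hw
      have h1 : v * w * v⁻¹ * w⁻¹ ∈ W :=
        mul_mem ((Subgroup.mem_normalizer_iff.1 hvL w).1 hw) (inv_mem hw)
      have h2 : v * w * v⁻¹ * w⁻¹ ∈ T := by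
        rw [show v * w * v⁻¹ * w⁻¹ = v * (w * v⁻¹ * w⁻¹) by group]
        exact mul_mem hv (hTn.conj_mem _ (inv_mem hv) w)
      have h3 : v * w * v⁻¹ * w⁻¹ = 1 := Subgroup.mem_bot.1 (hTW ▸ (⟨h2, h1⟩ : _ ∈ T ⊓ W))
      exact mul_inv_eq_iff_eq_mul.1 (mul_inv_eq_one.1 h3)
    have hvK : ∀ g ∈ K, g * v = v * g := by
      intro g hg
      obtain ⟨τ, hτ, w, hw, rfl⟩ := hKW g hg
      rw [mul_assoc, ← hvW w hw, ← mul_assoc, hab τ hτ v hv, mul_assoc]
    exact hCmem.2 ⟨hv, hfixed v hv (hvK u huK)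
      (fun p _ => hvK _ ((inferInstance : sgn.ker.Normal).conj_mem u huK p))⟩
  have hCL : C ≤ L := fun c hc => Subgroup.centralizer_le_normalizer _
    (Subgroup.mem_centralizer_iff.2 fun w _ => (hCmem.1 hc).2 w)
  have hLidx : L.index = 4 := by
    have h1 := Basics.card_mul_card_eq_card_sup_mul_card_inf (N := T) (H := L) Subgroup.le_normalizer_of_normal
    rw [show T ⊓ L = C from le_antisymm (fun x hx => hTL x hx.1 hx.2) (le_inf inf_le_left hCL),
      show T ⊔ L = ⊤ from eq_top_iff.2 fun g _ => by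
        obtain ⟨τ, hτ, h⟩ := hfrat g
        rw [show g = τ * (τ⁻¹ * g) by group]
        exact Subgroup.mul_mem_sup hτ h, Subgroup.card_top, hcardT, ← Subgroup.card_mul_index L] at h1
    have h2 := Nat.eq_of_mul_eq_mul_right (Nat.card_pos (α := C))
      (show 4 * Nat.card L * Nat.card C = Nat.card L * L.index * Nat.card C by rw [← h1]; ring)
    exact (Nat.eq_of_mul_eq_mul_left (Nat.card_pos (α := L)) (by rw [← h2, mul_comm])).symm
  -- the odd core lies in the complement
  have hOL : Cfsg.oddCore X ≤ L := by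
    refine le_trans ?_ (Subgroup.le_normalizer (H := W))
    intro o ho
    have hOodd := Invol.odd_card_oddCore (G := X)
    haveI : (Cfsg.oddCore X).Normal := Basics.pPrimeCore_normal 2
    have hoK : o ∈ K := by
      obtain ⟨k, hk⟩ := hOodd.of_dvd_nat
        ((Subgroup.orderOf_mk o ho).symm ▸ orderOf_dvd_natCard (⟨o, ho⟩ : Cfsg.oddCore X))
      have h1 : sgn o ^ orderOf o = 1 := by rw [← map_pow, pow_orderOf_eq_one, map_one]
      have h2 : sgn o ^ 2 = 1 := by rcases zmod_two_mult (sgn o) with h | h <;> rw [h] <;> rfl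
      rw [hk, pow_succ, pow_mul, h2, one_pow, one_mul] at h1
      exact h1
    obtain ⟨τ, hτ, w, hw, e⟩ := hKW o hoK
    have hmem : τ ∈ Cfsg.oddCore X ⊔ W := by
      rw [show τ = o * w⁻¹ by rw [e]; group]
      exact Subgroup.mul_mem_sup ho (inv_mem hw)
    have hodd' : Odd (Nat.card (Cfsg.oddCore X ⊔ W : Subgroup X)) := by
      have h1 := Basics.card_mul_card_eq_card_sup_mul_card_inf (N := Cfsg.oddCore X) (H := W)
        Subgroup.le_normalizer_of_normal
      exact (hOodd.mul (show Odd (Nat.card W) by rw [hWcard]; exact hTKodd)).of_dvd_nat ⟨_, h1⟩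
    have hτ1 : τ = 1 := by
      obtain ⟨k, hk⟩ := hodd'.of_dvd_nat
        ((Subgroup.orderOf_mk τ hmem).symm ▸ orderOf_dvd_natCard (⟨τ, hmem⟩ : (Cfsg.oddCore X ⊔ W : Subgroup X)))
      have h1 : τ ^ orderOf τ = 1 := pow_orderOf_eq_one τ
      rwa [hk, pow_succ, pow_mul, pow_two, hT2 τ hτ, one_pow, one_mul] at h1
    rw [e, hτ1, one_mul]
    exact hw
  -- the action on four points
  haveI : Finite (X ⧸ L) := inferInstance
  let e4 : X ⧸ L ≃ Fin 4 := (Finite.equivFin _).trans (finCongr (by rw [← Subgroup.index_eq_card, hLidx]))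
  let f₁ : X →* Equiv.Perm (Fin 4) := e4.permCongrHom.toMonoidHom.comp (MulAction.toPermHom X (X ⧸ L))
  have hf₁ : f₁.ker = L.normalCore := by
    rw [Subgroup.normalCore_eq_ker]
    ext x
    simp only [MonoidHom.mem_ker, f₁, MonoidHom.coe_comp, Function.comp_apply]
    exact map_eq_one_iff _ e4.permCongrHom.injective
  have hOf₁ : Cfsg.oddCore X ≤ f₁.ker := by
    haveI : (Cfsg.oddCore X).Normal := Basics.pPrimeCore_normal 2
    rw [hf₁]
    exact Subgroup.normal_le_normalCore.2 hOL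
  -- no normal subgroup trivial on `T` meets `P`
  have hfinish : ∀ (F : Subgroup X), F.Normal → (∀ x ∈ T, x ∈ F → x = 1) →
      (F ⊓ P = ⊥ ∧ u ∉ F) := by
    intro F hFn hFT
    have hcomm : ∀ x ∈ F, ∀ v ∈ T, x * v = v * x := fun x hx v hv => by
      have h1 : x * v * x⁻¹ * v⁻¹ = 1 := hFT _ (mul_mem (hTn.conj_mem v hv x) (inv_mem hv)) (by
        rw [show x * v * x⁻¹ * v⁻¹ = x * (v * x⁻¹ * v⁻¹) by group]
        exact mul_mem hx (hFn.conj_mem _ (inv_mem hx) v))
      exact mul_inv_eq_iff_eq_mul.1 (mul_inv_eq_one.1 h1)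
    refine ⟨(Subgroup.eq_bot_iff_forall _).2 fun x ⟨hxF, hxP⟩ =>
      hFT x (hcent x hxP fun v hv => hcomm x hxF v hv) hxF, fun huF => hnr ?_⟩
    exact hfixed r hr (hcomm u huF r hr) fun p _ => hcomm _ (hFn.conj_mem u huF p) r hr
  have hperm : Nat.card (Equiv.Perm (Fin 4)) = 24 := by
    rw [Nat.card_perm, Nat.card_eq_fintype_card, Fintype.card_fin]; rfl
  have hindex : ∀ (F : Subgroup X), F.Normal → F ⊓ P = ⊥ → u ∉ F → 3 * Nat.card P ≤ F.index ∧ Odd (Nat.card F) := by
    intro F hFn hFP huF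
    obtain ⟨h1, h2⟩ := odd_and_dvd F P hP hodd hFP
    refine ⟨?_, h1⟩
    obtain ⟨m, hm⟩ := h2
    have hm0 : m ≠ 0 := fun h => Subgroup.index_ne_zero_of_finite (H := F) (by rw [hm, h, mul_zero])
    rw [hm, mul_comm 3]
    refine Nat.mul_le_mul_left _ ?_
    have h3 : (QuotientGroup.mk u : X ⧸ F) ≠ 1 := fun h => huF ((QuotientGroup.eq_one_iff u).1 h)
    have h4 : orderOf (QuotientGroup.mk u : X ⧸ F) ∣ Nat.card P * m := by
      rw [← hm, Subgroup.index_eq_card]; exact orderOf_dvd_natCard _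
    have h5 : Odd (orderOf (QuotientGroup.mk u : X ⧸ F)) :=
      hu.of_dvd_nat (orderOf_map_dvd (QuotientGroup.mk' F) u)
    obtain ⟨k, hk⟩ := IsPGroup.iff_card.1 hP
    rw [hk] at h4
    have h6 := (Nat.Coprime.pow_right k (Nat.coprime_two_right.2 h5)).dvd_of_dvd_mul_left h4
    have h7 := Nat.le_of_dvd (by omega) h6
    have h8 : orderOf (QuotientGroup.mk u : X ⧸ F) ≠ 1 := fun h => h3 (orderOf_eq_one_iff.1 h)
    obtain ⟨j, hj⟩ := h5
    omega
  by_cases hCbot : C = ⊥
  · left
    have hT4 : Nat.card T = 4 := by rw [hcardT, hCbot, Subgroup.card_bot]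
    refine ⟨hT4, ?_⟩
    obtain ⟨hFP, huF⟩ := hfinish f₁.ker inferInstance fun x hxT hxF => by
      have h : x ∈ L := Subgroup.normalCore_le L (hf₁ ▸ hxF)
      have := hTL x hxT h
      rwa [hCbot, Subgroup.mem_bot] at this
    obtain ⟨h1, h2⟩ := hindex _ inferInstance hFP huF
    refine quotient_oddCore f₁ h2 hOf₁ (le_antisymm (Subgroup.card_le_card_group _) ?_)
    rw [hperm]
    rw [hcardP, hT4, Subgroup.index_ker] at h1
    exact h1
  · right
    obtain ⟨c, hc, hc1⟩ := (Subgroup.bot_or_exists_ne_one C).resolve_left hCbot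
    have hCc : ∀ x ∈ C, x = 1 ∨ x = c := fun x hx => by
      by_cases hx1 : x = 1
      · exact Or.inl hx1
      · exact Or.inr (htwo c (hCmem.1 hc).1 x (hCmem.1 hx).1 (hCmem.1 hc).2 (hCmem.1 hx).2 hc1 hx1)
    have hC2 : Nat.card C = 2 := by
      rw [Nat.card_eq_two_iff]
      refine ⟨1, ⟨c, hc⟩, fun h => hc1 (congrArg Subtype.val h).symm, ?_⟩
      ext ⟨x, hx⟩
      simp only [Set.mem_insert_iff, Set.mem_singleton_iff, Set.mem_univ, iff_true]
      rcases hCc x hx with h | h
      · exact Or.inl (Subtype.ext h)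
      · exact Or.inr (Subtype.ext h)
    have hT8 : Nat.card T = 8 := by rw [hcardT, hC2]
    refine ⟨hT8, ?_⟩
    -- a complement of the centre in `P`
    have htJ : ∀ x ∈ J, t * x * t⁻¹ ∈ J := by
      intro x hx
      rcases hJmem.1 hx with h | h | h | h <;> rw [h]
      · exact Or.inl (by group)
      · exact Or.inr (Or.inl htr)
      · exact Or.inr (Or.inr (Or.inr (by rw [htr', hab r' hr' r hr])))
      · refine Or.inr (Or.inr (Or.inl ?_))
        rw [show t * (r * r') * t⁻¹ = t * r * t⁻¹ * (t * r' * t⁻¹) by group, htr, htr', hab r' hr' r hr,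
          ← mul_assoc, hT2 r hr, one_mul]
    have hti : t⁻¹ = t := inv_eq_of_mul_eq_one_right ht2
    have htn : Subgroup.zpowers t ≤ Subgroup.normalizer (J : Set X) := by
      rw [Subgroup.zpowers_le, Subgroup.mem_normalizer_iff]
      intro x
      refine ⟨htJ x, fun h => ?_⟩
      have := htJ _ h
      rwa [hti, show t * (t * x * t) * t = t * t * x * (t * t) by group, ht2, one_mul, mul_one] at this
    set Q' := J ⊔ Subgroup.zpowers t with hQ'
    have hot : orderOf t = 2 := orderOf_eq_prime (by rw [pow_two]; exact ht2) fun h => htT (h ▸ one_mem T)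
    have hQ'P : Q' ≤ P := sup_le (hJT.trans hTP) (Subgroup.zpowers_le.2 ht)
    have hcQ : c ∉ Q' := by
      intro h
      rw [hQ', ← SetLike.mem_coe, Subgroup.coe_mul_of_right_le_normalizer_left _ _ htn] at h
      obtain ⟨j, hj, s, hs, e⟩ := Set.mem_mul.1 h
      obtain ⟨i, rfl⟩ := Subgroup.mem_zpowers_iff.1 hs
      rw [← zpow_mod_orderOf, hot] at e
      rcases (show i % ((2 : ℕ) : ℤ) = 0 ∨ i % ((2 : ℕ) : ℤ) = 1 by omega) with h' | h' <;> rw [h'] at e
      · rw [zpow_zero, mul_one] at e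
        exact hc1 (hJC c (e ▸ hj) hc)
      · rw [zpow_one] at e
        refine htT ?_
        rw [show t = j⁻¹ * c by rw [← e]; group]
        exact mul_mem (inv_mem (hJT hj)) (hCmem.1 hc).1
    have hQi : (Q'.subgroupOf P).index = 2 := by
      have hcardQ : Nat.card Q' = 8 := by
        have h1 := Basics.card_mul_card_eq_card_sup_mul_card_inf htn
        rw [hJcard, Nat.card_zpowers, hot, ← hQ'] at h1
        have h2 : J ⊓ Subgroup.zpowers t = ⊥ := by
          refine (Subgroup.eq_bot_iff_forall _).2 fun x ⟨hxJ, hxt⟩ => ?_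
          obtain ⟨i, rfl⟩ := Subgroup.mem_zpowers_iff.1 hxt
          rw [← zpow_mod_orderOf, hot] at hxJ ⊢
          rcases (show i % ((2 : ℕ) : ℤ) = 0 ∨ i % ((2 : ℕ) : ℤ) = 1 by omega) with h' | h' <;> rw [h'] at hxJ ⊢
          · exact zpow_zero t
          · rw [zpow_one] at hxJ
            exact absurd (hJT hxJ) htT
        rw [h2, Subgroup.card_bot, mul_one] at h1
        omega
      have h1 := Subgroup.card_mul_index (Q'.subgroupOf P)
      rw [Nat.card_congr (Subgroup.subgroupOfEquivOfLe hQ'P).toEquiv, hcardQ, hcardP, hT8] at h1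
      omega
    obtain ⟨χ, hχ⟩ := exists_transfer P hodd (indexTwoHom (Q'.subgroupOf P) hQi)
    have hχc : χ c ≠ 1 := by
      rw [hχ c (hTP (hCmem.1 hc).1) (hCmem.1 hc).2]
      exact fun h => hcQ ((indexTwoHom_eq_one _ hQi).1 h)
    set f := f₁.prod χ with hf
    obtain ⟨hFP, huF⟩ := hfinish f.ker inferInstance fun x hxT hxF => by
      have h1 : f₁ x = 1 := congrArg Prod.fst (show f x = 1 from hxF)
      have h2 : χ x = 1 := congrArg Prod.snd (show f x = 1 from hxF)
      have h : x ∈ L := Subgroup.normalCore_le L (hf₁ ▸ h1)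
      rcases hCc x (hTL x hxT h) with h' | h'
      · exact h'
      · exact absurd (h' ▸ h2) hχc
    obtain ⟨h1, h2⟩ := hindex _ inferInstance hFP huF
    refine quotient_oddCore f h2 (fun o ho => ?_) (le_antisymm (Subgroup.card_le_card_group _) ?_)
    · refine Prod.ext (hOf₁ ho) ?_
      obtain ⟨k, hk⟩ := (Invol.odd_card_oddCore (G := X)).of_dvd_nat
        ((Subgroup.orderOf_mk o ho).symm ▸ orderOf_dvd_natCard (⟨o, ho⟩ : Cfsg.oddCore X))
      have h4 : χ o ^ (2 * k + 1) = 1 := by rw [← map_pow, ← hk, pow_orderOf_eq_one, map_one]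
      have h5 : χ o ^ 2 = 1 := by rcases zmod_two_mult (χ o) with h | h <;> rw [h] <;> rfl
      rwa [pow_succ, pow_mul, h5, one_pow, one_mul] at h4
    · rw [Nat.card_prod, hperm, Nat.card_congr Multiplicative.toAdd, Nat.card_zmod]
      rw [hcardP, hT8, Subgroup.index_ker] at h1
      exact h1

end Cfsg.Agent.FGB.DPush
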