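import Cfsg.Agent.Lib.FGB.DihedralPushBasic

/-!
# Pushing up a dihedral quotient: critical words have length one
-/

set_option autoImplicit false
set_option linter.unusedSectionVars false

namespace Cfsg.Agent.FGB.DPush

variable {G : Type*} [Group G] [Finite G] {H T P : Subgroup G} {y u : G}

/-- Products of `m` double cosets of `y` and `y⁻¹`. -/
def Word (H : Subgroup G) (y : G) : ℕ → G → Prop
  | 0, g => g ∈ H
  | m + 1, g => ∃ h ∈ H, ∃ y', Step y y' ∧ ∃ g', Word H y m g' ∧ g = h * y' * g'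

theorem word_left {m : ℕ} {h g : G} (hh : h ∈ H) (hg : Word H y m g) : Word H y m (h * g) := by
  cases m with
  | zero => exact mul_mem hh hg
  | succ m =>
    obtain ⟨k, hk, y', hy, g', hg', rfl⟩ := hg
    exact ⟨h * k, mul_mem hh hk, y', hy, g', hg', by group⟩

theorem word_mul {a b : ℕ} {g g' : G} (hg : Word H y a g) (hg' : Word H y b g') :
    Word H y (a + b) (g * g') := by
  induction a generalizing g with
  | zero => rw [Nat.zero_add]; exact word_left hg hg'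
  | succ a ih =>
    obtain ⟨k, hk, y', hy, g₁, hg₁, rfl⟩ := hg
    rw [Nat.add_right_comm]
    exact ⟨k, hk, y', hy, g₁ * g', ih hg₁, by group⟩

theorem word_one {y' : G} (hy : Step y y') : Word H y 1 y' :=
  ⟨1, one_mem H, y', hy, 1, one_mem H, by group⟩

theorem word_right {m : ℕ} {h g : G} (hg : Word H y m g) (hh : h ∈ H) : Word H y m (g * h) :=
  word_mul (b := 0) hg hh

theorem word_inv {m : ℕ} {g : G} (hg : Word H y m g) : Word H y m g⁻¹ := by
  induction m generalizing g with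
  | zero => exact inv_mem (show g ∈ H from hg)
  | succ m ih =>
    obtain ⟨k, hk, y', hy, g₁, hg₁, rfl⟩ := hg
    rw [show (k * y' * g₁)⁻¹ = g₁⁻¹ * (y'⁻¹ * k⁻¹) by group]
    exact word_mul (b := 1) (ih hg₁) (word_right (word_one hy.inv) (inv_mem hk))

theorem word_succ_right {m : ℕ} {g : G} (hg : Word H y (m + 1) g) :
    ∃ g', Word H y m g' ∧ ∃ y', Step y y' ∧ ∃ h ∈ H, g = g' * y' * h := by
  obtain ⟨k, hk, y', hy, g₁, hg₁, e⟩ := word_inv hg
  exact ⟨g₁⁻¹, word_inv hg₁, y'⁻¹, hy.inv, k⁻¹, inv_mem hk, by rw [← inv_inv g, e]; group⟩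

/-- The span stays inside the conjugate of `T`. -/
def Good (H T P : Subgroup G) (g : G) : Prop := ∀ v ∈ spanV H P, g⁻¹ * v * g ∈ T

/-- All words shorter than `b` are good. -/
def Short (H T P : Subgroup G) (y : G) (b : ℕ) : Prop :=
  ∀ m < b, ∀ g, Word H y m g → Good H T P g

/-- A word of length `b` with trivial outer factors. -/
structure Norm (H : Subgroup G) (y : G) (b : ℕ) (g y' g₁ g₂ y'' : G) : Prop where
  s1 : Step y y'
  w1 : Word H y (b - 1) g₁
  e1 : g = y' * g₁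
  w2 : Word H y (b - 1) g₂
  s2 : Step y y''
  e2 : g = g₂ * y''

namespace Ctx

variable (K : Ctx H T P y u)

include K

theorem good_mul_right {g h : G} (hh : h ∈ H) (hg : Good H T P g) : Good H T P (g * h) := fun v hv => by
  have h1 := K.Tn h⁻¹ (inv_mem hh) _ (hg v hv)
  simpa [mul_assoc] using h1

theorem good_mul_left {g h : G} (hh : h ∈ H) (hg : Good H T P g) : Good H T P (h * g) := fun v hv => by
  have h1 := hg _ (K.spanV_normal (inv_mem hh) hv)
  simpa [mul_assoc] using h1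

variable {b : ℕ} (hb : Short H T P y b) {g y' g₁ g₂ y'' : G}

include hb

theorem norm_conj (hb0 : 0 < b) (N : Norm H y b g y' g₁ g₂ y'') {v : G} (hv : v ∈ spanV H P) :
    g * v * g⁻¹ ∈ P ∧ g⁻¹ * v * g ∈ P := by
  constructor
  · have h1 : g₁ * v * g₁⁻¹ ∈ T := by
      simpa using hb _ (by omega) _ (word_inv N.w1) v hv
    have h2 := K.stepP N.s1 (K.TP h1)
    rw [N.e1]
    simpa [mul_assoc] using h2
  · have h1 : g₂⁻¹ * v * g₂ ∈ T := hb _ (by omega) _ N.w2 v hv
    have h2 := K.stepP N.s2.inv (K.TP h1)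
    rw [N.e2]
    simpa [mul_assoc] using h2

/-- A bad word gives the transvection data. -/
theorem exists_tdata (hb0 : 0 < b) (hZT : omegaZ P ≤ T) (N : Norm H y b g y' g₁ g₂ y'')
    (hg : ¬ Good H T P g) : ∃ r, TData H T P y u r := by
  unfold Good at hg
  push Not at hg
  obtain ⟨v₀, hv₀, hs⟩ := hg
  have hsP := (K.norm_conj hb hb0 N hv₀).2
  obtain ⟨w, hw, hsw⟩ : ∃ w ∈ spanV H P, g⁻¹ * v₀ * g * w ≠ w * (g⁻¹ * v₀ * g) := by
    by_contra hall
    push Not at hall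
    exact hs (K.mem_T_of_centralizes hZT hsP hall)
  have htP := (K.norm_conj hb hb0 N hw).1
  have hne : g * w * g⁻¹ * v₀ * (g * w * g⁻¹)⁻¹ ≠ v₀ := fun h => hsw (by
    have h' := mul_inv_eq_iff_eq_mul.1 h
    calc g⁻¹ * v₀ * g * w = g⁻¹ * (v₀ * (g * w * g⁻¹)) * g := by group
      _ = g⁻¹ * (g * w * g⁻¹ * v₀) * g := by rw [h']
      _ = w * (g⁻¹ * v₀ * g) := by group)
  have htT : g * w * g⁻¹ ∉ T := fun h => hne (by rw [← K.spanV_comm hZT hv₀ h, mul_inv_cancel_right])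
  refine ⟨_, K.tdata_of_transvection hZT htP htT hv₀ hne fun v hv => ?_⟩
  have key : ∀ v', v' ∈ spanV H P → g⁻¹ * v' * g ∈ T → g * w * g⁻¹ * v' * (g * w * g⁻¹)⁻¹ = v' := by
    intro v' _ hT
    calc g * w * g⁻¹ * v' * (g * w * g⁻¹)⁻¹ = g * (w * (g⁻¹ * v' * g) * w⁻¹) * g⁻¹ := by group
      _ = v' := by rw [K.spanV_comm hZT hw hT]; group
  by_cases hvT : g⁻¹ * v * g ∈ T
  · exact Or.inl (key v hv hvT)
  · refine Or.inr (key _ (mul_mem hv₀ hv) ?_)
    rw [show g⁻¹ * (v₀ * v) * g = g⁻¹ * v₀ * g * (g⁻¹ * v * g) by group]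
    exact K.twoP _ hsP _ (K.norm_conj hb hb0 N hv).2 hs hvT

end Ctx

namespace TData

variable {r : G} (D : TData H T P y u r)

include D

theorem fixed_of_both {v : G} (h1 : ∀ p ∈ P, p * v = v * p)
    (h2 : ∀ p ∈ P, u * p * u⁻¹ * v = v * (u * p * u⁻¹)) : ∀ h ∈ H, h * v = v * h := by
  intro h hh
  exact (Subgroup.mem_centralizer_singleton_iff).1 (D.ctx.gen1 (Subgroup.centralizer {v})
    (fun p hp => Subgroup.mem_centralizer_singleton_iff.2 (h1 p hp))
    (fun p hp => Subgroup.mem_centralizer_singleton_iff.2 (h2 p hp)) hh)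

theorem exists_outside : ∃ t ∈ P, t ∉ T := by
  by_contra h
  push Not at h
  have hHT : H ≤ T := D.ctx.gen1 T h fun x hx => D.ctx.Tn u D.ctx.uH x (h x hx)
  exact D.ctx.omegaZ_not_normal fun k hk z hz => by
    rw [← hz.2.1 k (D.ctx.TP (hHT hk)), mul_inv_cancel_right]
    exact hz

theorem comm_iff {v : G} (hv : v ∈ spanV H P) {t : G} (ht : t ∈ P) (htT : t ∉ T) (h : t * v = v * t) :
    ∀ p ∈ P, p * v = v * p := by
  intro p hp
  by_cases hpT : p ∈ T
  · exact (D.ctx.spanV_comm D.ZT hv hpT).symm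
  · have hs := D.ctx.twoP _ (inv_mem ht) p hp (fun h' => htT (by simpa using inv_mem h')) hpT
    calc p * v = t * ((t⁻¹ * p) * v) := by group
      _ = t * (v * (t⁻¹ * p)) := by rw [D.ctx.spanV_comm D.ZT hv hs]
      _ = v * p := by rw [← mul_assoc, h]; group

theorem mem_omegaZ_of_fixed {v : G} (hv : v ∈ spanV H P) (h : ∀ p ∈ P, p * v = v * p) :
    v ∈ omegaZ P :=
  ⟨D.ctx.TP (D.ctx.spanV_le D.ZT hv), fun p hp => (h p hp).symm, D.ctx.spanV_sq D.ZT hv⟩

/-- Conjugates of the centre fixed by `P` are fixed by `H`. -/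
theorem central_of_conj {z : G} (hz : z ∈ omegaZ P) (h : ∀ p ∈ P, p * (u * z * u⁻¹) = u * z * u⁻¹ * p) :
    (∀ k ∈ H, k * z = z * k) ∧ u * z * u⁻¹ = z := by
  have h1 := D.fixed_of_both h (fun p hp => by
    calc u * p * u⁻¹ * (u * z * u⁻¹) = u * (p * z) * u⁻¹ := by group
      _ = u * (z * p) * u⁻¹ := by rw [hz.2.1 p hp]
      _ = u * z * u⁻¹ * (u * p * u⁻¹) := by group)
  have h2 := h1 u D.ctx.uH
  have e : u * z * u⁻¹ = z := by
    calc u * z * u⁻¹ = u⁻¹ * (u * (u * z * u⁻¹)) := by group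
      _ = u⁻¹ * (u * z * u⁻¹ * u) := by rw [h2]
      _ = z := by group
  exact ⟨fun k hk => e ▸ h1 k hk, e⟩

/-- The transvection centre is not central in `H`. -/
theorem r_not_central : ¬ ∀ k ∈ H, k * r = r * k := by
  intro hr
  have K := D.ctx
  let L : Subgroup G :=
    { carrier := {g | g ∈ H ∧ ∀ v ∈ spanV H P, g * v * g⁻¹ = v ∨ g * v * g⁻¹ = v * r}
      one_mem' := ⟨one_mem H, fun v _ => Or.inl (by group)⟩
      mul_mem' := by
        rintro a b ⟨ha, ha'⟩ ⟨hb, hb'⟩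
        refine ⟨mul_mem ha hb, fun v hv => ?_⟩
        have har : a * r * a⁻¹ = r := by rw [hr a ha, mul_inv_cancel_right]
        have e : a * b * v * (a * b)⁻¹ = a * (b * v * b⁻¹) * a⁻¹ := by group
        rw [e]
        rcases hb' v hv with h | h <;> rw [h]
        · exact ha' v hv
        · have e2 : a * (v * r) * a⁻¹ = a * v * a⁻¹ * r := by
            rw [show a * (v * r) * a⁻¹ = a * v * a⁻¹ * (a * r * a⁻¹) by group, har]
          rw [e2]
          rcases ha' v hv with h' | h' <;> rw [h']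
          · exact Or.inr rfl
          · left; rw [mul_assoc, D.r_sq, mul_one]
      inv_mem' := by
        rintro a ⟨ha, ha'⟩
        refine ⟨inv_mem ha, fun v hv => ?_⟩
        have hv' := D.ctx.spanV_normal (inv_mem ha) hv
        rw [inv_inv] at hv' ⊢
        rcases ha' _ hv' with h | h
        · left
          rw [show a * (a⁻¹ * v * a) * a⁻¹ = v by group] at h
          exact h.symm
        · right
          rw [show a * (a⁻¹ * v * a) * a⁻¹ = v by group] at h
          calc a⁻¹ * v * a = a⁻¹ * v * a * r * r := by rw [mul_assoc _ r r, D.r_sq, mul_one]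
            _ = v * r := by rw [← h] }
  have hHL : H ≤ L := K.gen1 L (fun p hp => ⟨K.PH hp, fun v hv => D.tr v hv p hp⟩) fun p hp => by
    refine ⟨mul_mem (mul_mem K.uH (K.PH hp)) (inv_mem K.uH), fun v hv => ?_⟩
    have hv' := K.spanV_normal (inv_mem K.uH) hv
    rw [inv_inv] at hv'
    have e : u * p * u⁻¹ * v * (u * p * u⁻¹)⁻¹ = u * (p * (u⁻¹ * v * u) * p⁻¹) * u⁻¹ := by group
    rw [e]
    rcases D.tr _ hv' p hp with h | h <;> rw [h]
    · left; group
    · right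
      calc u * (u⁻¹ * v * u * r) * u⁻¹ = v * (u * r * u⁻¹) := by group
        _ = v * r := by rw [hr u K.uH, mul_inv_cancel_right]
  have hu2 : ∀ v ∈ spanV H P, u * u * v = v * (u * u) := by
    intro v hv
    have hur : u * r * u⁻¹ = r := by rw [hr u K.uH, mul_inv_cancel_right]
    rcases (hHL K.uH).2 v hv with h | h
    · calc u * u * v = u * (u * v * u⁻¹) * u⁻¹ * (u * u) := by group
        _ = v * (u * u) := by rw [h, h]
    · calc u * u * v = u * (u * v * u⁻¹) * u⁻¹ * (u * u) := by group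
        _ = u * v * u⁻¹ * (u * r * u⁻¹) * (u * u) := by
          conv_lhs => rw [h]
          group
        _ = v * (r * r) * (u * u) := by rw [h, hur]; group
        _ = v * (u * u) := by rw [D.r_sq, mul_one]
  obtain ⟨k, hk⟩ := K.uodd
  have hu : u = (u * u) ^ (k + 1) := by
    rw [← pow_two, ← pow_mul, show 2 * (k + 1) = orderOf u + 1 by omega, pow_succ, pow_orderOf_eq_one,
      one_mul]
  have huv : ∀ v ∈ spanV H P, u * v = v * u := fun v hv => by
    rw [hu]
    exact ((show Commute (u * u) v from hu2 v hv).pow_left (k + 1)).eq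
  have hVZ : ∀ v ∈ spanV H P, v ∈ omegaZ P := by
    intro v hv
    obtain ⟨z, hz, z', hz', rfl⟩ := D.exists_mul hv
    rw [huv z' (K.omegaZ_le_spanV hz'), mul_inv_cancel_right]
    exact mul_mem hz hz'
  exact K.omegaZ_not_normal fun h hh z hz => hVZ _ (K.spanV_normal hh (K.omegaZ_le_spanV hz))

/-- At most one central involution of the group. -/
theorem central_unique {c c' : G} (hc : c ∈ omegaZ P) (hcH : ∀ k ∈ H, k * c = c * k) (hc1 : c ≠ 1)
    (hc' : c' ∈ omegaZ P) (hc'H : ∀ k ∈ H, k * c' = c' * k) : c' = 1 ∨ c' = c := by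
  have K := D.ctx
  let Q : Subgroup G :=
    { carrier := {z | z ∈ omegaZ P ∧ (∀ k ∈ H, k * z = z * k) ∧ ∀ k ∈ H, k * (y * z * y⁻¹) = y * z * y⁻¹ * k}
      one_mem' := ⟨one_mem _, fun k _ => by simp, fun k _ => by simp⟩
      mul_mem' := by
        rintro a b ⟨ha, ha1, ha2⟩ ⟨hb, hb1, hb2⟩
        refine ⟨mul_mem ha hb, fun k hk => ?_, fun k hk => ?_⟩
        · rw [← mul_assoc, ha1 k hk, mul_assoc, hb1 k hk, mul_assoc]
        · rw [show y * (a * b) * y⁻¹ = y * a * y⁻¹ * (y * b * y⁻¹) by group]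
          exact Commute.mul_right (ha2 k hk) (hb2 k hk)
      inv_mem' := by
        rintro a ⟨ha, ha1, ha2⟩
        rw [inv_eq_of_mul_eq_one_right ha.2.2]
        exact ⟨ha, ha1, ha2⟩ }
  have hQ : Q = ⊥ := K.core Q (fun z hz => hz.1.1)
    (fun h hh z hz => by rw [hz.2.1 h hh, mul_inv_cancel_right]; exact hz)
    (fun z hz => ⟨K.omegaZ_y hz.1, hz.2.2, by
      obtain ⟨p, hp, e⟩ := K.sq_conj hz.1.1
      rw [show y * (y * z * y⁻¹) * y⁻¹ = y * y * z * (y * y)⁻¹ by group, e, ← hz.1.2.1 p hp,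
        mul_inv_cancel_right]
      exact hz.2.1⟩)
  obtain ⟨t, ht, htT⟩ := D.exists_outside
  -- elements of the centre commuting with a conjugate are central
  have key : ∀ z ∈ omegaZ P, u * t * u⁻¹ * z = z * (u * t * u⁻¹) → ∀ k ∈ H, k * z = z * k := by
    intro z hz h
    have hv : u⁻¹ * z * u ∈ spanV H P := by
      simpa using K.spanV_normal (inv_mem K.uH) (K.omegaZ_le_spanV hz)
    have h2 := D.comm_iff hv ht htT (by
      calc t * (u⁻¹ * z * u) = u⁻¹ * (u * t * u⁻¹ * z) * u := by group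
        _ = u⁻¹ * (z * (u * t * u⁻¹)) * u := by rw [h]
        _ = u⁻¹ * z * u * t := by group)
    refine D.fixed_of_both (fun p hp => (hz.2.1 p hp).symm) fun p hp => ?_
    calc u * p * u⁻¹ * z = u * (p * (u⁻¹ * z * u)) * u⁻¹ := by group
      _ = u * (u⁻¹ * z * u * p) * u⁻¹ := by rw [h2 p hp]
      _ = z * (u * p * u⁻¹) := by group
  have hout : ∀ z ∈ omegaZ P, (∀ k ∈ H, k * z = z * k) → z ≠ 1 →
      u * t * u⁻¹ * (y * z * y⁻¹) * (u * t * u⁻¹)⁻¹ = y * z * y⁻¹ * (u * r * u⁻¹) := by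
    intro z hz hzH hz1
    have hv : u⁻¹ * (y * z * y⁻¹) * u ∈ spanV H P := by
      simpa using K.spanV_normal (inv_mem K.uH) (K.omegaZ_le_spanV (K.omegaZ_y hz))
    rcases D.tr _ hv t ht with h | h
    · exfalso
      refine hz1 (Subgroup.mem_bot.1 (hQ ▸ (⟨hz, hzH, key _ (K.omegaZ_y hz) ?_⟩ : z ∈ Q)))
      calc u * t * u⁻¹ * (y * z * y⁻¹) = u * (t * (u⁻¹ * (y * z * y⁻¹) * u) * t⁻¹) * t * u⁻¹ := by group
        _ = y * z * y⁻¹ * (u * t * u⁻¹) := by rw [h]; group
    · calc u * t * u⁻¹ * (y * z * y⁻¹) * (u * t * u⁻¹)⁻¹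
          = u * (t * (u⁻¹ * (y * z * y⁻¹) * u) * t⁻¹) * u⁻¹ := by group
        _ = y * z * y⁻¹ * (u * r * u⁻¹) := by rw [h]; group
  by_cases hc'1 : c' = 1
  · exact Or.inl hc'1
  refine Or.inr ?_
  have hd := mul_mem hc hc'
  have hdH : ∀ k ∈ H, k * (c * c') = c * c' * k := fun k hk => by
    rw [← mul_assoc, hcH k hk, mul_assoc, hc'H k hk, mul_assoc]
  by_contra hne
  have hd1 : c * c' ≠ 1 := fun h => hne (by
    rw [← inv_eq_of_mul_eq_one_right h, inv_eq_of_mul_eq_one_right hc.2.2])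
  have h3 := hout _ hd hdH hd1
  rw [show y * (c * c') * y⁻¹ = y * c * y⁻¹ * (y * c' * y⁻¹) by group] at h3
  have h4 : u * t * u⁻¹ * (y * c * y⁻¹ * (y * c' * y⁻¹)) * (u * t * u⁻¹)⁻¹ =
      (u * t * u⁻¹ * (y * c * y⁻¹) * (u * t * u⁻¹)⁻¹) *
        (u * t * u⁻¹ * (y * c' * y⁻¹) * (u * t * u⁻¹)⁻¹) := by group
  rw [h4, hout c hc hcH hc1, hout c' hc' hc'H hc'1] at h3
  have hcom := K.spanV_comm D.ZT (K.omegaZ_le_spanV (K.omegaZ_y hc'))
    (K.spanV_le D.ZT (K.spanV_normal K.uH D.r_mem))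
  rw [← mul_assoc (y * c * y⁻¹ * (u * r * u⁻¹)), mul_assoc (y * c * y⁻¹) (u * r * u⁻¹), ← hcom,
    ← mul_assoc (y * c * y⁻¹), mul_eq_left] at h3
  exact D.r1 (by
    calc r = u⁻¹ * (u * r * u⁻¹) * u := by group
      _ = 1 := by rw [h3]; group)

variable {b : ℕ} (hb : Short H T P y b) {g y' g₁ g₂ y'' : G}

include hb

/-- The ends of a critical word see the same involution. -/
theorem norm_r (hb0 : 0 < b) (N : Norm H y b g y' g₁ g₂ y'') (hg : ¬ Good H T P g) :
    g * r * g⁻¹ = r := by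
  have K := D.ctx
  unfold Good at hg
  push Not at hg
  obtain ⟨v, hv, hs⟩ := hg
  have hsP := (K.norm_conj hb hb0 N hv).2
  obtain ⟨w, hw, hsw⟩ : ∃ w ∈ spanV H P, g⁻¹ * v * g * w ≠ w * (g⁻¹ * v * g) := by
    by_contra hall
    push Not at hall
    exact hs (K.mem_T_of_centralizes D.ZT hsP hall)
  have h1 := (D.tr w hw _ hsP).resolve_left fun h => hsw (mul_inv_eq_iff_eq_mul.1 h)
  have htP := (K.norm_conj hb hb0 N hw).1
  set t := g * w * g⁻¹ with ht
  have h3 : v * t * v⁻¹ = t * (g * r * g⁻¹) := by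
    calc v * t * v⁻¹ = g * (g⁻¹ * v * g * w * (g⁻¹ * v * g)⁻¹) * g⁻¹ := by rw [ht]; group
      _ = t * (g * r * g⁻¹) := by rw [h1, ht]; group
  have hrne : g * r * g⁻¹ ≠ 1 := fun h => D.r1 (by
    calc r = g⁻¹ * (g * r * g⁻¹) * g := by group
      _ = 1 := by rw [h]; group)
  rcases D.tr v hv t htP with h | h
  · exfalso
    refine hrne ?_
    calc g * r * g⁻¹ = t⁻¹ * (v * t * v⁻¹) := by rw [h3]; group
      _ = t⁻¹ * ((t * v * t⁻¹) * t * v⁻¹) := by rw [h]
      _ = 1 := by group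
  · have hv2 : v⁻¹ = v := inv_eq_of_mul_eq_one_right (K.spanV_sq D.ZT hv)
    have h4 : v * t * v⁻¹ * t⁻¹ = r := by
      calc v * t * v⁻¹ * t⁻¹ = v * (t * v⁻¹ * t⁻¹) := by group
        _ = v * (v * r) := by rw [hv2, h]
        _ = r := by rw [← mul_assoc, K.spanV_sq D.ZT hv, one_mul]
    rw [h3] at h4
    calc g * r * g⁻¹ = t⁻¹ * (t * (g * r * g⁻¹) * t⁻¹) * t := by group
      _ = t⁻¹ * r * t := by rw [h4]
      _ = r := by rw [mul_assoc, D.rZ.2.1 t htP, inv_mul_cancel_left]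

/-- The key step: changing the first neighbour keeps a word critical. -/
theorem shift (hb2 : 2 ≤ b) (N : Norm H y b g y' g₁ g₂ y'') (hg : ¬ Good H T P g) {u' : G}
    (hu' : u' ∈ H)
    (hgen : ∀ L : Subgroup G, P ≤ L → (∀ x ∈ P, u' * x * u'⁻¹ ∈ L) → H ≤ L) :
    Word H y b (y'⁻¹ * u'⁻¹ * g₂) ∧ ¬ Good H T P (y'⁻¹ * u'⁻¹ * g₂) := by
  have K := D.ctx
  refine ⟨?_, fun hgood => ?_⟩
  · have := word_mul (word_one (H := H) N.s1.inv) (word_left (inv_mem hu') N.w2)
    rw [show 1 + (b - 1) = b by omega] at this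
    simpa [mul_assoc] using this
  have hb0 : 0 < b := by omega
  -- the conjugate spans
  set V := spanV H P with hV
  set W := V.map (MulAut.conj y').toMonoidHom with hW
  have hWmem : ∀ {x : G}, x ∈ W ↔ y'⁻¹ * x * y' ∈ V := by
    intro x
    constructor
    · rintro ⟨v, hv, rfl⟩
      show y'⁻¹ * (y' * v * y'⁻¹) * y' ∈ V
      rwa [show y'⁻¹ * (y' * v * y'⁻¹) * y' = v by group]
    · intro h
      exact ⟨_, h, show y' * (y'⁻¹ * x * y') * y'⁻¹ = x by group⟩
  have hVP : V ≤ P := (K.spanV_le D.ZT).trans K.TP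
  have hWP : W ≤ P := by
    rintro _ ⟨v, hv, rfl⟩
    exact K.stepP N.s1 (hVP hv)
  have hWinv : ∀ p ∈ P, ∀ x ∈ W, p * x * p⁻¹ ∈ W := by
    intro p hp x hx
    have hp' : y'⁻¹ * p * y' ∈ P := by simpa using K.stepP N.s1.inv hp
    have h1 := K.spanV_normal (K.PH hp') (hWmem.1 hx)
    rw [hWmem]
    simpa [mul_assoc] using h1
  set U := V ⊔ W with hU
  -- it is enough that `U` is normal in `H`
  suffices hnorm : ∀ h ∈ H, ∀ x ∈ U, h * x * h⁻¹ ∈ U by
    have hbot := K.core U (sup_le hVP hWP) hnorm ?_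
    · exact K.omegaZ_ne_bot (le_bot_iff.1 ((K.omegaZ_le_spanV.trans le_sup_left).trans hbot.le))
    have hVinv : ∀ p ∈ P, ∀ x ∈ V, p * x * p⁻¹ ∈ V := fun p hp x hx => K.spanV_normal (K.PH hp) hx
    intro x hx
    have hmap : U.map (MulAut.conj y).toMonoidHom ≤ U := by
      rw [hU, Subgroup.map_sup]
      refine sup_le ?_ ?_
      · rintro _ ⟨v, hv, rfl⟩
        refine Subgroup.mem_sup_right ?_
        show y * v * y⁻¹ ∈ W
        rcases N.s1 with e | e
        · rw [hWmem, e, show y⁻¹ * (y * v * y⁻¹) * y = v by group]; exact hv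
        · rw [hWmem, e]
          have h1 := K.sq_mem hVP hVinv hv
          simpa [mul_assoc] using h1
      · rintro _ ⟨w, ⟨v, hv, rfl⟩, rfl⟩
        refine Subgroup.mem_sup_left ?_
        show y * (y' * v * y'⁻¹) * y⁻¹ ∈ V
        rcases N.s1 with e | e
        · rw [e, show y * (y * v * y⁻¹) * y⁻¹ = y * y * v * (y * y)⁻¹ by group]
          exact K.sq_mem hVP hVinv hv
        · rw [e, show y * (y⁻¹ * v * y⁻¹⁻¹) * y⁻¹ = v by group]
          exact hv
    exact hmap ⟨x, hx, rfl⟩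
  -- invariance under the conjugate of `P`
  have hWT : ∀ x ∈ W, x ∈ T := fun x hx => by
    obtain ⟨v, hv, rfl⟩ := hx
    have := hb 1 (by omega) _ (word_inv (word_one (H := H) N.s1)) v hv
    simpa using this
  set L := Subgroup.normalizer ((U.map (MulAut.conj u').toMonoidHom : Subgroup G) : Set G) with hL
  set U' := U.map (MulAut.conj u').toMonoidHom with hU'
  have hfin : ∀ a : G, (∀ x ∈ U', a * x * a⁻¹ ∈ U') → a ∈ L := by
    intro a ha
    have h2 : U'.map (MulAut.conj a).toMonoidHom = U' := by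
      refine Subgroup.eq_of_le_of_card_ge ?_
        (by rw [Subgroup.card_map_of_injective (f := (MulAut.conj a).toMonoidHom) (MulAut.conj a).injective])
      rintro _ ⟨x, hx, rfl⟩
      exact ha x hx
    rw [hL, Subgroup.mem_normalizer_iff]
    intro x
    refine ⟨ha x, fun hx => ?_⟩
    rw [← h2] at hx
    obtain ⟨z, hz, hzx⟩ := hx
    have : z = x := (MulAut.conj a).injective hzx
    exact this ▸ hz
  have hU'mem : ∀ {x : G}, x ∈ U' ↔ u'⁻¹ * x * u' ∈ U := by
    intro x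
    constructor
    · rintro ⟨v, hv, rfl⟩
      show u'⁻¹ * (u' * v * u'⁻¹) * u' ∈ U
      rwa [show u'⁻¹ * (u' * v * u'⁻¹) * u' = v by group]
    · intro h
      exact ⟨_, h, show u' * (u'⁻¹ * x * u') * u'⁻¹ = x by group⟩
  have hPU : ∀ p ∈ P, ∀ x ∈ U, p * x * p⁻¹ ∈ U := by
    intro p hp x hx
    have hle : U.map (MulAut.conj p).toMonoidHom ≤ U := by
      rw [hU, Subgroup.map_sup]
      refine sup_le ?_ ?_
      · rintro _ ⟨v, hv, rfl⟩
        exact Subgroup.mem_sup_left (K.spanV_normal (K.PH hp) hv)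
      · rintro _ ⟨v, hv, rfl⟩
        exact Subgroup.mem_sup_right (hWinv p hp v hv)
    exact hle ⟨x, hx, rfl⟩
  have h1 : ∀ x ∈ P, u' * x * u'⁻¹ ∈ L := fun p hp => hfin _ fun x hx => by
    rw [hU'mem] at hx ⊢
    have := hPU p hp _ hx
    simpa [mul_assoc] using this
  have hTL : ∀ x ∈ T, x ∈ L := fun x hx => by
    have := h1 _ (K.TP (K.Tn u'⁻¹ (inv_mem hu') x hx))
    simpa [mul_assoc] using this
  -- the critical transvection
  unfold Good at hg
  push Not at hg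
  obtain ⟨v₀, hv₀, hs⟩ := hg
  have hsP := (K.norm_conj hb hb0 N hv₀).2
  obtain ⟨w, hw, hsw⟩ : ∃ w ∈ V, g⁻¹ * v₀ * g * w ≠ w * (g⁻¹ * v₀ * g) := by
    by_contra hall
    push Not at hall
    exact hs (K.mem_T_of_centralizes D.ZT hsP hall)
  set t := g * w * g⁻¹ with ht
  have htP : t ∈ P := (K.norm_conj hb hb0 N hw).1
  have htT : t ∉ T := fun h => hsw (by
    have h' := K.spanV_comm D.ZT hv₀ h
    rw [ht] at h'
    calc g⁻¹ * v₀ * g * w = g⁻¹ * (v₀ * (g * w * g⁻¹)) * g := by group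
      _ = g⁻¹ * (g * w * g⁻¹ * v₀) * g := by rw [h']
      _ = w * (g⁻¹ * v₀ * g) := by group)
  have hgr := D.norm_r hb hb0 N (fun h => hs (h v₀ hv₀))
  have hVU' : ∀ v ∈ V, v ∈ U' := fun v hv => by
    rw [hU'mem]
    refine Subgroup.mem_sup_left ?_
    simpa using K.spanV_normal (inv_mem hu') hv
  have htL : t ∈ L := hfin _ fun x hx => by
    have hle : U'.map (MulAut.conj t).toMonoidHom ≤ U' := by
      have e : U' = V.map (MulAut.conj u').toMonoidHom ⊔ W.map (MulAut.conj u').toMonoidHom := by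
        rw [hU', hU, Subgroup.map_sup]
      conv_lhs => rw [e, Subgroup.map_sup]
      refine sup_le ?_ ?_
      · rintro _ ⟨_, ⟨v, hv, rfl⟩, rfl⟩
        exact hVU' _ (K.spanV_normal (K.PH htP) (K.spanV_normal hu' hv))
      · rintro _ ⟨_, ⟨x, hx, rfl⟩, rfl⟩
        show t * (u' * x * u'⁻¹) * t⁻¹ ∈ U'
        have hxU : u' * x * u'⁻¹ ∈ U' := by
          rw [hU'mem, show u'⁻¹ * (u' * x * u'⁻¹) * u' = x by group]
          exact Subgroup.mem_sup_right hx
        obtain ⟨v, hv, rfl⟩ := hx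
        set n := u' * (y' * v * y'⁻¹) * u'⁻¹ with hn
        change t * n * t⁻¹ ∈ U'
        have hxP : g⁻¹ * n * g ∈ P := by
          have h2 := hgood v hv
          have h3 := K.stepP N.s2.inv (K.TP h2)
          rw [hn, N.e2]
          simpa [mul_assoc] using h3
        set p := g⁻¹ * n * g with hpdef
        have hn' : n = g * p * g⁻¹ := by rw [hpdef]; group
        have hw2 : w⁻¹ = w := inv_eq_of_mul_eq_one_right (K.spanV_sq D.ZT hw)
        have hr2 : r⁻¹ = r := inv_eq_of_mul_eq_one_right D.r_sq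
        rcases D.tr w hw _ hxP with h | h
        · rw [show t * n * t⁻¹ = g * (w * p * w⁻¹) * g⁻¹ by rw [hn', ht]; group,
            ← mul_inv_eq_iff_eq_mul.1 h, mul_inv_cancel_right, ← hn']
          exact hxU
        · have e2 : t * n * t⁻¹ = r * n := by
            calc t * n * t⁻¹ = g * (w * (p * w⁻¹ * p⁻¹) * p) * g⁻¹ := by rw [hn', ht]; group
              _ = g * (w * (w * r) * p) * g⁻¹ := by rw [hw2, h]
              _ = g * r * g⁻¹ * (g * p * g⁻¹) := by rw [← mul_assoc w w, K.spanV_sq D.ZT hw, one_mul]; group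
              _ = r * n := by rw [hgr, hn']
          rw [e2]
          exact mul_mem (hVU' r D.r_mem) hxU
    exact hle ⟨x, hx, rfl⟩
  have hPL : P ≤ L := fun p hp => by
    by_cases hpT : p ∈ T
    · exact hTL p hpT
    · have h2 := K.twoP _ (inv_mem htP) p hp (fun h' => htT (by simpa using inv_mem h')) hpT
      rw [show p = t * (t⁻¹ * p) by group]
      exact L.mul_mem htL (hTL _ h2)
  intro h hh x hx
  have h2 := (Subgroup.mem_normalizer_iff.1
    (hgen L hPL h1 (mul_mem (mul_mem hu' hh) (inv_mem hu'))) (u' * x * u'⁻¹)).1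
    (hU'mem.2 (by rwa [show u'⁻¹ * (u' * x * u'⁻¹) * u' = x by group]))
  rw [hU'mem] at h2
  simpa [mul_assoc] using h2

/-- An element fixed by a critical transvection. -/
theorem fixed_of_good (hb0 : 0 < b) (N : Norm H y b g y' g₁ g₂ y'') (hg : ¬ Good H T P g) {z : G}
    (hz : z ∈ spanV H P) (hzg : g⁻¹ * z * g ∈ T) : ∀ p ∈ P, p * z = z * p := by
  have K := D.ctx
  unfold Good at hg
  push Not at hg
  obtain ⟨v₀, hv₀, hs⟩ := hg
  obtain ⟨w, hw, hsw⟩ : ∃ w ∈ spanV H P, g⁻¹ * v₀ * g * w ≠ w * (g⁻¹ * v₀ * g) := by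
    by_contra hall
    push Not at hall
    exact hs (K.mem_T_of_centralizes D.ZT (K.norm_conj hb hb0 N hv₀).2 hall)
  refine D.comm_iff hz (K.norm_conj hb hb0 N hw).1 (fun h => hsw ?_) ?_
  · calc g⁻¹ * v₀ * g * w = g⁻¹ * (v₀ * (g * w * g⁻¹)) * g := by group
      _ = g⁻¹ * (g * w * g⁻¹ * v₀) * g := by rw [K.spanV_comm D.ZT hv₀ h]
      _ = w * (g⁻¹ * v₀ * g) := by group
  · calc g * w * g⁻¹ * z = g * (w * (g⁻¹ * z * g)) * g⁻¹ := by group
      _ = g * (g⁻¹ * z * g * w) * g⁻¹ := by rw [K.spanV_comm D.ZT hw hzg]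
      _ = z * (g * w * g⁻¹) := by group

/-- Critical words have length one. -/
theorem length_lt_two (hb2 : 2 ≤ b) (N : Norm H y b g y' g₁ g₂ y'') (hg : ¬ Good H T P g) : False := by
  have K := D.ctx
  have hb0 : 0 < b := by omega
  set c := y * r * y⁻¹ with hc
  have hcZ : c ∈ omegaZ P := K.omegaZ_y D.rZ
  have hyr : ∀ {a : G}, Step y a → a * r * a⁻¹ = c := fun ha => K.step_central ha D.rZ.1 D.rZ.2.1
  have hyc : ∀ {a : G}, Step y a → a * c * a⁻¹ = r := by
    intro a ha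
    rw [K.step_central ha hcZ.1 hcZ.2.1, hc]
    obtain ⟨p, hp, e⟩ := K.sq_conj D.rZ.1
    rw [show y * (y * r * y⁻¹) * y⁻¹ = y * y * r * (y * y)⁻¹ by group, e, ← D.rZ.2.1 p hp,
      mul_inv_cancel_right]
  -- one shift
  have step : ∀ {g y' g₁ g₂ y'' : G}, Norm H y b g y' g₁ g₂ y'' → ¬ Good H T P g →
      ∀ {g₃ a h₃ : G}, Word H y (b - 2) g₃ → Step y a → h₃ ∈ H → g₂ = g₃ * a * h₃ →
      Norm H y b (y'⁻¹ * u⁻¹ * g₃ * a) y'⁻¹ (u⁻¹ * g₃ * a) (y'⁻¹ * u⁻¹ * g₃) a ∧
        ¬ Good H T P (y'⁻¹ * u⁻¹ * g₃ * a) ∧ g₃ * c * g₃⁻¹ = u * c * u⁻¹ := by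
    intro g y' g₁ g₂ y'' N hg g₃ a h₃ hg₃ ha hh₃ e
    obtain ⟨-, hng⟩ := D.shift hb hb2 N hg K.uH K.gen1
    have hN : Norm H y b (y'⁻¹ * u⁻¹ * g₃ * a) y'⁻¹ (u⁻¹ * g₃ * a) (y'⁻¹ * u⁻¹ * g₃) a := by
      refine ⟨N.s1.inv, ?_, by group, ?_, ha, rfl⟩
      · have := word_mul (word_left (inv_mem K.uH) hg₃) (word_one (H := H) ha)
        rwa [show b - 2 + 1 = b - 1 by omega] at this
      · have := word_mul (word_one (H := H) N.s1.inv) (word_left (inv_mem K.uH) hg₃)
        rw [show 1 + (b - 2) = b - 1 by omega] at this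
        simpa [mul_assoc] using this
    have hng' : ¬ Good H T P (y'⁻¹ * u⁻¹ * g₃ * a) := fun h => hng (by
      have := K.good_mul_right hh₃ h
      rw [e]
      simpa [mul_assoc] using this)
    refine ⟨hN, hng', ?_⟩
    have h := D.norm_r hb hb0 hN hng'
    calc g₃ * c * g₃⁻¹ = g₃ * (a * r * a⁻¹) * g₃⁻¹ := by rw [hyr ha]
      _ = u * y' * (y'⁻¹ * u⁻¹ * g₃ * a * r * (y'⁻¹ * u⁻¹ * g₃ * a)⁻¹) * y'⁻¹ * u⁻¹ := by group
      _ = u * (y' * r * y'⁻¹) * u⁻¹ := by rw [h]; group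
      _ = u * c * u⁻¹ := by rw [hyr N.s1]
  have hw2 : Word H y ((b - 2) + 1) g₂ := by rw [show b - 2 + 1 = b - 1 by omega]; exact N.w2
  obtain ⟨g₃, hg₃, a, ha, h₃, hh₃, e₂⟩ := word_succ_right hw2
  obtain ⟨N', hng', hc3⟩ := step N hg hg₃ ha hh₃ e₂
  -- `c` is central in `H`
  obtain ⟨hcH, huc⟩ := D.central_of_conj hcZ (D.fixed_of_good hb hb0 N hg
    (K.spanV_normal K.uH (K.omegaZ_le_spanV hcZ)) (by
      rw [← hc3]
      have hwd : Word H y 2 (g₃⁻¹ * g) := by
        have := word_mul (word_one (H := H) ha) (word_left hh₃ (word_one (H := H) N.s2))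
        rw [N.e2, e₂]
        simpa [mul_assoc] using this
      rcases (show b = 2 ∨ 3 ≤ b by omega) with hb' | hb'
      · -- here `g₃` lies in `H`
        subst hb'
        have h3' : g₃ ∈ H := hg₃
        have hv : g₃ * c * g₃⁻¹ ∈ spanV H P := K.spanV_normal h3' (K.omegaZ_le_spanV hcZ)
        have hw : g₂⁻¹ * (g₃ * c * g₃⁻¹) * g₂ ∈ spanV H P := by
          rw [e₂, show (g₃ * a * h₃)⁻¹ * (g₃ * c * g₃⁻¹) * (g₃ * a * h₃) =
            h₃⁻¹ * (a⁻¹ * c * a⁻¹⁻¹) * h₃⁻¹⁻¹ by group, hyc ha.inv]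
          exact K.spanV_normal (inv_mem hh₃) D.r_mem
        have := hb 1 (by omega) _ (word_one (H := H) N.s2) _ hw
        rw [N.e2]
        simpa [mul_assoc] using this
      · have := hb 2 (by omega) _ hwd c (K.omegaZ_le_spanV hcZ)
        simpa [mul_assoc] using this))
  have hrc : r ≠ c := fun h => D.r_not_central (h ▸ hcH)
  rw [huc] at hc3
  rcases (show b = 2 ∨ 3 ≤ b by omega) with hb' | hb'
  · -- length two: two involutions in neighbouring spans
    subst hb'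
    have h3' : g₃ ∈ H := hg₃
    -- renormalize
    set y₁ := a with hy₁
    set h₂ := h₃ with hh₂
    set g' := y₁ * h₂ * y'' with hg'
    have Ng : Norm H y 2 g' y₁ (h₂ * y'') (y₁ * h₂) y'' :=
      ⟨ha, word_left hh₃ (word_one N.s2), by rw [hg']; group,
        word_right (word_one ha) hh₃, N.s2, by rw [hg']⟩
    have hgg' : ¬ Good H T P g' := fun h => hg (by
      have := K.good_mul_left h3' h
      rw [N.e2, e₂]
      simpa [hg', mul_assoc] using this)
    obtain ⟨v₀, hv₀, hs⟩ : ∃ v ∈ spanV H P, g'⁻¹ * v * g' ∉ T := by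
      have := hgg'; unfold Good at this; push Not at this; exact this
    obtain ⟨w, hw, hsw⟩ : ∃ w ∈ spanV H P, g'⁻¹ * v₀ * g' * w ≠ w * (g'⁻¹ * v₀ * g') := by
      by_contra hall
      push Not at hall
      exact hs (K.mem_T_of_centralizes D.ZT (K.norm_conj hb hb0 Ng hv₀).2 hall)
    set t := g' * w * g'⁻¹ with ht
    have htP : t ∈ P := (K.norm_conj hb hb0 Ng hw).1
    have htT : t ∉ T := fun h => hsw (by
      have h' := K.spanV_comm D.ZT hv₀ h
      rw [ht] at h'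
      calc g'⁻¹ * v₀ * g' * w = g'⁻¹ * (v₀ * (g' * w * g'⁻¹)) * g' := by group
        _ = g'⁻¹ * (g' * w * g'⁻¹ * v₀) * g' := by rw [h']
        _ = w * (g'⁻¹ * v₀ * g') := by group)
    have ht2 : t * t = 1 := by
      rw [ht, show g' * w * g'⁻¹ * (g' * w * g'⁻¹) = g' * (w * w) * g'⁻¹ by group,
        K.spanV_sq D.ZT hw]
      group
    have hu'' : u⁻¹ * t⁻¹ * u ∈ H := mul_mem (mul_mem (inv_mem K.uH) (inv_mem (K.PH htP))) K.uH
    have hgen' : ∀ L : Subgroup G, P ≤ L →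
        (∀ x ∈ P, u⁻¹ * t⁻¹ * u * x * (u⁻¹ * t⁻¹ * u)⁻¹ ∈ L) → H ≤ L := by
      intro L hPL hL h hh
      have := K.gen2 t⁻¹ (inv_mem htP) (fun h' => htT (by simpa using inv_mem h'))
        (L.map (MulAut.conj u).toMonoidHom) (fun x hx => ⟨x, hPL hx, rfl⟩)
        (fun x hx => ⟨_, hL x hx, show u * (u⁻¹ * t⁻¹ * u * x * (u⁻¹ * t⁻¹ * u)⁻¹) * u⁻¹ = _ by group⟩)
        (mul_mem (mul_mem K.uH hh) (inv_mem K.uH))
      obtain ⟨l, hl, hle⟩ := this
      have : l = h := (MulAut.conj u).injective hle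
      exact this ▸ hl
    obtain ⟨-, hk⟩ := D.shift hb hb2 Ng hgg' hu'' hgen'
    set k := y₁⁻¹ * (u⁻¹ * t * u) * y₁ with hk'
    have hkg : ¬ Good H T P k := fun h => hk (by
      have := K.good_mul_right hh₃ h
      simpa [hk', mul_assoc] using this)
    have Nk : Norm H y 2 k y₁⁻¹ ((u⁻¹ * t * u) * y₁) (y₁⁻¹ * (u⁻¹ * t * u)) y₁ :=
      ⟨ha.inv, word_left (mul_mem (mul_mem (inv_mem K.uH) (K.PH htP)) K.uH) (word_one ha),
        by rw [hk']; group, word_right (word_one ha.inv)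
          (mul_mem (mul_mem (inv_mem K.uH) (K.PH htP)) K.uH), ha, by rw [hk']⟩
    obtain ⟨v, hv, hvk⟩ : ∃ v ∈ spanV H P, k⁻¹ * v * k ∉ T := by
      have := hkg; unfold Good at this; push Not at this; exact this
    have hvkP := (K.norm_conj hb hb0 Nk hv).2
    have hvZ : ¬ ∀ p ∈ P, p * v = v * p := by
      intro h
      have hz := D.mem_omegaZ_of_fixed hv h
      have h1 : u * (y₁ * v * y₁⁻¹) * u⁻¹ ∈ spanV H P :=
        K.spanV_normal K.uH (K.omegaZ_le_spanV (K.omegaZ_step ha hz))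
      have h1' := K.spanV_normal (inv_mem (K.PH htP)) h1
      have h2 := hb 1 (by omega) _ (word_left K.uH (word_one ha)) _ h1'
      exact hvk (by simpa [hk', mul_assoc] using h2)
    have h1 := (D.tr v hv _ hvkP).resolve_left fun h => hvZ (D.comm_iff hv hvkP hvk (mul_inv_eq_iff_eq_mul.1 h))
    -- the two conjugate involutions
    set n := u * y₁ with hn
    set A := n * v * n⁻¹ with hA
    have hA2 : A * A = 1 := by
      rw [hA, show n * v * n⁻¹ * (n * v * n⁻¹) = n * (v * v) * n⁻¹ by group, K.spanV_sq D.ZT hv]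
      group
    have hAA : (A * (t * A * t⁻¹)) * (A * (t * A * t⁻¹)) = c := by
      have e1 : t * A * t⁻¹ = n * (k * v * k⁻¹) * n⁻¹ := by
        rw [hA, hn, hk']; group
      have hv2 : v⁻¹ = v := inv_eq_of_mul_eq_one_right (K.spanV_sq D.ZT hv)
      set p := k⁻¹ * v * k with hp
      have hp2 : p * p = 1 := by
        rw [hp, show k⁻¹ * v * k * (k⁻¹ * v * k) = k⁻¹ * (v * v) * k by group, K.spanV_sq D.ZT hv]
        group
      have hvp : (p * v) * (p * v) = r := by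
        calc p * v * (p * v) = p * v * p⁻¹ * v := by rw [inv_eq_of_mul_eq_one_right hp2]; group
          _ = v * r * v := by rw [h1]
          _ = r := by
            rw [mul_assoc, ← K.spanV_comm D.ZT hv (K.spanV_le D.ZT D.r_mem), ← mul_assoc,
              K.spanV_sq D.ZT hv, one_mul]
      have e2 : v * (k * v * k⁻¹) = k * (p * v) * k⁻¹ := by rw [hp]; group
      calc A * (t * A * t⁻¹) * (A * (t * A * t⁻¹))
          = n * (v * (k * v * k⁻¹) * (v * (k * v * k⁻¹))) * n⁻¹ := by rw [e1, hA]; group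
        _ = n * (k * ((p * v) * (p * v)) * k⁻¹) * n⁻¹ := by rw [e2]; group
        _ = n * r * n⁻¹ := by rw [hvp, D.norm_r hb hb0 Nk hkg]
        _ = u * (y₁ * r * y₁⁻¹) * u⁻¹ := by rw [hn]; group
        _ = c := by rw [hyr ha, huc]
    -- the same element seen from the middle
    have hAT : A ∈ T := by
      have := hb 1 (by omega) _ (word_inv (word_left K.uH (word_one (H := H) ha))) v hv
      rw [inv_inv] at this
      simpa [hA, hn, mul_assoc] using this
    have hq : y₁⁻¹ * A * y₁ ∈ P := by simpa using K.stepP ha.inv (K.TP hAT)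
    set h' := y₁⁻¹ * A * y₁ * h₂ with hh'
    have hh'H : h' ∈ H := mul_mem (K.PH hq) hh₃
    set m := y''⁻¹ * (h'⁻¹ * h₂) * y'' with hm
    have Nm : Norm H y 2 m y''⁻¹ (h'⁻¹ * h₂ * y'') (y''⁻¹ * (h'⁻¹ * h₂)) y'' :=
      ⟨N.s2.inv, word_left (mul_mem (inv_mem hh'H) hh₃) (word_one N.s2), by rw [hm]; group,
        word_right (word_one N.s2.inv) (mul_mem (inv_mem hh'H) hh₃), N.s2, by rw [hm]⟩
    have hmP := (K.norm_conj hb hb0 Nm hw).1
    have hw2 : w⁻¹ = w := inv_eq_of_mul_eq_one_right (K.spanV_sq D.ZT hw)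
    have hsq : w * (m * w * m⁻¹) * (w * (m * w * m⁻¹)) = 1 ∨
        w * (m * w * m⁻¹) * (w * (m * w * m⁻¹)) = r := by
      set q := m * w * m⁻¹ with hqdef
      have hq2 : q * q = 1 := by
        rw [hqdef, show m * w * m⁻¹ * (m * w * m⁻¹) = m * (w * w) * m⁻¹ by group, K.spanV_sq D.ZT hw]
        group
      have e : w * q * (w * q) = w * (q * w * q⁻¹) := by rw [inv_eq_of_mul_eq_one_right hq2]; group
      rcases D.tr w hw q hmP with h | h <;> rw [e, h]
      · exact Or.inl (K.spanV_sq D.ZT hw)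
      · right; rw [← mul_assoc, K.spanV_sq D.ZT hw, one_mul]
    have e3 : A * (t * A * t⁻¹) = y₁ * (h' * y'') * (w * (m * w * m⁻¹)) * (y₁ * (h' * y''))⁻¹ := by
      calc A * (t * A * t⁻¹) = A * t * A⁻¹ * t := by
            rw [inv_eq_of_mul_eq_one_right hA2, inv_eq_of_mul_eq_one_right ht2]; group
        _ = y₁ * (h' * y'') * (w * (m * w * m⁻¹)) * (y₁ * (h' * y''))⁻¹ := by
            rw [ht, hg', hm, hh']; group
    rw [e3] at hAA
    have e4 : ∀ z : G, y₁ * (h' * y'') * z * (y₁ * (h' * y''))⁻¹ = y₁ * (h' * (y'' * z * y''⁻¹) * h'⁻¹) * y₁⁻¹ :=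
      fun z => by group
    have e5 : ∀ z : G, y₁ * (h' * y'') * z * (y₁ * (h' * y''))⁻¹ *
        (y₁ * (h' * y'') * z * (y₁ * (h' * y''))⁻¹) = y₁ * (h' * y'') * (z * z) * (y₁ * (h' * y''))⁻¹ :=
      fun z => by group
    rw [e5] at hAA
    rcases hsq with h | h <;> rw [h] at hAA
    · refine D.r1 ?_
      have hc1 : c = 1 := by rw [← hAA]; group
      rw [← hyc ha, hc1]
      group
    · rw [e4, hyr N.s2, hcH h' hh'H, mul_inv_cancel_right, hyc ha] at hAA
      exact hrc hAA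
  · -- longer words: shift once more
    have hw3 : Word H y ((b - 3) + 1) g₃ := by rw [show b - 3 + 1 = b - 2 by omega]; exact hg₃
    obtain ⟨g₄, hg₄, a₄, ha₄, h₄, hh₄, e₃⟩ := word_succ_right hw3
    have hw4 : Word H y (b - 2) (y'⁻¹ * u⁻¹ * g₄) := by
      have := word_mul (word_one (H := H) N.s1.inv) (word_left (inv_mem K.uH) hg₄)
      rw [show 1 + (b - 3) = b - 2 by omega] at this
      simpa [mul_assoc] using this
    obtain ⟨-, -, hc4⟩ := step N' hng' hw4 ha₄ hh₄ (by rw [e₃]; group)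
    rw [huc] at hc4
    have hru : g₄ * c * g₄⁻¹ = u * r * u⁻¹ := by
      calc g₄ * c * g₄⁻¹ = u * (y' * (y'⁻¹ * u⁻¹ * g₄ * c * (y'⁻¹ * u⁻¹ * g₄)⁻¹) * y'⁻¹) * u⁻¹ := by group
        _ = u * r * u⁻¹ := by rw [hc4, hyc N.s1]
    rcases (show b = 3 ∨ 4 ≤ b by omega) with hb4 | hb4
    · subst hb4
      have h4' : g₄ ∈ H := hg₄
      rw [hcH g₄ h4', mul_inv_cancel_right] at hru
      refine hrc ?_
      calc r = u⁻¹ * (u * r * u⁻¹) * u := by group
        _ = c := by rw [← hru, mul_assoc, ← hcH u K.uH, inv_mul_cancel_left]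
    · refine D.r_not_central (D.central_of_conj D.rZ (D.fixed_of_good hb hb0 N hg
        (K.spanV_normal K.uH D.r_mem) ?_)).1
      rw [← hru]
      have hwd : Word H y 3 (g₄⁻¹ * g) := by
        have := word_mul (word_one (H := H) ha₄) (word_left hh₄
          (word_mul (word_one (H := H) ha) (word_left hh₃ (word_one (H := H) N.s2))))
        rw [N.e2, e₂, e₃]
        simpa [mul_assoc] using this
      have := hb 3 (by omega) _ hwd c (K.omegaZ_le_spanV hcZ)
      simpa [mul_assoc] using this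

end TData

end Cfsg.Agent.FGB.DPush
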