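import Cfsg.Agent.Lib.FGB.DihedralPushPath

/-!
# Pushing up a dihedral quotient: the shape of the two-groups
-/

set_option autoImplicit false
set_option linter.unusedSectionVars false

namespace Cfsg.Agent.FGB.DPush

variable {G : Type*} [Group G] [Finite G] {H T P : Subgroup G} {y u : G}

namespace Ctx

variable (K : Ctx H T P y u)

include K

theorem card_P {t : G} (ht : t ∈ P) (htT : t ∉ T) : Nat.card P = 2 * Nat.card T := by
  have hidx : (T.subgroupOf P).index = 2 := by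
    rw [Subgroup.index_eq_two_iff]
    refine ⟨⟨t, ht⟩, fun b => ?_⟩
    by_cases hb : (b : G) ∈ T
    · refine Or.inr ⟨hb, fun h => htT ?_⟩
      have h' : (b : G) * t ∈ T := h
      simpa using mul_mem (inv_mem hb) h'
    · exact Or.inl ⟨K.twoP _ b.2 _ ht hb htT, hb⟩
  rw [← Subgroup.card_mul_index (T.subgroupOf P), hidx, mul_comm,
    Nat.card_congr (Subgroup.subgroupOfEquivOfLe K.TP).toEquiv]

theorem T_inv_P : ∀ p ∈ P, ∀ x ∈ T, p * x * p⁻¹ ∈ T := fun p hp x hx => K.Tn p (K.PH hp) x hx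

/-- An involution central in `P` outside `T`. -/
theorem caseA (hT : T ≠ ⊥) {z : G} (hz : z ∈ omegaZ P) (hzT : z ∉ T) :
    Nat.card P = 4 ∧ z * z = 1 ∧ (∀ p ∈ P, z * p = p * z) ∧
      ∃ e ∈ T, e ≠ 1 ∧ (∀ h ∈ H, h * e = e * h) ∧ ∀ x ∈ T, x = 1 ∨ x = e := by
  set Q := Subgroup.closure {a : G | ∃ x ∈ T, a = x * x} with hQdef
  have hQT : Q ≤ T := by
    refine (Subgroup.closure_le T).2 ?_
    rintro _ ⟨x, hx, rfl⟩
    exact mul_mem hx hx
  have hQ : Q = ⊥ := K.core Q (hQT.trans K.TP) (fun h hh x hx => by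
    have hle : Q.map (MulAut.conj h).toMonoidHom ≤ Q := by
      rw [hQdef, MonoidHom.map_closure, Subgroup.closure_le]
      rintro _ ⟨_, ⟨x, hx, rfl⟩, rfl⟩
      exact Subgroup.subset_closure ⟨h * x * h⁻¹, K.Tn h hh x hx,
        show h * (x * x) * h⁻¹ = h * x * h⁻¹ * (h * x * h⁻¹) by group⟩
    exact hle ⟨x, hx, rfl⟩) (fun x hx => by
    have hle : Q.map (MulAut.conj y).toMonoidHom ≤ Q := by
      rw [hQdef, MonoidHom.map_closure, Subgroup.closure_le]
      rintro _ ⟨_, ⟨x, hx, rfl⟩, rfl⟩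
      show y * (x * x) * y⁻¹ ∈ Subgroup.closure {a : G | ∃ x ∈ T, a = x * x}
      set a := y * x * y⁻¹ with ha
      have haP : a ∈ P := K.yP x (K.TP hx)
      rw [show y * (x * x) * y⁻¹ = a * a by rw [ha]; group]
      by_cases haT : a ∈ T
      · exact Subgroup.subset_closure ⟨a, haT, rfl⟩
      · refine Subgroup.subset_closure ⟨z * a, K.twoP z hz.1 a haP hzT haT, ?_⟩
        calc a * a = z * z * (a * a) := by rw [hz.2.2, one_mul]
          _ = z * (z * a) * a := by group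
          _ = z * (a * z) * a := by rw [hz.2.1 a haP]
          _ = z * a * (z * a) := by group
    exact hle ⟨x, hx, rfl⟩)
  have hT2 : ∀ x ∈ T, x * x = 1 := fun x hx => Subgroup.mem_bot.1 (hQ ▸ Subgroup.subset_closure ⟨x, hx, rfl⟩)
  have hTc : ∀ a ∈ T, ∀ b ∈ T, a * b = b * a := fun a ha b hb => by
    calc a * b = (b * b) * (a * b) * (a * a) := by rw [hT2 a ha, hT2 b hb, one_mul, mul_one]
      _ = b * ((b * a) * (b * a)) * a := by group
      _ = b * a := by rw [hT2 _ (mul_mem hb ha), mul_one]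
  have hTP : ∀ a ∈ T, ∀ p ∈ P, p * a = a * p := by
    intro a ha p hp
    by_cases hpT : p ∈ T
    · exact hTc p hpT a ha
    · have hs := K.twoP z hz.1 p hp hzT hpT
      calc p * a = z * ((z * p) * a) := by rw [← mul_assoc z, ← mul_assoc z z, hz.2.2, one_mul]
        _ = z * (a * (z * p)) := by rw [hTc _ hs a ha]
        _ = (z * a) * (z * p) := by group
        _ = (a * z) * (z * p) := by rw [hz.2.1 a (K.TP ha)]
        _ = a * p := by rw [mul_assoc, ← mul_assoc z z, hz.2.2, one_mul]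
  have hcent : ∀ a ∈ T, ∀ h ∈ H, h * a = a * h := by
    intro a ha h hh
    refine Subgroup.mem_centralizer_singleton_iff.1 (K.gen1 (Subgroup.centralizer {a})
      (fun p hp => Subgroup.mem_centralizer_singleton_iff.2 (hTP a ha p hp))
      (fun p hp => Subgroup.mem_centralizer_singleton_iff.2 ?_) hh)
    have ha' : u⁻¹ * a * u ∈ T := by simpa using K.Tn u⁻¹ (inv_mem K.uH) a ha
    calc u * p * u⁻¹ * a = u * (p * (u⁻¹ * a * u)) * u⁻¹ := by group
      _ = u * (u⁻¹ * a * u * p) * u⁻¹ := by rw [hTP _ ha' p hp]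
      _ = a * (u * p * u⁻¹) := by group
  let D : Subgroup G :=
    { carrier := {a | a ∈ T ∧ y * a * y⁻¹ ∈ T}
      one_mem' := ⟨one_mem T, by simp⟩
      mul_mem' := fun {a b} ha hb => ⟨mul_mem ha.1 hb.1, by
        rw [show y * (a * b) * y⁻¹ = y * a * y⁻¹ * (y * b * y⁻¹) by group]
        exact mul_mem ha.2 hb.2⟩
      inv_mem' := fun {a} ha => ⟨inv_mem ha.1, by
        rw [show y * a⁻¹ * y⁻¹ = (y * a * y⁻¹)⁻¹ by group]
        exact inv_mem ha.2⟩ }
  have hD : D = ⊥ := K.core D (fun a ha => K.TP ha.1)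
    (fun h hh a ha => by rw [hcent a ha.1 h hh, mul_inv_cancel_right]; exact ha)
    (fun a ha => ⟨ha.2, by
      have := K.sq_mem K.TP K.T_inv_P ha.1
      simpa [mul_assoc] using this⟩)
  obtain ⟨e, he, he1⟩ := (Subgroup.bot_or_exists_ne_one T).resolve_left hT
  have hout : ∀ a ∈ T, a ≠ 1 → y * a * y⁻¹ ∉ T := fun a ha ha1 h =>
    ha1 (Subgroup.mem_bot.1 (hD ▸ (⟨ha, h⟩ : a ∈ D)))
  have hTe : ∀ x ∈ T, x = 1 ∨ x = e := by
    intro x hx
    by_cases hx1 : x = 1
    · exact Or.inl hx1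
    right
    have hmD : x * e ∈ D := ⟨mul_mem hx he, by
      rw [show y * (x * e) * y⁻¹ = y * x * y⁻¹ * (y * e * y⁻¹) by group]
      exact K.twoP _ (K.yP x (K.TP hx)) _ (K.yP e (K.TP he)) (hout x hx hx1) (hout e he he1)⟩
    rw [hD, Subgroup.mem_bot] at hmD
    calc x = x * e * e := by rw [mul_assoc, hT2 e he, mul_one]
      _ = e := by rw [hmD, one_mul]
  refine ⟨?_, hz.2.2, hz.2.1, e, he, he1, hcent e he, hTe⟩
  have hcard : Nat.card T = 2 := by
    rw [Nat.card_eq_two_iff]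
    refine ⟨1, ⟨e, he⟩, fun h => he1 (congrArg Subtype.val h).symm, ?_⟩
    ext ⟨x, hx⟩
    simp only [Set.mem_insert_iff, Set.mem_singleton_iff, Set.mem_univ, iff_true]
    rcases hTe x hx with h | h
    · exact Or.inl (Subtype.ext h)
    · exact Or.inr (Subtype.ext h)
  rw [K.card_P hz.1 hzT, hcard]

/-- The transvection data and a conjugate of the span outside `T`. -/
theorem exists_data (hZT : omegaZ P ≤ T) :
    ∃ r, TData H T P y u r ∧ ∃ v ∈ spanV H P, y * v * y⁻¹ ∉ T := by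
  classical
  have hex : ∃ b, ∃ g, Word H y b g ∧ ¬ Good H T P g := by
    by_contra hall
    push Not at hall
    let M : Subgroup G :=
      { carrier := {x | x ∈ T ∧ ∀ m g, Word H y m g → g⁻¹ * x * g ∈ T}
        one_mem' := ⟨one_mem T, fun m g _ => by simp⟩
        mul_mem' := fun {a b} ha hb => ⟨mul_mem ha.1 hb.1, fun m g hg => by
          rw [show g⁻¹ * (a * b) * g = g⁻¹ * a * g * (g⁻¹ * b * g) by group]
          exact mul_mem (ha.2 m g hg) (hb.2 m g hg)⟩
        inv_mem' := fun {a} ha => ⟨inv_mem ha.1, fun m g hg => by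
          rw [show g⁻¹ * a⁻¹ * g = (g⁻¹ * a * g)⁻¹ by group]
          exact inv_mem (ha.2 m g hg)⟩ }
    have hM : M = ⊥ := K.core M (fun x hx => K.TP hx.1)
      (fun h hh x hx => ⟨K.Tn h hh x hx.1, fun m g hg => by
        have := hx.2 m _ (word_left (inv_mem hh) hg)
        simpa [mul_assoc] using this⟩)
      (fun x hx => ⟨by
        have := hx.2 1 _ (word_one (Or.inr rfl))
        simpa using this, fun m g hg => by
        have := hx.2 (1 + m) _ (word_mul (word_one (Or.inr rfl)) hg)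
        simpa [mul_assoc] using this⟩)
    exact K.omegaZ_ne_bot (le_bot_iff.1 fun z hz => hM ▸
      (⟨hZT hz, fun m g hg => hall m g hg z (K.omegaZ_le_spanV hz)⟩ : z ∈ M))
  set b := Nat.find hex with hbdef
  have hb : Short H T P y b := fun m hm g hg => by
    by_contra h
    exact Nat.find_min hex hm ⟨g, hg, h⟩
  obtain ⟨g, hg, hbad⟩ : ∃ g, Word H y b g ∧ ¬ Good H T P g := Nat.find_spec hex
  rcases Nat.eq_zero_or_pos b with hb0 | hb0
  · rw [hb0] at hg
    exact absurd (fun v hv => by simpa using K.Tn g⁻¹ (inv_mem hg) v (K.spanV_le hZT hv)) hbad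
  obtain ⟨b', hb'⟩ : ∃ b', b = b' + 1 := ⟨b - 1, by omega⟩
  rw [hb'] at hg
  obtain ⟨h₁, hh₁, y', hy', g₁, hg₁, rfl⟩ := hg
  have hw : Word H y (b' + 1) (y' * g₁) := by
    rw [Nat.add_comm]
    exact word_mul (word_one hy') hg₁
  obtain ⟨g₂, hg₂, y'', hy'', h₂, hh₂, e⟩ := word_succ_right hw
  have hN : Norm H y b (g₂ * y'') y' (g₁ * h₂⁻¹) g₂ y'' := by
    refine ⟨hy', ?_, ?_, ?_, hy'', rfl⟩
    · rw [hb', Nat.add_sub_cancel]; exact word_right hg₁ (inv_mem hh₂)
    · calc g₂ * y'' = g₂ * y'' * h₂ * h₂⁻¹ := by group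
        _ = y' * (g₁ * h₂⁻¹) := by rw [← e]; group
    · rw [hb', Nat.add_sub_cancel]; exact hg₂
  have hbad' : ¬ Good H T P (g₂ * y'') := fun h => hbad (by
    have h3 := K.good_mul_left hh₁ (K.good_mul_right hh₂ h)
    rwa [← e, ← mul_assoc] at h3)
  obtain ⟨r, D⟩ := K.exists_tdata hb hb0 hZT hN hbad'
  refine ⟨r, D, ?_⟩
  have hb1 : b = 1 := by
    by_contra hne
    exact D.length_lt_two hb (by omega) hN hbad'
  obtain rfl : b' = 0 := by omega
  have hbad'' : ¬ Good H T P y'' := fun h => hbad' (K.good_mul_left hg₂ h)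
  unfold Good at hbad''
  push Not at hbad''
  obtain ⟨v, hv, hvT⟩ := hbad''
  refine ⟨v, hv, fun h => hvT ?_⟩
  have h2 := (K.step_flip K.TP K.T_inv_P hy''.inv).2 h
  simpa using h2

end Ctx

namespace TData

variable {r : G} (D : TData H T P y u r)

include D

/-- The span is the whole of `T`. -/
theorem spanV_eq {v : G} (hv : v ∈ spanV H P) (hvy : y * v * y⁻¹ ∉ T) : spanV H P = T := by
  have K := D.ctx
  refine le_antisymm (K.spanV_le D.ZT) fun x hx => ?_
  set V := spanV H P with hV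
  have hvP : v ∈ P := K.TP (K.spanV_le D.ZT hv)
  have hdec : ∀ x ∈ T, y * x * y⁻¹ ∈ T ∨ y * (v * x) * y⁻¹ ∈ T := fun x hx => by
    by_cases h : y * x * y⁻¹ ∈ T
    · exact Or.inl h
    · right
      rw [show y * (v * x) * y⁻¹ = y * v * y⁻¹ * (y * x * y⁻¹) by group]
      exact K.twoP _ (K.yP v hvP) _ (K.yP x (K.TP hx)) hvy h
  set Q := Subgroup.closure {a : G | ∃ x ∈ T, a = x * x} with hQdef
  have hQT : Q ≤ T := by
    refine (Subgroup.closure_le T).2 ?_
    rintro _ ⟨x, hx, rfl⟩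
    exact mul_mem hx hx
  have hQ : Q = ⊥ := K.core Q (hQT.trans K.TP) (fun h hh x hx => by
    have hle : Q.map (MulAut.conj h).toMonoidHom ≤ Q := by
      rw [hQdef, MonoidHom.map_closure, Subgroup.closure_le]
      rintro _ ⟨_, ⟨x, hx, rfl⟩, rfl⟩
      exact Subgroup.subset_closure ⟨h * x * h⁻¹, K.Tn h hh x hx,
        show h * (x * x) * h⁻¹ = h * x * h⁻¹ * (h * x * h⁻¹) by group⟩
    exact hle ⟨x, hx, rfl⟩) (fun x hx => by
    have hle : Q.map (MulAut.conj y).toMonoidHom ≤ Q := by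
      rw [hQdef, MonoidHom.map_closure, Subgroup.closure_le]
      rintro _ ⟨_, ⟨x, hx, rfl⟩, rfl⟩
      show y * (x * x) * y⁻¹ ∈ Subgroup.closure {a : G | ∃ x ∈ T, a = x * x}
      rcases hdec x hx with h | h
      · exact Subgroup.subset_closure ⟨_, h, show _ = y * x * y⁻¹ * (y * x * y⁻¹) by group⟩
      · refine Subgroup.subset_closure ⟨_, h, ?_⟩
        have e : v * x * (v * x) = x * x := by
          calc v * x * (v * x) = v * (x * v) * x := by group
            _ = v * (v * x) * x := by rw [← K.spanV_comm D.ZT hv hx]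
            _ = (v * v) * (x * x) := by group
            _ = x * x := by rw [K.spanV_sq D.ZT hv, one_mul]
        calc y * (x * x) * y⁻¹ = y * (v * x * (v * x)) * y⁻¹ := by rw [e]
          _ = y * (v * x) * y⁻¹ * (y * (v * x) * y⁻¹) := by group
    exact hle ⟨x, hx, rfl⟩)
  have hT2 : ∀ x ∈ T, x * x = 1 := fun x hx => Subgroup.mem_bot.1 (hQ ▸ Subgroup.subset_closure ⟨x, hx, rfl⟩)
  have hkey : ∀ d ∈ T, y * d * y⁻¹ ∈ T → d ∈ V := by
    intro d hd hdy
    refine K.omegaZ_le_spanV ⟨K.TP hd, ?_, hT2 d hd⟩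
    have hTc : ∀ a ∈ T, a * d = d * a := fun a ha => by
      calc a * d = (d * d) * (a * d) * (a * a) := by rw [hT2 a ha, hT2 d hd, one_mul, mul_one]
        _ = d * ((d * a) * (d * a)) * a := by group
        _ = d * a := by rw [hT2 _ (mul_mem hd ha), mul_one]
    intro p hp
    by_cases hpT : p ∈ T
    · exact (hTc p hpT).symm
    · set t := y * v * y⁻¹ with ht
      have htd : t * d = d * t := by
        have he : y⁻¹ * d * y ∈ T := by
          have := (K.step_flip K.TP K.T_inv_P (y' := y⁻¹) (Or.inr rfl)).2 hdy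
          simpa using this
        calc t * d = y * (v * (y⁻¹ * d * y)) * y⁻¹ := by rw [ht]; group
          _ = y * (y⁻¹ * d * y * v) * y⁻¹ := by rw [K.spanV_comm D.ZT hv he]
          _ = d * t := by rw [ht]; group
      have hs := K.twoP _ (inv_mem (K.yP v hvP)) p hp (fun h' => hvy (by simpa using inv_mem h')) hpT
      calc d * p = d * t * (t⁻¹ * p) := by group
        _ = t * (d * (t⁻¹ * p)) := by rw [← htd]; group
        _ = t * (t⁻¹ * p * d) := by rw [hTc _ hs]
        _ = p * d := by group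
  rcases hdec x hx with h | h
  · exact hkey x hx h
  · have := mul_mem (inv_mem hv) (hkey _ (mul_mem (K.spanV_le D.ZT hv) hx) h)
    simpa using this

end TData

/-- The shape of `T` in the transvection case. -/
structure Shape (H T P : Subgroup G) (y u r : G) : Prop where
  data : TData H T P y u r
  VT : spanV H P = T
  t_ex : ∃ t ∈ P, t ∉ T ∧ t * t = 1
  moved : ∀ t ∈ P, t ∉ T → t * (u * r * u⁻¹) * t⁻¹ = u * r * u⁻¹ * r
  ne_one : u * r * u⁻¹ ≠ r
  decomp : ∀ x ∈ T, ∃ c ∈ T, (∀ h ∈ H, h * c = c * h) ∧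
    (x = c ∨ x = c * r ∨ x = c * (u * r * u⁻¹) ∨ x = c * r * (u * r * u⁻¹))
  nocent : (¬ ∀ h ∈ H, h * r = r * h) ∧ (¬ ∀ h ∈ H, h * (u * r * u⁻¹) = u * r * u⁻¹ * h) ∧
    ¬ ∀ h ∈ H, h * (r * (u * r * u⁻¹)) = r * (u * r * u⁻¹) * h
  two : ∀ c ∈ T, ∀ c' ∈ T, (∀ h ∈ H, h * c = c * h) → (∀ h ∈ H, h * c' = c' * h) → c ≠ 1 → c' ≠ 1 → c' = c
  fixed : ∀ v ∈ T, u * v = v * u → (∀ t ∈ P, t * u * t⁻¹ * v = v * (t * u * t⁻¹)) → ∀ h ∈ H, h * v = v * h

theorem Ctx.exists_shape (K : Ctx H T P y u) (hZT : omegaZ P ≤ T) : ∃ r, Shape H T P y u r := by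
  obtain ⟨r, D, v, hv, hvy⟩ := K.exists_data hZT
  have hVT := D.spanV_eq hv hvy
  have ht_ex : ∃ t ∈ P, t ∉ T ∧ t * t = 1 := by
    refine ⟨y * v * y⁻¹, K.yP v (K.TP (K.spanV_le hZT hv)), hvy, ?_⟩
    rw [show y * v * y⁻¹ * (y * v * y⁻¹) = y * (v * v) * y⁻¹ by group, K.spanV_sq hZT hv]
    group
  set r' := u * r * u⁻¹ with hr'
  have hr'V : r' ∈ spanV H P := K.spanV_normal K.uH D.r_mem
  have hne : r' ≠ r := by
    intro h
    have hfix : ∀ p ∈ P, p * (u * r * u⁻¹) = u * r * u⁻¹ * p := fun p hp => by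
      rw [← hr', h]; exact (D.rZ.2.1 p hp).symm
    exact D.r_not_central (D.central_of_conj D.rZ hfix).1
  have hr'2 : r' * r' = 1 := K.spanV_sq hZT hr'V
  have hr2 := D.r_sq
  have hcom : r * r' = r' * r := K.spanV_comm hZT D.r_mem (K.spanV_le hZT hr'V)
  have hmoved : ∀ t ∈ P, t ∉ T → t * r' * t⁻¹ = r' * r := by
    intro t ht htT
    refine (D.tr r' hr'V t ht).resolve_left fun h => ?_
    exact D.r_not_central (D.central_of_conj D.rZ (D.comm_iff hr'V ht htT (mul_inv_eq_iff_eq_mul.1 h))).1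
  obtain ⟨t, ht, htT⟩ := D.exists_outside
  -- centre decomposition
  have hZdec : ∀ z ∈ omegaZ P, (∀ h ∈ H, h * z = z * h) ∨ ∀ h ∈ H, h * (z * r) = z * r * h := by
    intro z hz
    have key : ∀ w ∈ omegaZ P, (∀ p ∈ P, p * (u⁻¹ * w * u) = u⁻¹ * w * u * p) → ∀ h ∈ H, h * w = w * h :=
      fun w hw h => D.fixed_of_both (fun p hp => (hw.2.1 p hp).symm) fun p hp => by
        calc u * p * u⁻¹ * w = u * (p * (u⁻¹ * w * u)) * u⁻¹ := by group
          _ = u * (u⁻¹ * w * u * p) * u⁻¹ := by rw [h p hp]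
          _ = w * (u * p * u⁻¹) := by group
    have hw1 : u⁻¹ * z * u ∈ spanV H P := by
      simpa using K.spanV_normal (inv_mem K.uH) (K.omegaZ_le_spanV hz)
    have hw2 : u⁻¹ * r * u ∈ spanV H P := by simpa using K.spanV_normal (inv_mem K.uH) D.r_mem
    rcases D.tr _ hw1 t ht with h | h
    · exact Or.inl (key z hz (D.comm_iff hw1 ht htT (mul_inv_eq_iff_eq_mul.1 h)))
    · right
      have h' := (D.tr _ hw2 t ht).resolve_left fun h' =>
        D.r_not_central (key r D.rZ (D.comm_iff hw2 ht htT (mul_inv_eq_iff_eq_mul.1 h')))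
      refine key _ (mul_mem hz D.rZ) (D.comm_iff ?_ ht htT ?_)
      · rw [show u⁻¹ * (z * r) * u = u⁻¹ * z * u * (u⁻¹ * r * u) by group]; exact mul_mem hw1 hw2
      · apply mul_inv_eq_iff_eq_mul.1
        calc t * (u⁻¹ * (z * r) * u) * t⁻¹
            = t * (u⁻¹ * z * u) * t⁻¹ * (t * (u⁻¹ * r * u) * t⁻¹) := by group
          _ = u⁻¹ * z * u * r * (u⁻¹ * r * u * r) := by rw [h, h']
          _ = u⁻¹ * z * u * (r * (u⁻¹ * r * u)) * r := by group
          _ = u⁻¹ * z * u * ((u⁻¹ * r * u) * r) * r := by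
            rw [K.spanV_comm hZT D.r_mem (K.spanV_le hZT hw2)]
          _ = u⁻¹ * (z * r) * u * (r * r) := by group
          _ = u⁻¹ * (z * r) * u := by rw [hr2, mul_one]
  have hdecomp : ∀ x ∈ T, ∃ c ∈ T, (∀ h ∈ H, h * c = c * h) ∧
      (x = c ∨ x = c * r ∨ x = c * r' ∨ x = c * r * r') := by
    intro x hx
    obtain ⟨z, hz, z', hz', rfl⟩ := D.exists_mul (hVT.symm ▸ hx)
    obtain ⟨c, hcZ, hc, hzc⟩ : ∃ c ∈ omegaZ P, (∀ h ∈ H, h * c = c * h) ∧ (z = c ∨ z = c * r) := by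
      rcases hZdec z hz with h | h
      · exact ⟨z, hz, h, Or.inl rfl⟩
      · exact ⟨z * r, mul_mem hz D.rZ, h, Or.inr (by rw [mul_assoc, hr2, mul_one])⟩
    obtain ⟨d, hdZ, hd, hzd⟩ : ∃ d ∈ omegaZ P, (∀ h ∈ H, h * d = d * h) ∧ (z' = d ∨ z' = d * r) := by
      rcases hZdec z' hz' with h | h
      · exact ⟨z', hz', h, Or.inl rfl⟩
      · exact ⟨z' * r, mul_mem hz' D.rZ, h, Or.inr (by rw [mul_assoc, hr2, mul_one])⟩
    have hcd := mul_mem hcZ hdZ
    refine ⟨c * d, K.spanV_le hZT (K.omegaZ_le_spanV hcd), fun h hh => by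
      rw [← mul_assoc, hc h hh, mul_assoc, hd h hh, mul_assoc], ?_⟩
    have hud : u * d * u⁻¹ = d := by rw [hd u K.uH, mul_inv_cancel_right]
    have hdr : r * d = d * r := D.rZ.2.1 d hdZ.1
    rcases hzc with e | e <;> rcases hzd with e' | e' <;> subst e <;> subst e'
    · left; rw [hud]
    · right; right; left
      rw [show u * (d * r) * u⁻¹ = u * d * u⁻¹ * (u * r * u⁻¹) by group, hud, ← hr', mul_assoc]
    · right; left; rw [hud, mul_assoc, hdr, ← mul_assoc]
    · right; right; right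
      rw [show u * (d * r) * u⁻¹ = u * d * u⁻¹ * (u * r * u⁻¹) by group, hud, ← hr']
      calc c * r * (d * r') = c * (r * d) * r' := by group
        _ = c * d * r * r' := by rw [hdr]; group
  refine ⟨r, D, hVT, ht_ex, hmoved, hne, hdecomp, ⟨D.r_not_central, ?_, ?_⟩, ?_, ?_⟩
  · intro h
    exact D.r_not_central (D.central_of_conj D.rZ fun p hp => h p (K.PH hp)).1
  · intro h
    have h' := mul_inv_eq_iff_eq_mul.2 (h t (K.PH ht))
    have e1 : t * r * t⁻¹ = r := by rw [← D.rZ.2.1 t ht, mul_inv_cancel_right]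
    refine D.r1 ((mul_eq_left (a := r * r')).1 ?_)
    calc r * r' * r = r * (r' * r) := by group
      _ = (t * r * t⁻¹) * (t * r' * t⁻¹) := by rw [e1, hmoved t ht htT]
      _ = t * (r * r') * t⁻¹ := by group
      _ = r * r' := h'
  · intro c hc c' hc' hcH hc'H hc1 hc'1
    exact (D.central_unique (D.mem_omegaZ_of_fixed (hVT.symm ▸ hc) fun p hp => hcH p (K.PH hp)) hcH hc1
      (D.mem_omegaZ_of_fixed (hVT.symm ▸ hc') fun p hp => hc'H p (K.PH hp)) hc'H).resolve_left hc'1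
  · intro v hv huv htuv
    have hvV : v ∈ spanV H P := hVT.symm ▸ hv
    have huvc : u * v * u⁻¹ = v := by rw [huv, mul_inv_cancel_right]
    rcases D.tr v hvV t ht with h | h
    · refine (D.central_of_conj (D.mem_omegaZ_of_fixed hvV (D.comm_iff hvV ht htT (mul_inv_eq_iff_eq_mul.1 h)))
        fun p hp => ?_).1
      rw [huvc]
      exact D.comm_iff hvV ht htT (mul_inv_eq_iff_eq_mul.1 h) p hp
    · exfalso
      have htv : t⁻¹ * v * t = v * r := by
        have e1 : t⁻¹ * r * t = r := by rw [mul_assoc, D.rZ.2.1 t ht, inv_mul_cancel_left]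
        calc t⁻¹ * v * t = t⁻¹ * (v * r) * t * (t⁻¹ * r * t) := by
              rw [show t⁻¹ * (v * r) * t * (t⁻¹ * r * t) = t⁻¹ * (v * (r * r)) * t by group, hr2, mul_one]
          _ = v * r := by
              rw [e1]
              conv_lhs => rw [← h]
              group
      have hfix : u * (v * r) * u⁻¹ = v * r := by
        rw [← htv]
        calc u * (t⁻¹ * v * t) * u⁻¹ = t⁻¹ * (t * u * t⁻¹ * v) * (t * u * t⁻¹)⁻¹ * t := by group
          _ = t⁻¹ * v * t := by rw [htuv t ht]; group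
      refine D.r_not_central (D.central_of_conj D.rZ fun p hp => ?_).1
      have e : u * r * u⁻¹ = r := by
        calc u * r * u⁻¹ = (u * v * u⁻¹)⁻¹ * (u * (v * r) * u⁻¹) := by group
          _ = r := by rw [huvc, hfix, inv_mul_cancel_left]
      rw [e]
      exact (D.rZ.2.1 p hp).symm

end Cfsg.Agent.FGB.DPush
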