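import Mathlib

/-!
Groups in which every element commutes with its conjugates, and their use for a fixed-point-free
automorphism of order three.
-/

set_option autoImplicit false
set_option linter.all false

namespace Cfsg.Agent.FGB.EngelTwo

open scoped commutatorElement

universe u v

variable {G : Type u} [Group G]

theorem ring_inv {R : Type v} [Ring R] (ρ : G →* R) (hsq : ∀ g, (ρ g - 1) * (ρ g - 1) = 0) (g : G) :
    ρ g⁻¹ = 2 - ρ g := by
  have h : ρ g * (2 - ρ g) = 1 := by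
    have h1 := hsq g
    calc ρ g * (2 - ρ g) = 1 - (ρ g - 1) * (ρ g - 1) := by noncomm_ring
      _ = 1 := by rw [h1, sub_zero]
  calc ρ g⁻¹ = ρ g⁻¹ * (ρ g * (2 - ρ g)) := by rw [h, mul_one]
    _ = 2 - ρ g := by rw [← mul_assoc, ← map_mul, inv_mul_cancel, map_one, one_mul]

theorem ring_anti {R : Type v} [Ring R] (ρ : G →* R) (hsq : ∀ g, (ρ g - 1) * (ρ g - 1) = 0) (y z : G) :
    (ρ z - 1) * (ρ y - 1) = -((ρ y - 1) * (ρ z - 1)) := by
  have h := ring_inv ρ hsq (y * z)
  rw [mul_inv_rev, map_mul, map_mul, ring_inv ρ hsq, ring_inv ρ hsq] at h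
  rw [eq_neg_iff_add_eq_zero]
  calc (ρ z - 1) * (ρ y - 1) + (ρ y - 1) * (ρ z - 1)
      = (2 - ρ z) * (2 - ρ y) - (2 - ρ y * ρ z) := by rw [← one_add_one_eq_two]; noncomm_ring
    _ = 0 := by rw [h, sub_self]

theorem ring_comm {R : Type v} [Ring R] (ρ : G →* R) (hsq : ∀ g, (ρ g - 1) * (ρ g - 1) = 0) (y z : G) :
    ρ ⁅y, z⁆ - 1 = (ρ y - 1) * (ρ z - 1) + (ρ y - 1) * (ρ z - 1) := by
  have hba := ring_anti ρ hsq y z
  obtain ⟨a, ha⟩ : ∃ a, a = ρ y - 1 := ⟨_, rfl⟩
  obtain ⟨b, hb⟩ : ∃ b, b = ρ z - 1 := ⟨_, rfl⟩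
  have haa : a * a = 0 := ha ▸ hsq y
  have hbb : b * b = 0 := hb ▸ hsq z
  rw [← ha, ← hb] at hba ⊢
  have hy : ρ y = 1 + a := by rw [ha]; abel
  have hz : ρ z = 1 + b := by rw [hb]; abel
  have e1 : ρ y⁻¹ = 1 - a := by rw [ring_inv ρ hsq, hy, ← one_add_one_eq_two]; abel
  have e2 : ρ z⁻¹ = 1 - b := by rw [ring_inv ρ hsq, hz, ← one_add_one_eq_two]; abel
  have haa' : ∀ c, a * (a * c) = 0 := fun c => by rw [← mul_assoc, haa, zero_mul]
  have hbb' : ∀ c, b * (b * c) = 0 := fun c => by rw [← mul_assoc, hbb, zero_mul]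
  have hba' : ∀ c, b * (a * c) = -(a * (b * c)) := fun c => by
    rw [← mul_assoc, hba, neg_mul, mul_assoc]
  rw [commutatorElement_def, map_mul, map_mul, map_mul, hy, hz, e1, e2]
  simp only [mul_add, add_mul, mul_sub, sub_mul, one_mul, mul_one, mul_assoc, haa, hbb, hba, haa',
    hbb', hba', mul_neg, neg_mul, mul_zero, zero_mul, neg_zero, neg_neg]
  abel

/-- In a group without elements of order three in which every element commutes with its conjugates
the commutators are central. -/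
theorem commute_commutator (hc : ∀ x g : G, Commute x (g * x * g⁻¹))
    (h3 : ∀ x : G, x ^ 3 = 1 → x = 1) (x y z : G) : Commute ⁅y, z⁆ x := by
  classical
  have hinv : ∀ y c : G, ⁅y, c⁻¹⁆ = ⁅y, c⁆⁻¹ := fun y c => by
    have h : Commute c (y * c * y⁻¹) := hc c y
    calc ⁅y, c⁻¹⁆ = (y * c * y⁻¹)⁻¹ * c := by rw [commutatorElement_def]; group
      _ = c * (y * c * y⁻¹)⁻¹ := (h.inv_right.eq).symm
      _ = ⁅y, c⁆⁻¹ := by rw [commutatorElement_def]; group
  have key : ∀ x y z : G, ⁅z, ⁅y, x⁆⁆ = ⁅y, ⁅z, x⁆⁆⁻¹ ∧ ⁅⁅y, z⁆, x⁆ = ⁅y, ⁅z, x⁆⁆ ^ 2 := by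
    intro x y z
    have hgen : ∀ a ∈ Group.conjugatesOfSet ({x} : Set G), ∀ b ∈ Group.conjugatesOfSet ({x} : Set G),
        a * b = b * a := by
      intro a ha b hb
      rw [Group.mem_conjugatesOfSet_iff] at ha hb
      obtain ⟨w, hw, hxa⟩ := ha
      obtain ⟨w', hw', hxb⟩ := hb
      rw [Set.mem_singleton_iff] at hw hw'
      rw [hw] at hxa
      rw [hw'] at hxb
      obtain ⟨g, rfl⟩ := isConj_iff.1 hxa
      obtain ⟨g', rfl⟩ := isConj_iff.1 hxb
      have h := (hc x (g⁻¹ * g')).map (MulAut.conj g)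
      simp only [MulAut.conj_apply] at h
      rw [show g * (g⁻¹ * g' * x * (g⁻¹ * g')⁻¹) * g⁻¹ = g' * x * g'⁻¹ by group] at h
      exact h.eq
    set A : Subgroup G := Subgroup.normalClosure {x} with hA
    haveI : IsMulCommutative A := Subgroup.isMulCommutative_closure hgen
    letI : CommGroup A := { (inferInstance : Group A) with mul_comm := fun a b => IsMulCommutative.is_comm.comm a b }
    let ρ : G →* AddMonoid.End (Additive A) :=
      { toFun := fun g => MonoidHom.toAdditive (MulAut.conjNormal (H := A) g).toMonoidHom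
        map_one' := by
          refine AddMonoidHom.ext fun a => Additive.toMul.injective (Subtype.ext ?_)
          show (1 : G) * ((Additive.toMul a : A) : G) * (1 : G)⁻¹ = ((Additive.toMul a : A) : G)
          group
        map_mul' := fun g g' => by
          refine AddMonoidHom.ext fun a => Additive.toMul.injective (Subtype.ext ?_)
          show g * g' * ((Additive.toMul a : A) : G) * (g * g')⁻¹ =
            g * (g' * ((Additive.toMul a : A) : G) * g'⁻¹) * g⁻¹
          group }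
    have hap : ∀ (g : G) (a : A), ((Additive.toMul ((ρ g - 1) (Additive.ofMul a)) : A) : G) = ⁅g, (a : G)⁆ := by
      intro g a
      show g * (a : G) * g⁻¹ / (a : G) = _
      rw [div_eq_mul_inv, commutatorElement_def]
    have hap2 : ∀ (g g' : G) (a : A),
        ((Additive.toMul (((ρ g - 1) * (ρ g' - 1)) (Additive.ofMul a)) : A) : G) = ⁅g, ⁅g', (a : G)⁆⁆ := by
      intro g g' a
      rw [← hap g']
      exact hap g _
    have hsq : ∀ g, (ρ g - 1) * (ρ g - 1) = 0 := fun g => by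
      refine AddMonoidHom.ext fun a => Additive.toMul.injective (Subtype.ext ?_)
      have h := hap2 g g (Additive.toMul a)
      rw [ofMul_toMul] at h
      refine h.trans ?_
      show ⁅g, ⁅g, ((Additive.toMul a : A) : G)⁆⁆ = 1
      rw [commutatorElement_eq_one_iff_commute]
      have h1 : Commute g ((Additive.toMul a : A) * g * ((Additive.toMul a : A) : G)⁻¹) := hc g _
      rw [commutatorElement_def,
        show g * ((Additive.toMul a : A) : G) * g⁻¹ * ((Additive.toMul a : A) : G)⁻¹ =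
          g * (((Additive.toMul a : A) : G) * g * ((Additive.toMul a : A) : G)⁻¹)⁻¹ by group]
      exact (Commute.refl g).mul_right h1.inv_right
    have hx : x ∈ A := Subgroup.subset_normalClosure rfl
    constructor
    · have h := congrArg (fun e : AddMonoid.End (Additive A) =>
        ((Additive.toMul (e (Additive.ofMul ⟨x, hx⟩)) : A) : G)) (ring_anti ρ hsq y z)
      refine ((hap2 z y ⟨x, hx⟩).symm.trans h).trans ?_
      rw [← hap2 y z ⟨x, hx⟩]
      rfl
    · have h := congrArg (fun e : AddMonoid.End (Additive A) =>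
        ((Additive.toMul (e (Additive.ofMul ⟨x, hx⟩)) : A) : G)) (ring_comm ρ hsq y z)
      refine ((hap ⁅y, z⁆ ⟨x, hx⟩).symm.trans h).trans ?_
      rw [← hap2 y z ⟨x, hx⟩, pow_two]
      rfl
  obtain ⟨-, h2⟩ := key x y z
  have h4 : ⁅x, ⁅y, z⁆⁆ = ⁅y, ⁅z, x⁆⁆ := by
    rw [(key z y x).1, ← commutatorElement_inv z x, hinv, inv_inv]
  have h5 : ⁅y, ⁅z, x⁆⁆ = 1 := by
    refine h3 _ ?_
    rw [pow_succ, ← h2]
    rw [← h4]
    rw [← commutatorElement_inv x ⁅y, z⁆, inv_mul_cancel]
  rw [← commutatorElement_eq_one_iff_commute, h2, h5, one_pow]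

end Cfsg.Agent.FGB.EngelTwo
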