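import Cfsg.Agent.Lib.FGB.ExtraspecialFusion
import Cfsg.Agent.Lib.FGB.KulakoffEnum

/-!
# Bounds on the prime for fusion on an extraspecial Sylow subgroup of order `p ^ 3`
-/

set_option autoImplicit false
set_option linter.all false

namespace Cfsg.Agent.FGB.ExtraFusion

open Subgroup
open scoped commutatorElement

universe u

variable {G : Type u} [Group G] [Finite G] {p : ℕ} [hp : Fact p.Prime]

theorem exists_primitive : ∃ l : ZMod p, l ≠ 0 ∧ ∀ j : ℕ, l ^ (3 * j) = 1 → (p - 1) / Nat.gcd (p - 1) 3 ∣ j := by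
  obtain ⟨g, hg⟩ := IsCyclic.exists_generator (α := (ZMod p)ˣ)
  refine ⟨(g : ZMod p), g.ne_zero, fun j hj => ?_⟩
  have h1 : g ^ (3 * j) = 1 := Units.ext (by rw [Units.val_pow_eq_pow_val, hj, Units.val_one])
  have h2 := orderOf_dvd_of_pow_eq_one h1
  rw [orderOf_eq_card_of_forall_mem_zpowers hg, Nat.card_units, Nat.card_zmod] at h2
  have hp1 : 0 < p - 1 := Nat.sub_pos_of_lt hp.out.one_lt
  have h3 : (p - 1) / Nat.gcd (p - 1) 3 ∣ 3 / Nat.gcd (p - 1) 3 * j := by
    obtain ⟨c, hc⟩ := Nat.gcd_dvd_right (p - 1) 3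
    have hd : 0 < Nat.gcd (p - 1) 3 := Nat.gcd_pos_of_pos_right _ (by norm_num)
    have e1 : 3 / Nat.gcd (p - 1) 3 * j = 3 * j / Nat.gcd (p - 1) 3 :=
      (Nat.div_mul_right_comm (Nat.gcd_dvd_right _ _) j)
    rw [e1]
    exact Nat.div_dvd_div (Nat.gcd_dvd_left _ _) h2
  exact (Nat.coprime_div_gcd_div_gcd (Nat.gcd_pos_of_pos_right _ (by norm_num))).dvd_of_dvd_mul_left h3

theorem bound_three (hp2 : p ≠ 2) (S : Sylow p G) (hE : Cfsg.IsExtraspecial p ↥(S : Subgroup G))
    (hcard : Nat.card (S : Subgroup G) = p ^ 3) (hexp : Monoid.exponent ↥(S : Subgroup G) = p)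
    (A : Fin 3 → Subgroup G) (hA : Function.Injective A) (hAP : ∀ i, A i ≤ (S : Subgroup G))
    (hAcard : ∀ i, Nat.card ↥(A i) = p ^ 2)
    (hSL : ∀ i, ∀ φ : MulAut ↥(A i), orderOf φ = p → ∃ g : G, ∀ a : ↥(A i), (φ a : G) = g * (a : G) * g⁻¹) :
    p ≤ 13 := by
  classical
  obtain ⟨z, hzP, hz1, hxp, hzc, hcen, hcomm⟩ := exponent_data S hE hexp
  have hzp : z ^ p = 1 := hxp z hzP
  have hzA : ∀ i, z ∈ A i := by
    intro i
    have hidx : ((A i).subgroupOf (S : Subgroup G)).index = p := by
      have h := ((A i).subgroupOf (S : Subgroup G)).card_mul_index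
      rw [Nat.card_congr (subgroupOfEquivOfLe (hAP i)).toEquiv, hAcard, hcard, pow_succ (n := 2)] at h
      exact Nat.eq_of_mul_eq_mul_left (pow_pos hp.out.pos _) h
    have h : (⟨z, hzP⟩ : (S : Subgroup G)) ∈ frattini (S : Subgroup G) := by
      rw [hE.1.2.1]
      exact mem_center_iff.mpr fun y => Subtype.ext (hzc y y.2).eq.symm
    exact mem_subgroupOf.mp (FGB.frattini_le_of_index_prime S.2 hidx h)
  have hex : ∀ i, ∃ a ∈ A i, a ∉ zpowers z := by
    intro i
    by_contra hall
    push Not at hall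
    have h := card_le_of_le (show A i ≤ zpowers z from hall)
    rw [hAcard, Nat.card_zpowers, orderOf_eq_prime hzp hz1] at h
    have h2 := Nat.pow_lt_pow_right hp.out.one_lt (show 1 < 2 by norm_num)
    rw [pow_one] at h2
    omega
  choose a haA haz using hex
  have haP : ∀ i, a i ∈ (S : Subgroup G) := fun i => hAP i (haA i)
  have hmem : ∀ i v, e (p := p) z (a i) v ∈ A i := fun i v =>
    (A i).mul_mem ((A i).pow_mem (hzA i) _) ((A i).pow_mem (haA i) _)
  have hc : ∀ i, Commute z (a i) := fun i => hzc _ (haP i)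
  have hbij : ∀ i, Function.Bijective (fun v => (⟨e (p := p) z (a i) v, hmem i v⟩ : A i)) := by
    intro i
    rw [Nat.bijective_iff_injective_and_card]
    refine ⟨fun v w h => e_injective hz1 hzp (hxp _ (haP i)) (haz i) (hc i) (congrArg Subtype.val h), ?_⟩
    rw [hAcard, Nat.card_prod, Nat.card_zmod, pow_two]
  have hF : ∀ i, ∀ u : ZMod p, ∃ g, Act z (a i) g (lower u) := by
    intro i u
    by_cases hu : u = 0
    · exact ⟨1, (act_one z (a i)).congr fun v => by simp [lower, hu]⟩
    let E := Equiv.ofBijective _ (hbij i)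
    have hadd : ∀ v w, E (v + w) = E v * E w := fun v w => Subtype.ext (e_add hzp (hxp _ (haP i)) (hc i) v w)
    have hsymm : ∀ x y, E.symm (x * y) = E.symm x + E.symm y := fun x y => E.injective (by
      rw [hadd, E.apply_symm_apply, E.apply_symm_apply, E.apply_symm_apply])
    let φ : MulAut (A i) :=
      { toFun := fun x => E (lower u (E.symm x))
        invFun := fun x => E (lower (-u) (E.symm x))
        left_inv := fun x => by
          show E (lower (-u) (E.symm (E (lower u (E.symm x))))) = x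
          rw [E.symm_apply_apply]
          conv_rhs => rw [← E.apply_symm_apply x]
          congr 1; simp [lower]
        right_inv := fun x => by
          show E (lower u (E.symm (E (lower (-u) (E.symm x))))) = x
          rw [E.symm_apply_apply]
          conv_rhs => rw [← E.apply_symm_apply x]
          congr 1; simp [lower]
        map_mul' := fun x y => by
          rw [← hadd, hsymm]
          congr 1; simp only [lower]; ext <;> simp <;> ring }
    have hφpow : ∀ k : ℕ, ∀ v, (φ ^ k) (E v) = E (lower ((k : ZMod p) * u) v) := by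
      intro k
      induction k with
      | zero => intro v; simp [lower]
      | succ k ih =>
        intro v
        rw [pow_succ', MulAut.mul_apply, ih]
        show E (lower u (E.symm (E _))) = _
        rw [E.symm_apply_apply]
        congr 1; simp only [lower]; push_cast; ext <;> ring
    have hord : orderOf φ = p := by
      refine orderOf_eq_prime (MulEquiv.ext fun x => ?_) fun h => ?_
      · rw [← E.apply_symm_apply x, hφpow, ZMod.natCast_self, zero_mul]
        simp [lower]
      · have h1 := hφpow 1 (1, 0)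
        rw [pow_one, h, MulAut.one_apply] at h1
        have h2 := congrArg Prod.snd (E.injective h1)
        simp [lower] at h2
        exact hu h2.symm
    obtain ⟨g, hg⟩ := hSL i φ hord
    refine ⟨g, fun v => ?_⟩
    have h1 := hg (E v)
    rw [show φ (E v) = E (lower u v) by
      show E (lower u (E.symm (E v))) = _
      rw [E.symm_apply_apply]] at h1
    exact h1.symm
  have hindep : ∀ i j (k l : ℕ), a i = z ^ k * a j ^ l → i = j := by
    intro i j k l h
    apply hA
    refine eq_of_le_of_card_ge (fun x hx => ?_) (by rw [hAcard, hAcard])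
    obtain ⟨v, hv⟩ := (hbij i).2 ⟨x, hx⟩
    have hxv : e z (a i) v = x := congrArg Subtype.val hv
    rw [← hxv, e, h]
    exact (A j).mul_mem ((A j).pow_mem (hzA j) _)
      ((A j).pow_mem ((A j).mul_mem ((A j).pow_mem (hzA j) k) ((A j).pow_mem (haA j) l)) _)
  by_contra hlt
  push Not at hlt
  have hg : Nat.gcd (p - 1) 3 ≤ 3 := Nat.le_of_dvd (by norm_num) (Nat.gcd_dvd_right _ _)
  have hgpos : 0 < Nat.gcd (p - 1) 3 := Nat.gcd_pos_of_pos_right _ (by norm_num)
  have hodd := hp.out.eq_two_or_odd.resolve_left hp2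
  have hm6 : 6 ≤ (p - 1) / Nat.gcd (p - 1) 3 := by
    rw [Nat.le_div_iff_mul_le hgpos]
    have h15 : p ≠ 15 := fun h => by
      have := hp.out; rw [h] at this; exact absurd this (by norm_num)
    have : 17 ≤ p := by omega
    rcases Nat.lt_or_ge p 19 with h19 | h19
    · obtain rfl : p = 17 := by omega
      norm_num
    · omega
  have h := (few_lines S hz1 hxp hzP hzc hcen hcomm hcard a haP hindep haz hF
    (by omega : 4 ≤ (p - 1) / Nat.gcd (p - 1) 3) exists_primitive).2 hm6
  rw [Fintype.card_fin] at h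
  omega

theorem bound_all (hp2 : p ≠ 2) (S : Sylow p G) (hE : Cfsg.IsExtraspecial p ↥(S : Subgroup G))
    (hcard : Nat.card (S : Subgroup G) = p ^ 3) (hexp : Monoid.exponent ↥(S : Subgroup G) = p)
    (hconj : ∀ x y : ↥(S : Subgroup G), x ≠ 1 → y ≠ 1 → ∃ g : G, g * (x : G) * g⁻¹ = (y : G)) :
    p ≤ 7 := by
  classical
  obtain ⟨z, hzP, hz1, hxp, hzc, hcen, hcomm⟩ := exponent_data S hE hexp
  have hzp : z ^ p = 1 := hxp z hzP
  set P := (S : Subgroup G) with hP
  have hup := fun {x : G} (hx : x ∈ P) => sylow_upper (p := p) hz1 hxp hzP hzc hcen hcomm hx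
  have hFall : ∀ a ∈ P, a ∉ zpowers z → ∀ u : ZMod p, ∃ g, Act z a g (lower u) := by
    intro a ha haz u
    have ha1 : a ≠ 1 := fun h => haz (h ▸ one_mem _)
    obtain ⟨h, hh⟩ := hconj ⟨z, hzP⟩ ⟨a, ha⟩ (fun h => hz1 (congrArg Subtype.val h))
      (fun h => ha1 (congrArg Subtype.val h))
    change h * z * h⁻¹ = a at hh
    set C := centralizer ({a} : Set G)
    have hQC : ((h • S : Sylow p G) : Subgroup G) ≤ C := by
      rintro _ ⟨x, hx, rfl⟩
      refine mem_centralizer_singleton_iff.mpr ?_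
      show h * x * h⁻¹ * a = a * (h * x * h⁻¹)
      rw [← hh]
      calc h * x * h⁻¹ * (h * z * h⁻¹) = h * (x * z) * h⁻¹ := by group
        _ = h * (z * x) * h⁻¹ := by rw [(hzc x hx).eq]
        _ = _ := by group
    have hzC : z ∈ C := mem_centralizer_singleton_iff.mpr (hzc a ha).eq
    have hzpg : IsPGroup p (zpowers (⟨z, hzC⟩ : C)) := by
      refine IsPGroup.of_card (n := 1) ?_
      rw [Nat.card_zpowers, orderOf_mk, orderOf_eq_prime hzp hz1, pow_one]
    obtain ⟨T, hT⟩ := hzpg.exists_le_sylow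
    obtain ⟨c, hc⟩ := MulAction.exists_smul_eq C ((h • S).subtype hQC) T
    rw [Sylow.smul_subtype] at hc
    have hmem : z ∈ (((c : C) : G) • (h • S) : Sylow p G).1 := by
      have h1 : (⟨z, hzC⟩ : C) ∈ (T : Subgroup C) := hT (mem_zpowers _)
      rw [← hc, Sylow.coe_subtype] at h1
      exact mem_subgroupOf.mp h1
    obtain ⟨w, hwP, hwz⟩ := hmem
    obtain ⟨w', hw'P, hw'w⟩ := hwP
    set k := (c : G) * h with hk
    have hkw : k * w' * k⁻¹ = z := by
      rw [← hwz, ← hw'w, hk]
      show _ = (c : G) * (h * w' * h⁻¹) * (c : G)⁻¹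
      group
    have hka : k * z * k⁻¹ = a := by
      rw [hk, show (c : G) * h * z * ((c : G) * h)⁻¹ = (c : G) * (h * z * h⁻¹) * (c : G)⁻¹ by group, hh,
        mem_centralizer_singleton_iff.mp c.2, mul_inv_cancel_right]
    have hw'z : w' ∉ zpowers z := by
      intro hw
      obtain ⟨i, hi⟩ := mem_zpowers_iff.mp hw
      apply haz
      have h1 : z = a ^ i := by
        calc z = k * w' * k⁻¹ := hkw.symm
          _ = k * z ^ i * k⁻¹ := by rw [hi]
          _ = (k * z * k⁻¹) ^ i := conj_zpow.symm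
          _ = a ^ i := by rw [hka]
      obtain ⟨s, hs⟩ := exists_pow_of_mem_zpowers (hxp a ha) (show z ∈ zpowers a from ⟨i, h1.symm⟩)
      have hsv : s ≠ 0 := fun h => hz1 (by rw [hs, h, ZMod.val_zero, pow_zero])
      have h3 : a = z ^ (s⁻¹).val := by
        rw [hs, ← pow_mul]
        conv_rhs => rw [← Nat.mod_add_div (s.val * (s⁻¹).val) p, pow_add, pow_mul (n := _ / p), hxp a ha,
          one_pow, mul_one, ← ZMod.val_mul, mul_inv_cancel₀ hsv, ZMod.val_one, pow_one]
      rw [h3]
      exact pow_mem (mem_zpowers z) _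
    obtain ⟨x, hx, s, hs, hxact⟩ := (hup hw'P).2 hw'z
    have hlow : Act z a (k * x * k⁻¹) (lower s) := by
      intro v
      have h1 := hxact (v.2, v.1)
      have he : ∀ q : ZMod p × ZMod p, k * e z w' q * k⁻¹ = e z a (q.2, q.1) := by
        intro q
        show k * (z ^ q.1.val * w' ^ q.2.val) * k⁻¹ = z ^ q.2.val * a ^ q.1.val
        rw [show k * (z ^ q.1.val * w' ^ q.2.val) * k⁻¹ = (k * z ^ q.1.val * k⁻¹) * (k * w' ^ q.2.val * k⁻¹) by group,
          ← conj_pow, ← conj_pow, hka, hkw, ((hzc a ha).symm.pow_pow _ _).eq]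
      calc k * x * k⁻¹ * e z a v * (k * x * k⁻¹)⁻¹
          = k * (x * e z w' (v.2, v.1) * x⁻¹) * k⁻¹ := by
            rw [← show k * e z w' (v.2, v.1) * k⁻¹ = e z a v from he _]; group
        _ = _ := by rw [h1, he]; rfl
    refine ⟨(k * x * k⁻¹) ^ (u * s⁻¹).val, (hlow.pow_lower _).congr fun v => ?_⟩
    rw [ZMod.natCast_zmod_val, inv_mul_cancel_right₀ hs]
  -- coordinates on the central quotient
  obtain ⟨b₁, hb₁, hb₁z⟩ : ∃ b ∈ P, b ∉ zpowers z := by
    by_contra hall
    push Not at hall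
    have h := card_le_of_le (show P ≤ zpowers z from hall)
    rw [hcard, Nat.card_zpowers, orderOf_eq_prime hzp hz1] at h
    have h2 := Nat.pow_lt_pow_right hp.out.one_lt (show 1 < 3 by norm_num)
    rw [pow_one] at h2
    omega
  obtain ⟨b₀, hb₀, s, hs, hs1⟩ := (hup hb₁).2 hb₁z
  have hb₀z : b₀ ∉ zpowers z := by
    intro hb
    obtain ⟨i, hi⟩ := mem_zpowers_iff.mp hb
    have h1 := hs1 (0, 1)
    rw [e_zero_one, ← hi, ((hzc b₁ hb₁).zpow_left i).eq, mul_inv_cancel_right] at h1
    have h2 := congrArg Prod.fst (e_injective hz1 hzp (hxp _ hb₁) hb₁z (hzc _ hb₁) ((e_zero_one z b₁).trans h1))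
    simp [upper] at h2
    exact hs h2.symm
  obtain ⟨x₁, hx₁P, s', hs', hs'1⟩ := (hup hb₀).2 hb₀z
  obtain ⟨r, hr⟩ := (hup hb₀).1 b₁ hb₁
  have huniq : ∀ {b g : G} {u u' : ZMod p}, b ∈ P → b ∉ zpowers z → Act z b g (upper u) →
      Act z b g (upper u') → u = u' := fun {b g u u'} hb hbz h h' => by
    have h1 := congrArg Prod.fst (e_injective hz1 hzp (hxp _ hb) hbz (hzc _ hb)
      ((h (0, 1)).symm.trans (h' (0, 1))))
    simpa [upper] using h1
  have hr0 : r ≠ 0 := by
    intro h0
    have h1 := hr (0, 1)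
    rw [e_zero_one, h0] at h1
    simp only [upper, zero_mul, add_zero] at h1
    rw [e_zero_one] at h1
    have hcomm' : Commute b₁ b₀ := mul_inv_eq_iff_eq_mul.mp h1
    have h2 := hs1 (0, 1)
    rw [e_zero_one, hcomm'.symm.eq, mul_inv_cancel_right] at h2
    have h3 := congrArg Prod.fst (e_injective hz1 hzp (hxp _ hb₁) hb₁z (hzc _ hb₁) ((e_zero_one z b₁).trans h2))
    simp [upper] at h3
    exact hs h3.symm
  have hself : ∀ b ∈ P, Act (p := p) z b b (upper 0) := fun b hb => by
    refine act_of_gen hzp (hxp b hb) (hzc b hb) (fun v w => by ext <;> simp [upper]) ?_ ?_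
    · simp only [upper, mul_zero, add_zero]; rw [e_one_zero, (hzc b hb).symm.eq, mul_inv_cancel_right]
    · simp only [upper, mul_one, zero_add]; rw [e_zero_one, mul_inv_cancel_right]
  have hz0 : ∀ b ∈ P, ∀ k : ℕ, Act (p := p) z b (z ^ k) (upper 0) := fun b hb k => by
    intro v
    have hc : Commute (z ^ k) (e z b v) := (hzc _ (P.mul_mem (P.pow_mem hzP _) (P.pow_mem hb _))).pow_left k
    rw [hc.eq, mul_inv_cancel_right]
    simp [upper]
  -- the family
  let a : Option (ZMod p) → G := fun o => o.elim b₀ fun t => b₀ ^ t.val * b₁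
  let α : Option (ZMod p) → ZMod p := fun o => o.elim s fun t => t * s
  let β : Option (ZMod p) → ZMod p := fun o => o.elim 0 fun _ => r
  have haP : ∀ o : Option (ZMod p), a o ∈ P := by
    rintro (_ | t)
    · exact hb₀
    · exact P.mul_mem (P.pow_mem hb₀ _) hb₁
  have hα : ∀ o : Option (ZMod p), Act z b₁ (a o) (upper (α o)) := by
    rintro (_ | t)
    · exact hs1
    · refine ((hs1.pow_upper t.val).comp (hself b₁ hb₁)).congr ?_
      intro v
      simp [upper, α, ZMod.natCast_zmod_val]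
  have hβ : ∀ o : Option (ZMod p), Act z b₀ (a o) (upper (β o)) := by
    rintro (_ | t)
    · exact hself b₀ hb₀
    · refine (((hself b₀ hb₀).pow_upper t.val).comp hr).congr ?_
      intro v
      simp [upper, β]
  have haz : ∀ o, a o ∉ zpowers z := by
    intro o hmem
    obtain ⟨i, hi⟩ := exists_pow_of_mem_zpowers hzp hmem
    have h1 := huniq hb₁ hb₁z (hα o) (hi ▸ hz0 b₁ hb₁ _)
    have h2 := huniq hb₀ hb₀z (hβ o) (hi ▸ hz0 b₀ hb₀ _)
    cases o with
    | none => exact hs h1
    | some t => exact hr0 h2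
  have hindep : ∀ i j (k l : ℕ), a i = z ^ k * a j ^ l → i = j := by
    intro i j k l h
    have h1 := huniq hb₁ hb₁z (hα i) (h ▸ ((hz0 b₁ hb₁ k).comp ((hα j).pow_upper l)).congr
      (f' := upper ((l : ZMod p) * α j)) fun v => by simp [upper])
    have h2 := huniq hb₀ hb₀z (hβ i) (h ▸ ((hz0 b₀ hb₀ k).comp ((hβ j).pow_upper l)).congr
      (f' := upper ((l : ZMod p) * β j)) fun v => by simp [upper])
    cases i <;> cases j <;> simp [α, β] at h1 h2
    · rfl
    · rcases h2 with h2 | h2
      · rw [h2, zero_mul] at h1; exact absurd h1 hs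
      · exact absurd h2 hr0
    · exact absurd h2 hr0
    · rename_i t t'
      have hl : (l : ZMod p) = 1 := mul_right_cancel₀ hr0 (by rw [one_mul]; exact h2.symm)
      rw [hl, one_mul] at h1
      congr 1
      exact mul_right_cancel₀ hs (by linear_combination h1)
  by_contra hlt
  push Not at hlt
  have hg : Nat.gcd (p - 1) 3 ≤ 3 := Nat.le_of_dvd (by norm_num) (Nat.gcd_dvd_right _ _)
  have hgpos : 0 < Nat.gcd (p - 1) 3 := Nat.gcd_pos_of_pos_right _ (by norm_num)
  have hodd := hp.out.eq_two_or_odd.resolve_left hp2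
  have h9 : p ≠ 9 := fun h => by have := hp.out; rw [h] at this; exact absurd this (by norm_num)
  have hcases : p = 11 ∨ 13 ≤ p := by omega
  have hm4 : 4 ≤ (p - 1) / Nat.gcd (p - 1) 3 := by
    rw [Nat.le_div_iff_mul_le hgpos]
    rcases hcases with rfl | h
    · norm_num
    · omega
  obtain ⟨h12, h2⟩ := few_lines S hz1 hxp hzP hzc hcen hcomm hcard a haP hindep haz
    (fun o => hFall _ (haP o) (haz o)) hm4 exists_primitive
  rw [Fintype.card_option, ZMod.card] at h12 h2
  rcases hcases with rfl | h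
  · have := h2 (by norm_num)
    omega
  · omega

end Cfsg.Agent.FGB.ExtraFusion
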