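import Cfsg.Agent.Lib.FGB.LineStabilizers

/-!
# Points of the projective line with large stabilizer in a finite linear group
-/

set_option autoImplicit false
set_option linter.all false

namespace Cfsg.Agent.FGB.LineStab

open MulAction
open scoped LinearAlgebra.Projectivization

variable {K : Type*} [Field K]

abbrev V2 (K : Type*) [Field K] := Fin 2 → K

theorem two_fixed_lines [IsAlgClosed K] (f : V2 K ≃ₗ[K] V2 K) {k : ℕ} (hk : (k : K) ≠ 0)
    (hfk : f ^ k = 1) (hns : ¬ ∃ c : K, ∀ v, f v = c • v) :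
    Nat.card (fixedBy (ℙ K (V2 K)) f) = 2 := by
  obtain ⟨a, ha⟩ := Module.End.exists_eigenvalue (f.toLinearMap : Module.End K (V2 K))
  obtain ⟨v, hv⟩ := ha.exists_hasEigenvector
  have hfv : f v = a • v := hv.apply_eq_smul
  have hv0 : v ≠ 0 := hv.2
  have hlt : Module.finrank K (Submodule.span K {v}) < Module.finrank K (V2 K) := by
    rw [finrank_span_singleton hv0]; simp
  obtain ⟨w, hw⟩ : ∃ w, w ∉ Submodule.span K {v} := by
    by_contra hall
    push Not at hall
    rw [(Submodule.eq_top_iff'.mpr hall), finrank_top] at hlt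
    exact lt_irrefl _ hlt
  have hli : LinearIndependent K ![v, w] := by
    rw [LinearIndependent.pair_iff' hv0]
    intro c hc
    exact hw (Submodule.mem_span_singleton.mpr ⟨c, hc⟩)
  have hspan : ∀ x : V2 K, ∃ s t : K, x = s • v + t • w := by
    intro x
    have h := hli.span_eq_top_of_card_eq_finrank (by simp)
    have hx : x ∈ Submodule.span K (Set.range ![v, w]) := h ▸ Submodule.mem_top
    rw [Matrix.range_cons, Matrix.range_cons, Matrix.range_empty, Set.union_empty,
      Set.singleton_union, Submodule.mem_span_pair] at hx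
    obtain ⟨s, t, h⟩ := hx
    exact ⟨s, t, h.symm⟩
  obtain ⟨c, b, hfw⟩ := hspan (f w)
  -- a second eigenvector
  have hab : a ≠ b := by
    intro hab
    subst hab
    have hpv : ∀ m : ℕ, (f ^ m) v = a ^ m • v := by
      intro m
      induction m with
      | zero => simp
      | succ m ih => rw [pow_succ, LinearEquiv.mul_apply, hfv, map_smul, ih, smul_smul, pow_succ, mul_comm]
    have hpw : ∀ m : ℕ, (f ^ (m + 1)) w = (((m + 1 : ℕ) : K) * a ^ m * c) • v + a ^ (m + 1) • w := by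
      intro m
      induction m with
      | zero => simp [hfw]
      | succ m ih =>
        rw [pow_succ (n := m + 1), LinearEquiv.mul_apply, hfw, map_add, map_smul, map_smul, hpv, ih,
          smul_add, smul_smul, smul_smul, smul_smul, ← add_assoc, ← add_smul]
        congr 1
        · congr 1; push_cast; ring
        · congr 1; ring
    have hk0 : k ≠ 0 := fun h => hk (by simp [h])
    obtain ⟨m, rfl⟩ : ∃ m, k = m + 1 := ⟨k - 1, by omega⟩
    have h1 := hpw m
    rw [hfk, LinearEquiv.coe_one, id_eq] at h1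
    have h2 := hpv (m + 1)
    rw [hfk, LinearEquiv.coe_one, id_eq] at h2
    have hak : a ^ (m + 1) = 1 := smul_left_injective K hv0 (h2.symm.trans (one_smul K v).symm)
    rw [hak, one_smul, right_eq_add, smul_eq_zero, or_iff_left hv0] at h1
    have ha0 : a ≠ 0 := fun h => by simp [h] at hak
    have hk' : (m : K) + 1 ≠ 0 := by exact_mod_cast hk
    have hc : c = 0 := by simpa [ha0, hk'] using h1
    refine hns ⟨a, fun x => ?_⟩
    obtain ⟨s, t, rfl⟩ := hspan x
    rw [map_add, map_smul, map_smul, hfv, hfw, hc, zero_smul, zero_add, smul_add, smul_comm a s,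
      smul_comm a t]
  set w' := (c * (b - a)⁻¹) • v + w with hw'
  have hw'0 : w' ≠ 0 := by
    intro h
    have := (LinearIndependent.pair_iff.mp hli) (c * (b - a)⁻¹) 1 (by rw [one_smul]; exact h)
    exact one_ne_zero this.2
  have hfw' : f w' = b • w' := by
    have hne : b - a ≠ 0 := sub_ne_zero.mpr (Ne.symm hab)
    rw [hw', map_add, map_smul, hfv, hfw, smul_add, smul_smul, smul_smul, ← add_assoc, ← add_smul]
    congr 2
    field_simp
    ring
  have hne : Projectivization.mk K v hv0 ≠ Projectivization.mk K w' hw'0 := by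
    intro h
    obtain ⟨e, he⟩ := (Projectivization.mk_eq_mk_iff' K _ _ _ _).mp h
    rw [hw', smul_add, smul_smul] at he
    have := (LinearIndependent.pair_iff.mp hli) (e * (c * (b - a)⁻¹) - 1) e (by
      rw [sub_smul, one_smul, sub_add_eq_add_sub, he, sub_self])
    rw [this.2, zero_mul, zero_sub] at this
    exact neg_ne_zero.mpr one_ne_zero this.1
  rw [Nat.card_coe_set_eq, Set.ncard_eq_two]
  refine ⟨_, _, hne, ?_⟩
  ext x
  simp only [mem_fixedBy, Set.mem_insert_iff, Set.mem_singleton_iff]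
  constructor
  · intro hx
    induction x using Projectivization.ind with
    | h u hu =>
      rw [Projectivization.smul_mk, Projectivization.mk_eq_mk_iff'] at hx
      obtain ⟨e, he⟩ := hx
      obtain ⟨s, t', hst⟩ := hspan u
      obtain ⟨s, t, rfl⟩ : ∃ s t : K, u = s • v + t • w' := ⟨s - t' * (c * (b - a)⁻¹), t', by
        rw [hst, hw', smul_add, smul_smul, sub_smul]; abel⟩
      have h0 : ((e - a) * s) • v + ((e - b) * t) • w' = 0 := by
        have h1 : f (s • v + t • w') = e • (s • v + t • w') := he.symm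
        rw [map_add, map_smul, map_smul, hfv, hfw'] at h1
        calc ((e - a) * s) • v + ((e - b) * t) • w'
            = e • (s • v + t • w') - (s • (a • v) + t • (b • w')) := by
              simp only [sub_mul, sub_smul, smul_add, smul_smul, mul_comm a s, mul_comm b t]; abel
          _ = 0 := by rw [h1, sub_self]
      have hli' : LinearIndependent K ![v, w'] := by
        rw [LinearIndependent.pair_iff' hv0]
        exact fun e he => hne ((Projectivization.mk_eq_mk_iff' K _ _ _ _).mpr ⟨e, he⟩).symm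
      obtain ⟨hs, ht⟩ := LinearIndependent.pair_iff.mp hli' _ _ h0
      rcases mul_eq_zero.mp hs with hea | hs0
      · left
        rcases mul_eq_zero.mp ht with heb | ht0
        · exact absurd ((sub_eq_zero.mp hea).symm.trans (sub_eq_zero.mp heb)) hab
        · exact (Projectivization.mk_eq_mk_iff' K _ _ _ _).mpr ⟨s, by rw [ht0, zero_smul, add_zero]⟩
      · right
        exact (Projectivization.mk_eq_mk_iff' K _ _ _ _).mpr ⟨t, by rw [hs0, zero_smul, zero_add]⟩
  · rintro (rfl | rfl)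
    · rw [Projectivization.smul_mk, Projectivization.mk_eq_mk_iff']
      exact ⟨a, hfv.symm⟩
    · rw [Projectivization.smul_mk, Projectivization.mk_eq_mk_iff']
      exact ⟨b, hfw'.symm⟩

/-- Few points have a stabilizer which is large modulo scalars. -/
theorem card_points_le [IsAlgClosed K] (N : Subgroup (V2 K ≃ₗ[K] V2 K)) [Finite N]
    (hN : (Nat.card N : K) ≠ 0) (S : Finset (ℙ K (V2 K))) {m : ℕ} (hm : 4 ≤ m)
    (hS : ∀ x ∈ S, ∃ n ∈ N, n • x = x ∧
      ∀ j : ℕ, (∃ c : K, ∀ v, (n ^ j) v = c • v) → m ∣ j) :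
    S.card ≤ 12 ∧ (6 ≤ m → S.card ≤ 2) := by
  classical
  have hscal : ∀ n : V2 K ≃ₗ[K] V2 K, (∃ c : K, ∀ v, n v = c • v) → ∀ x : ℙ K (V2 K), n • x = x := by
    rintro n ⟨c, hc⟩ x
    induction x using Projectivization.ind with
    | h u hu =>
      rw [Projectivization.smul_mk, Projectivization.mk_eq_mk_iff']
      exact ⟨c, (hc u).symm⟩
  have hfix : ∀ n ∈ N, (¬ ∃ c : K, ∀ v, n v = c • v) → Nat.card (fixedBy (ℙ K (V2 K)) n) = 2 := by
    intro n hn hns
    refine two_fixed_lines n hN ?_ hns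
    have := pow_card_eq_one' (x := (⟨n, hn⟩ : N))
    exact congrArg Subtype.val this
  -- the special points
  let P : Set (ℙ K (V2 K)) := ⋃ n ∈ {n : V2 K ≃ₗ[K] V2 K | n ∈ N ∧ ¬ ∃ c : K, ∀ v, n v = c • v}, fixedBy (ℙ K (V2 K)) n
  have hPfin : P.Finite := by
    refine Set.Finite.biUnion (Set.Finite.subset (Set.toFinite (N : Set (V2 K ≃ₗ[K] V2 K))) fun n hn => hn.1) ?_
    intro n hn
    exact Set.finite_of_ncard_ne_zero (by rw [← Nat.card_coe_set_eq, hfix n hn.1 hn.2]; norm_num)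
  let SP : SubMulAction N (ℙ K (V2 K)) :=
    { carrier := P
      smul_mem' := fun g x hx => by
        simp only [P, Set.mem_iUnion] at hx ⊢
        obtain ⟨n, ⟨hn, hns⟩, hx⟩ := hx
        refine ⟨(g : V2 K ≃ₗ[K] V2 K) * n * (g : V2 K ≃ₗ[K] V2 K)⁻¹, ⟨N.mul_mem (N.mul_mem g.2 hn) (N.inv_mem g.2), ?_⟩, ?_⟩
        · rintro ⟨c, hc⟩
          refine hns ⟨c, fun v => (g : V2 K ≃ₗ[K] V2 K).injective ?_⟩
          have h := hc ((g : V2 K ≃ₗ[K] V2 K) v)
          rw [LinearEquiv.mul_apply, LinearEquiv.mul_apply] at h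
          have e : (g : V2 K ≃ₗ[K] V2 K)⁻¹ ((g : V2 K ≃ₗ[K] V2 K) v) = v := by
            rw [← LinearEquiv.mul_apply, inv_mul_cancel]; rfl
          rw [e] at h
          rw [h, map_smul]
        · show ((g : V2 K ≃ₗ[K] V2 K) * n * (g : V2 K ≃ₗ[K] V2 K)⁻¹) • ((g : V2 K ≃ₗ[K] V2 K) • x) = (g : V2 K ≃ₗ[K] V2 K) • x
          rw [mul_smul, mul_smul, inv_smul_smul, show n • x = x from hx] }
  haveI : Finite SP := hPfin.to_subtype
  haveI : Finite (MulAction.toPermHom N SP).range := inferInstance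
  set Q := (MulAction.toPermHom N SP).range with hQ
  have hQfix : ∀ q : Q, q ≠ 1 → Nat.card (fixedBy SP q) = 2 := by
    rintro ⟨_, n, rfl⟩ hq
    have hns : ¬ ∃ c : K, ∀ v, (n : V2 K ≃ₗ[K] V2 K) v = c • v := fun h => hq (Subtype.ext (Equiv.ext fun x =>
      Subtype.ext (hscal _ h x.1)))
    refine Eq.trans (Nat.card_congr ?_) (hfix n n.2 hns)
    exact
      { toFun := fun x => ⟨x.1.1, congrArg Subtype.val x.2⟩
        invFun := fun x => ⟨⟨x.1, Set.mem_biUnion (show (n : V2 K ≃ₗ[K] V2 K) ∈ {m | m ∈ N ∧ _} from ⟨n.2, hns⟩) x.2⟩, Subtype.ext x.2⟩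
        left_inv := fun _ => rfl
        right_inv := fun _ => rfl }
  have hmem : ∀ x ∈ S, x ∈ P := by
    intro x hx
    obtain ⟨n, hn, hnx, hnj⟩ := hS x hx
    refine Set.mem_biUnion (show n ∈ {m : V2 K ≃ₗ[K] V2 K | m ∈ N ∧ _} from ⟨hn, fun hc => ?_⟩) hnx
    have := Nat.le_of_dvd one_pos (hnj 1 (by rwa [pow_one]))
    omega
  by_cases hcard : S.card ≤ 2
  · exact ⟨by omega, fun _ => hcard⟩
  obtain ⟨x₁, x₂, x₃, hx₁, hx₂, hx₃, h12, h13, h23⟩ := Finset.two_lt_card_iff.mp (not_le.mp hcard)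
  have hSP : ∀ x : SP, ∃ n : N, (¬ ∃ c : K, ∀ v, (n : V2 K ≃ₗ[K] V2 K) v = c • v) ∧ n • x = x := by
    rintro ⟨x, hx⟩
    obtain ⟨n, hx'⟩ := Set.mem_iUnion.mp hx
    obtain ⟨⟨hn, hns⟩, hx''⟩ := Set.mem_iUnion.mp hx'
    exact ⟨⟨n, hn⟩, hns, Subtype.ext hx''⟩
  have hne1 : ∀ n : N, (¬ ∃ c : K, ∀ v, (n : V2 K ≃ₗ[K] V2 K) v = c • v) →
      (MulAction.toPermHom N SP).rangeRestrict n ≠ 1 := by
    intro n hns h
    have h2 := hfix n n.2 hns
    rw [Nat.card_coe_set_eq] at h2
    have hall : ∀ x ∈ S, x ∈ fixedBy (ℙ K (V2 K)) (n : V2 K ≃ₗ[K] V2 K) := fun x hx =>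
      congrArg Subtype.val (congrArg (fun e : Q => (e : Equiv.Perm SP) ⟨x, hmem x hx⟩) h)
    have h3 : ({x₁, x₂, x₃} : Set (ℙ K (V2 K))) ⊆ fixedBy (ℙ K (V2 K)) (n : V2 K ≃ₗ[K] V2 K) := by
      rintro x (rfl | rfl | rfl) <;> exact hall _ ‹_›
    have h4 := Set.ncard_le_ncard h3 (Set.finite_of_ncard_ne_zero (by rw [h2]; norm_num))
    rw [h2, Set.ncard_eq_three.mpr ⟨x₁, x₂, x₃, h12, h13, h23, rfl⟩] at h4
    omega
  have hstab : ∀ x : SP, 2 ≤ Nat.card (stabilizer Q x) := by
    intro x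
    obtain ⟨n, hns, hnx⟩ := hSP x
    have hmemst : (MulAction.toPermHom N SP).rangeRestrict n ∈ stabilizer Q x := hnx
    haveI : Nontrivial (stabilizer Q x) :=
      ⟨⟨⟨_, hmemst⟩, 1, fun h => hne1 n hns (congrArg Subtype.val h)⟩⟩
    exact Finite.one_lt_card
  have hbig : ∀ x (hx : x ∈ S), m ≤ Nat.card (stabilizer Q (⟨x, hmem x hx⟩ : SP)) := by
    intro x hx
    obtain ⟨n, hn, hnx, hnj⟩ := hS x hx
    set q := (MulAction.toPermHom N SP).rangeRestrict ⟨n, hn⟩ with hq
    have hqs : q ∈ stabilizer Q (⟨x, hmem x hx⟩ : SP) := Subtype.ext hnx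
    have hord : m ∣ orderOf q := by
      refine hnj _ ?_
      by_contra hns
      refine hne1 (⟨n, hn⟩ ^ orderOf q) (by rwa [SubmonoidClass.coe_pow]) ?_
      rw [map_pow, ← hq, pow_orderOf_eq_one]
    have h1 : orderOf q ∣ Nat.card (stabilizer Q (⟨x, hmem x hx⟩ : SP)) :=
      Subgroup.orderOf_dvd_natCard _ hqs
    exact Nat.le_of_dvd Nat.card_pos (hord.trans h1)
  obtain ⟨hb6, hb4⟩ := bound hQfix hstab
  constructor
  · rw [← Nat.card_eq_finsetCard]
    refine (Nat.card_le_card_of_injective (fun x : S => (⟨⟨x.1, hmem x.1 x.2⟩, hm.trans (hbig x.1 x.2)⟩ :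
      {y : SP // 4 ≤ Nat.card (stabilizer Q y)})) fun a b h => Subtype.ext ?_).trans hb4
    exact congrArg (fun y : {y : SP // 4 ≤ Nat.card (stabilizer Q y)} => y.1.1) h
  · intro h6
    rw [← Nat.card_eq_finsetCard]
    refine (Nat.card_le_card_of_injective (fun x : S => (⟨⟨x.1, hmem x.1 x.2⟩, h6.trans (hbig x.1 x.2)⟩ :
      {y : SP // 6 ≤ Nat.card (stabilizer Q y)})) fun a b h => Subtype.ext ?_).trans hb6
    exact congrArg (fun y : {y : SP // 6 ≤ Nat.card (stabilizer Q y)} => y.1.1) h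

end Cfsg.Agent.FGB.LineStab
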