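import Cfsg.Prelude.Def_Transfer
import Cfsg.Agent.Lib.FGB.LinePoints
import Cfsg.Agent.Lib.Basics.Frattini

/-!
# Fusion on an extraspecial Sylow subgroup of order `p ^ 3` and exponent `p`
-/

set_option autoImplicit false
set_option linter.all false

namespace Cfsg.Agent.FGB.ExtraFusion

open Subgroup Module
open scoped commutatorElement

universe u

variable {G : Type u} [Group G] {p : ℕ} [hp : Fact p.Prime]

/-- The element of `⟨z, a⟩` with the given coordinates. -/
def e (z a : G) (v : ZMod p × ZMod p) : G := z ^ v.1.val * a ^ v.2.val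

theorem pow_val_add {z : G} (hz : z ^ p = 1) (s t : ZMod p) : z ^ (s + t).val = z ^ s.val * z ^ t.val := by
  rw [ZMod.val_add, pow_mod_of_pow_eq_one, pow_add]
where
  pow_mod_of_pow_eq_one {n : ℕ} : z ^ (n % p) = z ^ n := by
    conv_rhs => rw [← Nat.mod_add_div n p, pow_add, pow_mul, hz, one_pow, mul_one]

theorem e_add {z a : G} (hz : z ^ p = 1) (ha : a ^ p = 1) (hc : Commute z a) (v w : ZMod p × ZMod p) :
    e z a (v + w) = e z a v * e z a w := by
  show z ^ (v.1 + w.1).val * a ^ (v.2 + w.2).val = z ^ v.1.val * a ^ v.2.val * (z ^ w.1.val * a ^ w.2.val)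
  rw [pow_val_add hz, pow_val_add ha, mul_assoc, mul_assoc,
    ← mul_assoc (a ^ v.2.val), ← (hc.pow_pow w.1.val v.2.val).eq, mul_assoc]

theorem e_one_zero (z a : G) : e (p := p) z a (1, 0) = z := by
  simp [e, ZMod.val_one]

theorem e_zero_one (z a : G) : e (p := p) z a (0, 1) = a := by
  simp [e, ZMod.val_one]

/-- Conjugation by `g` has the given effect on coordinates. -/
def Act (z a g : G) (f : ZMod p × ZMod p → ZMod p × ZMod p) : Prop :=
  ∀ v, g * e z a v * g⁻¹ = e z a (f v)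

theorem Act.comp {z a g g' : G} {f f' : ZMod p × ZMod p → ZMod p × ZMod p} (h : Act z a g f)
    (h' : Act z a g' f') : Act z a (g * g') (fun v => f (f' v)) := fun v => by
  rw [← h, ← h']; group

theorem Act.congr {z a g : G} {f f' : ZMod p × ZMod p → ZMod p × ZMod p} (h : Act z a g f)
    (hf : ∀ v, f v = f' v) : Act z a g f' := fun v => by rw [h, hf]

theorem act_one (z a : G) : Act (p := p) z a 1 (fun v => v) := fun v => by simp

theorem Act.inv {z a g : G} {f f' : ZMod p × ZMod p → ZMod p × ZMod p} (h : Act z a g f)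
    (hf : ∀ v, f (f' v) = v) : Act z a g⁻¹ f' := fun v => by
  conv_lhs => rw [← hf v, ← h]
  group

/-- The upper shear. -/
def upper (u : ZMod p) (v : ZMod p × ZMod p) : ZMod p × ZMod p := (v.1 + u * v.2, v.2)

/-- The lower shear. -/
def lower (u : ZMod p) (v : ZMod p × ZMod p) : ZMod p × ZMod p := (v.1, v.2 + u * v.1)

theorem Act.pow_upper {z a g : G} {u : ZMod p} (h : Act z a g (upper u)) :
    ∀ k : ℕ, Act z a (g ^ k) (upper ((k : ZMod p) * u))
  | 0 => by rw [pow_zero]; exact (act_one z a).congr fun v => by simp [upper]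
  | k + 1 => by
    rw [pow_succ]
    exact ((Act.pow_upper h k).comp h).congr fun v => by
      refine Prod.ext ?_ rfl
      simp only [upper]; push_cast; ring

theorem Act.pow_lower {z a g : G} {u : ZMod p} (h : Act z a g (lower u)) :
    ∀ k : ℕ, Act z a (g ^ k) (lower ((k : ZMod p) * u))
  | 0 => by rw [pow_zero]; exact (act_one z a).congr fun v => by simp [lower]
  | k + 1 => by
    rw [pow_succ]
    exact ((Act.pow_lower h k).comp h).congr fun v => by
      refine Prod.ext rfl ?_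
      simp only [lower]; push_cast; ring

theorem act_of_gen {z a g : G} (hz : z ^ p = 1) (ha : a ^ p = 1) (hc : Commute z a)
    {f : ZMod p × ZMod p → ZMod p × ZMod p} (hf : ∀ v w, f (v + w) = f v + f w)
    (h1 : g * z * g⁻¹ = e z a (f (1, 0))) (h2 : g * a * g⁻¹ = e z a (f (0, 1))) : Act z a g f := by
  let φ : ZMod p × ZMod p →+ Additive G :=
    { toFun := fun v => Additive.ofMul (g * e z a v * g⁻¹)
      map_zero' := by simp [e]
      map_add' := fun v w => by
        rw [e_add hz ha hc, ← ofMul_mul]; congr 1; group }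
  let F : ZMod p × ZMod p →+ ZMod p × ZMod p := AddMonoidHom.mk' f hf
  let ψ : ZMod p × ZMod p →+ Additive G :=
    { toFun := fun v => Additive.ofMul (e z a (F v))
      map_zero' := by simp [e]
      map_add' := fun v w => by rw [map_add, e_add hz ha hc, ← ofMul_mul] }
  intro v
  have hb1 : φ (1, 0) = ψ (1, 0) := by
    show Additive.ofMul _ = Additive.ofMul _
    rw [e_one_zero, h1]; rfl
  have hb2 : φ (0, 1) = ψ (0, 1) := by
    show Additive.ofMul _ = Additive.ofMul _
    rw [e_zero_one, h2]; rfl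
  have key : φ v = ψ v := by
    have hv : v = v.1.val • ((1 : ZMod p), (0 : ZMod p)) + v.2.val • ((0 : ZMod p), (1 : ZMod p)) := by
      ext <;> simp [ZMod.natCast_zmod_val]
    rw [hv, map_add, map_add, map_nsmul, map_nsmul, map_nsmul, map_nsmul, hb1, hb2]
  exact Additive.ofMul.injective key

/-- With both families of shears induced, the normalizer of the Sylow subgroup induces every diagonal
transformation of determinant one, up to a shear. -/
theorem exists_normalizer_diag [Finite G] (S : Sylow p G) {z a : G}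
    (hE : ∀ u : ZMod p, ∃ g, Act z a g (upper u)) (hF : ∀ u : ZMod p, ∃ g, Act z a g (lower u))
    (hS : ∀ x ∈ (S : Subgroup G), ∃ u : ZMod p, Act z a x (upper u)) {l : ZMod p} (hl : l ≠ 0) :
    ∃ g ∈ normalizer ((S : Subgroup G) : Set G), ∃ t : ZMod p,
      Act z a g (fun v => (l * v.1 + t * v.2, l⁻¹ * v.2)) := by
  have hw : ∀ c : ZMod p, c ≠ 0 → ∃ g, Act z a g (fun v => (c * v.2, -c⁻¹ * v.1)) := by
    intro c hc
    obtain ⟨g₁, h₁⟩ := hE c
    obtain ⟨g₂, h₂⟩ := hF (-c⁻¹)
    exact ⟨g₁ * g₂ * g₁, ((h₁.comp h₂).comp h₁).congr fun v => by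
      simp only [upper, lower]; ext <;> field_simp <;> ring⟩
  obtain ⟨g₁, h₁⟩ := hw l hl
  obtain ⟨g₂, h₂⟩ := hw (-1) (neg_ne_zero.mpr one_ne_zero)
  set g := g₁ * g₂
  have hg : Act z a g (fun v => (l * v.1, l⁻¹ * v.2)) := (h₁.comp h₂).congr fun v => by
    simp only; ext <;> simp
  let R : Subgroup G :=
    { carrier := {x | ∃ u : ZMod p, Act z a x (upper u)}
      one_mem' := ⟨0, (act_one z a).congr fun v => by simp [upper]⟩
      mul_mem' := fun {x y} ⟨u, hu⟩ ⟨u', hu'⟩ => ⟨u + u', (hu.comp hu').congr fun v => by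
        simp [upper]; ring⟩
      inv_mem' := fun {x} ⟨u, hu⟩ => ⟨-u, hu.inv fun v => by simp [upper]⟩ }
  have hSR : (S : Subgroup G) ≤ R := hS
  have hgSR : ((g • S : Sylow p G) : Subgroup G) ≤ R := by
    rintro _ ⟨x, hx, rfl⟩
    obtain ⟨u, hu⟩ := hS x hx
    refine ⟨l * (u * l), ?_⟩
    show Act z a (g * x * g⁻¹) _
    exact ((hg.comp hu).comp (hg.inv (f' := fun v => (l⁻¹ * v.1, l * v.2)) fun v => by
      ext <;> simp <;> field_simp)).congr fun v => by
        simp only [upper]; ext <;> field_simp <;> ring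
  obtain ⟨c, hc⟩ := MulAction.exists_smul_eq R ((g • S).subtype hgSR) (S.subtype hSR)
  rw [Sylow.smul_subtype] at hc
  have hcS : ((c : R) : G) • g • S = S := Sylow.subtype_injective hc
  rw [← mul_smul] at hcS
  obtain ⟨u, hu⟩ := c.2
  exact ⟨(c : G) * g, Sylow.smul_eq_iff_mem_normalizer.mp hcS, u * l⁻¹, (hu.comp hg).congr fun v => by
    simp only [upper]; ext <;> simp <;> ring⟩

variable [Finite G]

theorem exponent_data (S : Sylow p G) (hE : Cfsg.IsExtraspecial p ↥(S : Subgroup G))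
    (hexp : Monoid.exponent ↥(S : Subgroup G) = p) :
    ∃ z ∈ (S : Subgroup G), z ≠ 1 ∧ (∀ x ∈ (S : Subgroup G), x ^ p = 1) ∧
      (∀ x ∈ (S : Subgroup G), Commute z x) ∧
      (∀ x ∈ (S : Subgroup G), (∀ y ∈ (S : Subgroup G), Commute y x) → x ∈ zpowers z) ∧
      (∀ x ∈ (S : Subgroup G), ∀ y ∈ (S : Subgroup G), ⁅y, x⁆ ∈ zpowers z) := by
  haveI : Nontrivial (center (S : Subgroup G)) := Finite.one_lt_card_iff_nontrivial.mp
    (by rw [hE.2]; exact hp.out.one_lt)
  obtain ⟨z, hz⟩ := exists_ne (1 : center (S : Subgroup G))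
  have hgen : zpowers ((z : (S : Subgroup G))) = center (S : Subgroup G) := by
    refine eq_of_le_of_card_ge (zpowers_le.mpr z.2) ?_
    haveI : Fact (Nat.card (center (S : Subgroup G))).Prime := ⟨by rw [hE.2]; exact hp.out⟩
    rw [Nat.card_zpowers, Subgroup.orderOf_coe, ← Nat.card_zpowers,
      ((zpowers z).eq_bot_or_eq_top_of_prime_card).resolve_left (fun h => hz (zpowers_eq_bot.mp h)),
      card_top]
  refine ⟨((z : (S : Subgroup G)) : G), (z : (S : Subgroup G)).2, fun h => hz (Subtype.ext (Subtype.ext h)),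
    fun x hx => ?_, fun x hx => ?_, fun x hx hc => ?_, fun x hx y hy => ?_⟩
  · exact congrArg Subtype.val (hexp ▸ Monoid.pow_exponent_eq_one (⟨x, hx⟩ : (S : Subgroup G)))
  · exact congrArg Subtype.val (mem_center_iff.mp z.2 ⟨x, hx⟩).symm
  · have h : (⟨x, hx⟩ : (S : Subgroup G)) ∈ center (S : Subgroup G) :=
      mem_center_iff.mpr fun y => Subtype.ext (hc y y.2).eq
    rw [← hgen] at h
    obtain ⟨i, hi⟩ := h
    exact ⟨i, congrArg Subtype.val hi⟩
  · have h : ⁅(⟨y, hy⟩ : (S : Subgroup G)), ⟨x, hx⟩⁆ ∈ center (S : Subgroup G) :=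
      hE.1.2.2 ▸ commutator_mem_commutator (mem_top _) (mem_top _)
    rw [← hgen] at h
    obtain ⟨i, hi⟩ := h
    exact ⟨i, congrArg Subtype.val hi⟩

theorem exists_pow_of_mem_zpowers {z x : G} (hz : z ^ p = 1) (hx : x ∈ zpowers z) :
    ∃ s : ZMod p, x = z ^ s.val := by
  obtain ⟨i, rfl⟩ := mem_powers_iff_mem_zpowers.mpr hx
  refine ⟨(i : ZMod p), ?_⟩
  show z ^ i = _
  rw [ZMod.val_natCast]
  conv_lhs => rw [← Nat.mod_add_div i p, pow_add, pow_mul, hz, one_pow, mul_one]

theorem e_injective {z a : G} (hz1 : z ≠ 1) (hz : z ^ p = 1) (ha : a ^ p = 1) (haz : a ∉ zpowers z)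
    (hc : Commute z a) : Function.Injective (e (p := p) z a) := by
  have key : ∀ v, e (p := p) z a v = 1 → v = 0 := by
    intro v hv
    have h2 : v.2 = 0 := by
      by_contra h
      apply haz
      have h1 : a ^ v.2.val ∈ zpowers z := by
        rw [eq_inv_of_mul_eq_one_right hv]
        exact inv_mem (pow_mem (mem_zpowers z) _)
      have h3 : a = (a ^ v.2.val) ^ (v.2⁻¹).val := by
        rw [← pow_mul]
        conv_rhs => rw [← Nat.mod_add_div (v.2.val * (v.2⁻¹).val) p, pow_add, pow_mul (n := _ / p), ha,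
          one_pow, mul_one, ← ZMod.val_mul, mul_inv_cancel₀ h, ZMod.val_one, pow_one]
      rw [h3]
      exact pow_mem h1 _
    have h1 : v.1 = 0 := by
      rw [e, h2, ZMod.val_zero, pow_zero, mul_one] at hv
      have := orderOf_eq_prime hz hz1
      have hd := orderOf_dvd_of_pow_eq_one hv
      rw [this] at hd
      exact (ZMod.val_eq_zero _).mp (Nat.eq_zero_of_dvd_of_lt hd (ZMod.val_lt _))
    exact Prod.ext h1 h2
  intro v w h
  have h1 : e z a (v - w) * e z a w = 1 * e z a w := by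
    rw [← e_add hz ha hc, sub_add_cancel, h, one_mul]
  exact sub_eq_zero.mp (key _ (mul_right_cancel h1))

/-- The shears induced from the Sylow subgroup. -/
theorem sylow_upper {P : Subgroup G} {z : G} (hz1 : z ≠ 1) (hexp : ∀ x ∈ P, x ^ p = 1) (hzP : z ∈ P)
    (hzc : ∀ x ∈ P, Commute z x) (hcen : ∀ x ∈ P, (∀ y ∈ P, Commute y x) → x ∈ zpowers z)
    (hcomm : ∀ x ∈ P, ∀ y ∈ P, ⁅y, x⁆ ∈ zpowers z) {a : G} (ha : a ∈ P) :
    (∀ x ∈ P, ∃ u : ZMod p, Act z a x (upper u)) ∧
      (a ∉ zpowers z → ∃ x ∈ P, ∃ u : ZMod p, u ≠ 0 ∧ Act z a x (upper u)) := by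
  have key : ∀ x ∈ P, ∀ s : ZMod p, ⁅x, a⁆ = z ^ s.val → Act z a x (upper s) := by
    intro x hx s hs
    refine act_of_gen (hexp z hzP) (hexp a ha) (hzc a ha) (fun v w => ?_) ?_ ?_
    · simp only [upper]; ext <;> simp <;> ring
    · simp only [upper, mul_zero, add_zero]
      rw [e_one_zero, (hzc x hx).symm.eq, mul_inv_cancel_right]
    · simp only [upper, mul_one, zero_add]
      show _ = z ^ s.val * a ^ (1 : ZMod p).val
      rw [← hs, ZMod.val_one, pow_one, commutatorElement_def]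
      group
  constructor
  · intro x hx
    obtain ⟨s, hs⟩ := exists_pow_of_mem_zpowers (hexp z hzP) (hcomm a ha x hx)
    exact ⟨s, key x hx s hs⟩
  · intro haz
    obtain ⟨x, hx, hne⟩ : ∃ x ∈ P, ¬ Commute x a := by
      by_contra hall
      push Not at hall
      exact haz (hcen a ha hall)
    obtain ⟨s, hs⟩ := exists_pow_of_mem_zpowers (hexp z hzP) (hcomm a ha x hx)
    refine ⟨x, hx, s, fun h => hne ?_, key x hx s hs⟩
    rw [← commutatorElement_eq_one_iff_commute, hs, h, ZMod.val_zero, pow_zero]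

/-- All upper shears are induced by the Sylow subgroup. -/
theorem all_upper {P : Subgroup G} {z : G} (hz1 : z ≠ 1) (hexp : ∀ x ∈ P, x ^ p = 1) (hzP : z ∈ P)
    (hzc : ∀ x ∈ P, Commute z x) (hcen : ∀ x ∈ P, (∀ y ∈ P, Commute y x) → x ∈ zpowers z)
    (hcomm : ∀ x ∈ P, ∀ y ∈ P, ⁅y, x⁆ ∈ zpowers z) {a : G} (ha : a ∈ P) (haz : a ∉ zpowers z)
    (u : ZMod p) : ∃ g, Act z a g (upper u) := by
  obtain ⟨x, -, s, hs, hx⟩ := (sylow_upper hz1 hexp hzP hzc hcen hcomm ha).2 haz
  refine ⟨x ^ (u * s⁻¹).val, (hx.pow_upper _).congr fun v => ?_⟩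
  rw [ZMod.natCast_zmod_val, inv_mul_cancel_right₀ hs]

/-- The main count. -/
theorem few_lines (S : Sylow p G) {z : G} (hz1 : z ≠ 1) (hexp : ∀ x ∈ (S : Subgroup G), x ^ p = 1)
    (hzP : z ∈ (S : Subgroup G)) (hzc : ∀ x ∈ (S : Subgroup G), Commute z x)
    (hcen : ∀ x ∈ (S : Subgroup G), (∀ y ∈ (S : Subgroup G), Commute y x) → x ∈ zpowers z)
    (hcomm : ∀ x ∈ (S : Subgroup G), ∀ y ∈ (S : Subgroup G), ⁅y, x⁆ ∈ zpowers z)
    (hcard : Nat.card (S : Subgroup G) = p ^ 3) {ι : Type*} [Fintype ι] (a : ι → G)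
    (haP : ∀ i, a i ∈ (S : Subgroup G))
    (hindep : ∀ i j (k l : ℕ), a i = z ^ k * a j ^ l → i = j)
    (haz : ∀ i, a i ∉ zpowers z)
    (hF : ∀ i, ∀ u : ZMod p, ∃ g, Act z (a i) g (lower u)) {m : ℕ} (hm : 4 ≤ m)
    (hl : ∃ l : ZMod p, l ≠ 0 ∧ ∀ j : ℕ, l ^ (3 * j) = 1 → m ∣ j) :
    Fintype.card ι ≤ 12 ∧ (6 ≤ m → Fintype.card ι ≤ 2) := by
  classical
  obtain ⟨l, hl0, hlm⟩ := hl
  set P := (S : Subgroup G) with hP
  set Z : Subgroup P := (zpowers z).subgroupOf P with hZ
  have hzord : orderOf z = p := orderOf_eq_prime (hexp z hzP) hz1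
  have hZP : zpowers z ≤ P := zpowers_le.mpr hzP
  haveI hZn : Z.Normal := ⟨fun x hx g => by
    rw [hZ, mem_subgroupOf] at hx ⊢
    obtain ⟨i, hi⟩ := mem_zpowers_iff.mp hx
    rw [Subgroup.coe_mul, Subgroup.coe_mul, Subgroup.coe_inv, ← hi,
      ((hzc g g.2).zpow_left i).symm.eq, mul_inv_cancel_right]
    exact zpow_mem (mem_zpowers z) i⟩
  let V := P ⧸ Z
  have hVcomm : ∀ x y : V, x * y = y * x := by
    intro x y
    induction x using QuotientGroup.induction_on with
    | H x =>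
      induction y using QuotientGroup.induction_on with
      | H y =>
        rw [← commutatorElement_eq_one_iff_mul_comm]
        exact (QuotientGroup.eq_one_iff (N := Z) ⁅x, y⁆).mpr (mem_subgroupOf.mpr (hcomm y y.2 x x.2))
  letI : CommGroup V := { (inferInstance : Group V) with mul_comm := hVcomm }
  haveI : Module (ZMod p) (Additive V) := AddCommGroup.zmodModule fun x => by
    show Additive.ofMul (x.toMul ^ p) = 0
    obtain ⟨y, hy⟩ := QuotientGroup.mk_surjective x.toMul
    rw [← hy, ← QuotientGroup.mk_pow, show y ^ p = 1 from Subtype.ext (hexp y y.2)]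
    rfl
  haveI : Module.Finite (ZMod p) (Additive V) := Module.Finite.of_finite
  have hVcard : Nat.card V = p ^ 2 := by
    have h := card_eq_card_quotient_mul_card_subgroup Z
    rw [hcard, Nat.card_congr (subgroupOfEquivOfLe hZP).toEquiv, Nat.card_zpowers, hzord, pow_succ] at h
    exact (Nat.eq_of_mul_eq_mul_right hp.out.pos h).symm
  have hfin : finrank (ZMod p) (Additive V) = 2 := by
    have h := Module.natCard_eq_pow_finrank (K := ZMod p) (V := Additive V)
    rw [Nat.card_zmod, Nat.card_congr Additive.toMul, hVcard] at h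
    exact (Nat.pow_right_injective hp.out.two_le h).symm
  let b : Basis (Fin 2) (ZMod p) (Additive V) := finBasisOfFinrankEq (ZMod p) (Additive V) hfin
  -- the action of the normalizer
  set N := normalizer (P : Set G)
  have hconjmem : ∀ (n : N) (y : G), y ∈ P → (n : G) * y * (n : G)⁻¹ ∈ P := fun n y hy =>
    (mem_normalizer_iff.mp n.2 y).mp hy
  have hconjZ : ∀ (n : N), ∀ x : G, x ∈ zpowers z → (n : G) * x * (n : G)⁻¹ ∈ zpowers z := by
    intro n x hx
    obtain ⟨i, rfl⟩ := mem_zpowers_iff.mp hx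
    rw [← conj_zpow]
    refine zpow_mem (hcen _ (hconjmem n z hzP) fun y hy => ?_) i
    have h := hzc _ (hconjmem n⁻¹ y hy)
    rw [Subgroup.coe_inv, inv_inv] at h
    have h2 := congrArg (fun x => (n : G) * x * (n : G)⁻¹) h.symm.eq
    simpa [Commute, SemiconjBy, mul_assoc] using h2
  let c : N → (V →* V) := fun n => QuotientGroup.map Z Z
    { toFun := fun y : P => (⟨(n : G) * y * (n : G)⁻¹, hconjmem n y y.2⟩ : P)
      map_one' := Subtype.ext (by simp)
      map_mul' := fun x y => Subtype.ext (by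
        show (n : G) * ((x : G) * y) * (n : G)⁻¹ = (n : G) * x * (n : G)⁻¹ * ((n : G) * y * (n : G)⁻¹)
        group) }
    (fun y hy => mem_comap.mpr (mem_subgroupOf.mpr (hconjZ n y (mem_subgroupOf.mp hy))))
  have hcmk : ∀ (n : N) (y : P), c n (QuotientGroup.mk y) =
      QuotientGroup.mk (⟨(n : G) * y * (n : G)⁻¹, hconjmem n y y.2⟩ : P) := fun n y => rfl
  let ρ : N →* Module.End (ZMod p) (Additive V) :=
    { toFun := fun n => (MonoidHom.toAdditive (c n)).toZModLinearMap p
      map_one' := LinearMap.ext fun v => by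
        obtain ⟨y, hy⟩ := QuotientGroup.mk_surjective v.toMul
        show Additive.ofMul (c 1 v.toMul) = v
        rw [← hy, hcmk]
        simp only [Subgroup.coe_one, one_mul, inv_one, mul_one]
        rw [show (QuotientGroup.mk (⟨(y : G), _⟩ : P) : V) = v.toMul from hy]
        rfl
      map_mul' := fun n k => LinearMap.ext fun v => by
        obtain ⟨y, hy⟩ := QuotientGroup.mk_surjective v.toMul
        show Additive.ofMul (c (n * k) v.toMul) = Additive.ofMul (c n (c k v.toMul))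
        rw [← hy, hcmk, hcmk, hcmk]
        congr 2
        apply Subtype.ext
        show ((n : G) * (k : G)) * y * ((n : G) * (k : G))⁻¹ = (n : G) * ((k : G) * y * (k : G)⁻¹) * (n : G)⁻¹
        group }
  let K := AlgebraicClosure (ZMod p)
  haveI : CharP K p := charP_of_injective_algebraMap (algebraMap (ZMod p) K).injective p
  let ι' := algebraMap (ZMod p) K
  let τ : N →* Module.End K (Fin 2 → K) :=
    ((Matrix.toLinAlgEquiv' : Matrix (Fin 2) (Fin 2) K ≃ₐ[K] _).toMonoidHom.comp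
      (((RingHom.mapMatrix ι').toMonoidHom.comp
        ((LinearMap.toMatrixAlgEquiv b).toMonoidHom)))).comp ρ
  let σ : N →* ((Fin 2 → K) ≃ₗ[K] (Fin 2 → K)) :=
    (LinearMap.GeneralLinearGroup.generalLinearEquiv K (Fin 2 → K)).toMonoidHom.comp τ.toHomUnits
  let vec : P → (Fin 2 → K) := fun y i => ι' (b.repr (Additive.ofMul (QuotientGroup.mk y : V)) i)
  have hσvec : ∀ (n : N) (y : P), σ n (vec y) = vec ⟨(n : G) * y * (n : G)⁻¹, hconjmem n y y.2⟩ := by
    intro n y
    show Matrix.toLinAlgEquiv' ((LinearMap.toMatrixAlgEquiv b (ρ n)).map ι') (vec y) = _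
    rw [Matrix.toLinAlgEquiv'_apply]
    funext i
    refine (RingHom.map_mulVec ι' _ (fun i => b.repr (Additive.ofMul (QuotientGroup.mk y : V)) i) i).symm.trans ?_
    show ι' _ = ι' _
    congr 1
    have h := LinearMap.toMatrix_mulVec_repr b b (ρ n) (Additive.ofMul (QuotientGroup.mk y : V))
    exact congrFun h i
  have hvecpow : ∀ (y : P) (k : ℕ), vec (y ^ k) = (k : K) • vec y := by
    intro y k
    funext i
    show ι' (b.repr (Additive.ofMul (QuotientGroup.mk (y ^ k) : V)) i) = (k : K) * ι' _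
    rw [QuotientGroup.mk_pow, ofMul_pow, map_nsmul, Finsupp.smul_apply, nsmul_eq_mul, map_mul, map_natCast]
  have hvecmul : ∀ (y w : P), (w : G) ∈ zpowers z → vec (w * y) = vec y := by
    intro y w hw
    funext i
    show ι' _ = ι' _
    rw [QuotientGroup.mk_mul, (QuotientGroup.eq_one_iff w).mpr (mem_subgroupOf.mpr hw), one_mul]
  have hvecinj : ∀ y w : P, vec y = vec w → (w : G)⁻¹ * y ∈ zpowers z := by
    intro y w h
    have h1 : b.repr (Additive.ofMul (QuotientGroup.mk y : V)) = b.repr (Additive.ofMul (QuotientGroup.mk w : V)) :=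
      Finsupp.ext fun i => ι'.injective (congrFun h i)
    have h2 : (QuotientGroup.mk w : V) = QuotientGroup.mk y :=
      (Additive.ofMul.injective (b.repr.injective h1)).symm
    exact mem_subgroupOf.mp (QuotientGroup.eq.mp h2)
  let a' : ι → P := fun i => ⟨a i, haP i⟩
  have hvne : ∀ i, vec (a' i) ≠ 0 := by
    intro i h
    apply haz i
    have h1 : vec (a' i) = vec 1 := by
      rw [h]; funext k; simp [vec]
    simpa using hvecinj _ _ h1
  let pt : ι → Projectivization K (Fin 2 → K) := fun i => Projectivization.mk K (vec (a' i)) (hvne i)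
  have hptinj : Function.Injective pt := by
    intro i j h
    obtain ⟨q, hq⟩ := (Projectivization.mk_eq_mk_iff' K _ _ _ _).mp h
    obtain ⟨k, hk⟩ : ∃ k : Fin 2, vec (a' j) k ≠ 0 := Function.ne_iff.mp (hvne j)
    obtain ⟨r, hr⟩ : ∃ r : ZMod p, q = ι' r := by
      have h1 := congrFun hq k
      simp only [Pi.smul_apply, smul_eq_mul] at h1
      refine ⟨b.repr (Additive.ofMul (QuotientGroup.mk (a' i) : V)) k *
        (b.repr (Additive.ofMul (QuotientGroup.mk (a' j) : V)) k)⁻¹, ?_⟩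
      rw [map_mul, map_inv₀]
      exact (eq_mul_inv_iff_mul_eq₀ hk).mpr h1
    have h2 : vec (a' i) = vec (a' j ^ r.val) := by
      rw [hvecpow, ← hq, hr, ← map_natCast ι' r.val, ZMod.natCast_zmod_val]
    have h3 := hvecinj _ _ h2
    obtain ⟨s, hs⟩ := exists_pow_of_mem_zpowers (hexp z hzP) h3
    refine hindep i j s.val r.val ?_
    have h4 : a i = a j ^ r.val * z ^ s.val := by
      rw [← hs, SubmonoidClass.coe_pow]; exact (mul_inv_cancel_left _ _).symm
    rw [h4]
    exact ((hzc _ (P.pow_mem (haP j) _)).pow_left _).symm.eq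
  -- the linear group
  let Nim := σ.range
  have hNfin : Finite Nim := Finite.of_surjective σ.rangeRestrict σ.rangeRestrict_surjective
  have hNcard : (Nat.card Nim : K) ≠ 0 := by
    rw [Ne, CharP.cast_eq_zero_iff K p]
    intro hd
    refine S.not_dvd_index (hd.trans ?_)
    rw [show Nat.card Nim = σ.ker.index from (index_ker σ).symm]
    refine (index_dvd_of_le (H := P.subgroupOf N) ?_).trans (relIndex_dvd_index_of_le le_normalizer)
    intro n hn
    rw [MonoidHom.mem_ker]
    have hρ : ρ n = 1 := LinearMap.ext fun v => by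
      obtain ⟨y, hy⟩ := QuotientGroup.mk_surjective v.toMul
      show Additive.ofMul (c n v.toMul) = v
      rw [← hy, hcmk, show v = Additive.ofMul (QuotientGroup.mk y : V) by rw [hy]; rfl]
      refine congrArg Additive.ofMul (QuotientGroup.eq.mpr (mem_subgroupOf.mpr ?_))
      show ((n : G) * y * (n : G)⁻¹)⁻¹ * y ∈ zpowers z
      have := hcomm (y : G)⁻¹ (P.inv_mem y.2) (n : G) (mem_subgroupOf.mp hn)
      simpa [commutatorElement_def, mul_assoc] using this
    have hτ : τ n = 1 := by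
      show Matrix.toLinAlgEquiv' ((RingHom.mapMatrix ι') (LinearMap.toMatrixAlgEquiv b (ρ n))) = 1
      rw [hρ, map_one, map_one, map_one]
    refine LinearEquiv.ext fun v => ?_
    show τ n v = v
    rw [hτ]; rfl
  suffices hkey : ∀ x ∈ Finset.univ.image pt, ∃ n ∈ Nim, n • x = x ∧
      ∀ j : ℕ, (∃ c : K, ∀ v, (n ^ j) v = c • v) → m ∣ j by
    obtain ⟨h12, h2⟩ := LineStab.card_points_le (K := K) Nim hNcard (Finset.univ.image pt) hm hkey
    rw [Finset.card_image_of_injective _ hptinj, Finset.card_univ] at h12 h2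
    exact ⟨h12, h2⟩
  intro x hx
  obtain ⟨i, -, rfl⟩ := Finset.mem_image.mp hx
  have hzc' := hzc _ (haP i)
  have hinj := e_injective (p := p) hz1 (hexp z hzP) (hexp _ (haP i)) (haz i) hzc'
  have hupper := sylow_upper hz1 hexp hzP hzc hcen hcomm (haP i)
  obtain ⟨g, hgN, t, hg⟩ := exists_normalizer_diag S
    (fun u => all_upper hz1 hexp hzP hzc hcen hcomm (haP i) (haz i) u) (hF i) hupper.1 hl0
  -- powers of `g`
  have hgpow : ∀ j : ℕ, ∃ t' : ZMod p, Act z (a i) (g ^ j) (fun v => (l ^ j * v.1 + t' * v.2, l⁻¹ ^ j * v.2)) := by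
    intro j
    induction j with
    | zero => exact ⟨0, by rw [pow_zero]; exact (act_one z (a i)).congr fun v => by simp⟩
    | succ j ih =>
      obtain ⟨t', ht'⟩ := ih
      refine ⟨l ^ j * t + t' * l⁻¹, ?_⟩
      rw [pow_succ]
      exact (ht'.comp hg).congr fun v => by ext <;> simp [pow_succ] <;> ring
  have himg : ∀ j : ℕ, σ ((⟨g, hgN⟩ : N) ^ j) (vec (a' i)) = (((l⁻¹ ^ j).val : ℕ) : K) • vec (a' i) := by
    intro j
    obtain ⟨t', ht'⟩ := hgpow j
    have h := ht' (0, 1)
    rw [e_zero_one] at h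
    simp only [mul_zero, zero_add, mul_one] at h
    rw [hσvec]
    have hmem : (⟨((⟨g, hgN⟩ : N) ^ j : N) * (a' i : G) * (((⟨g, hgN⟩ : N) ^ j : N) : G)⁻¹,
        hconjmem _ _ (a' i).2⟩ : P) = (⟨z, hzP⟩ : P) ^ t'.val * a' i ^ (l⁻¹ ^ j).val := Subtype.ext (by
      show (((⟨g, hgN⟩ : N) ^ j : N) : G) * a i * (((⟨g, hgN⟩ : N) ^ j : N) : G)⁻¹ = z ^ t'.val * a i ^ (l⁻¹ ^ j).val
      rw [SubmonoidClass.coe_pow]
      exact h)
    rw [hmem, hvecmul _ _ (by rw [SubmonoidClass.coe_pow]; exact pow_mem (mem_zpowers z) _), hvecpow]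
  refine ⟨σ ⟨g, hgN⟩, ⟨_, rfl⟩, ?_, ?_⟩
  · show σ ⟨g, hgN⟩ • Projectivization.mk K (vec (a' i)) (hvne i) = _
    rw [Projectivization.smul_mk, Projectivization.mk_eq_mk_iff']
    refine ⟨(((l⁻¹ ^ 1).val : ℕ) : K), (himg 1).symm.trans ?_⟩
    rw [pow_one]
    rfl
  rintro j ⟨q, hq⟩
  apply hlm
  rw [← map_pow] at hq
  set k := (l⁻¹ ^ j).val
  have hqk : q = (k : K) := smul_left_injective K (hvne i) ((hq (vec (a' i))).symm.trans (himg j))
  obtain ⟨y, hyP, s, hs0, hy⟩ := hupper.2 (haz i)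
  obtain ⟨t', ht'⟩ := hgpow j
  have hy2 : vec ⟨g ^ j * y * (g ^ j)⁻¹, by
      simpa using hconjmem ((⟨g, hgN⟩ : N) ^ j) y hyP⟩ = vec ((⟨y, hyP⟩ : P) ^ k) := by
    rw [hvecpow, ← hqk, ← hq, hσvec]
    congr 1
  have h3 := hvecinj _ _ hy2
  obtain ⟨r, hr⟩ := exists_pow_of_mem_zpowers (hexp z hzP) h3
  have hact1 : Act z (a i) (g ^ j * y * (g ^ j)⁻¹) (upper ((k : ZMod p) * s)) := by
    have h4 : g ^ j * y * (g ^ j)⁻¹ = y ^ k * z ^ r.val := by
      rw [← hr, SubmonoidClass.coe_pow]; exact (mul_inv_cancel_left _ _).symm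
    rw [h4]
    refine ((hy.pow_upper k).comp (f' := fun v => v) fun v => ?_)
    have hc1 : Commute (z ^ r.val) (e z (a i) v) :=
      (hzc _ (P.mul_mem (P.pow_mem hzP _) (P.pow_mem (haP i) _))).pow_left _
    rw [hc1.eq, mul_inv_cancel_right]
  have hl' : l⁻¹ ^ j ≠ 0 := pow_ne_zero _ (inv_ne_zero hl0)
  have hinv : Act z (a i) (g ^ j)⁻¹
      (fun v => ((l ^ j)⁻¹ * (v.1 - t' * ((l⁻¹ ^ j)⁻¹ * v.2)), (l⁻¹ ^ j)⁻¹ * v.2)) :=
    ht'.inv fun v => by
      ext
      · simp only; field_simp; ring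
      · simp only; field_simp
  have hact2 := (ht'.comp hy).comp hinv
  have heq := hinj ((hact1 (0, 1)).symm.trans (hact2 (0, 1)))
  have h5 := congrArg Prod.fst heq
  simp only [upper] at h5
  rw [ZMod.natCast_zmod_val] at h5
  have hlj : l ^ j ≠ 0 := pow_ne_zero _ hl0
  rw [inv_pow] at h5
  field_simp at h5
  have h6 : l ^ (3 * j) * s = s := by
    rw [show 3 * j = j + j + j by ring, pow_add, pow_add]
    linear_combination (exp := 1) (-1 : ZMod p) * h5
  exact (mul_eq_right₀ hs0).mp h6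

end Cfsg.Agent.FGB.ExtraFusion
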