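/-
Solvable groups acting fixed-point-freely: their coprime automorphism groups are solvable.
-/
import Mathlib
import Cfsg.Agent.Lib.Zassenhaus.Rep
import Cfsg.Agent.Lib.Zassenhaus.Aut2
import Cfsg.Agent.Lib.Basics.Cores

set_option autoImplicit false
set_option linter.all false

namespace Cfsg.Agent.FGB

open Subgroup

/-- The special linear group of degree two over the field with five elements is not solvable. -/
theorem sl25_not_solvable : ¬ Group.IsSolvable (Matrix.SpecialLinearGroup (Fin 2) (ZMod 5)) := by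
  intro h
  set u : Matrix.SpecialLinearGroup (Fin 2) (ZMod 5) := ⟨!![1, 1; 0, 1], by decide⟩ with hu
  set l : Matrix.SpecialLinearGroup (Fin 2) (ZMod 5) := ⟨!![1, 0; 1, 1], by decide⟩ with hl
  set d : Matrix.SpecialLinearGroup (Fin 2) (ZMod 5) := ⟨!![2, 0; 0, 3], by decide⟩ with hd
  have f1 : u ^ 2 * l ^ 2 * u ^ 2 = d * (u * l ^ 4 * u) := Subtype.ext (by decide)
  have f2 : d * u = u ^ 4 * d := Subtype.ext (by decide)
  have f3 : d * l = l ^ 4 * d := Subtype.ext (by decide)
  have fu : u ^ 5 = 1 := Subtype.ext (by decide)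
  have fl : l ^ 5 = 1 := Subtype.ext (by decide)
  have e1 : (u ^ 2 * l ^ 2 * u ^ 2) * (u * l ^ 4 * u)⁻¹ = d := by rw [f1, mul_inv_cancel_right]
  have e2 : (d * u * d⁻¹ * u⁻¹) ^ 2 = u := by
    rw [f2, mul_inv_cancel_right, show u ^ 4 * u⁻¹ = u ^ 3 by group, ← pow_mul,
      show 3 * 2 = 5 + 1 from rfl, pow_succ, fu, one_mul]
  have e3 : (d * l * d⁻¹ * l⁻¹) ^ 2 = l := by
    rw [f3, mul_inv_cancel_right, show l ^ 4 * l⁻¹ = l ^ 3 by group, ← pow_mul,
      show 3 * 2 = 5 + 1 from rfl, pow_succ, fl, one_mul]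
  have key : ∀ n, u ∈ derivedSeries (Matrix.SpecialLinearGroup (Fin 2) (ZMod 5)) n ∧
      l ∈ derivedSeries (Matrix.SpecialLinearGroup (Fin 2) (ZMod 5)) n := by
    intro n
    induction n with
    | zero => rw [derivedSeries_zero]; exact ⟨mem_top _, mem_top _⟩
    | succ k ih =>
      obtain ⟨h1, h2⟩ := ih
      have hd' : d ∈ derivedSeries (Matrix.SpecialLinearGroup (Fin 2) (ZMod 5)) k := e1 ▸
        mul_mem (mul_mem (mul_mem (pow_mem h1 2) (pow_mem h2 2)) (pow_mem h1 2))
          (inv_mem (mul_mem (mul_mem h1 (pow_mem h2 4)) h1))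
      rw [derivedSeries_succ]
      exact ⟨e2 ▸ pow_mem (commutator_mem_commutator hd' h1) 2,
        e3 ▸ pow_mem (commutator_mem_commutator hd' h2) 2⟩
  obtain ⟨n, hn⟩ := h.solvable
  have h1 := (key n).1
  rw [hn, mem_bot] at h1
  have h2 := congrArg (fun M : Matrix.SpecialLinearGroup (Fin 2) (ZMod 5) => M.1 0 1) h1
  exact absurd h2 (by decide)

/-- Some term of the derived series of a coprime group of automorphisms of a `p`-subgroup of a
fixed-point-free group is trivial. -/
theorem derived_eq_one_of_pGroup {A P : Type*} [Group A] [Finite A] [Group P] [Finite P] {p : ℕ}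
    [Fact p.Prime] (hP : IsPGroup p P)
    (hshape : IsCyclic P ∨ p = 2 ∧ ∃ n : ℕ, Nonempty (P ≃* QuaternionGroup (2 ^ n)))
    (hA : p ∣ Nat.card P → ¬ p ∣ Nat.card A) (f : A →* MulAut P) :
    ∃ N, ∀ a ∈ derivedSeries A N, f a = 1 := by
  suffices hs : Group.IsSolvable f.range by
    obtain ⟨N, hN⟩ := hs.solvable
    refine ⟨N, fun a ha => ?_⟩
    have := map_derivedSeries_le_derivedSeries f.rangeRestrict N ⟨a, ha, rfl⟩
    rw [hN, mem_bot] at this
    exact congrArg Subtype.val this
  rcases hshape with hc | ⟨rfl, hq⟩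
  · haveI := hc
    refine Group.isSolvable_of_comm fun a b => Subtype.ext ?_
    obtain ⟨g, hg⟩ := IsCyclic.exists_generator (α := P)
    refine MulEquiv.ext fun x => ?_
    obtain ⟨i, rfl⟩ := mem_zpowers_iff.mp (hg x)
    show (a : MulAut P) ((b : MulAut P) (g ^ i)) = (b : MulAut P) ((a : MulAut P) (g ^ i))
    obtain ⟨j, hj⟩ := mem_zpowers_iff.mp (hg ((a : MulAut P) g))
    obtain ⟨k, hk⟩ := mem_zpowers_iff.mp (hg ((b : MulAut P) g))
    simp only [map_zpow, ← hj, ← hk, ← zpow_mul]
    congr 1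
    ring
  · obtain ⟨n, ⟨e⟩⟩ := hq
    have hdvd : 2 ∣ Nat.card P := by
      obtain ⟨k, hk⟩ := hP.exists_card_eq
      rcases Nat.eq_zero_or_pos k with rfl | hk0
      · exfalso
        haveI : NeZero (2 ^ n) := ⟨by positivity⟩
        rw [Nat.card_congr e.toEquiv, Nat.card_eq_fintype_card, QuaternionGroup.card, pow_zero] at hk
        have := Nat.one_le_two_pow (n := n)
        omega
      · exact hk ▸ dvd_pow_self 2 hk0.ne'
    have h3 : IsPGroup 3 f.range := by
      haveI : Fact (Nat.Prime 3) := ⟨Nat.prime_three⟩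
      refine IsPGroup.iff_card.mpr ⟨_, Nat.eq_prime_pow_of_unique_prime_dvd Nat.card_pos.ne' fun {r} hr hrd => ?_⟩
      by_contra hr3
      haveI := Fact.mk hr
      obtain ⟨x, hx⟩ := exists_prime_orderOf_dvd_card' (G := f.range) r hrd
      rw [← Subgroup.orderOf_coe] at hx
      have hr2 : r ≠ 2 := fun h2 => hA hdvd (by
        have := card_range_dvd f
        exact h2 ▸ hrd.trans this)
      have := Zassenhaus.mulAut_eq_one hP (Or.inr ⟨n, ⟨e⟩⟩) (x : MulAut P) (by
        rw [hx, show (6 : ℕ) = 2 * 3 from rfl]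
        exact Nat.Coprime.mul_right ((Nat.coprime_primes hr Nat.prime_two).mpr hr2)
          ((Nat.coprime_primes hr Nat.prime_three).mpr hr3))
      rw [this, orderOf_one] at hx
      exact hr.ne_one hx.symm
    haveI : Fact (Nat.Prime 3) := ⟨Nat.prime_three⟩
    haveI := h3.isNilpotent
    infer_instance

/-- The automorphisms induced on a normal solvable fixed-point-free Hall subgroup form a solvable group. -/
theorem isSolvable_quotient_of_fc {X : Type*} [Group X] [Finite X] (H : Subgroup X) [H.Normal]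
    [Group.IsSolvable H] (hfc : Zassenhaus.FC H) (hcop : (Nat.card H).Coprime H.index)
    (hcore : ∀ N : Subgroup X, N.Normal → (Nat.card N).Coprime (Nat.card H) → N = ⊥) :
    Group.IsSolvable (X ⧸ H) := by
  classical
  obtain ⟨A, hA⟩ := exists_right_complement'_of_coprime hcop
  have hAcard : Nat.card A = H.index := hA.symm.index_eq_card.symm
  suffices hsol : Group.IsSolvable A by
    refine Group.isSolvable_of_surjective (f := (QuotientGroup.mk' H).comp A.subtype) fun x => ?_
    obtain ⟨g, rfl⟩ := QuotientGroup.mk'_surjective H x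
    obtain ⟨⟨⟨h, hh⟩, ⟨a, ha⟩⟩, hab, -⟩ := hA.existsUnique g
    refine ⟨⟨a, ha⟩, ?_⟩
    simp only [MonoidHom.comp_apply, coe_subtype, QuotientGroup.mk'_apply, ← hab, QuotientGroup.mk_mul,
      (QuotientGroup.eq_one_iff h).2 hh, one_mul]
  set F : Subgroup X := (Cfsg.fittingSubgroup H).map H.subtype with hF
  have hFn : F.Normal := ConjAct.normal_of_characteristic_of_normal
  have hFH : F ≤ H := map_subtype_le _
  -- the centralizer of `F` lies in `H`
  set C := centralizer (F : Set X) with hC
  have hCn : C.Normal := normal_centralizer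
  have hcent : ∀ h ∈ H, h ∈ C → h ∈ F := by
    intro h hh hhC
    refine ⟨⟨h, hh⟩, Basics.centralizer_fittingSubgroup_le (mem_centralizer_iff.mpr fun f hf => Subtype.ext ?_), rfl⟩
    exact mem_centralizer_iff.mp hhC f ⟨f, hf, rfl⟩
  have hCH : C ≤ H := by
    set Z : Subgroup C := H.subgroupOf C with hZ
    have hZc : ∀ z ∈ Z, ∀ c : C, c * z = z * c := fun z hz c => Subtype.ext
      (mem_centralizer_iff.mp c.2 z (hcent z hz z.2)).symm
    have hZidx : Z.index ∣ H.index := relIndex_dvd_index_of_normal H C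
    have hZcard : Nat.card Z ∣ Nat.card H := by
      rw [← card_map_of_injective (K := Z) C.subtype_injective]
      exact card_dvd_of_le (by rintro _ ⟨z, hz, rfl⟩; exact hz)
    have hZcop : (Nat.card Z).Coprime Z.index := (hcop.coprime_dvd_left hZcard).coprime_dvd_right hZidx
    obtain ⟨K, hK⟩ := exists_right_complement'_of_coprime hZcop
    have hKcard : Nat.card K = Z.index := hK.symm.index_eq_card.symm
    have hKn : K.Normal := ⟨fun k hk c => by
      obtain ⟨⟨⟨z, hz⟩, ⟨k', hk'⟩⟩, hzk, -⟩ := hK.existsUnique c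
      rw [← hzk]
      have h1 : k' * k * k'⁻¹ ∈ K := mul_mem (mul_mem hk' hk) (inv_mem hk')
      have h2 : z * k' * k * (z * k')⁻¹ = z * (k' * k * k'⁻¹) * z⁻¹ := by group
      rw [h2, ← hZc z hz, mul_inv_cancel_right]
      exact h1⟩
    haveI := hKn
    have hKc : K.Characteristic := by
      refine characteristic_iff_le_comap.mpr fun φ k hk => ?_
      rw [mem_comap]
      have hd : orderOf (φ.toMonoidHom k) ∣ Nat.card K := by
        rw [orderOf_injective φ.toMonoidHom φ.injective, ← Subgroup.orderOf_mk k hk]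
        exact orderOf_dvd_natCard _
      obtain ⟨⟨⟨z, hz⟩, ⟨k', hk'⟩⟩, hzk, -⟩ := hK.existsUnique (φ.toMonoidHom k)
      rw [← QuotientGroup.eq_one_iff]
      refine orderOf_eq_one_iff.mp (Nat.eq_one_of_dvd_coprimes (hKcard ▸ hZcop.symm)
        ((orderOf_map_dvd (QuotientGroup.mk' K) _).trans hd) ?_)
      rw [← hzk, QuotientGroup.mk_mul, (QuotientGroup.eq_one_iff k').mpr hk', mul_one]
      exact (orderOf_map_dvd (QuotientGroup.mk' K) z).trans (by rw [← Subgroup.orderOf_mk z hz]; exact orderOf_dvd_natCard _)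
    have hK0 : K.map C.subtype = ⊥ := by
      refine hcore _ ConjAct.normal_of_characteristic_of_normal ?_
      rw [card_map_of_injective C.subtype_injective, hKcard]
      exact (hcop.coprime_dvd_right hZidx).symm
    rw [map_eq_bot_iff_of_injective _ C.subtype_injective] at hK0
    subst hK0
    rw [isComplement'_bot_right] at hK
    intro c hc
    exact mem_subgroupOf.mp (hK.ge (mem_top (⟨c, hc⟩ : C)))
  -- the action on the primary parts of `F`
  haveI : Group.IsNilpotent F :=
    Group.nilpotent_of_surjective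
      (Subgroup.equivMapOfInjective (Cfsg.fittingSubgroup H) H.subtype H.subtype_injective).toMonoidHom
      (Subgroup.equivMapOfInjective (Cfsg.fittingSubgroup H) H.subtype H.subtype_injective).surjective
  haveI := hFn
  have hfcF : Zassenhaus.FC F := hfc.comap (f := Subgroup.inclusion hFH) (inclusion_injective hFH)
  have hex : ∀ p : {p : ℕ // p ∈ (Nat.card F).primeFactors}, ∃ N, ∀ a ∈ derivedSeries A N, ∀ x : F,
      (∃ k, orderOf x = p.1 ^ k) → (a : X) * x * (a : X)⁻¹ = x := by
    rintro ⟨p, hp⟩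
    haveI := Fact.mk (Nat.prime_of_mem_primeFactors hp)
    obtain ⟨P⟩ : Nonempty (Sylow p F) := inferInstance
    have hPn : (P : Subgroup F).Normal := Sylow.normal_of_normalizerCondition Group.normalizerCondition_of_isNilpotent P
    haveI := Sylow.characteristic_of_normal P hPn
    set P' : Subgroup X := (P : Subgroup F).map F.subtype with hP'
    haveI : P'.Normal := ConjAct.normal_of_characteristic_of_normal
    have hshape : IsCyclic P' ∨ p = 2 ∧ ∃ n : ℕ, Nonempty (P' ≃* QuaternionGroup (2 ^ n)) := by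
      set e := Subgroup.equivMapOfInjective (P : Subgroup F) F.subtype F.subtype_injective
      by_cases hp2 : p = 2
      · subst hp2
        rcases (hfcF.subgroup (P : Subgroup F)).two_group P.2 with hc | ⟨n, ⟨e2⟩⟩
        · exact Or.inl (e.isCyclic.mp hc)
        · exact Or.inr ⟨rfl, n, ⟨e.symm.trans e2⟩⟩
      · exact Or.inl (e.isCyclic.mp (hfcF.isCyclic_sylow hp2 P))
    obtain ⟨N, hN⟩ := derived_eq_one_of_pGroup (A := A) (P := P') (p := p) (P.2.map F.subtype) hshape
      (fun _ hd => by
        refine (Fact.out : p.Prime).not_dvd_one (hcop ▸ Nat.dvd_gcd ?_ (hAcard ▸ hd))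
        exact (Nat.dvd_of_mem_primeFactors hp).trans (card_dvd_of_le hFH))
      ((MulAut.conjNormal (H := P')).comp A.subtype)
    refine ⟨N, fun a ha x ⟨k, hk⟩ => ?_⟩
    have hxP : x ∈ (P : Subgroup F) := by
      obtain ⟨R, hR⟩ := (IsPGroup.of_card (p := p) (n := k) (G := zpowers x)
        (by rw [Nat.card_zpowers, hk])).exists_le_sylow
      haveI := Sylow.unique_of_normal P hPn
      rw [Subsingleton.elim P R]
      exact hR (mem_zpowers x)
    have h1 := congrArg Subtype.val (DFunLike.congr_fun (hN a ha) (⟨x, ⟨x, hxP, rfl⟩⟩ : P'))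
    simpa [MulAut.conjNormal_apply] using h1
  choose N hN using hex
  refine (Group.isSolvable_def A).mpr ⟨Finset.univ.sup N, eq_bot_iff.mpr fun a ha => ?_⟩
  have hfix : ∀ x : F, (a : X) * x * (a : X)⁻¹ = x := by
    let S : Subgroup F :=
      { carrier := {x | (a : X) * x * (a : X)⁻¹ = x}
        one_mem' := by simp
        mul_mem' := fun {x y} (hx : _ = _) (hy : _ = _) => by
          show (a : X) * ((x : X) * y) * (a : X)⁻¹ = (x : X) * y
          conv_rhs => rw [← hx, ← hy]
          group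
        inv_mem' := fun {x} (hx : _ = _) => by
          show (a : X) * (x : X)⁻¹ * (a : X)⁻¹ = (x : X)⁻¹
          conv_rhs => rw [← hx]
          group }
    suffices htop : S = ⊤ from fun x => (htop.ge (mem_top x) : x ∈ S)
    rw [← index_eq_one]
    by_contra hne
    obtain ⟨p, hp, hpd⟩ := Nat.exists_prime_and_dvd hne
    haveI := Fact.mk hp
    obtain ⟨P⟩ : Nonempty (Sylow p F) := inferInstance
    refine P.not_dvd_index (hpd.trans (index_dvd_of_le fun x hx => ?_))
    obtain ⟨k, hk⟩ := IsPGroup.iff_orderOf.mp P.2 ⟨x, hx⟩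
    rw [Subgroup.orderOf_mk] at hk
    have hpF : p ∈ (Nat.card F).primeFactors :=
      Nat.mem_primeFactors.mpr ⟨hp, hpd.trans (index_dvd_card _), Nat.card_pos.ne'⟩
    exact hN ⟨p, hpF⟩ a (derivedSeries_antitone _ (Finset.le_sup (Finset.mem_univ _)) ha) x ⟨k, hk⟩
  have haC : (a : X) ∈ C := mem_centralizer_iff.mpr fun f hf =>
    (mul_inv_eq_iff_eq_mul.mp (hfix ⟨f, hf⟩)).symm
  rw [mem_bot]
  exact Subtype.ext (disjoint_def.mp hA.disjoint (hCH haC) a.2)

end Cfsg.Agent.FGB
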