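/-
A normal `p`-complement criterion for Sylow subgroups of class at most two: it suffices to control the
normalizers of the subgroups that are normal in a Sylow subgroup.
-/
import Mathlib
import Cfsg.Agent.Lib.Transfer.Fusion

set_option autoImplicit false
set_option linter.all false

namespace Cfsg.Agent.FGB

open Subgroup
open scoped Pointwise

variable {G : Type*} [Group G] [Finite G] {p : ℕ} [Fact p.Prime]

/-- The control hypothesis moves to every Sylow subgroup. -/
theorem control_sylow (P : Sylow p G)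
    (h : ∀ D : Subgroup G, D ≠ ⊥ → D ≤ (P : Subgroup G) → (P : Subgroup G) ≤ normalizer (D : Set G) →
      ∀ g ∈ normalizer (D : Set G), (orderOf g).Coprime p → g ∈ centralizer ((P : Subgroup G) : Set G))
    (hcl : ∀ x ∈ (P : Subgroup G), ∀ y ∈ (P : Subgroup G), ∀ z ∈ (P : Subgroup G),
      Commute (x * y * x⁻¹ * y⁻¹) z) (Q : Sylow p G) :
    (∀ D : Subgroup G, D ≠ ⊥ → D ≤ (Q : Subgroup G) → (Q : Subgroup G) ≤ normalizer (D : Set G) →
      ∀ g ∈ normalizer (D : Set G), (orderOf g).Coprime p → g ∈ centralizer ((Q : Subgroup G) : Set G)) ∧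
    (∀ x ∈ (Q : Subgroup G), ∀ y ∈ (Q : Subgroup G), ∀ z ∈ (Q : Subgroup G),
      Commute (x * y * x⁻¹ * y⁻¹) z) := by
  obtain ⟨a, ha⟩ := MulAction.exists_smul_eq G P Q
  set f : G →* G := (MulAut.conj a⁻¹).toMonoidHom with hf
  have hfi : Function.Injective f := (MulAut.conj a⁻¹).injective
  have hfs : Function.Surjective f := (MulAut.conj a⁻¹).surjective
  have hQ : ∀ x, x ∈ (Q : Subgroup G) ↔ f x ∈ (P : Subgroup G) := fun x => by
    rw [← ha, Sylow.coe_subgroup_smul, mem_pointwise_smul_iff_inv_smul_mem]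
    simp [hf]
  refine ⟨fun D hD1 hDQ hQD g hg hgc => ?_, fun x hx y hy z hz => ?_⟩
  · have hN : ∀ n ∈ normalizer (D : Set G), f n ∈ normalizer ((D.map f : Subgroup G) : Set G) := by
      intro n hn
      exact le_normalizer_map f ⟨n, hn, rfl⟩
    have h1 := h (D.map f) (by rwa [Ne, map_eq_bot_iff_of_injective _ hfi])
      (by rintro _ ⟨x, hx, rfl⟩; exact (hQ x).mp (hDQ hx))
      (by
        intro x hx
        obtain ⟨w, rfl⟩ := hfs x
        exact hN w (hQD ((hQ w).mpr hx)))
      (f g) (hN g hg) (by rwa [orderOf_injective f hfi])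
    rw [mem_centralizer_iff] at h1 ⊢
    intro x hx
    apply hfi
    rw [map_mul, map_mul]
    exact h1 (f x) ((hQ x).mp hx)
  · have := hcl _ ((hQ x).mp hx) _ ((hQ y).mp hy) _ ((hQ z).mp hz)
    apply hfi
    simpa only [map_mul, map_inv] using this.eq

/-- A group with a Sylow `p`-subgroup of class at most two has a normal `p`-complement as soon as
the `p'`-elements normalizing a normal subgroup of the Sylow subgroup centralize it. -/
theorem hasNormalPComplement_of_class_two (P : Sylow p G)
    (h : ∀ D : Subgroup G, D ≠ ⊥ → D ≤ (P : Subgroup G) → (P : Subgroup G) ≤ normalizer (D : Set G) →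
      ∀ g ∈ normalizer (D : Set G), (orderOf g).Coprime p → g ∈ centralizer ((P : Subgroup G) : Set G))
    (hcl : ∀ x ∈ (P : Subgroup G), ∀ y ∈ (P : Subgroup G), ∀ z ∈ (P : Subgroup G),
      Commute (x * y * x⁻¹ * y⁻¹) z) :
    Cfsg.HasNormalPComplement p G := by
  classical
  refine Transfer.hasNormalPComplement_of_frobenius ?_
  intro D
  induction hk : Nat.card G - Nat.card D using Nat.strong_induction_on generalizing D with
  | _ k ih =>
  intro hD g hg hgc
  rcases eq_or_ne D ⊥ with rfl | hD1
  · simp [mem_centralizer_iff]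
  set N := normalizer (D : Set G) with hN
  obtain ⟨S1⟩ : Nonempty (Sylow p N) := inferInstance
  obtain ⟨Q, hQ⟩ := (S1.2.map N.subtype).exists_le_sylow
  obtain ⟨hQh, hQcl⟩ := control_sylow P h hcl Q
  haveI hDN : (D.subgroupOf N).Normal := normal_in_normalizer
  have hDp : IsPGroup p (D.subgroupOf N) := hD.comap_subtype
  have hDS : D.subgroupOf N ≤ (S1 : Subgroup N) := by
    have := S1.3 (IsPGroup.to_sup_of_normal_right S1.2 hDp) le_sup_left
    exact this ▸ le_sup_right
  have hDQ : D ≤ (Q : Subgroup G) := fun x hx => hQ ⟨⟨x, le_normalizer hx⟩, hDS hx, rfl⟩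
  have hS1eq : ∀ x : N, x ∈ (S1 : Subgroup N) ↔ (x : G) ∈ (Q : Subgroup G) := by
    have := S1.3 (Q.2.comap_subtype (K := N)) fun x hx => hQ ⟨x, hx, rfl⟩
    intro x
    rw [← this]
    rfl
  set C : Subgroup N := (centralizer (D : Set G)).subgroupOf N with hC
  haveI hCn : C.Normal := by
    simp only [hC, hN]
    rw [← normalizerMonoidHom_ker]
    exact MonoidHom.normal_ker _
  have hgC : (⟨g, hg⟩ : N) ∈ C := by
    by_cases hT : ∀ x ∈ (Q : Subgroup G), x ∈ centralizer (D : Set G) → x ∈ D
    · -- then `D` is normal in `Q`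
      have hQD : (Q : Subgroup G) ≤ N := by
        intro x hx
        have hkey : ∀ y ∈ (Q : Subgroup G), ∀ d ∈ D, y * d * y⁻¹ ∈ D := by
          intro y hy d hd
          have hc : y * d * y⁻¹ * d⁻¹ ∈ D := by
            refine hT _ (mul_mem (mul_mem (mul_mem hy (hDQ hd)) (inv_mem hy)) (inv_mem (hDQ hd))) ?_
            rw [mem_centralizer_iff]
            intro e he
            exact (hQcl y hy d (hDQ hd) e (hDQ he)).eq.symm
          simpa using mul_mem hc hd
        rw [hN, mem_normalizer_iff]
        exact fun d => ⟨hkey x hx d, fun h' => by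
          simpa [mul_assoc] using hkey x⁻¹ (inv_mem hx) _ h'⟩
      have h1 := hQh D hD1 hDQ hQD g hg hgc
      rw [mem_subgroupOf]
      exact centralizer_le (fun x hx => hDQ hx) h1
    · push Not at hT
      obtain ⟨x₀, hx₀Q, hx₀C, hx₀D⟩ := hT
      -- a Sylow subgroup of the centralizer
      set T : Subgroup N := (S1 : Subgroup N) ⊓ C with hT'
      obtain ⟨R, hR⟩ := ((S1.2.to_inf_left (K := C)).comap_subtype (K := C)).exists_le_sylow
      have hRT : (R : Subgroup C).map C.subtype = T := by
        have hTR : T ≤ (R : Subgroup C).map C.subtype := fun x hx => ⟨⟨x, hx.2⟩, hR hx, rfl⟩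
        refine (eq_of_le_of_card_ge hTR ?_).symm
        obtain ⟨S2, hS2⟩ := (R.2.map C.subtype).exists_le_sylow
        obtain ⟨m, hm⟩ := MulAction.exists_smul_eq N S2 S1
        refine le_of_eq_of_le ((card_map_of_injective (f := (MulAut.conj m).toMonoidHom) (MulAut.conj m).injective).symm)
          (card_le_of_le (le_inf ?_ ?_))
        · rw [← hm, Sylow.coe_subgroup_smul]
          exact map_mono hS2
        · rintro _ ⟨_, ⟨y, _, rfl⟩, rfl⟩
          exact hCn.conj_mem _ y.2 m
      have hfr := Sylow.normalizer_sup_eq_top R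
      rw [hRT] at hfr
      have hgm : (⟨g, hg⟩ : N) ∈ (↑(normalizer (T : Set N)) * ↑C : Set N) := by
        rw [← mul_normal, hfr]; trivial
      obtain ⟨n, hn, c, hc, hnc⟩ := Set.mem_mul.mp hgm
      obtain ⟨a, b, ha, hb, hab, hak, hbc⟩ := Transfer.exists_pPart_mul (p := p) n
      -- the larger subgroup
      set D' : Subgroup G := D ⊔ T.map N.subtype with hD'
      have hTQ : T.map N.subtype ≤ (Q : Subgroup G) := by
        rintro _ ⟨y, hy, rfl⟩; exact (hS1eq y).mp hy.1
      have hD'Q : D' ≤ (Q : Subgroup G) := sup_le hDQ hTQ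
      have hx₀N : x₀ ∈ N := by
        rw [hN, mem_normalizer_iff]
        intro d
        have hcd : ∀ e ∈ D, x₀ * e * x₀⁻¹ = e := fun e he => by
          rw [← mem_centralizer_iff.mp hx₀C e he, mul_inv_cancel_right]
        refine ⟨fun hd => by rw [hcd d hd]; exact hd, fun hd => ?_⟩
        have := hcd _ hd
        have h2 : x₀ * d * x₀⁻¹ = d := by simpa using this
        rwa [h2] at hd
      have hlt : Nat.card D < Nat.card D' := by
        by_contra hle
        have heq : D = D' := eq_of_le_of_card_ge le_sup_left (not_lt.mp hle)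
        refine hx₀D (heq ▸ ?_)
        exact mem_sup_right ⟨⟨x₀, hx₀N⟩, ⟨(hS1eq _).mpr hx₀Q, hx₀C⟩, rfl⟩
      have hbN : (b : G) ∈ normalizer (D' : Set G) := by
        have hbT : b ∈ normalizer (T : Set N) := zpowers_le.mpr hn hb
        have hle : D'.map (MulAut.conj (b : G)).toMonoidHom ≤ D' := by
          rw [hD', Subgroup.map_sup]
          refine sup_le_sup ?_ ?_
          · rintro _ ⟨d, hd, rfl⟩
            exact (mem_normalizer_iff.mp b.2 d).mp hd
          · rintro _ ⟨_, ⟨t, ht, rfl⟩, rfl⟩
            exact ⟨b * t * b⁻¹, (mem_normalizer_iff.mp hbT t).mp ht, rfl⟩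
        have heq : D'.map (MulAut.conj (b : G)).toMonoidHom = D' :=
          eq_of_le_of_card_ge hle (card_map_of_injective (MulAut.conj (b : G)).injective).ge
        rw [mem_normalizer_iff]
        intro d
        refine ⟨fun hd => hle ⟨d, hd, rfl⟩, fun hd => ?_⟩
        obtain ⟨w, hw, hwd⟩ := heq.ge hd
        have : w = d := (MulAut.conj (b : G)).injective hwd
        exact this ▸ hw
      have hbC : b ∈ C := by
        have h1 := ih (Nat.card G - Nat.card D') (by
          have := D'.card_le_card_group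
          omega) D' rfl (Q.2.to_le hD'Q) b hbN (by rwa [Subgroup.orderOf_coe])
        exact mem_subgroupOf.mpr (centralizer_le (fun x hx => mem_sup_left hx) h1)
      -- the image of `g` in `N / C` has both coprime and `p`-power order
      rw [← QuotientGroup.eq_one_iff]
      have e1 : ((⟨g, hg⟩ : N) : N ⧸ C) = (a : N ⧸ C) := by
        rw [← hnc, ← hab, QuotientGroup.mk_mul, QuotientGroup.mk_mul,
          (QuotientGroup.eq_one_iff b).mpr hbC, (QuotientGroup.eq_one_iff c).mpr hc, mul_one, mul_one]
      obtain ⟨i, hi⟩ := hak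
      refine orderOf_eq_one_iff.mp (Nat.eq_one_of_dvd_coprimes (hgc.pow_right i) ?_ ?_)
      · exact (orderOf_map_dvd (QuotientGroup.mk' C) (⟨g, hg⟩ : N)).trans (by rw [Subgroup.orderOf_mk])
      · rw [e1]
        exact (orderOf_map_dvd (QuotientGroup.mk' C) a).trans hi
  exact mem_subgroupOf.mp hgC

end Cfsg.Agent.FGB
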