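import Mathlib

set_option autoImplicit false

namespace Cfsg.Agent.FGB

universe u

variable {G : Type u} [Group G]

/-- A self-normalising trivial-intersection subgroup (Frobenius complement). -/
def IsMalnormalTI (H : Subgroup G) : Prop := ∀ g : G, g ∉ H → ∀ x ∈ H, g * x * g⁻¹ ∈ H → x = 1

theorem coprime_card_index_of_malnormal [Finite G] {H : Subgroup G} (hH : IsMalnormalTI H) :
    (Nat.card H).Coprime H.index := by
  refine Nat.coprime_of_dvd fun q hq hqH hqi => ?_
  haveI := Fact.mk hq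
  obtain ⟨Q⟩ := (inferInstance : Nonempty (Sylow q H))
  have hQ : IsPGroup q ((Q : Subgroup H).map H.subtype) := Q.2.map _
  obtain ⟨S, hS⟩ := hQ.exists_le_sylow
  by_cases hSH : (S : Subgroup G) ≤ H
  · exact S.not_dvd_index (hqi.trans (Subgroup.index_dvd_of_le hSH))
  · let Q' : Subgroup (S : Subgroup G) := H.subgroupOf (S : Subgroup G)
    have hne : Q' ≠ ⊤ := fun h => hSH (Subgroup.subgroupOf_eq_top.mp h)
    haveI := S.2.isNilpotent
    obtain ⟨g, hg, hgQ⟩ := SetLike.exists_of_lt (Group.normalizerCondition_of_isNilpotent Q' (lt_top_iff_ne_top.mpr hne))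
    obtain ⟨y, hy1⟩ : ∃ y : (Q : Subgroup H), y ≠ 1 := by
      haveI : Nontrivial (Q : Subgroup H) := (Subgroup.nontrivial_iff_ne_bot _).mpr (Q.ne_bot_of_dvd_card hqH)
      exact exists_ne 1
    have hyS : ((y : H) : G) ∈ (S : Subgroup G) := hS ⟨(y : H), y.2, rfl⟩
    have := (Subgroup.mem_normalizer_iff.mp hg ⟨((y : H) : G), hyS⟩).mp (y : H).2
    exact hy1 (Subtype.ext (Subtype.ext (hH (g : G) hgQ ((y : H) : G) (y : H).2 this)))

end Cfsg.Agent.FGB
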