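/-
Frobenius' theorem on the number of solutions of `g ^ m = 1`, with the counting lemma behind it.
-/
import Mathlib
import Cfsg.Agent.Lib.FGB.PRegularClasses

set_option autoImplicit false
set_option linter.all false

universe u

namespace Cfsg.Agent.FGB

variable {G : Type u} [Group G] [Finite G]

omit [Finite G] in
theorem card_commuting_roots (y : G) (s : ℕ) :
    Nat.card {z : G // Commute y z ∧ z ^ s = 1} =
      Nat.card {z : Subgroup.centralizer ({y} : Set G) // z ^ s = 1} := by
  refine Nat.card_congr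
    { toFun := fun z => ⟨⟨z.1, Subgroup.mem_centralizer_singleton_iff.mpr z.2.1.symm.eq⟩, Subtype.ext z.2.2⟩
      invFun := fun z => ⟨z.1.1, (show Commute z.1.1 y from Subgroup.mem_centralizer_singleton_iff.mp z.1.2).symm,
        congrArg Subtype.val z.2⟩
      left_inv := fun z => rfl
      right_inv := fun z => rfl }

theorem card_roots_gcd (s : ℕ) :
    Nat.card {g : G // g ^ s = 1} = Nat.card {g : G // g ^ Nat.gcd s (Nat.card G) = 1} :=
  Nat.card_congr (Equiv.subtypeEquivRight fun g =>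
    ⟨fun h => pow_gcd_eq_one.mpr ⟨h, pow_card_eq_one'⟩, fun h => (pow_gcd_eq_one.mp h).1⟩)

/-- Summing over the classes: pairs of an element of an invariant set and a commuting `s`-root. -/
theorem dvd_card_sigma_roots {s : ℕ} (hs : s ∣ Nat.card G) (Y : G → Prop)
    (hY : ∀ c y : G, Y y → Y (c * y * c⁻¹))
    (hf : ∀ y, Y y → Nat.gcd s (Nat.card (Subgroup.centralizer ({y} : Set G))) ∣
      Nat.card {z : G // Commute y z ∧ z ^ s = 1}) :
    s ∣ Nat.card (Σ y : {y : G // Y y}, {z : G // Commute y.1 z ∧ z ^ s = 1}) := by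
  classical
  haveI : Fintype {y : G // Y y} := Fintype.ofFinite _
  haveI : Fintype (ConjClasses G) := Fintype.ofFinite _
  rw [Nat.card_sigma, ← Finset.sum_fiberwise Finset.univ (fun y : {y : G // Y y} => ConjClasses.mk y.1)]
  refine Finset.dvd_sum fun q _ => ?_
  rcases (Finset.univ.filter fun y : {y : G // Y y} => ConjClasses.mk y.1 = q).eq_empty_or_nonempty with he | ⟨a, ha⟩
  · rw [he, Finset.sum_empty]; exact dvd_zero s
  rw [Finset.mem_filter] at ha
  have hconst : ∀ y ∈ Finset.univ.filter (fun y : {y : G // Y y} => ConjClasses.mk y.1 = q),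
      Nat.card {z : G // Commute y.1 z ∧ z ^ s = 1} = Nat.card {z : G // Commute a.1 z ∧ z ^ s = 1} := by
    intro y hy
    rw [Finset.mem_filter] at hy
    obtain ⟨c, hc⟩ := isConj_iff.mp (ConjClasses.mk_eq_mk_iff_isConj.mp (ha.2.trans hy.2.symm))
    refine (Nat.card_congr (Equiv.subtypeEquiv (MulAut.conj c).toEquiv fun z => ?_)).symm
    show Commute a.1 z ∧ z ^ s = 1 ↔ Commute y.1 (c * z * c⁻¹) ∧ (c * z * c⁻¹) ^ s = 1
    rw [← hc, conj_pow, conj_eq_one_iff]
    refine and_congr_left fun _ => ⟨fun h => h.map (MulAut.conj c).toMonoidHom, fun h => ?_⟩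
    have := h.map (MulAut.conj c⁻¹).toMonoidHom
    simpa [mul_assoc] using this
  rw [Finset.sum_congr rfl hconst, Finset.sum_const, smul_eq_mul]
  have hcount : (Finset.univ.filter fun y : {y : G // Y y} => ConjClasses.mk y.1 = q).card =
      (Subgroup.centralizer ({a.1} : Set G)).index := by
    rw [← ncard_carrier_eq_index_centralizer, ← Nat.card_coe_set_eq, ← Fintype.card_subtype, ← Nat.card_eq_fintype_card]
    refine Nat.card_congr
      { toFun := fun y => ⟨y.1.1, ConjClasses.mem_carrier_iff_mk_eq.mpr (y.2.trans ha.2.symm)⟩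
        invFun := fun x => ⟨⟨x.1, ?_⟩, (ConjClasses.mem_carrier_iff_mk_eq.mp x.2).trans ha.2⟩
        left_inv := fun y => rfl
        right_inv := fun x => rfl }
    obtain ⟨c, hc⟩ := isConj_iff.mp (ConjClasses.mk_eq_mk_iff_isConj.mp (ConjClasses.mem_carrier_iff_mk_eq.mp x.2).symm)
    exact hc ▸ hY c a.1 a.2
  rw [hcount]
  refine dvd_trans ?_ (Nat.mul_dvd_mul_left _ (hf a.1 a.2))
  rw [← Nat.gcd_mul_left]
  refine Nat.dvd_gcd (dvd_mul_left s _) ?_
  rw [Subgroup.index_mul_card]
  exact hs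

theorem frobenius_aux : ∀ (N : ℕ) (G : Type u) [Group G] [Finite G], Nat.card G = N →
    ∀ m : ℕ, m ∣ N → m ∣ Nat.card {g : G // g ^ m = 1} := by
  intro N
  induction N using Nat.strong_induction_on with
  | _ N ihN =>
  intro G _ _ hN
  suffices key : ∀ j m : ℕ, m * j = N → m ∣ Nat.card {g : G // g ^ m = 1} by
    rintro m ⟨j, hj⟩
    exact key j m hj.symm
  intro j
  induction j using Nat.strong_induction_on with
  | _ j ihj =>
  intro m hmj
  have hNpos : 0 < N := hN ▸ Nat.card_pos
  rcases eq_or_ne j 1 with rfl | hj1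
  · rw [mul_one] at hmj
    rw [Nat.card_congr (Equiv.subtypeUnivEquiv (fun g : G => by rw [hmj, ← hN]; exact pow_card_eq_one')), hN, hmj]
  obtain ⟨p, hp, hpj⟩ := Nat.exists_prime_and_dvd hj1
  obtain ⟨j', rfl⟩ := hpj
  haveI := Fact.mk hp
  have hj'pos : 0 < j' := Nat.pos_of_ne_zero fun h => hNpos.ne' (by rw [← hmj, h, mul_zero, mul_zero])
  have h1 : m * p ∣ Nat.card {g : G // g ^ (m * p) = 1} :=
    ihj j' (lt_mul_of_one_lt_left hj'pos hp.one_lt) (m * p) (by rw [mul_assoc]; exact hmj)
  have hm0 : m ≠ 0 := fun h => hNpos.ne' (by rw [← hmj, h, zero_mul])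
  obtain ⟨a, s, hps, hms⟩ := Nat.exists_eq_pow_mul_and_not_dvd hm0 p hp.ne_one
  have hco : (p ^ (a + 1)).Coprime s := Nat.Coprime.pow_left _ (hp.coprime_iff_not_dvd.mpr hps)
  set A := {g : G // g ^ (m * p) = 1 ∧ g ^ m ≠ 1} with hA
  -- the part of `p`
  have hAp : p ^ a ∣ Nat.card A := by
    classical
    haveI : Fintype G := Fintype.ofFinite _
    haveI : Fintype (Subgroup G) := Fintype.ofFinite _
    rw [← Nat.card_congr (Equiv.sigmaFiberEquiv (fun g : A => Subgroup.zpowers g.1)), Nat.card_sigma]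
    refine Finset.dvd_sum fun Z _ => ?_
    rcases isEmpty_or_nonempty {g : A // Subgroup.zpowers g.1 = Z} with he | ⟨⟨g0, hg0⟩⟩
    · simp
    subst hg0
    haveI : Fintype (Subgroup.zpowers g0.1) := Fintype.ofFinite _
    have e : Nat.card {g : A // Subgroup.zpowers g.1 = Subgroup.zpowers g0.1} = (orderOf g0.1).totient := by
      rw [← Nat.card_zpowers, Nat.card_eq_fintype_card (α := Subgroup.zpowers g0.1)]
      rw [← IsCyclic.card_orderOf_eq_totient (α := Subgroup.zpowers g0.1) dvd_rfl, ← Fintype.card_subtype,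
        ← Nat.card_eq_fintype_card]
      refine Nat.card_congr
        { toFun := fun g => ⟨⟨g.1.1, g.2.le (Subgroup.mem_zpowers _)⟩, ?_⟩
          invFun := fun z => ⟨⟨z.1.1, ?_⟩, ?_⟩
          left_inv := fun g => rfl
          right_inv := fun z => rfl }
      · rw [Subgroup.orderOf_mk, ← Nat.card_zpowers, g.2, Nat.card_eq_fintype_card]
      · have hz : orderOf z.1.1 = orderOf g0.1 := by
          rw [Subgroup.orderOf_coe, z.2, ← Nat.card_eq_fintype_card, Nat.card_zpowers]
        simp only [ne_eq, ← orderOf_dvd_iff_pow_eq_one, hz]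
        exact ⟨orderOf_dvd_of_pow_eq_one g0.2.1, fun h => g0.2.2 (orderOf_dvd_iff_pow_eq_one.mp h)⟩
      · refine Subgroup.eq_of_le_of_card_ge (Subgroup.zpowers_le.mpr z.1.2) ?_
        exact le_of_eq (Nat.card_eq_fintype_card.trans (z.2.symm.trans ((Subgroup.orderOf_coe _).symm.trans (Nat.card_zpowers _).symm)))
    rw [e]
    have hd : p ^ (a + 1) ∣ orderOf g0.1 := by
      obtain ⟨c, hc⟩ := orderOf_dvd_of_pow_eq_one g0.2.1
      by_contra hnd
      apply g0.2.2
      rw [← orderOf_dvd_iff_pow_eq_one]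
      have hd1 : orderOf g0.1 ∣ p ^ (a + 1) * s := by
        rw [show p ^ (a + 1) * s = m * p by rw [hms, pow_succ]; ring]; exact Dvd.intro c hc.symm
      obtain ⟨d1, d2, hd1', hd2', he⟩ := exists_dvd_and_dvd_of_dvd_mul hd1
      obtain ⟨i, hi, rfl⟩ := (Nat.dvd_prime_pow hp).mp hd1'
      rw [he, hms]
      refine Nat.mul_dvd_mul (pow_dvd_pow p ?_) hd2'
      by_contra hia
      exact hnd ((he ▸ dvd_mul_right _ _ : p ^ i ∣ orderOf g0.1) |> fun h => (pow_dvd_pow p (by omega)).trans h)
    refine dvd_trans ?_ (Nat.totient_dvd_of_dvd hd)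
    rw [Nat.totient_prime_pow_succ hp]
    exact dvd_mul_right _ _
  -- the part prime to `p`
  have hAs : s ∣ Nat.card A := by
    obtain ⟨e, he1, he2⟩ := Nat.chineseRemainder hco 1 0
    have hes : e * s ≡ 1 * s [MOD p ^ (a + 1) * s] := Nat.ModEq.mul_right' s he1
    have hs0 : s ∣ e := Nat.modEq_zero_iff_dvd.mp he2
    have hmp : m * p = p ^ (a + 1) * s := by rw [hms, pow_succ]; ring
    set Y : G → Prop := fun y => y ^ p ^ (a + 1) = 1 ∧ y ^ p ^ a ≠ 1
    have key : Nat.card A = Nat.card (Σ y : {y : G // Y y}, {z : G // Commute y.1 z ∧ z ^ s = 1}) := by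
      refine Nat.card_congr
        { toFun := fun g => ⟨⟨g.1 ^ e, ?_, ?_⟩, ⟨(g.1 ^ e)⁻¹ * g.1, ?_, ?_⟩⟩
          invFun := fun w => ⟨w.1.1 * w.2.1, ?_, ?_⟩
          left_inv := fun g => Subtype.ext (mul_inv_cancel_left _ _)
          right_inv := ?_ }
      · obtain ⟨c, hc⟩ := hs0
        rw [hc, ← pow_mul, show s * c * p ^ (a + 1) = (p ^ (a + 1) * s) * c by ring, ← hmp, pow_mul, g.2.1, one_pow]
      · intro h
        apply g.2.2
        have h2 : g.1 ^ (e * s) = g.1 ^ s := by
          rw [pow_eq_pow_iff_modEq]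
          refine (hes.trans (by rw [one_mul])).of_dvd ?_
          rw [← hmp]; exact orderOf_dvd_of_pow_eq_one g.2.1
        refine (congrArg (g.1 ^ ·) hms).trans ?_
        show g.1 ^ (p ^ a * s) = 1
        rw [mul_comm (p ^ a) s, pow_mul, ← h2, ← pow_mul, show e * s * p ^ a = (e * p ^ a) * s by ring, pow_mul,
          pow_mul g.1 e, h, one_pow]
      · exact ((Commute.refl _).inv_right).mul_right (Commute.pow_self g.1 e)
      · rw [((Commute.pow_self g.1 e).inv_left).mul_pow, inv_pow, ← pow_mul]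
        rw [show g.1 ^ (e * s) = g.1 ^ s from (pow_eq_pow_iff_modEq.mpr ((hes.trans (by rw [one_mul])).of_dvd
          (hmp ▸ orderOf_dvd_of_pow_eq_one g.2.1)))]
        exact inv_mul_cancel _
      · rw [hmp, w.2.2.1.mul_pow, pow_mul, w.1.2.1, one_pow, one_mul, mul_comm, pow_mul, w.2.2.2, one_pow]
      · intro h
        apply w.1.2.2
        rw [hms, w.2.2.1.mul_pow, mul_comm (p ^ a) s, pow_mul w.2.1, w.2.2.2, one_pow, mul_one, mul_comm, pow_mul] at h
        have hoy : orderOf w.1.1 ∣ p ^ (a + 1) := orderOf_dvd_of_pow_eq_one w.1.2.1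
        rw [← orderOf_dvd_iff_pow_eq_one]
        refine (Nat.Coprime.coprime_dvd_left hoy hco).dvd_of_dvd_mul_right ?_
        rw [← pow_mul] at h
        exact orderOf_dvd_of_pow_eq_one h
      · rintro ⟨⟨y, hy1, hy2⟩, ⟨z, hz1, hz2⟩⟩
        have hye : (y * z) ^ e = y := by
          rw [hz1.mul_pow]
          obtain ⟨c, hc⟩ := hs0
          rw [show z ^ e = 1 by rw [hc, pow_mul, hz2, one_pow], mul_one]
          calc y ^ e = y ^ 1 := pow_eq_pow_iff_modEq.mpr (he1.of_dvd (orderOf_dvd_of_pow_eq_one hy1))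
            _ = y := pow_one y
        refine Sigma.subtype_ext (Subtype.ext hye) ?_
        show ((y * z) ^ e)⁻¹ * (y * z) = z
        rw [hye, inv_mul_cancel_left]
    rw [key]
    refine dvd_card_sigma_roots ?_ Y ?_ ?_
    · rw [hN, ← hmj, hms]; exact (dvd_mul_left s _).mul_right _
    · intro c y hy
      refine ⟨by rw [conj_pow, hy.1]; group, fun h => hy.2 ?_⟩
      rw [conj_pow, conj_eq_one_iff] at h
      exact h
    · intro y hy
      set C := Subgroup.centralizer ({y} : Set G) with hC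
      rw [card_commuting_roots]
      have hyC : y ∈ C := Subgroup.mem_centralizer_singleton_iff.mpr rfl
      set Z := Subgroup.zpowers (⟨y, hyC⟩ : C) with hZ
      have hcen : ∀ z ∈ Z, ∀ w : C, Commute z w := by
        rintro _ ⟨i, rfl⟩ w
        have : Commute (⟨y, hyC⟩ : C) w := Subtype.ext
          ((show Commute w.1 y from Subgroup.mem_centralizer_singleton_iff.mp w.2).symm.eq)
        exact this.zpow_left i
      haveI : Z.Normal := ⟨fun z hz w => by
        rw [← (hcen z hz w).eq, mul_inv_cancel_right]; exact hz⟩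
      have hoy : orderOf (⟨y, hyC⟩ : C) ∣ p ^ (a + 1) := by
        rw [Subgroup.orderOf_mk]; exact orderOf_dvd_of_pow_eq_one hy.1
      have hyco : (Nat.card Z).Coprime s := by
        rw [hZ, Nat.card_zpowers]; exact Nat.Coprime.coprime_dvd_left hoy hco
      have hbij : Nat.card {z : C // z ^ s = 1} = Nat.card {q : C ⧸ Z // q ^ s = 1} := by
        let f : {z : C // z ^ s = 1} → {q : C ⧸ Z // q ^ s = 1} := fun z =>
          ⟨(z.1 : C ⧸ Z), by rw [← QuotientGroup.mk_pow, z.2, QuotientGroup.mk_one]⟩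
        refine Nat.card_congr (Equiv.ofBijective f ⟨fun u v huv => ?_, fun q => ?_⟩)
        · have hd : u.1⁻¹ * v.1 ∈ Z := QuotientGroup.eq.mp (congrArg Subtype.val huv)
          set d := u.1⁻¹ * v.1 with hddef
          have hv : v.1 = u.1 * d := (mul_inv_cancel_left _ _).symm
          have hds : d ^ s = 1 := by
            have := v.2
            rwa [hv, (hcen d hd u.1).symm.mul_pow, u.2, one_mul] at this
          have hdc : d ^ Nat.card Z = 1 := congrArg Subtype.val (pow_card_eq_one' (x := (⟨d, hd⟩ : Z)))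
          have : d = 1 := by
            rw [← pow_one d, ← hyco]
            exact pow_gcd_eq_one.mpr ⟨hdc, hds⟩
          exact Subtype.ext (by rw [hv, this, mul_one])
        · obtain ⟨q, hq⟩ := q
          induction q using QuotientGroup.induction_on with
          | H w =>
            have hws : w ^ s ∈ Z := by rw [← QuotientGroup.eq_one_iff, QuotientGroup.mk_pow]; exact hq
            obtain ⟨k, hk⟩ := exists_pow_eq_self_of_coprime (n := s) (x := (⟨w ^ s, hws⟩ : Z))
              (Nat.Coprime.coprime_dvd_right (_root_.orderOf_dvd_natCard _) hyco.symm)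
            have hk' : ((w ^ s) ^ s) ^ k = w ^ s := congrArg Subtype.val hk
            refine ⟨⟨w * ((w ^ s) ^ k)⁻¹, ?_⟩, Subtype.ext ?_⟩
            · rw [((hcen _ (inv_mem (pow_mem hws k)) w).symm).mul_pow, inv_pow, pow_right_comm, hk', mul_inv_cancel]
            · show ((w * ((w ^ s) ^ k)⁻¹ : C) : C ⧸ Z) = w
              rw [QuotientGroup.mk_mul, (QuotientGroup.eq_one_iff _).mpr (inv_mem (pow_mem hws k)), mul_one]
      rw [hbij, card_roots_gcd (G := C ⧸ Z) s]
      have hcard := Subgroup.card_eq_card_quotient_mul_card_subgroup Z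
      have hlt : Nat.card (C ⧸ Z) < N := by
        refine lt_of_lt_of_le ?_ (hN ▸ Subgroup.card_le_card_group C)
        rw [hcard]
        refine lt_mul_of_one_lt_right Nat.card_pos ((Subgroup.one_lt_card_iff_ne_bot _).mpr ?_)
        intro hb
        rw [hZ, Subgroup.zpowers_eq_bot] at hb
        exact hy.2 (by rw [show y = 1 from congrArg Subtype.val hb, one_pow])
      refine dvd_trans ?_ (ihN _ hlt (C ⧸ Z) rfl _ (Nat.gcd_dvd_right _ _))
      rw [hcard, mul_comm, Nat.Coprime.gcd_mul_left_cancel_right _ hyco.symm.symm]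
  have hsplit : Nat.card {g : G // g ^ (m * p) = 1} = Nat.card {g : G // g ^ m = 1} + Nat.card A := by
    classical
    rw [← Nat.card_congr (Equiv.sumCompl fun g : {g : G // g ^ (m * p) = 1} => g.1 ^ m = 1), Nat.card_sum]
    congr 1
    · exact Nat.card_congr ((Equiv.subtypeSubtypeEquivSubtype (p := fun g : G => g ^ (m * p) = 1)
        (q := fun g : G => g ^ m = 1)) fun {g} h => by rw [pow_mul, h, one_pow])
    · exact Nat.card_congr ((Equiv.subtypeSubtypeEquivSubtypeInter (fun g : G => g ^ (m * p) = 1)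
        (fun g : G => ¬ g ^ m = 1)))
  have hA' : m ∣ Nat.card A := by
    rw [hms]
    exact (Nat.Coprime.pow_left _ (hp.coprime_iff_not_dvd.mpr hps)).mul_dvd_of_dvd_of_dvd hAp hAs
  have h2 : m ∣ Nat.card {g : G // g ^ (m * p) = 1} := (dvd_mul_right m p).trans h1
  rw [hsplit] at h2
  exact (Nat.dvd_add_left hA').mp h2

theorem frobenius_dvd (m : ℕ) (hm : m ∣ Nat.card G) : m ∣ Nat.card {g : G // g ^ m = 1} :=
  frobenius_aux _ G rfl m hm

theorem gcd_dvd_card_roots (m : ℕ) : Nat.gcd m (Nat.card G) ∣ Nat.card {g : G // g ^ m = 1} := by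
  rw [card_roots_gcd m]
  exact frobenius_dvd _ (Nat.gcd_dvd_right _ _)

end Cfsg.Agent.FGB
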