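/-
Derived length of linear p-groups.
-/
import Mathlib
import Cfsg.Agent.Lib.PermGp.PermModule

set_option autoImplicit false
set_option linter.all false

namespace Cfsg.Agent.FGB

open Module
open scoped commutatorElement

universe u v w

variable {F : Type v} [Field F] {P : Type u} [Group P] {V : Type w} [AddCommGroup V] [Module F V]

/-- The subrepresentation on an invariant submodule. -/
def subRep (ρ : Representation F P V) (W : Submodule F V) (h : ∀ g, ∀ x ∈ W, ρ g x ∈ W) : Representation F P W :=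
  { toFun := fun g => (ρ g).restrict (h g)
    map_one' := LinearMap.ext fun x => Subtype.ext (by simp)
    map_mul' := fun a b => LinearMap.ext fun x => Subtype.ext (by simp) }

/-- The representation on the quotient by an invariant submodule. -/
def quotRep (ρ : Representation F P V) (W : Submodule F V) (h : ∀ g, ∀ x ∈ W, ρ g x ∈ W) : Representation F P (V ⧸ W) :=
  { toFun := fun g => W.mapQ W (ρ g) (fun x hx => h g x hx)
    map_one' := Submodule.linearMap_qext _ (LinearMap.ext fun x => by simp)
    map_mul' := fun a b => Submodule.linearMap_qext _ (LinearMap.ext fun x => by simp) }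

theorem subRep_eq_one {ρ : Representation F P V} {W : Submodule F V} {h : ∀ g, ∀ x ∈ W, ρ g x ∈ W} {g : P}
    (hg : subRep ρ W h g = 1) : ∀ x ∈ W, ρ g x = x := fun x hx =>
  congrArg Subtype.val (LinearMap.congr_fun hg ⟨x, hx⟩)

theorem quotRep_eq_one {ρ : Representation F P V} {W : Submodule F V} {h : ∀ g, ∀ x ∈ W, ρ g x ∈ W} {g : P}
    (hg : quotRep ρ W h g = 1) : ∀ x, ρ g x - x ∈ W := fun x =>
  (Submodule.Quotient.eq W).mp (LinearMap.congr_fun hg (Submodule.Quotient.mk x))

theorem unipotent_commute {ρ : Representation F P V} {W : Submodule F V} {a b : P}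
    (ha : ∀ x ∈ W, ρ a x = x) (hb : ∀ x ∈ W, ρ b x = x) (ha' : ∀ x, ρ a x - x ∈ W) (hb' : ∀ x, ρ b x - x ∈ W) :
    ρ (a * b) = ρ (b * a) := by
  refine LinearMap.ext fun x => ?_
  rw [map_mul, map_mul, Module.End.mul_apply, Module.End.mul_apply]
  have h1 := ha _ (hb' x)
  have h2 := hb _ (ha' x)
  rw [map_sub] at h1 h2
  rw [sub_eq_iff_eq_add] at h1 h2
  rw [h1, h2]
  abel

theorem finite_order_unipotent {ρ : Representation F P V} {W : Submodule F V} {g : P} {q : ℕ}
    (hq : (q : F) ≠ 0) (hg : g ^ q = 1) (h1 : ∀ x ∈ W, ρ g x = x) (h2 : ∀ x, ρ g x - x ∈ W) : ρ g = 1 := by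
  refine LinearMap.ext fun x => ?_
  have key : ∀ j : ℕ, ρ (g ^ j) x = x + (j : F) • (ρ g x - x) := by
    intro j
    induction j with
    | zero => simp
    | succ j hj =>
      rw [pow_succ', map_mul, Module.End.mul_apply, hj, map_add, map_smul, h1 _ (h2 x), Nat.cast_succ, add_smul, one_smul]
      abel
  have h := key q
  rw [hg, map_one, Module.End.one_apply, left_eq_add] at h
  rcases smul_eq_zero.mp h with h | h
  · exact absurd h hq
  · exact sub_eq_zero.mp h

/-- The kernel of a representation. -/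
def repKer (ρ : Representation F P V) : Subgroup P where
  carrier := {g | ρ g = 1}
  one_mem' := map_one ρ
  mul_mem' := fun {a b} ha hb => by show ρ (a * b) = 1; rw [map_mul, ha, hb, one_mul]
  inv_mem' := fun {a} ha => by
    show ρ a⁻¹ = 1
    have h := ρ.map_mul a⁻¹ a
    rw [inv_mul_cancel, map_one, ha, mul_one] at h
    exact h.symm

theorem commutator_trivial {ρ : Representation F P V} {D : Subgroup P}
    (h : ∀ a ∈ D, ∀ b ∈ D, ρ (a * b) = ρ (b * a)) : ∀ g ∈ ⁅D, D⁆, ρ g = 1 := by
  suffices ⁅D, D⁆ ≤ repKer ρ from this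
  rw [Subgroup.commutator_le]
  intro a ha b hb
  show ρ ⁅a, b⁆ = 1
  rw [commutatorElement_def, show a * b * a⁻¹ * b⁻¹ = (a * b) * (b * a)⁻¹ by group, map_mul, h a ha b hb, ← map_mul,
    mul_inv_cancel, map_one]

theorem derived_succ_le_map {K : Subgroup P} (hK : commutator P ≤ K) (m : ℕ) :
    derivedSeries P (m + 1) ≤ (derivedSeries K m).map K.subtype := by
  induction m with
  | zero => rw [derivedSeries_zero, ← MonoidHom.range_eq_map, Subgroup.range_subtype, derivedSeries_one]; exact hK
  | succ m ih =>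
    rw [derivedSeries_succ _ (m + 1), derivedSeries_succ K m, Subgroup.map_commutator]
    exact Subgroup.commutator_mono ih ih

section charp

variable [Finite P] {p : ℕ} [Fact p.Prime] [CharP F p]

theorem exists_invariant_of_dim (hP : IsPGroup p P) [FiniteDimensional F V] (ρ : Representation F P V) (k : ℕ)
    (hk : k ≤ finrank F V) : ∃ W : Submodule F V, (∀ g, ∀ x ∈ W, ρ g x ∈ W) ∧ finrank F W = k := by
  induction k with
  | zero => exact ⟨⊥, fun g x hx => by rw [Submodule.mem_bot] at hx ⊢; rw [hx, map_zero], finrank_bot F V⟩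
  | succ k ih =>
    obtain ⟨W, hW, hWk⟩ := ih (by omega)
    have hne : (⊤ : Submodule F (V ⧸ W)) ≠ ⊥ := by
      intro h
      have h1 := congrArg (fun S : Submodule F (V ⧸ W) => finrank F S) h
      simp only [finrank_top, finrank_bot] at h1
      have h2 := W.finrank_quotient_add_finrank
      omega
    obtain ⟨y, -, hy0, hy⟩ := PermGp.exists_fixed_vector hP (quotRep ρ W hW) ⊤ (fun _ _ _ => trivial) hne
    obtain ⟨x, rfl⟩ := Submodule.Quotient.mk_surjective W y
    have hxW : x ∉ W := fun h => hy0 ((Submodule.Quotient.mk_eq_zero W).mpr h)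
    refine ⟨W ⊔ F ∙ x, fun g z hz => ?_, le_antisymm ?_ ?_⟩
    · obtain ⟨a, ha, b, hb, rfl⟩ := Submodule.mem_sup.mp hz
      obtain ⟨c, rfl⟩ := Submodule.mem_span_singleton.mp hb
      rw [map_add, map_smul, show ρ g x = (ρ g x - x) + x by abel, smul_add]
      have h3 : ρ g x - x ∈ W := (Submodule.Quotient.eq W).mp (hy g)
      rw [← add_assoc]
      exact Submodule.add_mem_sup (add_mem (hW g a ha) (W.smul_mem c h3)) (Submodule.smul_mem _ c (Submodule.mem_span_singleton_self x))
    · refine (Submodule.finrank_add_le_finrank_add_finrank W (F ∙ x)).trans ?_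
      rw [hWk, finrank_span_singleton (fun h : x = 0 => hxW (h ▸ W.zero_mem))]
    · rw [← hWk]
      refine Submodule.finrank_lt_finrank_of_lt (lt_of_le_of_ne le_sup_left fun h => hxW ?_)
      rw [h]; exact Submodule.mem_sup_right (Submodule.mem_span_singleton_self x)

theorem derived_trivial_charp (hP : IsPGroup p P) : ∀ (m : ℕ) {V : Type w} [AddCommGroup V] [Module F V]
    [FiniteDimensional F V] (ρ : Representation F P V), finrank F V ≤ 2 ^ m → ∀ g ∈ derivedSeries P m, ρ g = 1 := by
  intro m
  induction m with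
  | zero =>
    intro V _ _ _ ρ hn g _
    refine LinearMap.ext fun x => ?_
    by_cases hx : x = 0
    · rw [hx, map_zero, map_zero]
    have htop : (⊤ : Submodule F V) ≠ ⊥ := fun h => hx (by rw [← Submodule.mem_bot F, ← h]; trivial)
    obtain ⟨v, -, hv0, hv⟩ := PermGp.exists_fixed_vector hP ρ ⊤ (fun _ _ _ => trivial) htop
    have hspan : (F ∙ v) = ⊤ := by
      refine Submodule.eq_top_of_finrank_eq (le_antisymm (Submodule.finrank_le _) ?_)
      rw [finrank_span_singleton hv0]
      simpa using hn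
    obtain ⟨c, hc⟩ : ∃ c : F, c • v = x := Submodule.mem_span_singleton.mp (hspan.ge (trivial : x ∈ (⊤ : Submodule F V)))
    rw [← hc, map_smul, hv, Module.End.one_apply]
  | succ m ih =>
    intro V _ _ _ ρ hn
    obtain ⟨W, hW, hWk⟩ := exists_invariant_of_dim hP ρ (min (2 ^ m) (finrank F V)) (min_le_right _ _)
    have hq := W.finrank_quotient_add_finrank
    rw [pow_succ] at hn
    have h1 := ih (subRep ρ W hW) (by omega)
    have h2 := ih (quotRep ρ W hW) (by omega)
    rw [derivedSeries_succ]
    exact commutator_trivial fun a ha b hb => unipotent_commute (subRep_eq_one (h1 a ha)) (subRep_eq_one (h1 b hb))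
      (quotRep_eq_one (h2 a ha)) (quotRep_eq_one (h2 b hb))

end charp

theorem derived_trivial_prime_to {p : ℕ} [Fact p.Prime] (hp0 : (p : F) ≠ 0) [IsAlgClosed F] :
    ∀ (m : ℕ) {P : Type u} [Group P] [Finite P], IsPGroup p P → ∀ {V : Type w} [AddCommGroup V] [Module F V]
      [FiniteDimensional F V] (ρ : Representation F P V), finrank F V < 2 ^ m → ∀ g ∈ derivedSeries P m, ρ g = 1 := by
  intro m
  induction m with
  | zero =>
    intro P _ _ _ V _ _ _ ρ hn g _
    haveI : Subsingleton V := Module.finrank_zero_iff.mp (by simpa using hn)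
    exact LinearMap.ext fun x => Subsingleton.elim _ _
  | succ m ih =>
    intro P _ _ hP V _ _ _ ρ
    induction hd : finrank F V using Nat.strong_induction_on generalizing V with
    | _ n ihn =>
    subst hd
    intro hn g hg
    by_cases hred : ∃ W : Submodule F V, W ≠ ⊥ ∧ W ≠ ⊤ ∧ ∀ g, ∀ x ∈ W, ρ g x ∈ W
    · obtain ⟨W, hb, ht, hW⟩ := hred
      have hlt1 : finrank F W < finrank F V := Submodule.finrank_lt ht
      have hlt2 : finrank F (V ⧸ W) < finrank F V := by
        have := W.finrank_quotient_add_finrank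
        have h0 : finrank F W ≠ 0 := fun h => hb (Submodule.finrank_eq_zero.mp h)
        omega
      have h1 := ihn _ hlt1 (subRep ρ W hW) rfl (hlt1.trans hn) g hg
      have h2 := ihn _ hlt2 (quotRep ρ W hW) rfl (hlt2.trans hn) g hg
      obtain ⟨k, hk⟩ := IsPGroup.iff_orderOf.mp hP g
      refine finite_order_unipotent (q := p ^ k) ?_ (hk ▸ pow_orderOf_eq_one g) (subRep_eq_one h1) (quotRep_eq_one h2)
      rw [Nat.cast_pow]
      exact pow_ne_zero _ hp0
    by_cases hV : Subsingleton V
    · exact LinearMap.ext fun x => Subsingleton.elim _ _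
    haveI : Nontrivial V := not_subsingleton_iff_nontrivial.mp hV
    obtain ⟨x0, hx0⟩ := exists_ne (0 : V)
    have hinvert : ∀ (a : P) (x : V), ρ a⁻¹ (ρ a x) = x := fun a x => by
      rw [← Module.End.mul_apply, ← map_mul, inv_mul_cancel, map_one, Module.End.one_apply]
    have hinvert' : ∀ (a : P) (x : V), ρ a (ρ a⁻¹ x) = x := fun a x => by
      rw [← Module.End.mul_apply, ← map_mul, mul_inv_cancel, map_one, Module.End.one_apply]
    -- the scalar elements
    let Z : Subgroup P :=
      { carrier := {a | ∃ c : F, ρ a = c • (1 : Module.End F V)}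
        one_mem' := ⟨1, by rw [map_one, one_smul]⟩
        mul_mem' := fun {a b} ⟨c, hc⟩ ⟨d, hd⟩ => ⟨c * d, by rw [map_mul, hc, hd, smul_mul_smul_comm, one_mul]⟩
        inv_mem' := fun {a} ⟨c, hc⟩ => ⟨c⁻¹, by
          have hc0 : c ≠ 0 := fun h => hx0 (by
            have := hinvert a x0
            rw [hc, h, zero_smul, LinearMap.zero_apply, map_zero] at this
            exact this.symm)
          refine LinearMap.ext fun x => ?_
          have := hinvert a x
          rw [hc, LinearMap.smul_apply, Module.End.one_apply, map_smul] at this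
          calc ρ a⁻¹ x = c⁻¹ • (c • ρ a⁻¹ x) := (inv_smul_smul₀ hc0 _).symm
            _ = c⁻¹ • x := by rw [this]⟩ }
    have hZc : ∀ z ∈ Z, ∀ a, ρ (z * a) = ρ (a * z) := by
      rintro z ⟨c, hc⟩ a
      rw [map_mul, map_mul, hc, smul_one_mul, mul_smul_one]
    haveI : Z.Normal := ⟨fun z ⟨c, hc⟩ a => ⟨c, by
      rw [map_mul, map_mul, hc, mul_smul_one, smul_mul_assoc, ← map_mul, mul_inv_cancel, map_one]⟩⟩
    by_cases hZ : Z = ⊤
    · have hg1 : g ∈ commutator P := derivedSeries_one (G := P) ▸ derivedSeries_antitone P (by omega) hg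
      refine commutator_trivial (D := ⊤) (fun a _ b _ => hZc a (hZ ▸ Subgroup.mem_top a) b) g ?_
      rwa [← commutator_def]
    haveI : Nontrivial (P ⧸ Z) := by
      rw [← Finite.one_lt_card_iff_nontrivial, ← Subgroup.index_eq_card, Nat.one_lt_iff_ne_zero_and_ne_one]
      exact ⟨Subgroup.index_ne_zero_of_finite, fun e => hZ (Subgroup.index_eq_one.mp e)⟩
    haveI := (hP.to_quotient Z).center_nontrivial
    obtain ⟨⟨abar, habar⟩, hne⟩ := exists_ne (1 : Subgroup.center (P ⧸ Z))
    obtain ⟨a, rfl⟩ := QuotientGroup.mk'_surjective Z abar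
    have haZ : a ∉ Z := fun h => hne (Subtype.ext ((QuotientGroup.eq_one_iff a).mpr h))
    have hzeta : ∀ b : P, ∃ c : F, c ≠ 0 ∧ ρ b * ρ a = c • (ρ a * ρ b) := by
      intro b
      have h1 := Subgroup.mem_center_iff.mp habar (QuotientGroup.mk' Z b)
      rw [← map_mul, ← map_mul] at h1
      have h2' := QuotientGroup.eq.mp h1.symm
      have h2 : (a * b)⁻¹ * (b * a) ∈ Z := h2'
      obtain ⟨c, hc⟩ := h2
      have he : ρ b * ρ a = c • (ρ a * ρ b) := by
        rw [← map_mul, ← map_mul, show b * a = (a * b) * ((a * b)⁻¹ * (b * a)) by group, map_mul ρ (a * b), hc, mul_smul_one]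
      refine ⟨c, fun h0 => hx0 ?_, he⟩
      rw [h0, zero_smul] at he
      have := LinearMap.congr_fun he x0
      rw [Module.End.mul_apply, LinearMap.zero_apply] at this
      rw [← hinvert a x0, ← hinvert b (ρ a x0), this, map_zero, map_zero]
    -- the centralizer of `ρ a`
    let K : Subgroup P :=
      { carrier := {b | ρ b * ρ a = ρ a * ρ b}
        one_mem' := by show ρ 1 * ρ a = ρ a * ρ 1; rw [map_one, one_mul, mul_one]
        mul_mem' := fun {b c} hb hc => by
          show ρ (b * c) * ρ a = ρ a * ρ (b * c)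
          rw [map_mul, mul_assoc, hc, ← mul_assoc, hb, mul_assoc]
        inv_mem' := fun {b} hb => by
          show ρ b⁻¹ * ρ a = ρ a * ρ b⁻¹
          calc ρ b⁻¹ * ρ a = ρ b⁻¹ * ρ a * (ρ b * ρ b⁻¹) := by rw [← map_mul ρ b, mul_inv_cancel, map_one, mul_one]
            _ = ρ b⁻¹ * (ρ b * ρ a) * ρ b⁻¹ := by rw [hb]; noncomm_ring
            _ = ρ a * ρ b⁻¹ := by rw [← mul_assoc (ρ b⁻¹), ← map_mul ρ b⁻¹, inv_mul_cancel, map_one, one_mul] }
    have hK : commutator P ≤ K := by
      rw [commutator_def, Subgroup.commutator_le]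
      intro b _ c _
      obtain ⟨s, hs0, hs⟩ := hzeta b
      obtain ⟨t, ht0, ht⟩ := hzeta c
      have e1 : ρ (b * c) * ρ a = (s * t) • (ρ a * ρ (b * c)) := by
        rw [map_mul, mul_assoc, ht, mul_smul_comm, ← mul_assoc, hs, smul_mul_assoc, smul_smul, mul_assoc, mul_comm t s]
      have e2 : ρ (c * b) * ρ a = (s * t) • (ρ a * ρ (c * b)) := by
        rw [map_mul, mul_assoc, hs, mul_smul_comm, ← mul_assoc, ht, smul_mul_assoc, smul_smul, mul_assoc]
      show ρ ⁅b, c⁆ * ρ a = ρ a * ρ ⁅b, c⁆
      rw [commutatorElement_def, show b * c * b⁻¹ * c⁻¹ = (b * c) * (c * b)⁻¹ by group]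
      set u := (b * c) * (c * b)⁻¹ with hu
      have hbc : ρ (b * c) = ρ u * ρ (c * b) := by rw [← map_mul, hu, inv_mul_cancel_right]
      rw [hbc, mul_assoc, e2, mul_smul_comm] at e1
      have h3 := smul_right_injective (Module.End F V) (mul_ne_zero hs0 ht0) e1
      have h4 := congrArg (· * ρ (c * b)⁻¹) h3
      simp only [mul_assoc, ← map_mul ρ (c * b), mul_inv_cancel, map_one, mul_one] at h4
      exact h4
    obtain ⟨μ, hμ⟩ := Module.End.exists_eigenvalue (ρ a)
    let E : P → Submodule F V := fun b => (Module.End.eigenspace (ρ a) μ).map (ρ b)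
    have hEeig : ∀ b, ∃ ν : F, E b ≤ Module.End.eigenspace (ρ a) ν := by
      intro b
      obtain ⟨s, hs0, hs⟩ := hzeta b
      refine ⟨s⁻¹ * μ, ?_⟩
      rintro _ ⟨x, hx, rfl⟩
      rw [SetLike.mem_coe, Module.End.mem_eigenspace_iff] at hx
      rw [Module.End.mem_eigenspace_iff]
      have := LinearMap.congr_fun hs x
      rw [Module.End.mul_apply, LinearMap.smul_apply, Module.End.mul_apply, hx, map_smul] at this
      rw [mul_smul, this, inv_smul_smul₀ hs0]
    have hμ0 : μ ≠ 0 := by
      intro h0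
      obtain ⟨x, hx, hx0⟩ := hμ.exists_hasEigenvector
      rw [Module.End.mem_eigenspace_iff, h0, zero_smul] at hx
      exact hx0 (by rw [← hinvert a x, hx, map_zero])
    have hEne : Module.End.eigenspace (ρ a) μ ≠ ⊥ := hμ
    have hEtop : Module.End.eigenspace (ρ a) μ ≠ ⊤ := by
      intro h
      refine haZ ⟨μ, LinearMap.ext fun x => ?_⟩
      rw [LinearMap.smul_apply, Module.End.one_apply]
      exact Module.End.mem_eigenspace_iff.mp (h ▸ Submodule.mem_top)
    -- some translate has another eigenvalue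
    obtain ⟨b0, hb0⟩ : ∃ b, ¬ E b ≤ Module.End.eigenspace (ρ a) μ := by
      by_contra hcon
      push Not at hcon
      exact hred ⟨_, hEne, hEtop, fun b x hx => hcon b ⟨x, hx, rfl⟩⟩
    obtain ⟨ν, hν⟩ := hEeig b0
    have hνμ : ν ≠ μ := fun h => hb0 (h ▸ hν)
    have hbinj : ∀ b, Function.Injective (ρ b) := fun b => Function.LeftInverse.injective (hinvert b)
    have hEdim : ∀ b, finrank F (E b) = finrank F (Module.End.eigenspace (ρ a) μ) := fun b =>
      ((Submodule.equivMapOfInjective (ρ b) (hbinj b) _).finrank_eq).symm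
    have hdim : finrank F (Module.End.eigenspace (ρ a) μ) < 2 ^ m := by
      have hdisj : Disjoint (Module.End.eigenspace (ρ a) μ) (E b0) :=
        ((Module.End.eigenspaces_iSupIndep (ρ a)).pairwiseDisjoint hνμ.symm).mono_right hν
      have h1 := Submodule.finrank_add_finrank_le_of_disjoint hdisj
      rw [hEdim b0] at h1
      rw [pow_succ] at hn
      omega
    have hEinv : ∀ b, ∀ k : K, ∀ x ∈ E b, ρ (k : P) x ∈ E b := by
      intro b k
      rintro _ ⟨x, hx, rfl⟩
      have hk' : b⁻¹ * (k : P) * b ∈ K := by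
        have h1 : ⁅b⁻¹, (k : P)⁆ ∈ K := hK (Subgroup.commutator_mem_commutator (Subgroup.mem_top _) (Subgroup.mem_top _))
        have h2 := mul_mem h1 k.2
        rwa [commutatorElement_def, inv_inv, inv_mul_cancel_right] at h2
      refine ⟨ρ (b⁻¹ * (k : P) * b) x, ?_, ?_⟩
      · rw [SetLike.mem_coe, Module.End.mem_eigenspace_iff] at hx ⊢
        rw [← Module.End.mul_apply, ← (show ρ (b⁻¹ * (k : P) * b) * ρ a = ρ a * ρ (b⁻¹ * (k : P) * b) from hk'),
          Module.End.mul_apply, hx, map_smul]
      · rw [← Module.End.mul_apply, ← map_mul, show b * (b⁻¹ * (k : P) * b) = (k : P) * b by group, map_mul, Module.End.mul_apply]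
    obtain ⟨k, hk, rfl⟩ := derived_succ_le_map hK m hg
    have hfixE : ∀ b, ∀ x ∈ E b, ρ (k : P) x = x := fun b =>
      subRep_eq_one (h := hEinv b) (g := k) (ρ := ρ.comp K.subtype)
        (ih (hP.to_subgroup K) _ ((hEdim b).trans_lt hdim) k hk)
    have hsup : (⨆ b, E b) = ⊤ := by
      by_contra hne'
      refine hred ⟨⨆ b, E b, ?_, hne', fun c x hx => ?_⟩
      · intro h
        apply hEne
        rw [eq_bot_iff]
        intro x hx
        have h1 : ρ (1 : P) x ∈ ⨆ b, E b := Submodule.mem_iSup_of_mem 1 ⟨x, hx, rfl⟩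
        rw [h, map_one, Module.End.one_apply] at h1
        exact h1
      · have hle : (⨆ b, E b).map (ρ c) ≤ ⨆ b, E b := by
          rw [Submodule.map_iSup]
          refine iSup_le fun b => le_trans (le_of_eq ?_) (le_iSup E (c * b))
          show ((Module.End.eigenspace (ρ a) μ).map (ρ b)).map (ρ c) = (Module.End.eigenspace (ρ a) μ).map (ρ (c * b))
          rw [map_mul, Module.End.mul_eq_comp, Submodule.map_comp]
        exact hle ⟨x, hx, rfl⟩
    refine LinearMap.ext fun x => ?_
    have : (⊤ : Submodule F V) ≤ LinearMap.eqLocus (ρ (k : P)) (1 : Module.End F V) := by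
      rw [← hsup]
      exact iSup_le fun b y hy => hfixE b y hy
    exact this (trivial : x ∈ (⊤ : Submodule F V))

theorem derived_linear_pgroup {P : Type u} [Group P] [Finite P] {p : ℕ} [Fact p.Prime] (hP : IsPGroup p P)
    [IsAlgClosed F] {V : Type w} [AddCommGroup V] [Module F V] [FiniteDimensional F V]
    (ρ : Representation F P V) : ∀ g ∈ derivedSeries P (Nat.log 2 (finrank F V) + 1), ρ g = 1 := by
  have hlt := Nat.lt_pow_succ_log_self (one_lt_two) (finrank F V)
  by_cases hp : (p : F) = 0
  · haveI : CharP F p := by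
      obtain ⟨r, hr⟩ := CharP.exists F
      have hd := (CharP.cast_eq_zero_iff F r p).mp hp
      rcases (Nat.dvd_prime Fact.out).mp hd with h | h
      · subst h; haveI := hr; exact (CharP.false_of_nontrivial_of_char_one (R := F)).elim
      · exact h ▸ hr
    exact derived_trivial_charp hP _ ρ hlt.le
  · exact derived_trivial_prime_to hp _ hP ρ hlt

end Cfsg.Agent.FGB
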