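import Mathlib

set_option autoImplicit false

namespace Cfsg.Agent.FGB

universe u

variable {G : Type u} [Group G] [Finite G] {p : ℕ} [hp : Fact p.Prime]

theorem coatom_normal_and_index (hG : IsPGroup p G) {M : Subgroup G} (hM : IsCoatom M) :
    M.Normal ∧ M.index = p := by
  haveI := hG.isNilpotent
  have hn : M.Normal := Subgroup.NormalizerCondition.normal_of_coatom M Group.normalizerCondition_of_isNilpotent hM
  refine ⟨hn, ?_⟩
  haveI := hn
  haveI : Nontrivial (G ⧸ M) := QuotientGroup.nontrivial_iff.mpr hM.1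
  have hQ : IsPGroup p (G ⧸ M) := hG.to_quotient M
  obtain ⟨k, hk, hk'⟩ := hQ.nontrivial_iff_card.mp inferInstance
  obtain ⟨K, hK⟩ := Sylow.exists_subgroup_card_pow_prime p (n := 1)
    (by rw [hk', pow_one]; exact dvd_pow_self p hk.ne' : p ^ 1 ∣ Nat.card (G ⧸ M))
  rw [pow_one] at hK
  have hlt : M < K.comap (QuotientGroup.mk' M) := by
    rw [lt_iff_le_and_ne]
    refine ⟨fun x hx => ?_, fun e => ?_⟩
    · rw [Subgroup.mem_comap, QuotientGroup.mk'_apply, (QuotientGroup.eq_one_iff x).mpr hx]
      exact one_mem K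
    · have hb : K = ⊥ := by
        rw [eq_bot_iff]
        intro y hy
        obtain ⟨x, rfl⟩ := QuotientGroup.mk'_surjective M y
        have : x ∈ M := e ▸ (show x ∈ K.comap (QuotientGroup.mk' M) from hy)
        rw [Subgroup.mem_bot, QuotientGroup.mk'_apply, QuotientGroup.eq_one_iff]
        exact this
      rw [hb, Subgroup.card_bot] at hK
      exact hp.out.one_lt.ne hK
  have htop := hM.2 _ hlt
  have : K = ⊤ := by
    rw [eq_top_iff]
    intro y _
    obtain ⟨x, rfl⟩ := QuotientGroup.mk'_surjective M y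
    have : x ∈ K.comap (QuotientGroup.mk' M) := htop ▸ Subgroup.mem_top x
    exact this
  rw [this, Subgroup.card_top] at hK
  exact (Subgroup.index_eq_card M).trans hK

theorem pow_mem_frattini (hG : IsPGroup p G) (x : G) : x ^ p ∈ frattini G := by
  refine Subgroup.mem_iInf.mpr fun M => Subgroup.mem_iInf.mpr fun hM => ?_
  obtain ⟨hn, hi⟩ := coatom_normal_and_index hG hM
  haveI := hn
  exact hi ▸ Subgroup.pow_index_mem M x

theorem commutatorElement_mem_frattini (hG : IsPGroup p G) (x y : G) :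
    x * y * x⁻¹ * y⁻¹ ∈ frattini G := by
  refine Subgroup.mem_iInf.mpr fun M => Subgroup.mem_iInf.mpr fun hM => ?_
  obtain ⟨hn, hi⟩ := coatom_normal_and_index hG hM
  haveI := hn
  haveI : IsCyclic (G ⧸ M) := isCyclic_of_prime_card (p := p) ((Subgroup.index_eq_card M).symm.trans hi)
  rw [← QuotientGroup.eq_one_iff]
  simp only [QuotientGroup.mk_mul, QuotientGroup.mk_inv]
  rw [(IsMulCommutative.is_comm (M := G ⧸ M)).comm (x : G ⧸ M) (y : G ⧸ M)]
  group

end Cfsg.Agent.FGB
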