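/-
Derived length of p-groups of permutations.
-/
import Mathlib
import Cfsg.Agent.Lib.FGB.LinearDerived
import Cfsg.Agent.Lib.FGB.PGroupBasic

set_option autoImplicit false
set_option linter.all false

namespace Cfsg.Agent.FGB

open MulAction
open scoped commutatorElement
open scoped Pointwise

universe u v

theorem derived_fix_of_orbit_le {p : ℕ} [hp : Fact p.Prime] : ∀ (j : ℕ) {P : Type u} [Group P] [Finite P],
    IsPGroup p P → ∀ {X : Type v} [MulAction P X] (x : X), (stabilizer P x).index ≤ p ^ j →
      ∀ g ∈ derivedSeries P j, g • x = x := by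
  intro j
  induction j with
  | zero =>
    intro P _ _ _ X _ x hx g _
    rw [pow_zero] at hx
    have h1 : (stabilizer P x).index = 1 := by
      have := Subgroup.index_ne_zero_of_finite (H := stabilizer P x); omega
    exact mem_stabilizer_iff.mp (Subgroup.index_eq_one.mp h1 ▸ Subgroup.mem_top g)
  | succ j ih =>
    intro P _ _ hP X _ x hx g hg
    by_cases htop : stabilizer P x = ⊤
    · exact mem_stabilizer_iff.mp (htop ▸ Subgroup.mem_top g)
    obtain ⟨M, hM, hle⟩ := (eq_top_or_exists_le_coatom (stabilizer P x)).resolve_left htop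
    obtain ⟨hMn, hMi⟩ := coatom_normal_and_index hP hM
    haveI := hMn
    have hc : commutator P ≤ M := by
      haveI : IsCyclic (P ⧸ M) := isCyclic_of_prime_card (p := p) (by rw [← Subgroup.index_eq_card]; exact hMi)
      rw [commutator_def, Subgroup.commutator_le]
      intro a _ b _
      have h1 : ⁅QuotientGroup.mk' M a, QuotientGroup.mk' M b⁆ = 1 :=
        commutatorElement_eq_one_iff_mul_comm.mpr (IsCyclic.commGroup.mul_comm _ _)
      rw [← map_commutatorElement] at h1
      exact (QuotientGroup.eq_one_iff _).mp h1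
    obtain ⟨k, hk, rfl⟩ := derived_succ_le_map hc j hg
    refine ih (hP.to_subgroup M) x ?_ k hk
    show (stabilizer M x).index ≤ p ^ j
    have h1 : stabilizer M x = (stabilizer P x).subgroupOf M := by ext; rfl
    rw [h1]
    show (stabilizer P x).relIndex M ≤ p ^ j
    have h2 := Subgroup.relIndex_mul_index hle
    rw [hMi] at h2
    refine Nat.le_of_mul_le_mul_right ?_ hp.out.pos
    rw [h2, ← pow_succ]
    exact hx

theorem map_derived_commutator_le (W : Type u) [Group W] (j : ℕ) :
    (derivedSeries (commutator W) j).map (commutator W).subtype ≤ derivedSeries W (j + 1) := by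
  induction j with
  | zero => rw [derivedSeries_one, derivedSeries_zero, ← MonoidHom.range_eq_map, Subgroup.range_subtype]
  | succ j ih =>
    rw [derivedSeries_succ, derivedSeries_succ W (j + 1), Subgroup.map_commutator]
    exact Subgroup.commutator_mono ih ih

/-- The base group of a wreath product acting on pairs. -/
def baseHom {p : ℕ} {Y : Type u} (Q : Subgroup (Equiv.Perm Y)) : (Fin p → Q) →* Equiv.Perm (Fin p × Y) where
  toFun f :=
    { toFun := fun z => (z.1, (f z.1 : Equiv.Perm Y) z.2)
      invFun := fun z => (z.1, ((f z.1)⁻¹ : Q).1 z.2)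
      left_inv := fun z => by simp
      right_inv := fun z => by simp }
  map_one' := rfl
  map_mul' f g := rfl

theorem exists_pgroup_derived (p : ℕ) [hp : Fact p.Prime] :
    ∀ j, ∃ Q : Subgroup (Equiv.Perm (Fin (p ^ (j + 1)))), IsPGroup p Q ∧ derivedSeries Q j ≠ ⊥ := by
  intro j
  induction j with
  | zero =>
    haveI : NeZero p := ⟨hp.out.ne_zero⟩
    set σ := finRotate (p ^ 1) with hσ
    have ho : orderOf σ = p := by
      have h2 : 2 ≤ p ^ 1 := by rw [pow_one]; exact hp.out.two_le
      obtain ⟨r, hr⟩ : ∃ r, p ^ 1 = r + 2 := ⟨p ^ 1 - 2, by omega⟩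
      have h3 : ∀ N, N = r + 2 → orderOf (finRotate N) = N := by
        rintro N rfl
        rw [(isCycle_finRotate (n := r)).orderOf, support_finRotate, Finset.card_univ, Fintype.card_fin]
      rw [hσ, h3 _ hr, pow_one]
    refine ⟨Subgroup.zpowers σ, IsPGroup.of_card (n := 1) (by rw [Nat.card_zpowers, ho, pow_one]), ?_⟩
    rw [derivedSeries_zero]
    haveI : Nontrivial (Subgroup.zpowers σ) := by
      rw [← Finite.one_lt_card_iff_nontrivial, Nat.card_zpowers, ho]; exact hp.out.one_lt
    exact top_ne_bot
  | succ j ih =>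
    classical
    obtain ⟨Q, hQ, hQj⟩ := ih
    haveI : NeZero p := ⟨hp.out.ne_zero⟩
    let c : Equiv.Perm (Fin p × (Fin (p ^ (j + 1)))) := Equiv.prodCongr (Equiv.addRight 1) (Equiv.refl (Fin (p ^ (j + 1))))
    let B := (baseHom (p := p) Q).range
    have hcB : ∀ f : Fin p → Q, c * baseHom Q f * c⁻¹ = baseHom Q (fun i => f (i - 1)) := by
      intro f
      ext z
      · simp [c, baseHom]
      · simp [c, baseHom, sub_eq_add_neg]
    have hnorm : Subgroup.zpowers c ≤ Subgroup.normalizer (B : Set (Equiv.Perm (Fin p × (Fin (p ^ (j + 1)))))) := by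
      rw [Subgroup.zpowers_le, Subgroup.mem_normalizer_iff]
      intro y
      constructor
      · rintro ⟨f, rfl⟩
        exact ⟨_, (hcB f).symm⟩
      · rintro ⟨f, hf⟩
        refine ⟨fun i => f (i + 1), ?_⟩
        have h1 := hcB (fun i => f (i + 1))
        simp only [sub_add_cancel] at h1
        rw [hf] at h1
        exact mul_left_cancel (mul_right_cancel h1)
    have hcp : c ^ p = 1 := by
      have : ∀ k : ℕ, ∀ z : Fin p × (Fin (p ^ (j + 1))), (c ^ k) z = (z.1 + k • (1 : Fin p), z.2) := by
        intro k
        induction k with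
        | zero => simp
        | succ k hk =>
          intro z
          rw [show c ^ (k + 1) = c * c ^ k from pow_succ' c k, Equiv.Perm.mul_apply, hk]
          simp [c, add_assoc, succ_nsmul]
      refine Equiv.ext fun z => ?_
      rw [this]
      have hp1 : p • (1 : Fin p) = 0 := by simpa using card_nsmul_eq_zero (x := (1 : Fin p))
      rw [hp1, add_zero]
      rfl
    have hBp : IsPGroup p B := by
      intro x
      obtain ⟨f, hf⟩ := x.2
      obtain ⟨n, hn⟩ := IsPGroup.iff_card.mp hQ
      refine ⟨n, Subtype.ext ?_⟩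
      rw [SubmonoidClass.coe_pow, ← hf, ← map_pow]
      refine (congrArg (baseHom Q) (funext fun i => ?_)).trans (map_one _)
      rw [Pi.pow_apply, Pi.one_apply, ← hn]
      exact pow_card_eq_one'
    set W := B ⊔ Subgroup.zpowers c with hW
    have hWp : IsPGroup p W := hBp.to_sup_of_normal_left' (fun g => ⟨1, by
      obtain ⟨i, hi⟩ := g.2
      refine Subtype.ext ?_
      rw [pow_one, SubmonoidClass.coe_pow, OneMemClass.coe_one, ← hi]
      show (c ^ i) ^ p = 1
      rw [← zpow_natCast, ← zpow_mul, mul_comm, zpow_mul, zpow_natCast, hcp, one_zpow]⟩) hnorm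
    let ι : (Fin p → Q) →* W := (baseHom Q).codRestrict W (fun f => Subgroup.mem_sup_left ⟨f, rfl⟩)
    have hι : Function.Injective ι := by
      intro f g h
      funext i
      refine Subtype.ext (Equiv.ext fun y => ?_)
      exact congrArg Prod.snd (Equiv.congr_fun (congrArg Subtype.val h) (i, y))
    let S : Subgroup (Fin p → Q) := (commutator W).comap ι
    let π : S →* Q := (Pi.evalMonoidHom (fun _ : Fin p => ↥Q) 0).comp S.subtype
    have hπ : Function.Surjective π := by
      intro q
      let f : Fin p → Q := Function.update 1 0 q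
      let cW : W := ⟨c, Subgroup.mem_sup_right (Subgroup.mem_zpowers c)⟩
      refine ⟨⟨f * (fun i => f (i - 1))⁻¹, ?_⟩, ?_⟩
      · show ι (f * (fun i => f (i - 1))⁻¹) ∈ commutator W
        have he : ι (f * (fun i => f (i - 1))⁻¹) = ι f * cW * (ι f)⁻¹ * cW⁻¹ := by
          refine Subtype.ext ?_
          show baseHom Q (f * (fun i => f (i - 1))⁻¹) = baseHom Q f * c * (baseHom Q f)⁻¹ * c⁻¹
          rw [map_mul, map_inv, ← hcB]
          group
        rw [he]
        exact Subgroup.commutator_mem_commutator (Subgroup.mem_top (ι f)) (Subgroup.mem_top cW)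
      · show f 0 * (f (0 - 1))⁻¹ = q
        have h1 : (0 - 1 : Fin p) ≠ 0 := by
          rw [zero_sub]
          intro h
          rw [neg_eq_zero] at h
          have := congrArg Fin.val h
          rw [Fin.val_one', Fin.val_zero, Nat.mod_eq_of_lt hp.out.one_lt] at this
          omega
        rw [zero_sub] at h1
        simp [f, Function.update_of_ne h1]
    have hSne : derivedSeries S j ≠ ⊥ := by
      intro h
      apply hQj
      rw [← map_derivedSeries_eq hπ, h, Subgroup.map_bot]
    have hWne : derivedSeries W (j + 1) ≠ ⊥ := by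
      intro h
      apply hSne
      rw [eq_bot_iff]
      intro s hs
      let τ : S →* commutator W := (ι.comp S.subtype).codRestrict _ (fun s => s.2)
      have h1 : (commutator W).subtype (τ s) ∈ derivedSeries W (j + 1) :=
        map_derived_commutator_le W j ⟨τ s, map_derivedSeries_le_derivedSeries τ j ⟨s, hs, rfl⟩, rfl⟩
      rw [h, Subgroup.mem_bot] at h1
      refine Subgroup.mem_bot.mpr (Subtype.ext (hι ?_))
      exact h1.trans (map_one ι).symm
    let e : Fin p × (Fin (p ^ (j + 1))) ≃ Fin (p ^ (j + 1 + 1)) := finProdFinEquiv.trans (finCongr (pow_succ' p (j + 1)).symm)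
    let E := W.equivMapOfInjective e.permCongrHom.toMonoidHom e.permCongrHom.injective
    refine ⟨_, hWp.of_equiv E, fun h => hWne ?_⟩
    rw [← map_derivedSeries_eq (f := E.symm.toMonoidHom) E.symm.surjective, h, Subgroup.map_bot]

end Cfsg.Agent.FGB
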