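import Cfsg.Agent.Lib.FGB.LinearDerived
import Cfsg.Agent.Lib.FGB.SymSylowDerived
import Cfsg.Agent.Lib.GLOrders.SylowTorus
import Cfsg.Agent.Lib.PGroup23.NormalSq

/-!
The derived length of the p-subgroups of GL(n, q), p odd and prime to q.
-/

set_option autoImplicit false
set_option linter.all false

namespace Cfsg.Agent.FGB.GLDerived

open Module
open scoped commutatorElement

universe u v

/-- A nontrivial normal subgroup of a p-group meets the centre. -/
theorem exists_central {P : Type u} [Group P] [Finite P] {p : ℕ} [hp : Fact p.Prime] (hP : IsPGroup p P)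
    (N : Subgroup P) [N.Normal] (hN : N ≠ ⊥) : ∃ z ∈ N, z ≠ 1 ∧ ∀ g, g * z = z * g := by
  classical
  let φ : P →* MulAut N := MulAut.conjNormal
  letI := MulAction.compHom N φ
  have hdvd : p ∣ Nat.card N := by
    haveI : Nontrivial N := (Subgroup.nontrivial_iff_ne_bot N).2 hN
    exact ((hP.to_subgroup N).card_eq_or_dvd).resolve_left Finite.one_lt_card.ne'
  have h1 : (1 : N) ∈ MulAction.fixedPoints P N := fun g => map_one (φ g)
  obtain ⟨z, hz, hz1⟩ := hP.exists_fixed_point_of_prime_dvd_card_of_fixed_point N hdvd h1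
  refine ⟨z, z.2, fun e => hz1 (Subtype.ext e.symm), fun g => ?_⟩
  have h2 : g * (z : P) * g⁻¹ = z := congrArg Subtype.val (hz g)
  exact mul_inv_eq_iff_eq_mul.1 h2

variable {F : Type v} [Field F] [Fintype F] {p : ℕ} [hp : Fact p.Prime]

theorem order_le_finrank {V : Type v} [AddCommGroup V] [Module F V] [FiniteDimensional F V] {q : ℕ}
    (hq : Fintype.card F = q) (hpq : ¬ p ∣ q) (u : (Module.End F V)ˣ) (hu1 : u ≠ 1) {i : ℕ}
    (hu : u ^ p ^ i = 1) : orderOf (q : ZMod p) ≤ finrank F V := by
  classical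
  haveI : Finite V := Module.finite_of_finite F
  set n := finrank F V with hn
  have hc : Nat.card (Module.End F V)ˣ = Nat.card (GL (Fin n) F) :=
    Nat.card_congr (Units.mapEquiv (LinearMap.toMatrixAlgEquiv (finBasis F V)).toMulEquiv).toEquiv
  obtain ⟨j, hj, hoj⟩ := (Nat.dvd_prime_pow hp.out).1 (orderOf_dvd_of_pow_eq_one hu)
  have hj0 : j ≠ 0 := by
    rintro rfl
    exact hu1 (orderOf_eq_one_iff.1 (by rw [hoj, pow_zero]))
  have hd : p ∣ Nat.card (GL (Fin n) F) := by
    rw [← hc]
    exact ((dvd_pow_self p hj0).trans (dvd_of_eq hoj.symm)).trans (orderOf_dvd_natCard u)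
  rw [Matrix.card_GL_field, hq] at hd
  obtain ⟨a, -, ha⟩ := (Nat.Prime.prime hp.out).exists_mem_finset_dvd hd
  have hq2 : 2 ≤ q := hq ▸ GLOrders.two_le_card F
  have h1 : q ^ n - q ^ (a : ℕ) = q ^ (a : ℕ) * (q ^ (n - a) - 1) := by
    rw [Nat.mul_sub, mul_one, ← pow_add, Nat.add_sub_cancel' a.2.le]
  rw [h1] at ha
  rcases (Nat.Prime.dvd_mul hp.out).1 ha with h | h
  · exact absurd (hp.out.dvd_of_dvd_pow h) hpq
  · exact (Nat.le_of_dvd (Nat.sub_pos_of_lt a.2) ((GLOrders.dvd_pow_sub_one_iff (by omega) _).1 h)).trans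
      (Nat.sub_le _ _)

/-- The vectors fixed by an element. -/
def fx {P : Type v} [Group P] {V : Type v} [AddCommGroup V] [Module F V] (ρ : Representation F P V)
    (a : P) : Submodule F V where
  carrier := {x | ρ a x = x}
  zero_mem' := map_zero _
  add_mem' := fun {x y} hx hy => by show ρ a (x + y) = x + y; rw [map_add, hx, hy]
  smul_mem' := fun c x hx => by show ρ a (c • x) = c • x; rw [map_smul, hx]

theorem sum_fixed {P : Type v} [Group P] {V : Type v} [AddCommGroup V] [Module F V]
    (ρ : Representation F P V) {x : P} {n : ℕ} (hx : x ^ n = 1) (w : V) :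
    ρ x (∑ t ∈ Finset.range n, ρ (x ^ t) w) = ∑ t ∈ Finset.range n, ρ (x ^ t) w := by
  rw [map_sum]
  have h1 := Finset.sum_range_succ (fun t => ρ (x ^ t) w) n
  have h2 := Finset.sum_range_succ' (fun t => ρ (x ^ t) w) n
  rw [h1, hx, pow_zero] at h2
  have h3 := add_right_cancel h2
  rw [h3]
  refine Finset.sum_congr rfl fun t _ => ?_
  rw [← Module.End.mul_apply, ← map_mul, ← pow_succ']

variable {q : ℕ}

/-- The faithful irreducible case. -/
theorem irreducible_step (hp2 : p ≠ 2) (hpF : (p : F) ≠ 0) {B : ℕ}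
    {m : ℕ} (ihm : ∀ {P : Type v} [Group P] [Finite P], IsPGroup p P → ∀ {V : Type v} [AddCommGroup V]
      [Module F V] [FiniteDimensional F V] (ρ : Representation F P V), finrank F V < B →
      ∀ g ∈ derivedSeries P m, ρ g = 1)
    {P : Type v} [Group P] [Finite P] (hP : IsPGroup p P) {V : Type v} [AddCommGroup V] [Module F V]
    [FiniteDimensional F V] (ρ : Representation F P V) (hinj : Function.Injective ρ)
    (hirr : ∀ W : Submodule F V, (∀ g, ∀ x ∈ W, ρ g x ∈ W) → W = ⊥ ∨ W = ⊤)
    (hdim : finrank F V < p * B) : ∀ g ∈ derivedSeries P (m + 1), ρ g = 1 := by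
  classical
  intro g hg
  rcases subsingleton_or_nontrivial V with hV | hV
  · exact LinearMap.ext fun x => Subsingleton.elim _ _
  by_cases hab : ∀ a b : P, a * b = b * a
  · have h1 : derivedSeries P (m + 1) ≤ ⊥ := by
      refine (derivedSeries_antitone P (show 1 ≤ m + 1 by omega)).trans ?_
      rw [derivedSeries_one, commutator_def, Subgroup.commutator_le]
      exact fun a _ b _ => Subgroup.mem_bot.2 (commutatorElement_eq_one_iff_mul_comm.2 (hab a b))
    rw [Subgroup.mem_bot.1 (h1 hg), map_one]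
  have hnc : ¬ IsCyclic P := fun h => hab fun a b => IsMulCommutative.is_comm.comm a b
  obtain ⟨E, hEn, hEc, hEab, hEexp⟩ := PGroup23.exists_normal_elementary_sq hp2 hP hnc
  haveI := hEn
  have hinvert : ∀ (a : P) (x : V), ρ a⁻¹ (ρ a x) = x := fun a x => by
    rw [← Module.End.mul_apply, ← map_mul, inv_mul_cancel, map_one, Module.End.one_apply]
  have hinvert' : ∀ (a : P) (x : V), ρ a (ρ a⁻¹ x) = x := fun a x => by
    rw [← Module.End.mul_apply, ← map_mul, mul_inv_cancel, map_one, Module.End.one_apply]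
  have hEcomm : ∀ x ∈ E, ∀ y ∈ E, x * y = y * x := fun x hx y hy =>
    congrArg Subtype.val (hEab.is_comm.comm ⟨x, hx⟩ ⟨y, hy⟩)
  have hEord : ∀ x ∈ E, x ≠ 1 → orderOf x = p := fun x hx hx1 => orderOf_eq_prime (hEexp x hx) hx1
  -- an element with a fixed vector
  obtain ⟨a, haE, ha1, ⟨v₀, hv₀, hv₀ne⟩⟩ :
      ∃ a ∈ E, a ≠ 1 ∧ ∃ v, ρ a v = v ∧ v ≠ 0 := by
    by_contra hc
    push Not at hc
    obtain ⟨x, hxE, hx1⟩ := (Subgroup.bot_or_exists_ne_one E).resolve_left (fun h => by
      rw [h, Subgroup.card_bot] at hEc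
      exact absurd hEc.symm (Nat.one_lt_pow two_ne_zero hp.out.one_lt).ne')
    have hlt : Subgroup.zpowers x < E := lt_of_le_of_ne (Subgroup.zpowers_le.2 hxE) fun h => by
      rw [← h, Nat.card_zpowers, hEord x hxE hx1] at hEc
      exact absurd hEc (lt_self_pow₀ hp.out.one_lt (by norm_num)).ne
    obtain ⟨y, hyE, hyx⟩ := SetLike.exists_of_lt hlt
    obtain ⟨w, hw⟩ := exists_ne (0 : V)
    have hzero : ∀ z ∈ E, z ≠ 1 → ∀ u, (∑ t ∈ Finset.range p, ρ (z ^ t) u) = 0 := fun z hz hz1 u =>
      hc z hz hz1 _ (sum_fixed ρ (hEexp z hz) u)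
    have h1 : ∀ k ∈ Finset.range p, (∑ t ∈ Finset.range p, ρ ((x ^ k * y) ^ t) w) = 0 := fun k _ =>
      hzero _ (mul_mem (pow_mem hxE k) hyE) (fun e => hyx (by
        rw [eq_inv_of_mul_eq_one_right e]
        exact inv_mem (pow_mem (Subgroup.mem_zpowers x) k))) w
    have h2 := Finset.sum_eq_zero h1
    rw [Finset.sum_comm, Finset.sum_eq_single 0] at h2
    · simp only [pow_zero, map_one, Module.End.one_apply, Finset.sum_const, Finset.card_range] at h2
      rw [← Nat.cast_smul_eq_nsmul F] at h2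
      exact hw ((smul_eq_zero.1 h2).resolve_left hpF)
    · intro t ht ht0
      have hxt : x ^ t ≠ 1 := fun e => by
        have := orderOf_dvd_of_pow_eq_one e
        rw [hEord x hxE hx1] at this
        exact absurd (Nat.le_of_dvd (Nat.pos_of_ne_zero ht0) this) (not_le.2 (Finset.mem_range.1 ht))
      calc ∑ k ∈ Finset.range p, ρ ((x ^ k * y) ^ t) w
          = ∑ k ∈ Finset.range p, ρ (y ^ t) (ρ ((x ^ t) ^ k) w) := by
            refine Finset.sum_congr rfl fun k _ => ?_
            rw [(show Commute (x ^ k) y from hEcomm _ (pow_mem hxE k) _ hyE).mul_pow,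
              hEcomm _ (pow_mem (pow_mem hxE k) t) _ (pow_mem hyE t), map_mul, Module.End.mul_apply,
              ← pow_mul, ← pow_mul, mul_comm k t]
        _ = 0 := by rw [← map_sum, hzero _ (pow_mem hxE t) hxt w, map_zero]
    · intro h; exact absurd (Finset.mem_range.2 hp.out.pos) h
  -- the fixed space is moved
  have hfixtrans : ∀ (b : P) (x : V), x ∈ fx ρ a → ρ (b * a * b⁻¹) (ρ b x) = ρ b x := fun b x hx => by
    rw [← Module.End.mul_apply, ← map_mul, inv_mul_cancel_right, map_mul, Module.End.mul_apply]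
    exact congrArg (ρ b) hx
  obtain ⟨b, hb⟩ : ∃ b : P, b * a * b⁻¹ ∉ Subgroup.zpowers a := by
    by_contra hc
    push Not at hc
    rcases hirr (fx ρ a) (fun g x hx => by
      obtain ⟨i, hi⟩ := Subgroup.mem_zpowers_iff.1 (hc g⁻¹)
      rw [inv_inv] at hi
      have hfz : ∀ i : ℤ, ρ (a ^ i) x = x := by
        intro i
        induction i using Int.induction_on with
        | zero => rw [zpow_zero, map_one, Module.End.one_apply]
        | succ i hi => rw [zpow_add_one, map_mul, Module.End.mul_apply, hx, hi]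
        | pred i hi =>
          rw [zpow_sub_one, map_mul, Module.End.mul_apply]
          conv_lhs => rw [← hx, hinvert]
          exact hi
      show ρ a (ρ g x) = ρ g x
      calc ρ a (ρ g x) = ρ g (ρ (g⁻¹ * a * g) x) := by
            rw [← Module.End.mul_apply, ← map_mul, ← Module.End.mul_apply, ← map_mul]; group
        _ = ρ g x := by rw [← hi, hfz i]) with h | h
    · exact hv₀ne ((Submodule.mem_bot F).1 (h ▸ (hv₀ : v₀ ∈ fx ρ a)))
    · apply ha1
      refine hinj (LinearMap.ext fun x => ?_)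
      rw [map_one, Module.End.one_apply]
      exact (h ▸ Submodule.mem_top : x ∈ fx ρ a)
  have hconjE : ∀ c : P, c * a * c⁻¹ ∈ E := fun c => hEn.conj_mem a haE c
  -- fixed points of `E`
  have hE0 : ∀ x : V, (∀ y ∈ E, ρ y x = x) → x = 0 := by
    let U : Submodule F V :=
      { carrier := {x | ∀ y ∈ E, ρ y x = x}
        zero_mem' := fun y _ => map_zero _
        add_mem' := fun {x z} hx hz y hy => by rw [map_add, hx y hy, hz y hy]
        smul_mem' := fun c x hx y hy => by rw [map_smul, hx y hy] }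
    rcases hirr U (fun g x hx y hy => by
      calc ρ y (ρ g x) = ρ g (ρ (g⁻¹ * y * g) x) := by
            rw [← Module.End.mul_apply, ← map_mul, ← Module.End.mul_apply, ← map_mul]; group
        _ = ρ g x := by
            rw [hx _ (by have := hEn.conj_mem y hy g⁻¹; rwa [inv_inv] at this)]) with h | h
    · exact fun x hx => (Submodule.mem_bot F).1 (h ▸ (hx : x ∈ U))
    · exfalso
      apply ha1
      refine hinj (LinearMap.ext fun x => ?_)
      rw [map_one, Module.End.one_apply]
      exact (h ▸ Submodule.mem_top : x ∈ U) a haE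
  -- the conjugates
  have hpre : ∀ i j : ℕ, i < j → j < p → b ^ j * a * (b ^ j)⁻¹ ∉ Subgroup.zpowers (b ^ i * a * (b ^ i)⁻¹) := by
    intro i j hij hjp hmem
    obtain ⟨k, hk⟩ := Subgroup.mem_zpowers_iff.1 hmem
    rw [conj_zpow] at hk
    set d := j - i with hd
    have hbd : b ^ d * a * (b ^ d)⁻¹ ∈ Subgroup.zpowers a := by
      refine ⟨k, ?_⟩
      show a ^ k = _
      have hji : b ^ j = b ^ i * b ^ d := by rw [← pow_add]; congr 1; omega
      rw [hji] at hk
      have := congrArg (fun y => (b ^ i)⁻¹ * y * b ^ i) hk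
      simpa [mul_assoc] using this
    obtain ⟨r, hr⟩ := IsPGroup.iff_orderOf.mp hP b
    have hcop : d.Coprime (orderOf b) := by
      rw [hr]
      refine Nat.Coprime.pow_right r ((hp.out.coprime_iff_not_dvd).2 fun h => ?_).symm
      have := Nat.le_of_dvd (by omega) h
      omega
    obtain ⟨s, hs⟩ := exists_pow_eq_self_of_coprime hcop
    apply hb
    have : ∀ s : ℕ, (b ^ d) ^ s * a * ((b ^ d) ^ s)⁻¹ ∈ Subgroup.zpowers a := by
      intro s
      induction s with
      | zero => simp
      | succ s ih2 =>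
        obtain ⟨k₁, hk₁⟩ := Subgroup.mem_zpowers_iff.1 ih2
        obtain ⟨k₂, hk₂⟩ := Subgroup.mem_zpowers_iff.1 hbd
        refine ⟨k₂ * k₁, ?_⟩
        show a ^ (k₂ * k₁) = _
        rw [zpow_mul, hk₂, conj_zpow, hk₁, pow_succ']
        group
    have := this s
    rwa [hs] at this
  let ai : Fin p → P := fun i => b ^ (i : ℕ) * a * (b ^ (i : ℕ))⁻¹
  have hai1 : ∀ i, ai i ≠ 1 := fun i h => ha1 (conj_eq_one_iff.1 h)
  have hgenE : ∀ i j : Fin p, i ≠ j → ∀ y ∈ E, y ∈ Subgroup.zpowers (ai i) ⊔ Subgroup.zpowers (ai j) := by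
    intro i j hij
    have hle : Subgroup.zpowers (ai i) ⊔ Subgroup.zpowers (ai j) ≤ E :=
      sup_le (Subgroup.zpowers_le.2 (hconjE _)) (Subgroup.zpowers_le.2 (hconjE _))
    suffices heq : Subgroup.zpowers (ai i) ⊔ Subgroup.zpowers (ai j) = E from fun y hy => heq.symm ▸ hy
    wlog hlt : (i : ℕ) < j generalizing i j
    · rw [sup_comm]
      refine this j i hij.symm (by rwa [sup_comm]) ?_
      have : (i : ℕ) ≠ j := fun h => hij (Fin.ext h)
      omega
    refine Subgroup.eq_of_le_of_card_ge hle ?_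
    obtain ⟨r, hr⟩ := ((hP.to_subgroup (Subgroup.zpowers (ai i) ⊔ Subgroup.zpowers (ai j)))).exists_card_eq
    rw [hEc, hr]
    refine Nat.pow_le_pow_right hp.out.pos ?_
    have h1 : Subgroup.zpowers (ai i) < Subgroup.zpowers (ai i) ⊔ Subgroup.zpowers (ai j) :=
      lt_of_le_of_ne le_sup_left fun h => hpre i j hlt j.2 (h.ge (Subgroup.mem_sup_right (Subgroup.mem_zpowers _)))
    have h2 := Basics.card_lt_of_lt h1
    rw [Nat.card_zpowers, hEord _ (hconjE _) (hai1 i), hr] at h2
    have : 1 < r := (Nat.pow_lt_pow_iff_right hp.out.one_lt).1 (by rwa [pow_one])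
    omega
  let Φ : (Fin p → fx ρ a) →ₗ[F] V :=
    ∑ i : Fin p, (ρ (b ^ (i : ℕ))).comp ((fx ρ a).subtype.comp (LinearMap.proj i))
  have hΦ : Function.Injective Φ := by
    rw [← LinearMap.ker_eq_bot, LinearMap.ker_eq_bot']
    intro f hf
    funext j
    let w : Fin p → V := fun i => ρ (b ^ (i : ℕ)) (f i)
    have hw : ∀ i, ρ (ai i) (w i) = w i := fun i => hfixtrans _ _ (f i).2
    have hs : ∑ i, w i = 0 := by
      simpa [Φ, w, LinearMap.sum_apply] using hf
    have hT := congrArg (fun z => ∑ t ∈ Finset.range p, ρ (ai j ^ t) z) hs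
    simp only [map_sum, map_zero, Finset.sum_const_zero] at hT
    rw [Finset.sum_comm, Finset.sum_eq_single j] at hT
    · have hfixj : ∀ t : ℕ, ρ (ai j ^ t) (w j) = w j := by
        intro t
        induction t with
        | zero => rw [pow_zero, map_one, Module.End.one_apply]
        | succ t iht => rw [pow_succ, map_mul, Module.End.mul_apply, hw, iht]
      simp only [hfixj, Finset.sum_const, Finset.card_range] at hT
      rw [← Nat.cast_smul_eq_nsmul F] at hT
      have hwj : w j = 0 := (smul_eq_zero.1 hT).resolve_left hpF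
      refine Subtype.ext ?_
      have := congrArg (ρ (b ^ (j : ℕ))⁻¹) hwj
      rw [map_zero, hinvert] at this
      exact this
    · intro i _ hij
      refine hE0 _ fun y hy => ?_
      have hstab : Subgroup.zpowers (ai i) ⊔ Subgroup.zpowers (ai j) ≤
          ({ carrier := {y | ρ y (∑ t ∈ Finset.range p, ρ (ai j ^ t) (w i)) = ∑ t ∈ Finset.range p, ρ (ai j ^ t) (w i)}
             one_mem' := by simp
             mul_mem' := fun {y z} hy hz => by
               show ρ (y * z) _ = _
               rw [map_mul, Module.End.mul_apply, hz, hy]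
             inv_mem' := fun {y} hy => by
               show ρ y⁻¹ _ = _
               conv_lhs => rw [← hy, hinvert] } : Subgroup P) := by
        refine sup_le (Subgroup.zpowers_le.2 ?_) (Subgroup.zpowers_le.2 ?_)
        · show ρ (ai i) _ = _
          rw [map_sum]
          refine Finset.sum_congr rfl fun t _ => ?_
          rw [← Module.End.mul_apply, ← map_mul, hEcomm _ (hconjE _) _ (pow_mem (hconjE _) t), map_mul,
            Module.End.mul_apply, hw]
        · exact sum_fixed ρ (hEexp _ (hconjE _)) _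
      exact hstab (hgenE i j hij y hy)
    · intro h; exact absurd (Finset.mem_univ j) h
  have hsmall : finrank F (fx ρ a) < B := by
    have h1 := LinearMap.finrank_le_finrank_of_injective hΦ
    rw [Module.finrank_pi_fintype, Finset.sum_const, Finset.card_univ, Fintype.card_fin, smul_eq_mul] at h1
    exact Nat.lt_of_mul_lt_mul_left (h1.trans_lt hdim)
  -- the centralizer of `a`
  obtain ⟨z, hzE, hz1, hzc⟩ := exists_central hP E (fun h => by rw [h, Subgroup.mem_bot] at haE; exact ha1 haE)
  set Z := Subgroup.zpowers z with hZdef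
  haveI hZn : Z.Normal := ⟨fun y hy g => by
    obtain ⟨i, rfl⟩ := Subgroup.mem_zpowers_iff.1 hy
    rw [((show Commute g z from hzc g).zpow_right i).eq, mul_inv_cancel_right]
    exact zpow_mem (Subgroup.mem_zpowers z) i⟩
  set π := QuotientGroup.mk' Z with hπ
  haveI : (E.map π).Normal := Subgroup.Normal.map hEn _ (QuotientGroup.mk'_surjective Z)
  have hbarcard : Nat.card (E.map π) = p := by
    rw [← Subgroup.relIndex_ker, hπ, QuotientGroup.ker_mk']
    have h := Subgroup.relIndex_mul_relIndex ⊥ Z E bot_le (Subgroup.zpowers_le.2 hzE)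
    rw [Subgroup.relIndex_bot_left, Subgroup.relIndex_bot_left, hEc, hZdef, Nat.card_zpowers,
      hEord z hzE hz1, pow_two] at h
    exact Nat.eq_of_mul_eq_mul_left hp.out.pos h
  obtain ⟨zb, hzbE, hzb1, hzbc⟩ := exists_central (hP.to_quotient Z) (E.map π) (fun h => by
    rw [h, Subgroup.card_bot] at hbarcard; exact hp.out.ne_one hbarcard.symm)
  have hbarcen : ∀ y ∈ E.map π, ∀ g, g * y = y * g := by
    have heq : Subgroup.zpowers zb = E.map π := Subgroup.eq_of_le_of_card_ge (Subgroup.zpowers_le.2 hzbE) (by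
      rw [Nat.card_zpowers, hbarcard]
      have h2 : orderOf zb ∣ p := (Subgroup.orderOf_dvd_natCard _ hzbE).trans (dvd_of_eq hbarcard)
      rcases (Nat.dvd_prime hp.out).1 h2 with h | h
      · exact absurd (orderOf_eq_one_iff.1 h) hzb1
      · exact h.ge)
    intro y hy g
    rw [← heq] at hy
    obtain ⟨i, rfl⟩ := Subgroup.mem_zpowers_iff.1 hy
    exact ((show Commute g zb from hzbc g).zpow_right i).eq
  have hcz : ∀ c : P, ∃ k : ℤ, c * a * c⁻¹ = z ^ k * a := fun c => by
    have h : π (c * a * c⁻¹ * a⁻¹) = 1 := by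
      rw [map_mul, map_mul, map_mul, map_inv, map_inv, hbarcen _ ⟨a, haE, rfl⟩ (π c)]; group
    obtain ⟨k, hk⟩ := Subgroup.mem_zpowers_iff.1 ((QuotientGroup.eq_one_iff _).1 h)
    exact ⟨k, by rw [hk, inv_mul_cancel_right]⟩
  let K : Subgroup P := Subgroup.centralizer {a}
  have hK : commutator P ≤ K := by
    rw [commutator_def, Subgroup.commutator_le]
    intro c _ d _
    rw [Subgroup.mem_centralizer_singleton_iff]
    obtain ⟨k, hk⟩ := hcz c
    obtain ⟨l, hl⟩ := hcz d
    have hzk : ∀ (c : P) (l : ℤ), c * z ^ l * c⁻¹ = z ^ l := fun c l => by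
      rw [((show Commute c z from hzc c).zpow_right l).eq, mul_inv_cancel_right]
    have hmov : ∀ (c : P) (k : ℤ), c * a * c⁻¹ = z ^ k * a → ∀ i : ℤ,
        c * (z ^ i * a) * c⁻¹ = z ^ (i + k) * a := fun c k hk i => by
      calc c * (z ^ i * a) * c⁻¹ = (c * z ^ i * c⁻¹) * (c * a * c⁻¹) := by group
        _ = _ := by rw [hzk, hk, ← mul_assoc, ← zpow_add]
    have hinv : ∀ (c : P) (k : ℤ), c * a * c⁻¹ = z ^ k * a → c⁻¹ * a * c⁻¹⁻¹ = z ^ (-k) * a := fun c k hk => by
      have h := congrArg (fun y => c⁻¹ * y * c) (hmov c k hk (-k))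
      simp only [neg_add_cancel, zpow_zero, one_mul] at h
      rw [inv_inv]
      refine h.symm.trans ?_
      group
    have e : ⁅c, d⁆ * a * ⁅c, d⁆⁻¹ = a := by
      calc ⁅c, d⁆ * a * ⁅c, d⁆⁻¹ = c * (d * (c⁻¹ * (d⁻¹ * a * d⁻¹⁻¹) * c⁻¹⁻¹) * d⁻¹) * c⁻¹ := by
            rw [commutatorElement_def]; group
        _ = a := by
            rw [hinv d l hl, hmov c⁻¹ (-k) (hinv c k hk), hmov d l hl, hmov c k hk,
              show -l + -k + l + k = 0 by ring, zpow_zero, one_mul]
    exact mul_inv_eq_iff_eq_mul.1 e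
  obtain ⟨k, hk, rfl⟩ := derived_succ_le_map hK m hg
  let T : P → Submodule F V := fun c => (fx ρ a).map (ρ c)
  have hTinv : ∀ c, ∀ l : K, ∀ x ∈ T c, ρ (l : P) x ∈ T c := by
    intro c l
    rintro _ ⟨x, hx, rfl⟩
    have hl' : c⁻¹ * (l : P) * c ∈ K := by
      have h1 : ⁅c⁻¹, (l : P)⁆ ∈ K := hK (Subgroup.commutator_mem_commutator (Subgroup.mem_top _) (Subgroup.mem_top _))
      have h2 := mul_mem h1 l.2
      rwa [commutatorElement_def, inv_inv, inv_mul_cancel_right] at h2
    refine ⟨ρ (c⁻¹ * (l : P) * c) x, ?_, ?_⟩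
    · show ρ a (ρ (c⁻¹ * (l : P) * c) x) = ρ (c⁻¹ * (l : P) * c) x
      rw [← Module.End.mul_apply, ← map_mul, ← Subgroup.mem_centralizer_singleton_iff.1 hl', map_mul,
        Module.End.mul_apply]
      exact congrArg _ (hx : ρ a x = x)
    · rw [← Module.End.mul_apply, ← map_mul, show c * (c⁻¹ * (l : P) * c) = (l : P) * c by group, map_mul,
        Module.End.mul_apply]
  have hbinj : ∀ c, Function.Injective (ρ c) := fun c => Function.LeftInverse.injective (hinvert c)
  have hTdim : ∀ c, finrank F (T c) = finrank F (fx ρ a) := fun c =>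
    ((Submodule.equivMapOfInjective (ρ c) (hbinj c) _).finrank_eq).symm
  have hfixT : ∀ c, ∀ x ∈ T c, ρ (k : P) x = x := fun c =>
    subRep_eq_one (h := hTinv c) (g := k) (ρ := ρ.comp K.subtype)
      (ihm (hP.to_subgroup K) _ ((hTdim c).trans_lt hsmall) k hk)
  have hsup : (⨆ c, T c) = ⊤ := by
    refine (hirr (⨆ c, T c) fun c x hx => ?_).resolve_left fun h => hv₀ne ?_
    · have hle : (⨆ d, T d).map (ρ c) ≤ ⨆ d, T d := by
        rw [Submodule.map_iSup]
        refine iSup_le fun d => le_trans (le_of_eq ?_) (le_iSup T (c * d))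
        show ((fx ρ a).map (ρ d)).map (ρ c) = (fx ρ a).map (ρ (c * d))
        rw [map_mul, Module.End.mul_eq_comp, Submodule.map_comp]
      exact hle ⟨x, hx, rfl⟩
    · have h1 : ρ (1 : P) v₀ ∈ ⨆ c, T c := Submodule.mem_iSup_of_mem 1 ⟨v₀, hv₀, rfl⟩
      rw [h, map_one, Module.End.one_apply] at h1
      exact h1
  refine LinearMap.ext fun x => ?_
  have : (⊤ : Submodule F V) ≤ LinearMap.eqLocus (ρ (k : P)) (1 : Module.End F V) := by
    rw [← hsup]
    exact iSup_le fun c y hy => hfixT c y hy
  exact this (trivial : x ∈ (⊤ : Submodule F V))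

/-- The derived series of a linear p-group is short. -/
theorem derived_trivial (hp2 : p ≠ 2) (hq : Fintype.card F = q) (hpq : ¬ p ∣ q) :
    ∀ (m : ℕ) {P : Type v} [Group P] [Finite P], IsPGroup p P → ∀ {V : Type v} [AddCommGroup V]
      [Module F V] [FiniteDimensional F V] (ρ : Representation F P V),
      finrank F V < orderOf (q : ZMod p) * p ^ m → ∀ g ∈ derivedSeries P m, ρ g = 1 := by
  have hpF : (p : F) ≠ 0 := fun h => by
    obtain ⟨ℓ, hℓ⟩ := CharP.exists F
    haveI := Fact.mk (CharP.char_is_prime F ℓ)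
    have h1 : ℓ ∣ p := (CharP.cast_eq_zero_iff F ℓ p).1 h
    obtain rfl := (Nat.prime_dvd_prime_iff_eq (Fact.out : ℓ.Prime) hp.out).1 h1
    obtain ⟨f, -, hf⟩ := FiniteField.card F ℓ
    exact hpq (hq ▸ hf ▸ dvd_pow_self ℓ f.ne_zero)
  intro m
  induction m with
  | zero =>
    intro P _ _ hP V _ _ _ ρ hn g _
    rw [pow_zero, mul_one] at hn
    by_contra hne
    obtain ⟨i, hi⟩ := IsPGroup.iff_orderOf.mp hP g
    have h1 := order_le_finrank hq hpq (ρ.toHomUnits g)
      (fun h => hne (congrArg Units.val h)) (i := i)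
      (by rw [← map_pow, ← hi, pow_orderOf_eq_one, map_one])
    omega
  | succ m ih =>
    intro P _ _ hP V _ _ _ ρ
    induction hd : finrank F V using Nat.strong_induction_on generalizing V with
    | _ n ihn =>
    subst hd
    intro hn g hg
    by_cases hred : ∃ W : Submodule F V, W ≠ ⊥ ∧ W ≠ ⊤ ∧ ∀ g, ∀ x ∈ W, ρ g x ∈ W
    · obtain ⟨W, hb, ht, hW⟩ := hred
      have hlt1 : finrank F W < finrank F V := Submodule.finrank_lt ht
      have hlt2 : finrank F (V ⧸ W) < finrank F V := by
        have := W.finrank_quotient_add_finrank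
        have h0 : finrank F W ≠ 0 := fun h => hb (Submodule.finrank_eq_zero.mp h)
        omega
      have h1 := ihn _ hlt1 (subRep ρ W hW) rfl (hlt1.trans hn) g hg
      have h2 := ihn _ hlt2 (quotRep ρ W hW) rfl (hlt2.trans hn) g hg
      obtain ⟨k, hk⟩ := IsPGroup.iff_orderOf.mp hP g
      refine finite_order_unipotent (q := p ^ k) ?_ (hk ▸ pow_orderOf_eq_one g) (subRep_eq_one h1) (quotRep_eq_one h2)
      rw [Nat.cast_pow]
      exact pow_ne_zero _ hpF
    push Not at hred
    haveI : Finite V := Module.finite_of_finite F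
    haveI : Finite (Module.End F V) := Finite.of_injective _ DFunLike.coe_injective
    set R := ρ.toHomUnits.range with hR
    let ρ' : Representation F R V := (Units.coeHom (Module.End F V)).comp R.subtype
    have hRp : IsPGroup p R := hP.of_surjective _ ρ.toHomUnits.rangeRestrict_surjective
    have hirr : ∀ W : Submodule F V, (∀ g, ∀ x ∈ W, ρ' g x ∈ W) → W = ⊥ ∨ W = ⊤ := by
      intro W hW
      by_contra hc
      push Not at hc
      obtain ⟨g, x, hx, hgx⟩ := hred W hc.1 hc.2
      exact hgx (hW ⟨ρ.toHomUnits g, g, rfl⟩ x hx)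
    have h := irreducible_step hp2 hpF (B := orderOf (q : ZMod p) * p ^ m) (m := m)
      (fun hQ _ _ _ _ σ hσ => ih hQ σ hσ) hRp ρ' (fun a b h => Subtype.ext (Units.ext h)) hirr
      (by rw [pow_succ] at hn; linarith) (ρ.toHomUnits.rangeRestrict g)
      (map_derivedSeries_le_derivedSeries _ _ ⟨g, hg, rfl⟩)
    exact h

/-- The base group of a linear wreath product. -/
def baseHom {n : ℕ} {U : Type v} [AddCommGroup U] [Module F U] (Q : Subgroup (U ≃ₗ[F] U)) :
    (Fin n → Q) →* ((Fin n → U) ≃ₗ[F] (Fin n → U)) where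
  toFun f := LinearEquiv.piCongrRight fun i => (f i : U ≃ₗ[F] U)
  map_one' := rfl
  map_mul' f g := rfl

omit [Fintype F] in
theorem exists_derived_ne_bot (hp2 : p ≠ 2) {e : ℕ} (t : (Fin e → F) ≃ₗ[F] (Fin e → F))
    (ht : orderOf t = p) : ∀ j, ∃ Q : Subgroup ((Fin (e * p ^ j) → F) ≃ₗ[F] (Fin (e * p ^ j) → F)),
      IsPGroup p Q ∧ derivedSeries Q j ≠ ⊥ := by
  classical
  intro j
  induction j with
  | zero =>
    rw [pow_zero, mul_one]
    refine ⟨Subgroup.zpowers t, IsPGroup.of_card (n := 1) (by rw [Nat.card_zpowers, ht, pow_one]), ?_⟩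
    rw [derivedSeries_zero]
    haveI : Nontrivial (Subgroup.zpowers t) := by
      refine (Subgroup.nontrivial_iff_ne_bot _).2 fun h => hp.out.ne_one ?_
      rw [← ht, orderOf_eq_one_iff, ← Subgroup.zpowers_eq_bot, h]
    exact top_ne_bot
  | succ j ih =>
    obtain ⟨Q, hQ, hQj⟩ := ih
    haveI : NeZero p := ⟨hp.out.ne_zero⟩
    set U := Fin (e * p ^ j) → F with hU
    let c : (Fin p → U) ≃ₗ[F] (Fin p → U) := LinearEquiv.funCongrLeft F U (Equiv.addRight (1 : Fin p))
    let B := (baseHom (F := F) (n := p) Q).range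
    have hcap : ∀ v i, c v i = v (i + 1) := fun v i => rfl
    have hcB : ∀ f : Fin p → Q, c * baseHom Q f * c⁻¹ = baseHom Q (fun i => f (i + 1)) := by
      intro f
      have h : c * baseHom Q f = baseHom Q (fun i => f (i + 1)) * c :=
        LinearEquiv.ext fun v => funext fun i => rfl
      rw [h, mul_inv_cancel_right]
    have hnorm : Subgroup.zpowers c ≤ Subgroup.normalizer (B : Set ((Fin p → U) ≃ₗ[F] (Fin p → U))) := by
      rw [Subgroup.zpowers_le, Subgroup.mem_normalizer_iff]
      intro y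
      constructor
      · rintro ⟨f, rfl⟩
        exact ⟨_, (hcB f).symm⟩
      · rintro ⟨f, hf⟩
        refine ⟨fun i => f (i - 1), ?_⟩
        have h1 := hcB (fun i => f (i - 1))
        simp only [add_sub_cancel_right] at h1
        rw [hf] at h1
        exact mul_left_cancel (mul_right_cancel h1)
    have hcp : c ^ p = 1 := by
      have : ∀ k : ℕ, ∀ v i, (c ^ k) v i = v (i + k • (1 : Fin p)) := by
        intro k
        induction k with
        | zero => intro v i; simp
        | succ k hk =>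
          intro v i
          rw [pow_succ', LinearEquiv.mul_apply, hcap, hk, succ_nsmul]
          congr 1
          abel
      refine LinearEquiv.ext fun v => funext fun i => ?_
      rw [this]
      have hp1 : p • (1 : Fin p) = 0 := by simpa using card_nsmul_eq_zero (x := (1 : Fin p))
      rw [hp1, add_zero]
      rfl
    have hBp : IsPGroup p B := by
      rintro ⟨_, f, rfl⟩
      have h2 : ∀ i, ∃ k, (f i) ^ p ^ k = 1 := fun i => hQ (f i)
      choose k hk using h2
      refine ⟨∑ i, k i, Subtype.ext ?_⟩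
      rw [SubmonoidClass.coe_pow, ← map_pow]
      refine (congrArg (baseHom Q) (funext fun i => ?_)).trans (map_one _)
      obtain ⟨d, hd⟩ := pow_dvd_pow p (Finset.single_le_sum (fun j _ => Nat.zero_le (k j)) (Finset.mem_univ i))
      rw [Pi.pow_apply, hd, pow_mul, hk, one_pow, Pi.one_apply]
    set W := B ⊔ Subgroup.zpowers c with hW
    have hWp : IsPGroup p W := hBp.to_sup_of_normal_left' (fun g => ⟨1, by
      obtain ⟨i, hi⟩ := g.2
      refine Subtype.ext ?_
      rw [pow_one, SubmonoidClass.coe_pow, OneMemClass.coe_one, ← hi]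
      show (c ^ i) ^ p = 1
      rw [← zpow_natCast (c ^ i), ← zpow_mul, mul_comm i (p : ℤ), zpow_mul, zpow_natCast, hcp, one_zpow]⟩) hnorm
    let ι : (Fin p → Q) →* W := (baseHom Q).codRestrict W (fun f => Subgroup.mem_sup_left ⟨f, rfl⟩)
    have hι : Function.Injective ι := by
      intro f g h
      funext i
      refine Subtype.ext (LinearEquiv.ext fun y => ?_)
      exact congrFun (LinearEquiv.congr_fun (congrArg Subtype.val h) (fun _ => y)) i
    let S : Subgroup (Fin p → Q) := (commutator W).comap ι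
    let π : S →* Q := (Pi.evalMonoidHom (fun _ : Fin p => ↥Q) 0).comp S.subtype
    have hπ : Function.Surjective π := by
      intro q₀
      let f : Fin p → Q := Function.update 1 0 q₀
      let cW : W := ⟨c, Subgroup.mem_sup_right (Subgroup.mem_zpowers c)⟩
      refine ⟨⟨f * (fun i => f (i + 1))⁻¹, ?_⟩, ?_⟩
      · show ι (f * (fun i => f (i + 1))⁻¹) ∈ commutator W
        have he : ι (f * (fun i => f (i + 1))⁻¹) = ι f * cW * (ι f)⁻¹ * cW⁻¹ := by
          refine Subtype.ext ?_
          show baseHom Q (f * (fun i => f (i + 1))⁻¹) = baseHom Q f * c * (baseHom Q f)⁻¹ * c⁻¹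
          rw [map_mul, map_inv, ← hcB]
          group
        rw [he]
        exact Subgroup.commutator_mem_commutator (Subgroup.mem_top (ι f)) (Subgroup.mem_top cW)
      · show f 0 * (f (0 + 1))⁻¹ = q₀
        have h1 : (0 + 1 : Fin p) ≠ 0 := by
          rw [zero_add]
          intro h
          have := congrArg Fin.val h
          rw [Fin.val_one', Fin.val_zero, Nat.mod_eq_of_lt hp.out.one_lt] at this
          omega
        rw [zero_add] at h1
        simp [f, Function.update_of_ne h1]
    have hWne : derivedSeries W (j + 1) ≠ ⊥ := by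
      intro h
      apply hQj
      have hS : derivedSeries S j = ⊥ := by
        rw [eq_bot_iff]
        intro s hs
        let τ : S →* commutator W := (ι.comp S.subtype).codRestrict _ (fun s => s.2)
        have h1 : (commutator W).subtype (τ s) ∈ derivedSeries W (j + 1) :=
          map_derived_commutator_le W j ⟨τ s, map_derivedSeries_le_derivedSeries τ j ⟨s, hs, rfl⟩, rfl⟩
        rw [h, Subgroup.mem_bot] at h1
        refine Subgroup.mem_bot.mpr (Subtype.ext (hι ?_))
        exact h1.trans (map_one ι).symm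
      rw [← map_derivedSeries_eq hπ, hS, Subgroup.map_bot]
    let E : (Fin p → U) ≃ₗ[F] (Fin (e * p ^ (j + 1)) → F) := LinearEquiv.ofFinrankEq _ _ (by
      rw [Module.finrank_pi_fintype, Finset.sum_const, Finset.card_univ, Fintype.card_fin, smul_eq_mul,
        Module.finrank_fintype_fun_eq_card, Module.finrank_fintype_fun_eq_card, Fintype.card_fin,
        Fintype.card_fin, pow_succ]
      ring)
    let φ : ((Fin p → U) ≃ₗ[F] (Fin p → U)) →* ((Fin (e * p ^ (j + 1)) → F) ≃ₗ[F] (Fin (e * p ^ (j + 1)) → F)) :=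
      { toFun := fun T => E.symm.trans (T.trans E)
        map_one' := LinearEquiv.ext fun v => E.apply_symm_apply v
        map_mul' := fun S T => LinearEquiv.ext fun v => by
          show E (S (T (E.symm v))) = E (S (E.symm (E (T (E.symm v)))))
          rw [E.symm_apply_apply] }
    have hφ : Function.Injective φ := fun S T h => LinearEquiv.ext fun v => by
      have h1 := E.injective (LinearEquiv.congr_fun h (E v))
      simpa using h1
    let W' := W.equivMapOfInjective φ hφ
    refine ⟨_, hWp.of_equiv W', fun h => hWne ?_⟩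
    rw [← map_derivedSeries_eq (f := W'.symm.toMonoidHom) W'.symm.surjective, h, Subgroup.map_bot]

end Cfsg.Agent.FGB.GLDerived
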