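import Mathlib
import Cfsg.Agent.Lib.PermGp.AltIndex
import Cfsg.Agent.Lib.PermGp.HalfTrans

/-!
# Subgroups generated by two permutations of large prime order
-/

set_option autoImplicit false
set_option linter.style.haveILetI false

namespace Cfsg.Agent.FGB

open MulAction Equiv
open scoped Pointwise

variable {β : Type*} [Fintype β] [DecidableEq β]

theorem injective_pow_apply {a : Perm β} {p : ℕ} (hp : p.Prime) (ha : orderOf a = p) {x : β}
    (hx : a x ≠ x) : Function.Injective fun i : Fin p => (a ^ (i : ℕ)) x := by
  have key : ∀ i j : ℕ, i < j → j < p → (a ^ i) x ≠ (a ^ j) x := by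
    intro i j hij hj h
    apply hx
    have hfix : (a ^ (j - i)) x = x := by
      apply (a ^ i).injective
      rw [← Perm.mul_apply, ← pow_add, Nat.add_sub_cancel' hij.le, h]
    obtain ⟨m, hm⟩ := exists_pow_eq_self_of_coprime (x := a) (n := j - i) (by
      rw [ha]
      exact (hp.coprime_iff_not_dvd.mpr fun hd => by
        have := Nat.le_of_dvd (by omega) hd; omega).symm)
    rw [← hm]
    exact Perm.pow_apply_eq_self_of_apply_eq_self hfix m
  intro i j h
  rcases lt_trichotomy (i : ℕ) j with h' | h' | h'
  · exact absurd h (key i j h' j.2)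
  · exact Fin.ext h'
  · exact absurd h.symm (key j i h' i.2)

/-- A group containing a `q`-cycle with `q` prime, `2 q > n`, and an element of order `p > n - q`
moving all points fixed by the cycle, is primitive. -/
theorem isPreprimitive_closure_pair {a b : Perm β} {p q : ℕ} (hp : p.Prime) (hq : q.Prime)
    (ha : orderOf a = p) (hb : b.IsCycle) (hbq : b.support.card = q)
    (hd : Fintype.card β < 2 * q) (hd' : Fintype.card β < q + p)
    (hcov : ∀ x : β, a x ≠ x ∨ b x ≠ x) :
    IsPreprimitive (Subgroup.closure ({a, b} : Set (Perm β))) β := by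
  classical
  set K := Subgroup.closure ({a, b} : Set (Perm β)) with hK
  have haK : a ∈ K := Subgroup.subset_closure (Or.inl rfl)
  have hbK : b ∈ K := Subgroup.subset_closure (Or.inr rfl)
  obtain ⟨u, hu⟩ : b.support.Nonempty := Finset.card_pos.mp (hbq ▸ hq.pos)
  have htr : IsPretransitive K β := by
    have key : ∀ x : β, ∃ k : K, k • x = u := by
      intro x
      suffices ∃ k : K, (k : Perm β) x ∈ b.support by
        obtain ⟨k, hk⟩ := this
        obtain ⟨i, hi⟩ := hb.exists_pow_eq (Perm.mem_support.mp hk) (Perm.mem_support.mp hu)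
        exact ⟨⟨b ^ i, K.pow_mem hbK i⟩ * k, hi⟩
      by_cases hxb : x ∈ b.support
      · exact ⟨1, hxb⟩
      have hax : a x ≠ x := (hcov x).resolve_right (fun h => hxb (Perm.mem_support.mpr h))
      by_contra hcon
      push Not at hcon
      have hsub : (Finset.univ.image fun i : Fin p => (a ^ (i : ℕ)) x) ⊆ b.supportᶜ := by
        intro y hy
        obtain ⟨i, -, rfl⟩ := Finset.mem_image.mp hy
        exact Finset.mem_compl.mpr (hcon ⟨a ^ (i : ℕ), K.pow_mem haK i⟩)
      have := Finset.card_le_card hsub
      rw [Finset.card_image_of_injective _ (injective_pow_apply hp ha hax), Finset.card_compl,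
        hbq, Finset.card_univ, Fintype.card_fin] at this
      have := hp.pos
      omega
    constructor
    intro x y
    obtain ⟨k, hk⟩ := key x
    obtain ⟨l, hl⟩ := key y
    exact ⟨l⁻¹ * k, by rw [mul_smul, hk, ← hl, inv_smul_smul]⟩
  haveI := htr
  refine IsPreprimitive.of_isTrivialBlock_base u fun {B} huB hB => ?_
  by_cases hsing : B.Subsingleton
  · exact Or.inl hsing
  right
  have hcard := hB.ncard_block_mul_ncard_orbit_eq ⟨u, huB⟩
  rw [Nat.card_eq_fintype_card] at hcard
  have hB2 : 2 ≤ B.ncard := (Set.one_lt_ncard (Set.toFinite B)).mpr (Set.not_subsingleton_iff.mp hsing)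
  let bK : K := ⟨b, hbK⟩
  have hbB : bK • B = B := by
    by_contra hne
    have horb : Set.range (fun i : Fin q => bK ^ (i : ℕ) • B) ⊆ orbit K B := by
      rintro _ ⟨i, rfl⟩
      exact mem_orbit B _
    have hinj : Function.Injective (fun i : Fin q => bK ^ (i : ℕ) • B) := by
      have key : ∀ i j : ℕ, i < j → j < q → bK ^ i • B ≠ bK ^ j • B := by
        intro i j hij hj h
        apply hne
        have hfix : bK ^ (j - i) • B = B := by
          apply smul_left_cancel (bK ^ i)
          rw [smul_smul, ← pow_add, Nat.add_sub_cancel' hij.le, h]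
        have hbo : orderOf bK = q := by
          rw [← Subgroup.orderOf_coe]; exact hb.orderOf.trans hbq
        obtain ⟨m, hm⟩ := exists_pow_eq_self_of_coprime (x := bK) (n := j - i) (by
          rw [hbo]
          exact (hq.coprime_iff_not_dvd.mpr fun hd => by
            have := Nat.le_of_dvd (by omega) hd; omega).symm)
        have hpow : ∀ m : ℕ, (bK ^ (j - i)) ^ m • B = B := by
          intro m
          induction m with
          | zero => simp
          | succ m ih => rw [pow_succ, mul_smul, hfix, ih]
        rw [← hm]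
        exact hpow m
      intro i j h
      rcases lt_trichotomy (i : ℕ) j with h' | h' | h'
      · exact absurd h (key i j h' j.2)
      · exact Fin.ext h'
      · exact absurd h.symm (key j i h' i.2)
    have h1 := Set.ncard_le_ncard horb (Set.toFinite _)
    rw [Set.ncard_range_of_injective hinj, Nat.card_fin] at h1
    have h2 := Nat.mul_le_mul hB2 h1
    omega
  -- the block contains the whole cycle
  by_cases hub : b u = u
  · exact absurd hub (Perm.mem_support.mp hu)
  have hsupp : (b.support : Set β) ⊆ B := by
    intro y hy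
    obtain ⟨i, rfl⟩ := hb.exists_pow_eq (Perm.mem_support.mp hu) (Perm.mem_support.mp hy)
    have : ∀ i : ℕ, bK ^ i • B = B := by
      intro i
      induction i with
      | zero => simp
      | succ i ih => rw [pow_succ, mul_smul, hbB, ih]
    rw [← this i]
    exact ⟨u, huB, rfl⟩
  have hBq : q ≤ B.ncard := by
    have := Set.ncard_le_ncard hsupp (Set.toFinite _)
    rwa [Set.ncard_coe_finset, hbq] at this
  have horb1 : Set.ncard (orbit K B) = 1 := by
    have h2 : 0 < Set.ncard (orbit K B) :=
      (Set.ncard_pos (Set.toFinite _)).mpr ⟨B, mem_orbit_self B⟩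
    by_contra h
    have := Nat.mul_le_mul hBq (show 2 ≤ Set.ncard (orbit K B) by omega)
    omega
  rw [horb1, mul_one] at hcard
  exact Set.eq_of_subset_of_ncard_le (Set.subset_univ B)
    (by rw [Set.ncard_univ, Nat.card_eq_fintype_card, hcard]) (Set.toFinite _)

/-- The alternating group depends on the cardinality only. -/
theorem nonempty_alternating_congr {γ : Type*} [Fintype γ] [DecidableEq γ] (e : β ≃ γ) :
    Nonempty (alternatingGroup β ≃* alternatingGroup γ) := by
  have hmap : (alternatingGroup β).map e.permCongrHom.toMonoidHom = alternatingGroup γ := by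
    ext g
    constructor
    · rintro ⟨f, hf, rfl⟩
      show Perm.sign (e.permCongr f) = 1
      rw [Perm.sign_permCongr]
      exact hf
    · intro hg
      refine ⟨e.symm.permCongr g, ?_, Equiv.ext fun x => by simp [Equiv.permCongr_apply]⟩
      show Perm.sign (e.symm.permCongr g) = 1
      rw [Perm.sign_permCongr]
      exact hg
  exact ⟨((alternatingGroup β).equivMapOfInjective e.permCongrHom.toMonoidHom
    e.permCongrHom.injective).trans (MulEquiv.subgroupCongr hmap)⟩

/-- A primitive group of even permutations of degree six with elements of orders three and five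
is isomorphic to `A₅` or `A₆`. -/
theorem alternating_six {K : Subgroup (Perm β)} (hK : K ≤ alternatingGroup β)
    (hβ : Fintype.card β = 6) (hprim : IsPreprimitive K β)
    {a b : Perm β} (ha : a ∈ K) (ha3 : orderOf a = 3) (hb : b ∈ K) (hb5 : orderOf b = 5) :
    ∃ d : ℕ, 5 ≤ d ∧ Nonempty (K ≃* alternatingGroup (Fin d)) := by
  classical
  haveI := hprim
  haveI : Nontrivial β := Fintype.one_lt_card_iff_nontrivial.mp (by omega)
  by_cases hfull : K = alternatingGroup β
  · obtain ⟨e⟩ := nonempty_alternating_congr (Fintype.equivFinOfCardEq hβ)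
    exact ⟨6, by norm_num, ⟨(MulEquiv.subgroupCongr hfull).trans e⟩⟩
  refine ⟨5, le_rfl, ?_⟩
  have h60 : Nat.card K ≤ 60 := by
    have := PermGp.card_le_of_le_alternating (by omega) hK hfull
    rw [hβ, show Nat.factorial 6 = 720 from rfl] at this
    omega
  have h6 : 6 ∣ Nat.card K := by
    obtain ⟨x⟩ : Nonempty β := inferInstance
    rw [← PermGp.card_mul_card_stabilizer (G := K) x, Nat.card_eq_fintype_card (α := β), hβ]
    exact dvd_mul_right _ _
  have h5 : 5 ∣ Nat.card K := hb5 ▸ Subgroup.orderOf_dvd_natCard K hb
  have h30 : 30 ∣ Nat.card K := Nat.Coprime.mul_dvd_of_dvd_of_dvd (by norm_num : Nat.Coprime 6 5) h6 h5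
  obtain ⟨k, hk⟩ := h30
  have hkpos : 0 < Nat.card K := Nat.card_pos
  rcases (show k = 1 ∨ k = 2 by omega) with rfl | rfl
  · -- order thirty
    exfalso
    haveI : Fact (Nat.Prime 5) := ⟨by norm_num⟩
    let Q := Subgroup.zpowers b
    have hQK : Q ≤ K := Subgroup.zpowers_le.mpr hb
    have hQ5 : Nat.card Q = 5 := (Nat.card_zpowers b).trans hb5
    have hQidx : ¬ 5 ∣ Q.relIndex K := by
      have h1 := (Q.subgroupOf K).card_mul_index
      rw [Nat.card_congr (Subgroup.subgroupOfEquivOfLe hQK).toEquiv, hQ5, hk] at h1
      have h2 : Q.relIndex K = 6 := Nat.eq_of_mul_eq_mul_left (by norm_num : 0 < 5) h1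
      rw [h2]; norm_num
    let P : Sylow 5 K := ((IsPGroup.of_card (n := 1) (by rw [hQ5, pow_one]) : IsPGroup 5 Q).comap_subtype
      (K := K)).toSylow hQidx
    obtain ⟨c, hc⟩ : ∃ c, b c = c :=
      Perm.exists_fixed_point_of_prime (p := 5) (n := 1) (by rw [hβ]; norm_num)
        (by rw [pow_one, ← hb5]; exact pow_orderOf_eq_one b)
    have huniq : ∀ x, b x = x → x = c := by
      intro x hx
      by_contra hne
      have hsub : b.support ⊆ ({x, c} : Finset β)ᶜ := by
        intro y hy
        simp only [Finset.mem_compl, Finset.mem_insert, Finset.mem_singleton]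
        rintro (rfl | rfl)
        · exact Perm.mem_support.mp hy hx
        · exact Perm.mem_support.mp hy hc
      have h1 := Finset.card_le_card hsub
      rw [Finset.card_compl, Finset.card_pair hne, hβ] at h1
      have h2 : b.support.Nonempty := by
        rw [Finset.nonempty_iff_ne_empty]
        intro h
        rw [Perm.support_eq_empty_iff.mp h, orderOf_one] at hb5
        omega
      obtain ⟨y, hy⟩ := h2
      have h3 : (Finset.univ.image fun i : Fin 5 => (b ^ (i : ℕ)) y) ⊆ b.support := by
        intro z hz
        obtain ⟨i, -, rfl⟩ := Finset.mem_image.mp hz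
        exact Perm.pow_apply_mem_support.mpr hy
      have h4 := Finset.card_le_card h3
      rw [Finset.card_image_of_injective _ (injective_pow_apply (by norm_num) hb5 (Perm.mem_support.mp hy)),
        Finset.card_univ, Fintype.card_fin] at h4
      omega
    have hQst : Q.subgroupOf K = stabilizer K c := by
      refine Subgroup.eq_of_le_of_card_ge (fun g hg => ?_) ?_
      · obtain ⟨i, hi⟩ := Subgroup.mem_zpowers_iff.mp hg
        show (g : Perm β) c = c
        have hi' : b ^ i = (g : Perm β) := hi
        rw [← hi']
        exact Perm.zpow_apply_eq_self_of_apply_eq_self hc i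
      · have h1 := PermGp.card_mul_card_stabilizer (G := K) c
        rw [Nat.card_eq_fintype_card (α := β), hβ, hk] at h1
        rw [Nat.card_congr (Subgroup.subgroupOfEquivOfLe hQK).toEquiv, hQ5]
        omega
    have hNC : Subgroup.normalizer (P : Set K) ≤ Subgroup.centralizer (P : Set K) := by
      intro n hn
      have hbn := (Subgroup.mem_normalizer_iff''.mp hn ⟨b, hb⟩).mp (Subgroup.mem_zpowers b)
      have hnc : n ∈ stabilizer K c := by
        obtain ⟨i, hi⟩ := Subgroup.mem_zpowers_iff.mp hbn
        have e : ((n : Perm β)⁻¹ * b * (n : Perm β)) c = c := by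
          show ((n⁻¹ * ⟨b, hb⟩ * n : K) : Perm β) c = c
          have hi' : b ^ i = ((n⁻¹ * ⟨b, hb⟩ * n : K) : Perm β) := hi
          rw [← hi']
          exact Perm.zpow_apply_eq_self_of_apply_eq_self hc i
        rw [Perm.mul_apply, Perm.mul_apply, Perm.inv_eq_iff_eq] at e
        exact huniq _ e
      rw [← hQst] at hnc
      rw [Subgroup.mem_centralizer_iff]
      intro y hy
      exact Subtype.ext (show (y : Perm β) * n = n * y from
        congrArg Subtype.val (mul_comm' (⟨(y : Perm β), hy⟩ : Q) ⟨_, hnc⟩))
    haveI : IsMulCommutative (P : Subgroup K) :=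
      ⟨⟨fun x y => Subtype.ext ((Subgroup.mem_centralizer_iff.mp
        (hNC (Subgroup.le_normalizer y.2))) _ x.2)⟩⟩
    set M := (MonoidHom.transferSylow P hNC).ker with hM
    have hMidx : M.index = 5 := by
      rw [(MonoidHom.ker_transferSylow_isComplement' P hNC).symm.index_eq_card]
      exact (Nat.card_congr (Subgroup.subgroupOfEquivOfLe hQK).toEquiv).trans hQ5
    have hM6 : Nat.card M = 6 := by
      have h1 := M.card_mul_index
      rw [hMidx, hk] at h1
      omega
    let aK : K := ⟨a, ha⟩
    have haK3 : orderOf aK = 3 := by rw [← Subgroup.orderOf_coe]; exact ha3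
    have hmem3 : ∀ g : K, orderOf g = 3 → g ∈ M := fun g hg => by
      obtain ⟨i, hi⟩ := exists_pow_eq_self_of_coprime (x := g) (n := 5) (by rw [hg]; norm_num)
      rw [← hi]
      exact M.pow_mem (hMidx ▸ Subgroup.pow_index_mem M g) i
    let T := Subgroup.zpowers aK
    have hTM : T ≤ M := Subgroup.zpowers_le.mpr (hmem3 aK haK3)
    have hT2 : (T.subgroupOf M).index = 2 := by
      have h1 := (T.subgroupOf M).card_mul_index
      rw [Nat.card_congr (Subgroup.subgroupOfEquivOfLe hTM).toEquiv, Nat.card_zpowers, haK3, hM6] at h1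
      omega
    have hTall : ∀ g : K, orderOf g = 3 → g ∈ T := by
      intro g hg
      haveI : (T.subgroupOf M).Normal := Subgroup.normal_of_index_eq_two hT2
      have h2 : (⟨g, hmem3 g hg⟩ : M) ^ 2 ∈ T.subgroupOf M := hT2 ▸ Subgroup.pow_index_mem _ _
      have h3 : g ^ 2 ∈ T := h2
      have h4 : g = (g ^ 2) ^ 2 := by
        rw [← pow_mul, show 2 * 2 = 3 + 1 from rfl, pow_add, ← hg, pow_orderOf_eq_one, one_mul, pow_one]
      rw [h4]
      exact T.pow_mem h3 2
    haveI hTn : T.Normal := ⟨fun x hx g => by
      obtain ⟨i, rfl⟩ := Subgroup.mem_zpowers_iff.mp hx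
      rw [← conj_zpow]
      refine T.zpow_mem (hTall _ ?_) i
      rw [← MulAut.conj_apply, MulEquiv.orderOf_eq]
      exact haK3⟩
    haveI := PermGp.normal_transitive (G := K) (α := β) T (fun h => by
      have := Subgroup.zpowers_eq_bot.mp h
      rw [this, orderOf_one] at haK3
      omega)
    obtain ⟨x⟩ : Nonempty β := inferInstance
    have h1 := PermGp.card_mul_card_stabilizer (G := T) x
    rw [Nat.card_eq_fintype_card (α := β), hβ, Nat.card_zpowers, haK3] at h1
    omega
  · -- order sixty: a point stabiliser in the action on the cosets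
    let H := K.subgroupOf (alternatingGroup β)
    have hHK : Nat.card H = 60 := by
      rw [Nat.card_congr (Subgroup.subgroupOfEquivOfLe hK).toEquiv, hk]
    have hAcard : Nat.card (alternatingGroup β) = 360 := by
      have := two_mul_card_alternatingGroup (α := β)
      rw [Fintype.card_perm, hβ, ← Nat.card_eq_fintype_card, show Nat.factorial 6 = 720 from rfl] at this
      omega
    have hidx : H.index = 6 := by
      have h1 := H.card_mul_index
      rw [hHK, hAcard] at h1
      omega
    let Ω := alternatingGroup β ⧸ H
    letI : Fintype Ω := Fintype.ofFinite _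
    have hΩ : Fintype.card Ω = 6 := by rw [← Nat.card_eq_fintype_card]; exact hidx
    haveI := alternatingGroup.isSimpleGroup (α := β) (by rw [Nat.card_eq_fintype_card, hβ]; norm_num)
    let f := MulAction.toPermHom (alternatingGroup β) Ω
    have hinj : Function.Injective f := by
      rw [← MonoidHom.ker_eq_bot_iff, ← Subgroup.normalCore_eq_ker]
      refine (Subgroup.Normal.eq_bot_or_eq_top H.normalCore_normal).resolve_right fun h => ?_
      have h1 : H = ⊤ := eq_top_iff.mpr (h ▸ H.normalCore_le)
      rw [h1, Subgroup.index_top] at hidx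
      omega
    have heven : ∀ g, f g ∈ alternatingGroup Ω := by
      intro g
      let s : alternatingGroup β →* ℤˣ := Perm.sign.comp f
      rcases Subgroup.Normal.eq_bot_or_eq_top s.normal_ker with h | h
      · exfalso
        have hle := Nat.card_le_card_of_injective s ((MonoidHom.ker_eq_bot_iff s).mp h)
        rw [hAcard, Nat.card_eq_fintype_card, Fintype.card_units_int] at hle
        omega
      · exact MonoidHom.mem_ker.mp (h ▸ Subgroup.mem_top g : g ∈ s.ker)
    let x0 : Ω := QuotientGroup.mk 1
    let s : Finset Ω := Finset.univ.erase x0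
    have hs : Fintype.card s = 5 := by
      rw [Fintype.card_coe, Finset.card_erase_of_mem (Finset.mem_univ _), Finset.card_univ, hΩ]
    obtain ⟨e5⟩ := nonempty_alternating_congr (Fintype.equivFinOfCardEq hs)
    let φ : H →* Perm Ω := f.comp H.subtype
    let ψ : alternatingGroup s →* Perm Ω := Perm.ofSubtype.comp (alternatingGroup s).subtype
    have hψ : Function.Injective ψ := Perm.ofSubtype_injective.comp (alternatingGroup s).subtype_injective
    have hφ : Function.Injective φ := hinj.comp H.subtype_injective
    have hA60 : Nat.card (alternatingGroup s) = 60 := by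
      haveI : Nontrivial s := Fintype.one_lt_card_iff_nontrivial.mp (by omega)
      have := two_mul_card_alternatingGroup (α := s)
      rw [Fintype.card_perm, hs, ← Nat.card_eq_fintype_card, show Nat.factorial 5 = 120 from rfl] at this
      omega
    have hle : φ.range ≤ ψ.range := by
      rintro _ ⟨h, rfl⟩
      have hx0 : φ h x0 = x0 := by
        show ((h : alternatingGroup β) • x0 : Ω) = x0
        rw [MulAction.Quotient.smul_mk, smul_eq_mul, mul_one, QuotientGroup.eq, mul_one]
        exact H.inv_mem h.2
      have hpres : ∀ y, φ h y ∈ s ↔ y ∈ s := by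
        intro y
        simp only [s, Finset.mem_erase, Finset.mem_univ, and_true]
        conv_lhs => rw [← hx0]
        exact (φ h).injective.ne_iff
      have hsup : ∀ y, φ h y ≠ y → y ∈ s := by
        intro y hy
        refine Finset.mem_erase.mpr ⟨fun e => hy (e ▸ hx0), Finset.mem_univ _⟩
      refine ⟨⟨(φ h).subtypePerm hpres, ?_⟩, Perm.ofSubtype_subtypePerm hpres hsup⟩
      show Perm.sign _ = 1
      have e := Perm.sign_ofSubtype ((φ h).subtypePerm hpres)
      rw [Perm.ofSubtype_subtypePerm hpres hsup] at e
      exact e.symm.trans (heven h)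
    have heq : φ.range = ψ.range := Subgroup.eq_of_le_of_card_ge hle (by
      rw [← Nat.card_congr (MonoidHom.ofInjective hφ).toEquiv,
        ← Nat.card_congr (MonoidHom.ofInjective hψ).toEquiv, hA60, hHK])
    exact ⟨((Subgroup.subgroupOfEquivOfLe hK).symm.trans (MonoidHom.ofInjective hφ)).trans
      (((MulEquiv.subgroupCongr heq).trans (MonoidHom.ofInjective hψ).symm).trans e5)⟩

end Cfsg.Agent.FGB
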