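import Mathlib
import Cfsg.Agent.Lib.CT.Orthogonality
import Cfsg.Prelude.Def_Characters

set_option autoImplicit false

namespace Cfsg.Agent.FGB

open scoped ComplexConjugate Kronecker
open Cfsg.Agent.CT

universe u

variable {G : Type u} [Group G]

theorem exists_nat_trace_of_idempotent {ι : Type*} [Fintype ι] [DecidableEq ι]
    (E : Matrix ι ι ℂ) (h : E * E = E) : ∃ r : ℕ, E.trace = r := by
  let f := Matrix.toLin' E
  have hf : IsIdempotentElem f := by
    show f * f = f
    show (Matrix.toLin' E).comp (Matrix.toLin' E) = Matrix.toLin' E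
    rw [← Matrix.toLin'_mul, h]
  obtain ⟨p, hp⟩ := (LinearMap.isProj_iff_isIdempotentElem f).mpr hf
  exact ⟨_, (Matrix.trace_toLin'_eq E).symm.trans (LinearMap.IsProj.trace hp)⟩

/-- The average of the values of a character at squares is an integer. -/
theorem exists_int_avg_square [Fintype G] {χ : G → ℂ} (hχ : IsCharacter G χ) :
    ∃ z : ℤ, (Nat.card G : ℂ)⁻¹ * ∑ s : G, χ (s * s) = z := by
  classical
  obtain ⟨n, ρ, rfl⟩ := hχ
  let A : G → Matrix (Fin n) (Fin n) ℂ := fun g => LinearMap.toMatrix' (ρ g)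
  have hA : ∀ g h, A (g * h) = A g * A h := fun g h => by
    simp only [A, map_mul, Module.End.mul_eq_comp, LinearMap.toMatrix'_comp]
  let K : G → Matrix (Fin n × Fin n) (Fin n × Fin n) ℂ := fun g => A g ⊗ₖ A g
  have hK : ∀ g h, K g * K h = K (g * h) := fun g h => by
    simp only [K, hA, Matrix.mul_kronecker_mul]
  let T : Matrix (Fin n × Fin n) (Fin n × Fin n) ℂ :=
    fun x y => if x = (y.2, y.1) then 1 else 0
  have hTl : ∀ (M : Matrix (Fin n × Fin n) (Fin n × Fin n) ℂ) (x y : Fin n × Fin n),
      (T * M) x y = M (x.2, x.1) y := by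
    intro M x y
    rw [Matrix.mul_apply, Finset.sum_eq_single (x.2, x.1)]
    · simp [T]
    · intro b _ hb
      have : x ≠ (b.2, b.1) := fun e => hb (by rw [e])
      simp [T, this]
    · simp
  have hTr : ∀ (M : Matrix (Fin n × Fin n) (Fin n × Fin n) ℂ) (x y : Fin n × Fin n),
      (M * T) x y = M x (y.2, y.1) := by
    intro M x y
    rw [Matrix.mul_apply, Finset.sum_eq_single (y.2, y.1)]
    · simp [T]
    · intro b _ hb
      simp [T, hb]
    · simp
  have hTK : ∀ g, T * K g = K g * T := by
    intro g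
    ext x y
    rw [hTl, hTr]
    simp [K, Matrix.kroneckerMap_apply, mul_comm]
  have htr : ∀ g, (T * K g).trace = ρ.character (g * g) := by
    intro g
    show _ = LinearMap.trace ℂ _ (ρ (g * g))
    rw [LinearMap.trace_eq_matrix_trace ℂ (Pi.basisFun ℂ (Fin n)),
      LinearMap.toMatrix_eq_toMatrix']
    show _ = (A (g * g)).trace
    rw [hA]
    simp only [Matrix.trace, Matrix.diag, hTl, K, Matrix.kroneckerMap_apply, Matrix.mul_apply,
      Fintype.sum_prod_type]
    exact Finset.sum_congr rfl fun i _ => Finset.sum_congr rfl fun j _ => mul_comm _ _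
  let S : Matrix (Fin n × Fin n) (Fin n × Fin n) ℂ := (Nat.card G : ℂ)⁻¹ • ∑ g : G, K g
  have hG : (Nat.card G : ℂ) ≠ 0 := Nat.cast_ne_zero.mpr Nat.card_pos.ne'
  have hSS : S * S = S := by
    have h1 : ∀ g, K g * (∑ h : G, K h) = ∑ h : G, K h := fun g => by
      rw [Finset.mul_sum]
      simp only [hK]
      exact Fintype.sum_bijective _ (Group.mulLeft_bijective g) _ _ (fun _ => rfl)
    simp only [S, Matrix.smul_mul, Matrix.mul_smul, Finset.sum_mul, h1, Finset.sum_const,
      Finset.card_univ, ← Nat.card_eq_fintype_card, smul_smul, ← Nat.cast_smul_eq_nsmul ℂ]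
    congr 1
    field_simp
  have hTS : T * S = S * T := by
    simp only [S, Matrix.mul_smul, Matrix.smul_mul, Finset.mul_sum, Finset.sum_mul, hTK]
  have hTT : T * T = 1 := by
    ext x y
    rw [hTl]
    simp only [T, Matrix.one_apply]
    by_cases h : x = y
    · simp [h]
    · rw [if_neg h, if_neg]
      intro e
      exact h (Prod.ext (congrArg Prod.snd e) (congrArg Prod.fst e))
  let E := (2 : ℂ)⁻¹ • (S + T * S)
  have hEE : E * E = E := by
    have a : S * (T * S) = T * S := by rw [← mul_assoc, ← hTS, mul_assoc, hSS]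
    have b : T * S * S = T * S := by rw [mul_assoc, hSS]
    have c : T * S * (T * S) = S := by rw [mul_assoc, a, ← mul_assoc, hTT, one_mul]
    simp only [E, Matrix.smul_mul, Matrix.mul_smul, add_mul, mul_add, hSS, a, b, c, smul_smul]
    module
  obtain ⟨r, hr⟩ := exists_nat_trace_of_idempotent E hEE
  obtain ⟨t, ht⟩ := exists_nat_trace_of_idempotent S hSS
  refine ⟨2 * (r : ℤ) - t, ?_⟩
  have hval : (T * S).trace = (Nat.card G : ℂ)⁻¹ * ∑ s : G, ρ.character (s * s) := by
    simp only [S, Matrix.mul_smul, Matrix.trace_smul, Finset.mul_sum, Matrix.trace_sum, htr,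
      smul_eq_mul]
  rw [← hval]
  simp only [E, Matrix.trace_smul, Matrix.trace_add, smul_eq_mul, ht] at hr
  push_cast
  linear_combination 2 * hr

/-- The number of solutions of `s * s = 1` as a combination of the degrees. -/
theorem card_square_eq_one [Fintype G] [Fintype (IrrCharacter G)] :
    (Nat.card {s : G // s * s = 1} : ℂ) =
      ∑ χ : IrrCharacter G, ((Nat.card G : ℂ)⁻¹ * ∑ s : G, (χ : G → ℂ) (s * s)) * (χ : G → ℂ) 1 := by
  classical
  let θ : G → ℂ := fun h => ((Finset.univ.filter fun s : G => s * s = h).card : ℂ)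
  have hθ : IsClassFunction G θ := by
    intro g h
    simp only [θ]
    congr 1
    refine Finset.card_equiv (MulAut.conj h⁻¹).toEquiv fun x => ?_
    have e : h⁻¹ * x * h * (h⁻¹ * x * h) = h⁻¹ * (x * x) * h := by group
    simp only [Finset.mem_filter, Finset.mem_univ, true_and, MulEquiv.toEquiv_eq_coe,
      EquivLike.coe_coe, MulAut.conj_apply, inv_inv, e]
    constructor <;> intro hx
    · rw [hx]; group
    · rw [← hx]; group
  have h1 := congrFun (classFunction_eq_sum hθ) 1
  rw [Finset.sum_apply] at h1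
  have hl : θ 1 = (Nat.card {s : G // s * s = 1} : ℂ) := by
    simp only [θ, Nat.card_eq_fintype_card, Fintype.card_subtype]
  rw [← hl, h1]
  refine Finset.sum_congr (by convert rfl) fun χ _ => ?_
  rw [Pi.smul_apply, smul_eq_mul]
  congr 1
  rw [classInner_eq_finsum, finsum_eq_sum_of_fintype]
  congr 1
  calc ∑ h : G, θ h * conj ((χ : G → ℂ) h)
      = ∑ h : G, ∑ s ∈ Finset.univ.filter (fun s : G => s * s = h), conj ((χ : G → ℂ) (s * s)) := by
        refine Finset.sum_congr rfl fun h _ => ?_
        rw [Finset.sum_congr rfl (fun s hs => by rw [(Finset.mem_filter.mp hs).2]), Finset.sum_const,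
          nsmul_eq_mul]
    _ = ∑ s : G, conj ((χ : G → ℂ) (s * s)) := Finset.sum_fiberwise _ _ _
    _ = ∑ s : G, (χ : G → ℂ) (s * s) := by
        refine Fintype.sum_equiv (Equiv.inv G) _ _ fun s => ?_
        rw [← char_inv_eq_conj (isCharacter_of_isIrr χ.2), Equiv.inv_apply, mul_inv_rev]

end Cfsg.Agent.FGB
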