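import Cfsg.Agent.Lib.FGB.KulakoffCyclicMax
import Cfsg.Agent.Lib.Invol.MaxClassSeries

/-!
# Kulakoff's theorem on the number of subgroups of given order
-/

set_option autoImplicit false
set_option linter.all false

namespace Cfsg.Agent.FGB

open Subgroup
open scoped commutatorElement

universe u

/-- In a group of order 16 with a commutator subgroup of order 2 the number of abelian subgroups
of index 2 is odd. -/
theorem odd_abelian_index_two {Q : Type u} [Group Q] [Finite Q] (hQ : Nat.card Q = 16)
    (hQ' : Nat.card (commutator Q) = 2) :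
    Nat.card {A : Subgroup Q // A.index = 2 ∧ ⁅A, A⁆ = ⊥} % 2 = 1 := by
  classical
  haveI : Fact (Nat.Prime 2) := ⟨Nat.prime_two⟩
  haveI hn : (commutator Q).Normal := inferInstance
  have hcen : commutator Q ≤ center Q := by
    intro c hc
    rw [mem_center_iff]
    intro g
    have h2 : ∀ a ∈ commutator Q, a ≠ 1 → ∀ b ∈ commutator Q, b ≠ 1 → a = b := by
      intro a ha ha1 b hb hb1
      obtain ⟨u, v, huv, heq⟩ := Nat.card_eq_two_iff.mp hQ'
      have hm : ∀ x : commutator Q, x = u ∨ x = v := fun x => by
        have : x ∈ ({u, v} : Set (commutator Q)) := heq ▸ Set.mem_univ x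
        simpa using this
      rcases hm ⟨a, ha⟩ with h | h <;> rcases hm ⟨b, hb⟩ with h' | h' <;>
        rcases hm 1 with h0 | h0
      all_goals first
        | exact congrArg Subtype.val (h.trans h'.symm)
        | exact absurd (congrArg Subtype.val (h.trans h0.symm)) ha1
        | exact absurd (congrArg Subtype.val (h'.trans h0.symm)) hb1
    by_cases hc1 : c = 1
    · rw [hc1, mul_one, one_mul]
    · have := h2 _ (hn.conj_mem c hc g) (fun h => hc1 (conj_eq_one_iff.mp h)) c hc hc1
      exact (mul_inv_eq_iff_eq_mul.mp this)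
  have hidx : ∀ x : Q, (centralizer ({x} : Set Q)).index ≤ 2 := by
    intro x
    let f : Q →* commutator Q :=
      { toFun := fun g => ⟨⁅g, x⁆, commutator_mem_commutator (mem_top g) (mem_top x)⟩
        map_one' := Subtype.ext (commutatorElement_one_left x)
        map_mul' := fun g h => Subtype.ext (by
          show ⁅g * h, x⁆ = ⁅g, x⁆ * ⁅h, x⁆
          have hc := mem_center_iff.mp (hcen (commutator_mem_commutator (mem_top h) (mem_top x))) g
          have hc' := mem_center_iff.mp (hcen (commutator_mem_commutator (mem_top h) (mem_top x))) ⁅g, x⁆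
          calc ⁅g * h, x⁆ = g * ⁅h, x⁆ * g⁻¹ * ⁅g, x⁆ := by simp only [commutatorElement_def]; group
            _ = ⁅g, x⁆ * ⁅h, x⁆ := by rw [hc, mul_inv_cancel_right, hc']) }
    have hker : f.ker = centralizer ({x} : Set Q) := by
      ext g
      rw [MonoidHom.mem_ker, mem_centralizer_singleton_iff]
      show (⟨⁅g, x⁆, _⟩ : commutator Q) = 1 ↔ _
      rw [← Subtype.coe_inj]
      show ⁅g, x⁆ = 1 ↔ _
      rw [commutatorElement_eq_one_iff_mul_comm]
    rw [← hker, index_ker]
    exact (card_le_card_group f.range).trans hQ'.le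
  have hna : ∃ x y : Q, ¬ Commute x y := by
    by_contra hall
    push Not at hall
    have : commutator Q = ⊥ := by
      rw [_root_.commutator_def, eq_bot_iff, commutator_le]
      exact fun a _ b _ => mem_bot.mpr (commutatorElement_eq_one_iff_commute.mpr (hall a b))
    rw [this, card_bot] at hQ'
    omega
  obtain ⟨x, y, hxy⟩ := hna
  set Cx := centralizer ({x} : Set Q)
  set W := Cx ⊓ centralizer ({y} : Set Q) with hW
  have hx : x ∈ Cx := mem_centralizer_singleton_iff.mpr rfl
  have hxW : x ∉ W := fun h => hxy (mem_centralizer_singleton_iff.mp h.2)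
  have hyC : y ∉ Cx := fun h => hxy (mem_centralizer_singleton_iff.mp h).symm
  have hWlt : W < Cx := lt_of_le_of_ne inf_le_left fun h => hxW (h ▸ hx)
  have hClt : Cx.index = 2 := by
    have h1 : Cx.index ≤ 2 := hidx x
    have h2 : Cx.index ≠ 1 := fun h => hyC (index_eq_one.mp h ▸ mem_top y)
    have h3 : Cx.index ≠ 0 := index_ne_zero_of_finite
    omega
  have hWle : W.index ≤ 4 := index_inf_le.trans (Nat.mul_le_mul (hidx x) (hidx y))
  have hC8 : Nat.card Cx = 8 := by
    have h := Cx.card_mul_index
    rw [hClt, hQ] at h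
    omega
  have hW4 : Nat.card W = 4 := by
    have h1 : Nat.card W < Nat.card Cx :=
      Set.ncard_lt_ncard (SetLike.coe_ssubset_coe.mpr hWlt) (Set.toFinite _)
    have h2 := W.card_mul_index
    rw [hQ] at h2
    have h3 : Nat.card W ∣ 8 := hC8 ▸ card_dvd_of_le inf_le_left
    have h4 : Nat.card W * W.index ≤ Nat.card W * 4 := Nat.mul_le_mul_left _ hWle
    have h5 := Nat.le_of_dvd (by norm_num) h3
    interval_cases (Nat.card W) <;> omega
  have hWc : IsMulCommutative W := IsPGroup.isMulCommutative_of_card_eq_prime_sq (p := 2) hW4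
  -- everything is generated by `W`, `x` and `y`
  have hgenC : W ⊔ zpowers x = Cx := by
    refine eq_of_le_of_card_ge (sup_le inf_le_left (zpowers_le.mpr hx)) ?_
    have hlt : W < W ⊔ zpowers x := lt_of_le_of_ne le_sup_left fun h =>
      hxW (h ▸ mem_sup_right (mem_zpowers x))
    have h1 : Nat.card W < Nat.card (W ⊔ zpowers x : Subgroup Q) :=
      Set.ncard_lt_ncard (SetLike.coe_ssubset_coe.mpr hlt) (Set.toFinite _)
    have h2 : Nat.card (W ⊔ zpowers x : Subgroup Q) ∣ 16 := hQ ▸ card_subgroup_dvd_card _
    have h3 := Nat.le_of_dvd (by norm_num) h2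
    rw [hC8]
    rw [hW4] at h1
    by_contra hlt
    push Not at hlt
    interval_cases (Nat.card (W ⊔ zpowers x : Subgroup Q)) <;> omega
  have hgenQ : Cx ⊔ zpowers y = ⊤ := by
    refine eq_top_of_card_eq _ ?_
    have hlt : Cx < Cx ⊔ zpowers y := lt_of_le_of_ne le_sup_left fun h =>
      hyC (h ▸ mem_sup_right (mem_zpowers y))
    have h1 : Nat.card Cx < Nat.card (Cx ⊔ zpowers y : Subgroup Q) :=
      Set.ncard_lt_ncard (SetLike.coe_ssubset_coe.mpr hlt) (Set.toFinite _)
    have h2 : Nat.card (Cx ⊔ zpowers y : Subgroup Q) ∣ 16 := hQ ▸ card_subgroup_dvd_card _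
    have h3 := Nat.le_of_dvd (by norm_num) h2
    rw [hC8] at h1
    rw [hQ]
    interval_cases (Nat.card (Cx ⊔ zpowers y : Subgroup Q)) <;> omega
  have hWZ : W ≤ center Q := by
    intro w hw
    have h1 : W ≤ centralizer ({w} : Set Q) := fun v hv => mem_centralizer_singleton_iff.mpr
      (congrArg Subtype.val (hWc.is_comm.comm (⟨v, hv⟩ : W) ⟨w, hw⟩))
    have h2 : x ∈ centralizer ({w} : Set Q) := mem_centralizer_singleton_iff.mpr
      (mem_centralizer_singleton_iff.mp hw.1).symm
    have h3 : y ∈ centralizer ({w} : Set Q) := mem_centralizer_singleton_iff.mpr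
      (mem_centralizer_singleton_iff.mp hw.2).symm
    have h4 : (⊤ : Subgroup Q) ≤ centralizer ({w} : Set Q) := by
      rw [← hgenQ, ← hgenC]
      exact sup_le (sup_le h1 (zpowers_le.mpr h2)) (zpowers_le.mpr h3)
    exact mem_center_iff.mpr fun g => mem_centralizer_singleton_iff.mp (h4 (mem_top g))
  set Z := center Q with hZ
  have hZ4 : Nat.card Z = 4 := by
    have h1 : Z < Cx := lt_of_le_of_ne (fun z hz => mem_centralizer_singleton_iff.mpr
      (mem_center_iff.mp hz x).symm) fun h => hxy ((mem_center_iff.mp (h ▸ hx : x ∈ Z) y).symm)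
    have h2 : Nat.card Z < Nat.card Cx :=
      Set.ncard_lt_ncard (SetLike.coe_ssubset_coe.mpr h1) (Set.toFinite _)
    have h3 : Nat.card Z ∣ 16 := hQ ▸ card_subgroup_dvd_card _
    have h4 := card_le_of_le hWZ
    rw [hW4] at h4
    rw [hC8] at h2
    interval_cases (Nat.card Z) <;> omega
  have hQZ : Nat.card (Q ⧸ Z) = 4 := by
    have h := card_eq_card_quotient_mul_card_subgroup Z
    rw [hQ, hZ4] at h
    omega
  have hiff : ∀ A : Subgroup Q, A.index = 2 → (⁅A, A⁆ = ⊥ ↔ Z ≤ A) := by
    intro A hA
    rw [commutator_eq_bot_iff_le_centralizer]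
    constructor
    · intro hab z hz
      by_contra hzA
      have hc : ∀ g : Q, ∀ a ∈ A, Commute a g := by
        intro g a ha
        by_cases hg : g ∈ A
        · exact (mem_centralizer_iff.mp (hab hg) a ha)
        · have hm : g * z ∈ A := (mul_mem_iff_of_index_two hA).mpr (by simp [hg, hzA])
          have h1 : Commute a (g * z) := mem_centralizer_iff.mp (hab hm) a ha
          have h2 : Commute a z := mem_center_iff.mp hz a
          simpa using h1.mul_right h2.inv_right
      have hall : ∀ g h : Q, Commute g h := by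
        intro g h
        by_cases hg : g ∈ A
        · exact hc h g hg
        by_cases hh : h ∈ A
        · exact (hc g h hh).symm
        have hm : g * z ∈ A := (mul_mem_iff_of_index_two hA).mpr (by simp [hg, hzA])
        have h1 : Commute (g * z) h := hc h _ hm
        have h2 : Commute z h := (mem_center_iff.mp hz h).symm
        simpa using h1.mul_left h2.inv_left
      exact hxy (hall x y)
    · intro hZA
      obtain ⟨a, ha, haZ⟩ : ∃ a ∈ A, a ∉ Z := by
        by_contra hall
        push Not at hall
        have h1 := card_le_of_le (show A ≤ Z from hall)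
        have h2 := A.card_mul_index
        rw [hA, hQ] at h2
        rw [hZ4] at h1
        omega
      have hgen : Z ⊔ zpowers a = A := by
        refine eq_of_le_of_card_ge (sup_le hZA (zpowers_le.mpr ha)) ?_
        have hlt : Z < Z ⊔ zpowers a := lt_of_le_of_ne le_sup_left fun h =>
          haZ (h ▸ mem_sup_right (mem_zpowers a))
        have h1 : Nat.card Z < Nat.card (Z ⊔ zpowers a : Subgroup Q) :=
          Set.ncard_lt_ncard (SetLike.coe_ssubset_coe.mpr hlt) (Set.toFinite _)
        have h2 : Nat.card (Z ⊔ zpowers a : Subgroup Q) ∣ 16 := hQ ▸ card_subgroup_dvd_card _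
        have h3 := Nat.le_of_dvd (by norm_num) h2
        have h4 := A.card_mul_index
        rw [hA, hQ] at h4
        rw [hZ4] at h1
        by_contra hlt
        push Not at hlt
        interval_cases (Nat.card (Z ⊔ zpowers a : Subgroup Q)) <;> omega
      have h1 : A ≤ centralizer ({a} : Set Q) := by
        rw [← hgen]
        exact sup_le (fun z hz => mem_centralizer_singleton_iff.mpr (mem_center_iff.mp hz a).symm)
          (zpowers_le.mpr (mem_centralizer_singleton_iff.mpr rfl))
      conv_lhs => rw [← hgen]
      refine sup_le (fun z hz => mem_centralizer_iff.mpr fun g _ => mem_center_iff.mp hz g) ?_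
      exact zpowers_le.mpr (mem_centralizer_iff.mpr fun g hg =>
        mem_centralizer_singleton_iff.mp (h1 hg))
  rw [Nat.card_congr (Equiv.subtypeEquivRight (q := fun A : Subgroup Q => A.index = 2 ∧ Z ≤ A)
    fun A => and_congr_right (hiff A)), ← numIndex_quotient]
  have h := card_subgroups_modEq_one (G := Q ⧸ Z) (p := 2) (β := 1) Nat.prime_two (by rw [hQZ]; norm_num)
  have e := numIndex_eq_numSub (p := 2) (G := Q ⧸ Z) (m := 2) (j := 1) (by rw [hQZ]; rfl) one_le_two
  rw [pow_one] at e
  rw [e]
  exact h

variable {G : Type u} [Group G] [Finite G]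

/-- In a `2`-group which is not of maximal class, the number of maximal subgroups of maximal class
is even. -/
theorem even_max_class_maximal {m : ℕ} (hm : Nat.card G = 2 ^ m) (h4m : 4 ≤ m)
    (hns : (commutator G).index ≠ 4) :
    Nat.card {M : Subgroup G // M.index = 2 ∧ (commutator M).index = 4} % 2 = 0 := by
  classical
  haveI : Fact (Nat.Prime 2) := ⟨Nat.prime_two⟩
  have hG : IsPGroup 2 G := IsPGroup.of_card hm
  haveI := hG.isNilpotent
  by_cases hex : ∃ M : Subgroup G, M.index = 2 ∧ (commutator M).index = 4
  swap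
  · haveI : IsEmpty {M : Subgroup G // M.index = 2 ∧ (commutator M).index = 4} :=
      ⟨fun M => hex ⟨M.1, M.2⟩⟩
    simp
  obtain ⟨M0, hM0, h40⟩ := hex
  have hcardM : ∀ {M : Subgroup G}, M.index = 2 → Nat.card M = 2 ^ (m - 3) * 4 := by
    intro M hM
    have h := M.card_mul_index
    rw [hM, hm, show m = m - 3 + 3 by omega, pow_add] at h
    omega
  have hpos : 0 < 2 ^ (m - 3) := by positivity
  have hcomm : ∀ M : Subgroup G, Nat.card (commutator M) = Nat.card (⁅M, M⁆ : Subgroup G) := fun M => by
    rw [← map_subtype_commutator, card_map_of_injective M.subtype_injective]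
  have hMC : ∀ {M : Subgroup G}, M.index = 2 →
      ((commutator M).index = 4 ↔ Nat.card (⁅M, M⁆ : Subgroup G) = 2 ^ (m - 3)) := by
    intro M hM
    have h := (commutator M).card_mul_index
    rw [hcardM hM] at h
    rw [← hcomm]
    constructor <;> intro h'
    · rw [h'] at h
      omega
    · rw [h'] at h
      exact Nat.eq_of_mul_eq_mul_left hpos h
  have hna : ¬ IsMulCommutative M0 := by
    intro hc
    have h1 : commutator M0 = ⊥ := by
      rw [_root_.commutator_def, eq_bot_iff, commutator_le]
      exact fun a _ b _ => mem_bot.mpr (commutatorElement_eq_one_iff_mul_comm.mpr (hc.is_comm.comm a b))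
    rw [h1, index_bot, hcardM hM0] at h40
    have : 2 ^ 1 ≤ 2 ^ (m - 3) := Nat.pow_le_pow_right two_pos (by omega)
    omega
  obtain ⟨Dat⟩ := Invol.MaxClassTwo.exists_mcData (hG.to_subgroup M0) hna h40
  -- the derived group
  set d : G := ((Dat.a : M0) : G) ^ 2 with hd
  have hD0 : (⁅M0, M0⁆ : Subgroup G) = zpowers d := by
    rw [← map_subtype_commutator, ← Subgroup.top_lowerCentralSeries_one, Dat.lcs_eq 1 le_rfl, pow_one,
      MonoidHom.map_zpowers]
    rfl
  have hleG : ∀ M : Subgroup G, (⁅M, M⁆ : Subgroup G) ≤ commutator G := fun M => by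
    rw [_root_.commutator_def]
    exact commutator_mono le_top le_top
  have hdord : orderOf d = 2 ^ (m - 3) := by
    rw [← Nat.card_zpowers, ← hD0]
    exact (hMC hM0).mp h40
  have hnc : ∀ g : G, zpowers g ≠ ⊤ := by
    intro g hg
    apply hna
    refine ⟨⟨fun a b => Subtype.ext ?_⟩⟩
    obtain ⟨i, hi⟩ := hg.ge (mem_top (a : G))
    obtain ⟨j, hj⟩ := hg.ge (mem_top (b : G))
    show (a : G) * b = b * a
    rw [show (a : G) = g ^ i from hi.symm, show (b : G) = g ^ j from hj.symm]
    exact (Commute.zpow_zpow_self g i j).eq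
  have hGD : commutator G = zpowers d := by
    have hle : zpowers d ≤ commutator G := hD0 ▸ hleG M0
    refine (eq_of_le_of_card_ge hle ?_).symm
    rw [Nat.card_zpowers, hdord]
    obtain ⟨e, he⟩ := hG.index (commutator G)
    have h1 := sq_le_index_commutator (p := 2) hG hnc
    rw [he] at h1 hns
    have he3 : 3 ≤ e := by
      by_contra hlt
      rw [Nat.pow_le_pow_iff_right one_lt_two] at h1
      obtain rfl : e = 2 := by omega
      exact hns rfl
    have h2 := (commutator G).card_mul_index
    rw [he, hm, show m = m - 3 + 3 by omega, pow_add] at h2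
    have h3 : 2 ^ 3 ≤ 2 ^ e := Nat.pow_le_pow_right two_pos he3
    nlinarith
  set D1 := zpowers (d ^ 2) with hD1
  have hD1D : D1 ≤ zpowers d := zpowers_le.mpr (pow_mem (mem_zpowers d) 2)
  have hD1card : Nat.card D1 = 2 ^ (m - 4) := by
    rw [hD1, Nat.card_zpowers, orderOf_pow_of_dvd two_ne_zero (hdord ▸ dvd_pow_self 2 (by omega)), hdord,
      show m - 3 = m - 4 + 1 by omega, pow_succ, Nat.mul_div_cancel _ two_pos]
  haveI hD1n : D1.Normal := ⟨fun a ha g => by
    obtain ⟨l, rfl⟩ := mem_powers_iff_mem_zpowers.mpr ha
    have hn : (commutator G).Normal := inferInstance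
    obtain ⟨i, hi⟩ := mem_powers_iff_mem_zpowers.mpr (hGD ▸ hn.conj_mem d (hGD.ge (mem_zpowers d)) g)
    show g * (d ^ 2) ^ l * g⁻¹ ∈ D1
    rw [← conj_pow, ← conj_pow, show g * d * g⁻¹ = d ^ i from hi.symm]
    rw [← pow_mul d i 2, mul_comm i, pow_mul]
    exact pow_mem (pow_mem (mem_zpowers _) i) l⟩
  have hsub : ∀ H : Subgroup G, H ≤ zpowers d → Nat.card H < 2 ^ (m - 3) → H ≤ D1 := by
    intro H hH hlt h hh
    obtain ⟨l, hl⟩ := mem_powers_iff_mem_zpowers.mpr (hH hh)
    obtain ⟨q, rfl | rfl⟩ := Nat.even_or_odd' l
    · rw [← show d ^ (2 * q) = h from hl, pow_mul]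
      exact pow_mem (mem_zpowers _) q
    · exfalso
      have h1 : orderOf (d ^ (2 * q + 1)) = 2 ^ (m - 3) := by
        rw [orderOf_pow, hdord, Nat.Coprime.gcd_eq_one
          ((Nat.prime_two.coprime_iff_not_dvd.mpr (by omega)).pow_left _), Nat.div_one]
      have h2 := card_le_of_le (zpowers_le.mpr hh)
      rw [← show d ^ (2 * q + 1) = h from hl, Nat.card_zpowers, h1] at h2
      omega
  have hiff : ∀ M : Subgroup G, M.index = 2 → ((commutator M).index = 4 ↔ ¬ (⁅M, M⁆ : Subgroup G) ≤ D1) := by
    intro M hM
    rw [hMC hM]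
    have hle : (⁅M, M⁆ : Subgroup G) ≤ zpowers d := hGD ▸ hleG M
    have h2 : Nat.card (⁅M, M⁆ : Subgroup G) ≤ 2 ^ (m - 3) := by
      rw [← hdord, ← Nat.card_zpowers]
      exact card_le_of_le hle
    constructor
    · intro h hle1
      have h3 := card_le_of_le hle1
      rw [h, hD1card] at h3
      have : 2 ^ (m - 4) < 2 ^ (m - 3) := Nat.pow_lt_pow_right one_lt_two (by omega)
      omega
    · intro h
      by_contra hne
      exact h (hsub _ hle (by omega))
  -- count the maximal subgroups with commutator group in `D1`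
  have hs := QuotientGroup.mk'_surjective D1
  have hQ : Nat.card (G ⧸ D1) = 16 := by
    have h := card_eq_card_quotient_mul_card_subgroup D1
    rw [hD1card, hm, show m = 4 + (m - 4) by omega, pow_add] at h
    simp only [Nat.add_sub_cancel_left] at h
    exact (Nat.eq_of_mul_eq_mul_right (by positivity) h).symm
  have hQ' : Nat.card (commutator (G ⧸ D1)) = 2 := by
    have e : commutator (G ⧸ D1) = (zpowers d).map (QuotientGroup.mk' D1) := by
      rw [← hGD, _root_.commutator_def, _root_.commutator_def, map_commutator, ← MonoidHom.range_eq_map,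
        MonoidHom.range_eq_top.mpr hs]
    have hi : (zpowers d).index = 8 := by
      have h := (zpowers d).card_mul_index
      rw [Nat.card_zpowers, hdord, hm, show m = m - 3 + 3 by omega, pow_add] at h
      simp only [Nat.add_sub_cancel] at h
      exact Nat.eq_of_mul_eq_mul_left hpos h
    have h := (commutator (G ⧸ D1)).card_mul_index
    rw [hQ, e, index_map_eq _ hs (by rw [QuotientGroup.ker_mk']; exact hD1D), hi] at h
    rw [e]
    omega
  have hab := odd_abelian_index_two hQ hQ'
  have hcountA : Nat.card {M : Subgroup G // M.index = 2 ∧ (⁅M, M⁆ : Subgroup G) ≤ D1} =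
      Nat.card {A : Subgroup (G ⧸ D1) // A.index = 2 ∧ ⁅A, A⁆ = ⊥} := by
    have hker : ∀ M : Subgroup G, M.index = 2 → D1 ≤ M := fun M hM =>
      (hD1D.trans (hGD ▸ Basics.commutator_le_frattini)).trans (frattini_le_of_index_prime hG hM)
    exact Nat.card_congr
      { toFun := fun M => ⟨M.1.map (QuotientGroup.mk' D1), by
          rw [index_map_eq _ hs (by rw [QuotientGroup.ker_mk']; exact hker _ M.2.1), M.2.1], by
          rw [← map_commutator, (Subgroup.map_eq_bot_iff _), QuotientGroup.ker_mk']; exact M.2.2⟩
        invFun := fun A => ⟨A.1.comap (QuotientGroup.mk' D1), by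
          rw [index_comap_of_surjective _ hs, A.2.1], by
          have h := (Subgroup.map_eq_bot_iff (⁅A.1.comap (QuotientGroup.mk' D1), A.1.comap (QuotientGroup.mk' D1)⁆)
            (f := QuotientGroup.mk' D1)).mp (by
              rw [map_commutator, map_comap_eq_self_of_surjective hs]; exact A.2.2)
          rwa [QuotientGroup.ker_mk'] at h⟩
        left_inv := fun M => Subtype.ext
          (comap_map_eq_self (by rw [QuotientGroup.ker_mk']; exact hker _ M.2.1))
        right_inv := fun A => Subtype.ext (map_comap_eq_self_of_surjective hs _) }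
  have hN : Nat.card {M : Subgroup G // M.index = 2} % 2 = 1 := by
    have h := card_subgroups_modEq_one (G := G) (β := m - 1) Nat.prime_two (hm ▸ pow_dvd_pow 2 (by omega))
    rw [show Nat.card {M : Subgroup G // M.index = 2} = numIndex G (2 ^ 1) by simp [numIndex],
      numIndex_eq_numSub hm (by omega)]
    exact h
  have hsplit : Nat.card {M : Subgroup G // M.index = 2 ∧ (⁅M, M⁆ : Subgroup G) ≤ D1} +
      Nat.card {M : Subgroup G // M.index = 2 ∧ (commutator M).index = 4} =
      Nat.card {M : Subgroup G // M.index = 2} := by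
    rw [← Nat.card_congr (Equiv.subtypeSubtypeEquivSubtypeInter (fun M : Subgroup G => M.index = 2)
        (fun M => (⁅M, M⁆ : Subgroup G) ≤ D1)),
      ← Nat.card_congr ((Equiv.subtypeSubtypeEquivSubtypeInter (fun M : Subgroup G => M.index = 2)
        (fun M => ¬ (⁅M, M⁆ : Subgroup G) ≤ D1)).trans
          (Equiv.subtypeEquivRight fun M => and_congr_right fun h => (hiff M h).symm)),
      ← Nat.card_sum, Nat.card_congr (Equiv.sumCompl _)]
  omega

variable {p : ℕ} [hp : Fact p.Prime]

theorem numSub_cyclic {k m : ℕ} [IsCyclic G] (hm : Nat.card G = p ^ m) (hk : k ≤ m) :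
    numSub G p k = 1 := by
  classical
  haveI : Subsingleton {H : Subgroup G // Nat.card H = p ^ k} := by
    refine ⟨fun H K => Subtype.ext ?_⟩
    haveI : Fintype G := Fintype.ofFinite G
    have hsol : ∀ L : Subgroup G, Nat.card L = p ^ k →
        (Finset.univ.filter fun x : G => x ∈ L) = Finset.univ.filter fun x : G => x ^ p ^ k = 1 := by
      intro L hL
      refine Finset.eq_of_subset_of_card_le (fun x hx => ?_) ?_
      · simp only [Finset.mem_filter, Finset.mem_univ, true_and] at hx ⊢
        rw [← hL]
        exact congrArg Subtype.val (pow_card_eq_one' (x := (⟨x, hx⟩ : L)))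
      · refine (IsCyclic.card_pow_eq_one_le (pow_pos hp.out.pos k)).trans ?_
        rw [← hL, Nat.card_eq_fintype_card, Fintype.card_subtype]
    ext x
    have h := congrArg (fun s => x ∈ s) ((hsol H.1 H.2).trans (hsol K.1 K.2).symm)
    simpa using h
  have h : numSub G p k ≡ 1 [MOD p] := card_subgroups_modEq_one hp.out (hm ▸ pow_dvd_pow p hk)
  rcases Finite.card_le_one_iff_subsingleton.mpr this |>.lt_or_eq with h0 | h1
  · rw [numSub, Nat.lt_one_iff.mp h0, Nat.ModEq, Nat.zero_mod, Nat.mod_eq_of_lt hp.out.one_lt] at h
    exact absurd h zero_ne_one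
  · exact h1

/-- Kulakoff's theorem, with the exception of the `2`-groups of maximal class. -/
theorem kulakoff : ∀ (m : ℕ) (G : Type u) [Group G] [Finite G], Nat.card G = p ^ m → ¬ IsCyclic G →
    ∀ k, 1 ≤ k → k < m → ((numSub G p k : ℕ) : ZMod (p ^ 2)) =
      if k + 2 ≤ m ∧ (commutator G).index = 4 then 1 else 1 + (p : ZMod (p ^ 2)) := by
  classical
  intro m
  induction m with
  | zero => intro G _ _ _ _ k _ h; omega
  | succ m ih =>
    intro G _ _ hm hncy k hk1 hk2
    set m' := m + 1 with hm'
    have hG : IsPGroup p G := IsPGroup.of_card hm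
    haveI := hG.isNilpotent
    have hnc : ∀ g : G, zpowers g ≠ ⊤ := fun g hg => hncy ⟨⟨g, fun z => hg.ge (mem_top z)⟩⟩
    have hN : ((Nat.card {M : Subgroup G // M.index = p} : ℕ) : ZMod (p ^ 2)) = 1 + p := by
      obtain ⟨hc, hexp⟩ := elementary_quotient hG (le_refl (frattini G))
      letI : CommGroup (G ⧸ frattini G) := { (inferInstance : Group (G ⧸ frattini G)) with mul_comm := hc }
      obtain ⟨e, he⟩ := IsPGroup.iff_card.mp (hG.to_quotient (frattini G))
      have he2 : 2 ≤ e := by
        have h1 := sq_le_index_commutator hG hnc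
        by_contra hlt
        have hcy : IsCyclic (G ⧸ frattini G) := by
          rcases (show e = 0 ∨ e = 1 by omega) with rfl | rfl
          · haveI := (Nat.card_eq_one_iff_unique.1 (by simpa using he)).1
            exact isCyclic_of_subsingleton
          · exact isCyclic_of_prime_card (p := p) (by simpa using he)
        obtain ⟨q, hq⟩ := hcy.exists_generator
        obtain ⟨g, rfl⟩ := QuotientGroup.mk_surjective q
        refine hnc g (frattini_nongenerating (top_le_iff.1 fun x _ => ?_))
        obtain ⟨i, hi⟩ := hq (QuotientGroup.mk x)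
        have h2 : (g ^ i)⁻¹ * x ∈ frattini G := QuotientGroup.eq.1 (by simpa using hi)
        have := mul_mem (mem_sup_left (zpow_mem (mem_zpowers g) i) : g ^ i ∈ zpowers g ⊔ frattini G)
          (mem_sup_right h2)
        simpa using this
      rw [← modEq_one_add he2 (numIndex_prime_elementary hexp he), numIndex_quotient]
      exact congrArg _ (Nat.card_congr (Equiv.subtypeEquivRight fun M =>
        ⟨fun h => ⟨h, frattini_le_of_index_prime hG h⟩, fun h => h.1⟩))
    rcases Nat.lt_or_ge (k + 1) m' with hk | hk
    swap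
    · rw [if_neg (by omega), ← hN]
      rw [show k = m' - 1 by omega, ← numIndex_eq_numSub hm (show 1 ≤ m' by omega), pow_one]
      rfl
    haveI : Fintype {M : Subgroup G // M.index = p} := Fintype.ofFinite _
    have hE := enumeration hG hm (by omega) (by omega) hnc (k := k)
    set good : {M : Subgroup G // M.index = p} → Prop :=
      fun M => IsCyclic M.1 ∨ (k + 3 ≤ m' ∧ (commutator M.1).index = 4) with hgood
    have hterm : ∀ M : {M : Subgroup G // M.index = p}, ((numSub M.1 p k : ℕ) : ZMod (p ^ 2)) =
        (1 + (p : ZMod (p ^ 2))) - (p : ZMod (p ^ 2)) * (if good M then 1 else 0) := by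
      intro M
      have hMc : Nat.card M.1 = p ^ m := by
        have h := M.1.card_mul_index
        rw [M.2, hm, pow_succ] at h
        exact Nat.eq_of_mul_eq_mul_right hp.out.pos h
      by_cases hc : IsCyclic M.1
      · rw [numSub_cyclic hMc (by omega), if_pos (Or.inl hc), Nat.cast_one, mul_one, add_sub_cancel_right]
      · rw [ih M.1 hMc hc k hk1 (by omega)]
        by_cases hs : k + 2 ≤ m ∧ (commutator M.1).index = 4
        · rw [if_pos hs, if_pos (Or.inr ⟨by omega, hs.2⟩), mul_one, add_sub_cancel_right]
        · rw [if_neg hs, if_neg (by rintro (h | h); exacts [hc h, hs ⟨by omega, h.2⟩]), mul_zero, sub_zero]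
    rw [Finset.sum_congr rfl (fun M _ => hterm M), Finset.sum_sub_distrib, Finset.sum_const,
      Finset.card_univ, ← Nat.card_eq_fintype_card, nsmul_eq_mul, hN, ← Finset.mul_sum, Finset.sum_boole,
      show (Finset.univ.filter good).card = Nat.card {M // good M} by
        rw [Nat.card_eq_fintype_card, Fintype.card_subtype]] at hE
    have hgoal : Nat.card {M // good M} ≡ (if k + 2 ≤ m' ∧ (commutator G).index = 4 then 1 else 0) [MOD p] := by
      have hnot : ∀ M : {M : Subgroup G // M.index = p}, IsCyclic M.1 → k + 3 ≤ m' →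
          (commutator M.1).index ≠ 4 := by
        intro M hc h3 h
        have h1 : commutator M.1 = ⊥ := by
          haveI := hc
          rw [_root_.commutator_def, eq_bot_iff, commutator_le]
          exact fun a _ b _ => mem_bot.mpr (commutatorElement_eq_one_iff_mul_comm.mpr
            (IsCyclic.isMulCommutative.is_comm.comm a b))
        rw [h1, index_bot] at h
        have h' := M.1.card_mul_index
        rw [M.2, hm, h] at h'
        have h2 : p ^ 4 ≤ p ^ m' := Nat.pow_le_pow_right hp.out.pos (by omega)
        have := hp.out.two_le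
        have h5 : 2 * p ^ 3 ≤ p * p ^ 3 := Nat.mul_le_mul_right _ hp.out.two_le
        have h6 : p * p ^ 3 = p ^ 4 := by ring
        have h7 : 8 ≤ p ^ 3 := le_trans (by norm_num) (Nat.pow_le_pow_left hp.out.two_le 3)
        nlinarith
      have hMC : k + 3 ≤ m' → (commutator G).index ≠ 4 →
          Nat.card {M : {M : Subgroup G // M.index = p} // (commutator M.1).index = 4} ≡ 0 [MOD p] := by
        intro h3 hns
        by_cases hp2 : p = 2
        · subst hp2
          rw [Nat.card_congr (Equiv.subtypeSubtypeEquivSubtypeInter (fun M : Subgroup G => M.index = 2)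
            (fun M => (commutator M).index = 4))]
          exact even_max_class_maximal hm (by omega) hns
        · haveI : IsEmpty {M : {M : Subgroup G // M.index = p} // (commutator M.1).index = 4} := by
            refine ⟨fun M => hp2 ?_⟩
            obtain ⟨e, he⟩ := (hG.to_subgroup M.1.1).index (commutator M.1.1)
            rw [M.2] at he
            have h : p ∣ 2 ^ 2 := by
              rcases e with _ | e
              · simp at he
              · rw [show (2 : ℕ) ^ 2 = 4 from rfl, he]; exact dvd_pow_self p e.succ_ne_zero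
            exact (Nat.prime_dvd_prime_iff_eq hp.out Nat.prime_two).mp (hp.out.dvd_of_dvd_pow h)
          simp [Nat.ModEq]
      have hsplit : Nat.card {M // good M} = Nat.card {M : {M : Subgroup G // M.index = p} // IsCyclic M.1} +
          Nat.card {M : {M : Subgroup G // M.index = p} // k + 3 ≤ m' ∧ (commutator M.1).index = 4} := by
        rw [← Nat.card_sum]
        refine Nat.card_congr (subtypeOrEquiv _ _ ?_)
        rw [Pi.disjoint_iff]
        intro M
        rw [Prop.disjoint_iff]
        rintro ⟨hc, h3, h4⟩
        exact hnot M hc h3 h4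
      have hcycA : Nat.card {M : {M : Subgroup G // M.index = p} // IsCyclic M.1} =
          Nat.card {M : Subgroup G // M.index = p ∧ IsCyclic M} :=
        Nat.card_congr (Equiv.subtypeSubtypeEquivSubtypeInter (fun M : Subgroup G => M.index = p)
          (fun M => IsCyclic M))
      have hMC' : (commutator G).index ≠ 4 →
          Nat.card {M : {M : Subgroup G // M.index = p} // k + 3 ≤ m' ∧ (commutator M.1).index = 4} ≡ 0 [MOD p] := by
        intro hns
        by_cases h3 : k + 3 ≤ m'
        · rw [Nat.card_congr (Equiv.subtypeEquivRight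
            (q := fun M : {M : Subgroup G // M.index = p} => (commutator M.1).index = 4)
            fun M => and_iff_right h3)]
          exact hMC h3 hns
        · haveI : IsEmpty {M : {M : Subgroup G // M.index = p} // k + 3 ≤ m' ∧ (commutator M.1).index = 4} :=
            ⟨fun M => h3 M.2.1⟩
          simp [Nat.ModEq]
      by_cases hx : ∃ x : G, orderOf x = p ^ (m' - 1)
      · obtain ⟨x, hx⟩ := hx
        rcases cyclic_max hm (by omega) hnc hx with ⟨hcyc, hns⟩ | ⟨hp2, hcyc, hsp, hall⟩
        · rw [if_neg (fun h => hns h.2), hsplit, hcycA]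
          simpa using hcyc.add (hMC' hns)
        · rw [if_pos ⟨by omega, hsp⟩]
          by_cases h3 : k + 3 ≤ m'
          · rw [Nat.card_congr (Equiv.subtypeUnivEquiv fun M => ?_)]
            · have h := card_subgroups_modEq_one (G := G) (β := m' - 1) hp.out (hm ▸ pow_dvd_pow p (by omega))
              rw [show Nat.card {M : Subgroup G // M.index = p} = numIndex G (p ^ 1) by simp [numIndex],
                numIndex_eq_numSub hm (by omega)]
              exact h
            · by_cases hc : IsCyclic M.1
              · exact Or.inl hc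
              · exact Or.inr ⟨h3, hall (by omega) M.1 M.2 hc⟩
          · haveI : IsEmpty {M : {M : Subgroup G // M.index = p} // k + 3 ≤ m' ∧ (commutator M.1).index = 4} :=
              ⟨fun M => h3 M.2.1⟩
            rw [hsplit, hcycA]
            simpa using hcyc
      · have hns : (commutator G).index ≠ 4 := by
          intro h
          obtain ⟨e, he⟩ := hG.index (commutator G)
          rw [h] at he
          obtain rfl : p = 2 := by
            have hd : p ∣ 2 ^ 2 := by
              rcases e with _ | e
              · simp at he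
              · rw [show (2 : ℕ) ^ 2 = 4 from rfl, he]; exact dvd_pow_self p e.succ_ne_zero
            exact (Nat.prime_dvd_prime_iff_eq hp.out Nat.prime_two).mp (hp.out.dvd_of_dvd_pow hd)
          have hna : ¬ IsMulCommutative G := by
            intro hc
            have h1 : commutator G = ⊥ := by
              rw [_root_.commutator_def, eq_bot_iff, commutator_le]
              exact fun a _ b _ => mem_bot.mpr (commutatorElement_eq_one_iff_mul_comm.mpr (hc.is_comm.comm a b))
            rw [h1, index_bot, hm] at h
            have h2 : 2 ^ 3 ≤ 2 ^ m' := Nat.pow_le_pow_right two_pos (by omega)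
            omega
          obtain ⟨a, ha⟩ := Invol.MaxClassTwo.exists_cyclic_index_two hG hna h
          refine hx ⟨a, ?_⟩
          rw [hm, show m' = m' - 1 + 1 by omega, pow_succ] at ha
          omega
        haveI : IsEmpty {M : {M : Subgroup G // M.index = p} // IsCyclic M.1} := by
          refine ⟨fun M => hx ?_⟩
          obtain ⟨z, hz⟩ := M.2.exists_generator
          refine ⟨(z : G), ?_⟩
          rw [Subgroup.orderOf_coe, orderOf_eq_card_of_forall_mem_zpowers hz]
          have h := M.1.1.card_mul_index
          rw [M.1.2, hm, pow_succ] at h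
          exact Nat.eq_of_mul_eq_mul_right hp.out.pos h
        rw [if_neg (fun h => hns h.2), hsplit, Nat.card_of_isEmpty, zero_add]
        exact hMC' hns
    rw [mul_cast_eq_of_modEq hgoal] at hE
    have hpp : (p : ZMod (p ^ 2)) * (p : ZMod (p ^ 2)) = 0 := by
      rw [← Nat.cast_mul, ← pow_two, ZMod.natCast_self]
    split_ifs at hE ⊢ with hsp
    · rw [Nat.cast_one] at hE
      linear_combination hpp - hE
    · rw [Nat.cast_zero] at hE
      linear_combination hpp - hE

end Cfsg.Agent.FGB
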