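import Cfsg.Agent.Lib.FGB.KulakoffEnum

/-!
# Cyclic maximal subgroups of a noncyclic `p`-group
-/

set_option autoImplicit false
set_option linter.all false

namespace Cfsg.Agent.FGB

open Subgroup
open scoped commutatorElement

universe u

variable {p : ℕ} [hp : Fact p.Prime] {G : Type u} [Group G] [Finite G]

theorem conj_powers {x y : G} {r : ℕ} (h : y * x * y⁻¹ = x ^ r) (j : ℕ) :
    y ^ j * x * (y ^ j)⁻¹ = x ^ r ^ j := by
  induction j with
  | zero => simp
  | succ j ih =>
    calc y ^ (j + 1) * x * (y ^ (j + 1))⁻¹ = y * (y ^ j * x * (y ^ j)⁻¹) * y⁻¹ := by group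
      _ = (y * x * y⁻¹) ^ r ^ j := by rw [ih, conj_pow]
      _ = x ^ r ^ (j + 1) := by rw [h, ← pow_mul, ← pow_succ']

theorem mul_pow_metacyclic {x y : G} {r : ℕ} (h : y * x * y⁻¹ = x ^ r) (i n : ℕ) :
    (x ^ i * y) ^ n = x ^ (i * ∑ j ∈ Finset.range n, r ^ j) * y ^ n := by
  induction n with
  | zero => simp
  | succ n ih =>
    have hc : y ^ n * x ^ i = x ^ (r ^ n * i) * y ^ n := by
      rw [pow_mul, ← conj_powers h n, conj_pow]
      group
    rw [pow_succ, ih, Finset.sum_range_succ, mul_add, pow_add, mul_comm i (r ^ n),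
      mul_assoc, ← mul_assoc (y ^ n), hc, pow_succ y n]
    simp only [mul_assoc]

/-- The index of the commutator subgroup of a noncyclic `p`-group is at least `p ^ 2`. -/
theorem sq_le_index_commutator (hG : IsPGroup p G) (hnc : ∀ g : G, zpowers g ≠ ⊤) :
    p ^ 2 ≤ (commutator G).index := by
  haveI := hG.isNilpotent
  obtain ⟨e, he⟩ := IsPGroup.iff_card.mp (hG.to_quotient (commutator G))
  rw [Subgroup.index_eq_card, he]
  refine Nat.pow_le_pow_right hp.out.pos ?_
  by_contra hlt
  have hcy : IsCyclic (G ⧸ commutator G) := by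
    rcases (show e = 0 ∨ e = 1 by omega) with rfl | rfl
    · haveI := (Nat.card_eq_one_iff_unique.1 (by simpa using he)).1
      exact isCyclic_of_subsingleton
    · exact isCyclic_of_prime_card (p := p) (by simpa using he)
  obtain ⟨q, hq⟩ := hcy.exists_generator
  obtain ⟨g, rfl⟩ := QuotientGroup.mk_surjective q
  refine hnc g (frattini_nongenerating (top_le_iff.1 fun x _ => ?_))
  obtain ⟨i, hi⟩ := hq (QuotientGroup.mk x)
  have h1 : (g ^ i)⁻¹ * x ∈ commutator G := QuotientGroup.eq.1 (by simpa using hi)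
  have := mul_mem (mem_sup_left (zpow_mem (mem_zpowers g) i) : g ^ i ∈ zpowers g ⊔ frattini G)
    (mem_sup_right (Basics.commutator_le_frattini h1))
  simpa using this

/-- The two kinds of noncyclic `p`-groups with a cyclic maximal subgroup. -/
theorem cyclic_max {m : ℕ} (hm : Nat.card G = p ^ m) (h3 : 3 ≤ m) (hnc : ∀ g : G, zpowers g ≠ ⊤)
    {x : G} (hx : orderOf x = p ^ (m - 1)) :
    (Nat.card {M : Subgroup G // M.index = p ∧ IsCyclic M} ≡ 0 [MOD p] ∧ (commutator G).index ≠ 4) ∨
      (p = 2 ∧ Nat.card {M : Subgroup G // M.index = p ∧ IsCyclic M} ≡ 1 [MOD p] ∧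
        (commutator G).index = 4 ∧
        (4 ≤ m → ∀ M : Subgroup G, M.index = p → ¬ IsCyclic M → (commutator M).index = 4)) := by
  classical
  have hG : IsPGroup p G := IsPGroup.of_card hm
  haveI := hG.isNilpotent
  have hpm : p ^ m = p ^ (m - 1) * p := by rw [← pow_succ]; congr 1; omega
  have hXi : (zpowers x).index = p := by
    have h := (zpowers x).card_mul_index
    rw [Nat.card_zpowers, hx, hm, hpm] at h
    exact Nat.eq_of_mul_eq_mul_left (pow_pos hp.out.pos _) h
  have hXn : (zpowers x).Normal := normal_of_frattini_le hG (frattini_le_of_index_prime hG hXi)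
  have hXtop : zpowers x ≠ ⊤ := hnc x
  obtain ⟨y, hy⟩ : ∃ y, y ∉ zpowers x := by
    by_contra hall
    push Not at hall
    exact hXtop ((eq_top_iff' _).mpr hall)
  obtain ⟨r, hr⟩ := mem_powers_iff_mem_zpowers.mpr (hXn.conj_mem x (mem_zpowers x) y)
  have hr' : y * x * y⁻¹ = x ^ r := hr.symm
  have hQcard : Nat.card (G ⧸ zpowers x) = p := by rw [← Subgroup.index_eq_card, hXi]
  obtain ⟨u, hu⟩ : ∃ u : ℕ, y ^ p = x ^ u := by
    have h : (QuotientGroup.mk y : G ⧸ zpowers x) ^ p = 1 := by rw [← hQcard]; exact pow_card_eq_one'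
    rw [← QuotientGroup.mk_pow, QuotientGroup.eq_one_iff] at h
    obtain ⟨u, hu⟩ := mem_powers_iff_mem_zpowers.mpr h
    exact ⟨u, hu.symm⟩
  obtain ⟨t, rfl⟩ : p ∣ u := by
    by_contra hpu
    refine hnc y (eq_top_of_card_eq _ ?_)
    rw [Nat.card_zpowers, hm]
    have h1 : orderOf (y ^ p) = p ^ (m - 1) := by
      rw [hu, orderOf_pow, hx, Nat.Coprime.gcd_eq_one ((hp.out.coprime_iff_not_dvd.mpr hpu).pow_left _),
        Nat.div_one]
    have hmm : m = m - 1 + 1 := by omega
    rw [hmm]
    refine orderOf_eq_prime_pow (fun hc => ?_) ?_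
    · have h2 : (y ^ p) ^ p ^ (m - 2) = 1 := by
        rw [← pow_mul, ← pow_succ', show m - 2 + 1 = m - 1 by omega]; exact hc
      have h4 := orderOf_dvd_of_pow_eq_one h2
      rw [h1, Nat.pow_dvd_pow_iff_le_right hp.out.one_lt] at h4
      omega
    · rw [pow_succ', pow_mul, ← h1, pow_orderOf_eq_one]
  have hrp : r ≡ 1 [MOD p] := by
    have h1 : x ^ r ^ p = x := by
      rw [← conj_powers hr' p, hu, (Commute.pow_self x (p * t)).eq, mul_inv_cancel_right]
    have h2 : x ^ r ^ p = x ^ 1 := by rw [h1, pow_one]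
    rw [pow_eq_pow_iff_modEq, hx] at h2
    have h4 : r ^ p ≡ 1 [MOD p] := h2.of_dvd (dvd_pow_self p (by omega))
    rw [← ZMod.natCast_eq_natCast_iff] at h4 ⊢
    rw [Nat.cast_pow, ZMod.pow_card] at h4
    exact h4
  have hpp : (p : ZMod (p ^ 2)) * (p : ZMod (p ^ 2)) = 0 := by
    rw [← Nat.cast_mul, ← pow_two, ZMod.natCast_self]
  -- the maximal subgroups
  have hxpΦ : x ^ p ∈ frattini G := Basics.pow_mem_frattini hG x
  let Mi : Fin p → Subgroup G := fun i => closure {x ^ p, x ^ (i : ℕ) * y}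
  have hMmem : ∀ i, x ^ p ∈ Mi i ∧ x ^ (i : ℕ) * y ∈ Mi i := fun i =>
    ⟨subset_closure (by simp), subset_closure (by simp)⟩
  have hxiy : ∀ i : ℕ, x ^ i * y ∉ zpowers x := fun i h => hy
    ((Subgroup.mul_mem_cancel_left _ (pow_mem (mem_zpowers x) i)).mp h)
  have hMi : ∀ i, (Mi i).index = p := by
    intro i
    have hlt : Mi i ≠ ⊤ := by
      intro htop
      refine hnc (x ^ (i : ℕ) * y) (frattini_nongenerating (top_le_iff.mp ?_))
      rw [← htop, closure_le]
      intro g hg
      rcases hg with rfl | rfl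
      · exact mem_sup_right hxpΦ
      · exact mem_sup_left (mem_zpowers _)
    obtain ⟨a, ha⟩ := hG.index (Mi i)
    have hc := (Mi i).card_mul_index
    rw [ha, hm] at hc
    have hxp : orderOf (x ^ p) = p ^ (m - 2) := by
      rw [orderOf_pow_of_dvd hp.out.ne_zero (hx ▸ dvd_pow_self p (by omega)), hx,
        show m - 1 = m - 2 + 1 by omega, pow_succ, Nat.mul_div_cancel _ hp.out.pos]
    have hsub : zpowers (x ^ p) < Mi i := lt_of_le_of_ne (zpowers_le.mpr (hMmem i).1) fun h =>
      hxiy i (zpowers_le.mpr (pow_mem (mem_zpowers x) p) (h.ge (hMmem i).2))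
    obtain ⟨b, hb⟩ := IsPGroup.iff_card.mp (hG.to_subgroup (Mi i))
    rw [hb, ← pow_add] at hc
    have hbm := Nat.pow_right_injective hp.out.two_le hc
    have h1 : p ^ (m - 2) < p ^ b := by
      rw [← hxp, ← hb, ← Nat.card_zpowers]
      exact Set.ncard_lt_ncard (SetLike.coe_ssubset_coe.mpr hsub) (Set.toFinite _)
    rw [Nat.pow_lt_pow_iff_right hp.out.one_lt] at h1
    have ha0 : a ≠ 0 := fun h => hlt (index_eq_one.mp (by rw [ha, h, pow_zero]))
    rw [ha, show a = 1 by omega, pow_one]
  let F : Option (Fin p) → {M : Subgroup G // M.index = p} := fun o =>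
    o.elim ⟨zpowers x, hXi⟩ fun i => ⟨Mi i, hMi i⟩
  have hF : Function.Bijective F := by
    refine ⟨?_, ?_⟩
    · have key : ∀ i : Fin p, Mi i ≠ zpowers x := fun i h => hxiy i (h ▸ (hMmem i).2)
      have key2 : ∀ i j : Fin p, (i : ℕ) < j → Mi i ≠ Mi j := by
        intro i j hij h
        have hd : x ^ ((j : ℕ) - i) ∈ Mi i := by
          have h1 : x ^ (j : ℕ) * y * (x ^ (i : ℕ) * y)⁻¹ ∈ Mi i :=
            mul_mem (h ▸ (hMmem j).2) (inv_mem (hMmem i).2)
          rwa [show x ^ (j : ℕ) * y * (x ^ (i : ℕ) * y)⁻¹ = x ^ (j : ℕ) * (x ^ (i : ℕ))⁻¹ by group,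
            ← pow_sub x hij.le] at h1
        have hxM : x ∈ Mi i := by
          obtain ⟨l, -, hl⟩ := Nat.exists_mul_mod_eq_one_of_coprime
            ((hp.out.coprime_iff_not_dvd.mpr (Nat.not_dvd_of_pos_of_lt
              (by omega : 0 < (j : ℕ) - i) (by omega))).symm) hp.out.one_lt
          have h1 := pow_mem hd l
          rw [← pow_mul, ← Nat.div_add_mod (((j : ℕ) - i) * l) p, hl, pow_add, pow_one, pow_mul] at h1
          exact (Subgroup.mul_mem_cancel_left _ (pow_mem (hMmem i).1 _)).mp h1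
        refine key i (eq_of_le_of_card_ge (zpowers_le.mpr hxM) ?_).symm
        have h1 := (Mi i).card_mul_index
        have h2 := (zpowers x).card_mul_index
        rw [hMi] at h1
        rw [hXi] at h2
        exact (Nat.eq_of_mul_eq_mul_right hp.out.pos (h1.trans h2.symm)).le
      rintro (_ | i) (_ | j) h
      · rfl
      · exact absurd (congrArg Subtype.val h).symm (key j)
      · exact absurd (congrArg Subtype.val h) (key i)
      · rcases lt_trichotomy (i : ℕ) j with hlt | heq | hlt
        · exact absurd (congrArg Subtype.val h) (key2 i j hlt)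
        · rw [Fin.ext heq]
        · exact absurd (congrArg Subtype.val h).symm (key2 j i hlt)
    · rintro ⟨M, hM⟩
      by_cases hMx : M = zpowers x
      · exact ⟨none, Subtype.ext hMx.symm⟩
      have hxpM : x ^ p ∈ M := frattini_le_of_index_prime hG hM hxpΦ
      obtain ⟨g, hgM, hgx⟩ : ∃ g ∈ M, g ∉ zpowers x := by
        by_contra hall
        push Not at hall
        have h1 := M.card_mul_index
        have h2 := (zpowers x).card_mul_index
        rw [hM] at h1
        rw [hXi] at h2
        exact hMx (eq_of_le_of_card_ge hall (Nat.eq_of_mul_eq_mul_right hp.out.pos (h2.trans h1.symm)).le)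
      have hgen : zpowers (QuotientGroup.mk g : G ⧸ zpowers x) = ⊤ := by
        haveI : Fact (Nat.card (G ⧸ zpowers x)).Prime := ⟨hQcard ▸ hp.out⟩
        exact ((zpowers _).eq_bot_or_eq_top_of_prime_card).resolve_left
          (fun h => hgx ((QuotientGroup.eq_one_iff g).mp (zpowers_eq_bot.mp h)))
      obtain ⟨l, hl⟩ := mem_powers_iff_mem_zpowers.mpr
        (hgen.ge (mem_top (QuotientGroup.mk y : G ⧸ zpowers x)))
      have h1 : g ^ l * y⁻¹ ∈ zpowers x := by
        rw [← QuotientGroup.eq_one_iff, QuotientGroup.mk_mul, QuotientGroup.mk_pow, QuotientGroup.mk_inv]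
        exact mul_inv_eq_one.mpr hl
      obtain ⟨a, ha⟩ := mem_powers_iff_mem_zpowers.mpr h1
      have hay : x ^ a * y ∈ M := by
        rw [show x ^ a = g ^ l * y⁻¹ from ha, inv_mul_cancel_right]
        exact pow_mem hgM l
      have hiy : x ^ (a % p) * y ∈ M := by
        rw [← Nat.div_add_mod a p, pow_add, pow_mul, mul_assoc] at hay
        exact (Subgroup.mul_mem_cancel_left _ (pow_mem hxpM _)).mp hay
      refine ⟨some ⟨a % p, Nat.mod_lt _ hp.out.pos⟩, Subtype.ext (eq_of_le_of_card_ge ?_ ?_)⟩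
      · show Subgroup.closure _ ≤ M
        rw [closure_le]
        rintro g' (rfl | rfl)
        · exact hxpM
        · exact hiy
      · show Nat.card M ≤ Nat.card (Mi _)
        have h1 := M.card_mul_index
        have h2 := (Mi ⟨a % p, Nat.mod_lt _ hp.out.pos⟩).card_mul_index
        rw [hM] at h1
        rw [hMi] at h2
        exact (Nat.eq_of_mul_eq_mul_right hp.out.pos (h1.trans h2.symm)).le
  -- which of them are cyclic
  set S := ∑ j ∈ Finset.range p, r ^ j with hS
  have hpow : ∀ i : ℕ, (x ^ i * y) ^ p = x ^ (i * S + p * t) := fun i => by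
    rw [mul_pow_metacyclic hr', hu, ← pow_add, hS]
  have hpS : (p : ℕ) ∣ S := by
    rw [← CharP.cast_eq_zero_iff (ZMod p) p, hS, Nat.cast_sum]
    have h : (r : ZMod p) = 1 := by
      rw [← Nat.cast_one, ZMod.natCast_eq_natCast_iff]; exact hrp
    simp [h]
  have hcyc : ∀ i : Fin p, IsCyclic (Mi i) ↔ ¬ p ^ 2 ∣ (i : ℕ) * S + p * t := by
    intro i
    set g := x ^ (i : ℕ) * y
    have hcardM : Nat.card (Mi i) = p ^ (m - 1) := by
      have h1 := (Mi i).card_mul_index
      rw [hMi, hm, hpm] at h1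
      exact Nat.eq_of_mul_eq_mul_right hp.out.pos h1
    have hg : orderOf g ∣ p ^ (m - 1) := hcardM ▸ (Subgroup.orderOf_mk g (hMmem i).2 ▸
      orderOf_dvd_natCard (⟨g, (hMmem i).2⟩ : Mi i))
    obtain ⟨f, hf, hgf⟩ := (Nat.dvd_prime_pow hp.out).mp hg
    constructor
    · intro hc hdvd
      obtain ⟨⟨z, hz⟩, hzgen⟩ := hc.exists_generator
      obtain ⟨c, hc'⟩ := hdvd
      have hgsmall : g ^ p ^ (m - 2) = 1 := by
        rw [show m - 2 = m - 3 + 1 by omega, pow_succ', pow_mul, hpow, hc', ← pow_mul,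
          show p ^ 2 * c * p ^ (m - 3) = p ^ (m - 1) * c by
            rw [show m - 1 = 2 + (m - 3) by omega, pow_add]; ring,
          pow_mul, ← hx, pow_orderOf_eq_one, one_pow]
      have hle : Mi i ≤ zpowers z := by
        intro w hw
        obtain ⟨l, hl⟩ := hzgen ⟨w, hw⟩
        exact ⟨l, congrArg Subtype.val hl⟩
      have hzord : orderOf z = p ^ (m - 1) := by
        rw [← Nat.card_zpowers, le_antisymm (zpowers_le.mpr hz) hle, hcardM]
      have hsmall : ∀ w ∈ Mi i, w ^ p ^ (m - 2) = 1 → w ∈ zpowers (z ^ p) := by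
        intro w hw hw1
        obtain ⟨l, hl⟩ := hle hw
        have hl' : z ^ l = w := hl
        rw [← hl', ← zpow_natCast, ← zpow_mul, ← orderOf_dvd_iff_zpow_eq_one, hzord,
          show m - 1 = (m - 2) + 1 by omega, pow_succ, Nat.cast_mul,
          mul_comm ((p ^ (m - 2) : ℕ) : ℤ) (p : ℤ)] at hw1
        obtain ⟨d, hd⟩ := Int.dvd_of_mul_dvd_mul_right (by exact_mod_cast (pow_pos hp.out.pos _).ne') hw1
        refine ⟨d, ?_⟩
        show (z ^ p) ^ d = w
        rw [← hl', ← zpow_natCast, ← zpow_mul, hd]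
      have hle2 : Mi i ≤ zpowers (z ^ p) := by
        refine (closure_le _).mpr ?_
        rintro w (rfl | rfl)
        · refine hsmall _ (hMmem i).1 ?_
          rw [← pow_mul, ← pow_succ', show m - 2 + 1 = m - 1 by omega, ← hx, pow_orderOf_eq_one]
        · exact hsmall _ (hMmem i).2 hgsmall
      have h1 := card_le_of_le hle2
      rw [hcardM, Nat.card_zpowers, orderOf_pow_of_dvd hp.out.ne_zero (hzord ▸ dvd_pow_self p (by omega)),
        hzord] at h1
      exact absurd h1 (not_le.mpr (Nat.div_lt_self (pow_pos hp.out.pos _) hp.out.one_lt))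
    · intro hdvd
      have hf' : f = m - 1 := by
        by_contra hne
        apply hdvd
        have h1 : g ^ p ^ (m - 2) = 1 := by
          rw [← orderOf_dvd_iff_pow_eq_one, hgf]; exact pow_dvd_pow p (by omega)
        rw [show m - 2 = m - 3 + 1 by omega, pow_succ', pow_mul, hpow, ← pow_mul,
          ← orderOf_dvd_iff_pow_eq_one, hx, show m - 1 = 2 + (m - 3) by omega, pow_add] at h1
        exact Nat.dvd_of_mul_dvd_mul_right (pow_pos hp.out.pos _) h1
      have heq : zpowers g = Mi i := eq_of_le_of_card_ge (zpowers_le.mpr (hMmem i).2)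
        (by rw [Nat.card_zpowers, hgf, hf', hcardM])
      rw [← heq]
      exact isCyclic_zpowers g
  haveI hxc : IsCyclic (zpowers x) := isCyclic_zpowers x
  have hcount : Nat.card {M : Subgroup G // M.index = p ∧ IsCyclic M} =
      1 + Nat.card {i : Fin p // ¬ p ^ 2 ∣ (i : ℕ) * S + p * t} := by
    rw [← Nat.card_congr (Equiv.subtypeSubtypeEquivSubtypeInter (fun M : Subgroup G => M.index = p)
      (fun M => IsCyclic M)), ← Nat.card_congr ((Equiv.ofBijective F hF).subtypeEquiv
        (p := fun o => IsCyclic ((F o).1)) (q := fun M => IsCyclic M.1) fun o => Iff.rfl),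
      ← show Nat.card (Option {i : Fin p // ¬ p ^ 2 ∣ (i : ℕ) * S + p * t}) =
        1 + Nat.card {i : Fin p // ¬ p ^ 2 ∣ (i : ℕ) * S + p * t} by
        rw [Finite.card_option, add_comm]]
    refine Nat.card_congr
      { toFun := fun o => match o with
          | ⟨none, _⟩ => none
          | ⟨some i, h⟩ => some ⟨i, (hcyc i).mp h⟩
        invFun := fun o => match o with
          | none => ⟨none, hxc⟩
          | some i => ⟨some i.1, (hcyc i.1).mpr i.2⟩
        left_inv := fun o => by rcases o with ⟨_ | i, h⟩ <;> rfl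
        right_inv := fun o => by rcases o with _ | i <;> rfl }
  -- the commutators
  have hfirst : (S : ZMod (p ^ 2)) = p →
      Nat.card {M : Subgroup G // M.index = p ∧ IsCyclic M} ≡ 0 [MOD p] := by
    intro hSp
    have hiff : ∀ i : ℕ, p ^ 2 ∣ i * S + p * t ↔ ((i : ZMod p) + t = 0) := fun i => by
      rw [← ZMod.natCast_eq_zero_iff, Nat.cast_add, Nat.cast_mul, Nat.cast_mul, hSp,
        mul_comm, ← mul_add, ← Nat.cast_add, ← Nat.cast_mul, ZMod.natCast_eq_zero_iff, pow_two,
        Nat.mul_dvd_mul_iff_left hp.out.pos, ← ZMod.natCast_eq_zero_iff, Nat.cast_add]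
    have hone : Nat.card {i : Fin p // p ^ 2 ∣ (i : ℕ) * S + p * t} = 1 := by
      refine Nat.card_eq_one_iff_exists.mpr
        ⟨⟨⟨(-(t : ZMod p)).val, ZMod.val_lt _⟩, (hiff _).mpr ?_⟩, fun i => Subtype.ext (Fin.ext ?_)⟩
      · rw [ZMod.natCast_zmod_val, neg_add_cancel]
      · have h := (hiff _).mp i.2
        show (i.1 : ℕ) = (-(t : ZMod p)).val
        rw [← eq_neg_of_add_eq_zero_left h, ZMod.val_natCast, Nat.mod_eq_of_lt i.1.2]
    have hsum : Nat.card {i : Fin p // p ^ 2 ∣ (i : ℕ) * S + p * t} +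
        Nat.card {i : Fin p // ¬ p ^ 2 ∣ (i : ℕ) * S + p * t} = p := by
      rw [← Nat.card_sum, Nat.card_congr (Equiv.sumCompl _), Nat.card_eq_fintype_card, Fintype.card_fin]
    rw [hcount, ← hone, hsum]
    exact Nat.modEq_zero_iff_dvd.mpr dvd_rfl
  by_cases hp2 : p = 2
  swap
  · refine Or.inl ⟨hfirst ?_, fun h => ?_⟩
    · obtain ⟨q, hq⟩ : ∃ q : ℤ, (r : ℤ) = 1 + p * q := by
        obtain ⟨q, hq⟩ := (Nat.modEq_iff_dvd).mp hrp.symm
        exact ⟨q, by push_cast at hq; omega⟩
      set R := ZMod (p ^ 2)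
      have hrj : ∀ j : ℕ, (r : R) ^ j = 1 + (j : R) * ((p : R) * (q : R)) := by
        have hr0 : (r : R) = 1 + (p : R) * (q : R) := by
          have := congrArg (Int.castRingHom R) hq
          rw [map_add, map_mul, map_natCast, map_natCast, map_one] at this
          exact this
        intro j
        induction j with
        | zero => simp
        | succ j ih =>
          rw [pow_succ, ih, hr0, Nat.cast_succ]
          linear_combination ((j : R) * (q : R) * (q : R)) * hpp
      obtain ⟨w, hw⟩ := hp.out.odd_of_ne_two hp2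
      have hsumid : ((∑ j ∈ Finset.range p, j : ℕ) : R) = (p : R) * (w : R) := by
        rw [Finset.sum_range_id, show p * (p - 1) / 2 = p * w by
          rw [show p - 1 = 2 * w by omega, show p * (2 * w) = p * w * 2 by ring,
            Nat.mul_div_cancel _ two_pos], Nat.cast_mul]
      rw [hS, Nat.cast_sum]
      simp only [Nat.cast_pow, hrj]
      rw [Finset.sum_add_distrib, Finset.sum_const, Finset.card_range, nsmul_one, ← Finset.sum_mul,
        ← Nat.cast_sum, hsumid]
      linear_combination (w : R) * (q : R) * hpp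
    · obtain ⟨e, he⟩ := hG.index (commutator G)
      rw [h] at he
      have : p ∣ 2 ^ 2 := by
        rcases e with _ | e
        · simp at he
        · rw [show (2 : ℕ) ^ 2 = 4 from rfl, he]; exact dvd_pow_self p e.succ_ne_zero
      exact hp2 ((Nat.prime_dvd_prime_iff_eq hp.out Nat.prime_two).mp (hp.out.dvd_of_dvd_pow this))
  subst hp2
  have hS2 : S = 1 + r := by simp [hS, Finset.sum_range_succ]
  have hodd : r % 2 = 1 := hrp
  rcases (show r % 4 = 1 ∨ r % 4 = 3 by omega) with h4 | h4
  · refine Or.inl ⟨hfirst ?_, fun hidx => ?_⟩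
    · rw [hS2, ZMod.natCast_eq_natCast_iff]
      show (1 + r) % 4 = 2 % 4
      omega
    · set N := zpowers (x ^ 4) with hN
      have hconj : ∀ g : G, g * x ^ 4 * g⁻¹ ∈ N := fun g => by
        obtain ⟨l, hl⟩ := mem_powers_iff_mem_zpowers.mpr (hXn.conj_mem x (mem_zpowers x) g)
        rw [← conj_pow, show g * x * g⁻¹ = x ^ l from hl.symm, ← pow_mul, mul_comm, pow_mul]
        exact pow_mem (mem_zpowers _) _
      haveI : N.Normal := ⟨fun a ha g => by
        obtain ⟨l, rfl⟩ := mem_powers_iff_mem_zpowers.mpr ha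
        show g * (x ^ 4) ^ l * g⁻¹ ∈ N
        rw [← conj_pow]
        exact pow_mem (hconj g) l⟩
      have hcxy : Commute (QuotientGroup.mk' N x) (QuotientGroup.mk' N y) := by
        have h : QuotientGroup.mk' N y * QuotientGroup.mk' N x * (QuotientGroup.mk' N y)⁻¹ =
            QuotientGroup.mk' N x := by
          rw [← map_mul, ← map_inv, ← map_mul, hr', ← Nat.div_add_mod r 4, h4, pow_add, pow_one,
            map_mul, pow_mul, show QuotientGroup.mk' N ((x ^ 4) ^ (r / 4)) = 1 from
              (QuotientGroup.eq_one_iff _).mpr (pow_mem (mem_zpowers _) _), one_mul]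
        exact (mul_inv_eq_iff_eq_mul.mp h).symm
      have hform : ∀ g : G, ∃ (a b : ℕ), g = x ^ a * y ^ b := fun g => by
        haveI : Fact (Nat.card (G ⧸ zpowers x)).Prime := ⟨hQcard ▸ hp.out⟩
        have hgen : zpowers (QuotientGroup.mk y : G ⧸ zpowers x) = ⊤ :=
          ((zpowers _).eq_bot_or_eq_top_of_prime_card).resolve_left
            (fun h => hy ((QuotientGroup.eq_one_iff y).mp (zpowers_eq_bot.mp h)))
        obtain ⟨b, hb⟩ := mem_powers_iff_mem_zpowers.mpr
          (hgen.ge (mem_top (QuotientGroup.mk g : G ⧸ zpowers x)))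
        have h1 : g * (y ^ b)⁻¹ ∈ zpowers x := by
          rw [← QuotientGroup.eq_one_iff, QuotientGroup.mk_mul, QuotientGroup.mk_inv, QuotientGroup.mk_pow]
          exact mul_inv_eq_one.mpr hb.symm
        obtain ⟨a, ha⟩ := mem_powers_iff_mem_zpowers.mpr h1
        exact ⟨a, b, by rw [show x ^ a = g * (y ^ b)⁻¹ from ha, inv_mul_cancel_right]⟩
      have hle : commutator G ≤ N := by
        rw [_root_.commutator_def, commutator_le]
        intro g _ g' _
        obtain ⟨a, b, rfl⟩ := hform g
        obtain ⟨a', b', rfl⟩ := hform g'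
        rw [← QuotientGroup.eq_one_iff, ← QuotientGroup.mk'_apply, map_commutatorElement,
          commutatorElement_eq_one_iff_commute]
        simp only [map_mul, map_pow]
        exact ((Commute.pow_pow_self _ a a').mul_right (hcxy.pow_pow a b')).mul_left
          ((hcxy.symm.pow_pow b a').mul_right (Commute.pow_pow_self _ b b'))
      have h1 := card_le_of_le hle
      have hord : orderOf (x ^ 4) = 2 ^ (m - 3) := by
        rw [orderOf_pow_of_dvd (by norm_num) (by
          rw [hx, show (4 : ℕ) = 2 ^ 2 from rfl]; exact pow_dvd_pow 2 (by omega)), hx,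
          show m - 1 = m - 3 + 2 by omega, pow_add, show (2 : ℕ) ^ 2 = 4 from rfl,
          Nat.mul_div_cancel _ (by norm_num)]
      rw [hN, Nat.card_zpowers, hord] at h1
      have h2 := (commutator G).card_mul_index
      rw [hidx, hm, show m = m - 3 + 3 by omega, pow_add] at h2
      norm_num at h2
      have hpos : 0 < 2 ^ (m - 3) := by positivity
      omega
  · have hgood : Nat.card {i : Fin 2 // ¬ 2 ^ 2 ∣ (i : ℕ) * S + 2 * t} % 2 = 0 := by
      have hall : ∀ i : Fin 2, (2 ^ 2 ∣ (i : ℕ) * S + 2 * t ↔ 2 ∣ t) := fun i => by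
        obtain ⟨c, hc⟩ : 4 ∣ S := by rw [hS2]; omega
        rcases (show (i : ℕ) = 0 ∨ (i : ℕ) = 1 by omega) with hi | hi <;>
          rw [hi, hc] <;> constructor <;> intro h <;> omega
      by_cases ht : 2 ∣ t
      · haveI : IsEmpty {i : Fin 2 // ¬ 2 ^ 2 ∣ (i : ℕ) * S + 2 * t} := ⟨fun i => i.2 ((hall i.1).mpr ht)⟩
        simp
      · rw [Nat.card_congr (Equiv.subtypeUnivEquiv fun i => fun h => ht ((hall i).mp h)),
          Nat.card_eq_fintype_card, Fintype.card_fin]
    have hxr : orderOf (x ^ (r - 1)) = 2 ^ (m - 2) := by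
      rw [orderOf_pow, hx]
      have hg : Nat.gcd (2 ^ (m - 1)) (r - 1) = 2 := by
        rw [show m - 1 = m - 2 + 1 by omega, pow_succ', show r - 1 = 2 * ((r - 1) / 2) by omega,
          Nat.gcd_mul_left, Nat.Coprime.gcd_eq_one ((Nat.prime_two.coprime_iff_not_dvd.mpr (by omega)).pow_left _)]
      rw [hg, show m - 1 = m - 2 + 1 by omega, pow_succ, Nat.mul_div_cancel _ two_pos]
    have hidx : (commutator G).index = 4 := by
      refine le_antisymm ?_ (sq_le_index_commutator (p := 2) hG hnc)
      have hmem : x ^ (r - 1) ∈ commutator G := by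
        have h : ⁅y, x⁆ = x ^ (r - 1) := by
          rw [commutatorElement_def, hr']
          conv_lhs => rw [show r = r - 1 + 1 by omega, pow_succ, mul_inv_cancel_right]
        exact h ▸ commutator_mem_commutator (mem_top y) (mem_top x)
      have h1 := card_le_of_le (zpowers_le.mpr hmem)
      rw [Nat.card_zpowers, hxr] at h1
      have h2 := (commutator G).card_mul_index
      rw [hm, show m = m - 2 + 2 by omega, pow_add] at h2
      have hpos : 0 < 2 ^ (m - 2) := by positivity
      nlinarith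
    refine Or.inr ⟨rfl, ?_, hidx, ?_⟩
    · rw [hcount]
      show (1 + _) % 2 = 1 % 2
      omega
    intro hm4 M hM hMc
    obtain ⟨o, ho⟩ := hF.2 ⟨M, hM⟩
    rcases o with _ | i
    · have : zpowers x = M := congrArg Subtype.val ho
      exact absurd (this ▸ hxc) hMc
    obtain rfl : Mi i = M := congrArg Subtype.val ho
    have hMG : IsPGroup 2 (Mi i) := hG.to_subgroup _
    refine le_antisymm ?_ (sq_le_index_commutator (p := 2) hMG fun g hg => hMc ?_)
    swap
    · exact ⟨⟨g, fun z => hg.ge (mem_top z)⟩⟩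
    have hmem : x ^ (2 * (r - 1)) ∈ (commutator (Mi i)).map (Mi i).subtype := by
      refine ⟨⁅(⟨x ^ (i : ℕ) * y, (hMmem i).2⟩ : Mi i), ⟨x ^ 2, (hMmem i).1⟩⁆,
        commutator_mem_commutator (mem_top _) (mem_top _), ?_⟩
      show ⁅x ^ (i : ℕ) * y, x ^ 2⁆ = _
      have h1 : x ^ (i : ℕ) * y * x ^ 2 * (x ^ (i : ℕ) * y)⁻¹ = x ^ (r * 2) := by
        calc x ^ (i : ℕ) * y * x ^ 2 * (x ^ (i : ℕ) * y)⁻¹
            = x ^ (i : ℕ) * (y * x * y⁻¹) ^ 2 * (x ^ (i : ℕ))⁻¹ := by rw [conj_pow]; group
          _ = _ := by rw [hr', ← pow_mul, (Commute.pow_pow_self x _ _).eq, mul_inv_cancel_right]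
      rw [commutatorElement_def, h1, ← pow_sub x (by omega : 2 ≤ r * 2)]
      congr 1
      omega
    have h1 := card_le_of_le (zpowers_le.mpr hmem)
    rw [card_map_of_injective (Mi i).subtype_injective, Nat.card_zpowers, mul_comm 2, pow_mul,
      orderOf_pow_of_dvd two_ne_zero (hxr ▸ dvd_pow_self 2 (by omega)), hxr,
      show m - 2 = m - 3 + 1 by omega, pow_succ, Nat.mul_div_cancel _ two_pos] at h1
    have h2 := (commutator (Mi i)).card_mul_index
    have hcardM : Nat.card (Mi i) = 2 ^ (m - 3) * 4 := by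
      have h := (Mi i).card_mul_index
      rw [hMi, hm, show m = m - 3 + 3 by omega, pow_add] at h
      omega
    rw [hcardM] at h2
    have hpos : 0 < 2 ^ (m - 3) := by positivity
    nlinarith

end Cfsg.Agent.FGB
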