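import Cfsg.Agent.Lib.FGB.L33Elem

/-!
# Symmetries of the commuting relation act on points and lines
-/

set_option autoImplicit false
set_option linter.style.haveILetI false
set_option linter.unusedSectionVars false

namespace Cfsg.Agent.FGB.L33

/-- Bijections fixing the identity and preserving commutation. -/
def comAut : Subgroup (Equiv.Perm SL3) where
  carrier := {σ | σ 1 = 1 ∧ ∀ x y, Commute (σ x) (σ y) ↔ Commute x y}
  one_mem' := ⟨rfl, fun _ _ => Iff.rfl⟩
  mul_mem' := by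
    rintro σ τ ⟨a, b⟩ ⟨c, d⟩
    exact ⟨by rw [Equiv.Perm.mul_apply, c, a], fun x y => by rw [Equiv.Perm.mul_apply, Equiv.Perm.mul_apply, b, d]⟩
  inv_mem' := by
    rintro σ ⟨a, b⟩
    refine ⟨Equiv.Perm.inv_eq_iff_eq.2 a.symm, fun x y => ?_⟩
    have h := b (σ⁻¹ x) (σ⁻¹ y)
    simp only [← Equiv.Perm.mul_apply, mul_inv_cancel, Equiv.Perm.one_apply] at h
    exact h.symm

theorem card_centralizer_image (σ : comAut) (x : SL3) :
    Nat.card (Subgroup.centralizer ({σ.1 x} : Set SL3)) = Nat.card (Subgroup.centralizer ({x} : Set SL3)) := by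
  symm
  refine Nat.card_congr (σ.1.subtypeEquiv fun y => ?_)
  rw [Subgroup.mem_centralizer_singleton_iff, Subgroup.mem_centralizer_singleton_iff]
  exact (σ.2.2 y x).symm

theorem image_tr (σ : comAut) {x : SL3} {f : Flag} (h : IsTr x f) : ∃ g, IsTr (σ.1 x) g := by
  obtain ⟨hx, hc⟩ := tr_iff.2 ⟨f, h⟩
  refine tr_iff.1 ⟨fun e => hx (σ.1.injective (e.trans σ.2.1.symm)), ?_⟩
  rw [card_centralizer_image]
  exact hc

/-- The transvections on a point or on a line. -/
def star (o : Obj) : Set SL3 := {x | ∃ f, IsTr x f ∧ on f o = true}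

theorem star_injective {o o' : Obj} (h : star o = star o') : o = o' := by
  refine on_inj o o' fun k => ?_
  obtain ⟨x, hx⟩ := exists_tr (flagOn o k)
  obtain ⟨f, hf, hfo⟩ : x ∈ star o' := h ▸ ⟨_, hx, flagOn_on o k⟩
  rw [tr_flag hx hf]
  exact hfo

theorem star_eq {x y : SL3} {f g : Flag} (hx : IsTr x f) (hy : IsTr y g) (ha : adj f g = true) (hne : f ≠ g) :
    star (common f g) = {z | (∃ h, IsTr z h) ∧ Commute z x ∧ Commute z y} := by
  ext z
  constructor
  · rintro ⟨h, hz, ho⟩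
    obtain ⟨h1, h2⟩ := (common_iff f g ha hne h).2 ho
    exact ⟨⟨h, hz⟩, (tr_commute hz hx).2 h1, (tr_commute hz hy).2 h2⟩
  · rintro ⟨⟨h, hz⟩, h1, h2⟩
    exact ⟨h, hz, (common_iff f g ha hne h).1 ⟨(tr_commute hz hx).1 h1, (tr_commute hz hy).1 h2⟩⟩

theorem exists_image (σ : comAut) (o : Obj) : ∃ o' : Obj, ∀ z, σ.1 z ∈ star o' ↔ z ∈ star o := by
  obtain ⟨x, hx⟩ := exists_tr (flagOn o 0)
  obtain ⟨y, hy⟩ := exists_tr (flagOn o 1)
  obtain ⟨f, hf⟩ := image_tr σ hx
  obtain ⟨g, hg⟩ := image_tr σ hy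
  have hadj : adj f g = true := (tr_commute hf hg).1 ((σ.2.2 x y).2 ((tr_commute hx hy).2 (flagOn_adj o)))
  have hne : f ≠ g := by
    rintro rfl
    obtain ⟨h, hh⟩ := twin _ _ (flagOn_ne o)
    obtain ⟨z, hz⟩ := exists_tr h
    obtain ⟨k, hk⟩ := image_tr σ hz
    refine hh ?_
    rw [← tr_commute hz hx, ← tr_commute hz hy, ← σ.2.2 z x, ← σ.2.2 z y, tr_commute hk hf, tr_commute hk hg]
  refine ⟨common f g, fun z => ?_⟩
  rw [star_eq hf hg hadj hne, show star o = star (common (flagOn o 0) (flagOn o 1)) by rw [common_flagOn],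
    star_eq hx hy (flagOn_adj o) (flagOn_ne o)]
  simp only [Set.mem_setOf_eq, σ.2.2]
  constructor
  · rintro ⟨⟨h, hh⟩, r⟩
    refine ⟨?_, r⟩
    have := image_tr σ⁻¹ hh
    simpa using this
  · rintro ⟨⟨h, hh⟩, r⟩
    exact ⟨image_tr σ hh, r⟩

/-- The image object. -/
noncomputable def move (σ : comAut) (o : Obj) : Obj := (exists_image σ o).choose

theorem move_spec (σ : comAut) (o : Obj) (z : SL3) : σ.1 z ∈ star (move σ o) ↔ z ∈ star o :=
  (exists_image σ o).choose_spec z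

theorem move_eq (σ : comAut) {o o' : Obj} (h : ∀ z, σ.1 z ∈ star o' ↔ z ∈ star o) : move σ o = o' := by
  refine star_injective (Set.ext fun w => ?_)
  obtain ⟨z, rfl⟩ := σ.1.surjective w
  rw [move_spec, h]

theorem move_one (o : Obj) : move 1 o = o := move_eq _ fun _ => Iff.rfl

theorem move_mul (σ τ : comAut) (o : Obj) : move (σ * τ) o = move σ (move τ o) := by
  refine move_eq _ fun z => ?_
  show σ.1 (τ.1 z) ∈ _ ↔ _
  rw [move_spec, move_spec]

noncomputable instance : MulAction comAut Obj where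
  smul := move
  one_smul := move_one
  mul_smul := move_mul

/-- The action on points and lines. -/
noncomputable def planeHom : comAut →* Equiv.Perm Obj := MulAction.toPermHom comAut Obj

theorem planeHom_apply (σ : comAut) (o : Obj) : planeHom σ o = move σ o := rfl

/-- Permutations of points and lines preserving incidence. -/
def incAut : Subgroup (Equiv.Perm Obj) where
  carrier := {π | ∀ o o', meets (π o) (π o') = meets o o'}
  one_mem' := fun _ _ => rfl
  mul_mem' := by intro π ρ a b o o'; rw [Equiv.Perm.mul_apply, Equiv.Perm.mul_apply, a, b]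
  inv_mem' := by
    intro π a o o'
    have h := a (π⁻¹ o) (π⁻¹ o')
    simp only [← Equiv.Perm.mul_apply, mul_inv_cancel, Equiv.Perm.one_apply] at h
    exact h.symm

theorem planeHom_mem (σ : comAut) : planeHom σ ∈ incAut := by
  intro o o'
  rw [Bool.eq_iff_iff, planeHom_apply, planeHom_apply, meets_iff, meets_iff]
  constructor
  · rintro ⟨g, h1, h2⟩
    obtain ⟨x, hx⟩ := exists_tr g
    obtain ⟨z, rfl⟩ := σ.1.surjective x
    obtain ⟨f, hf, hfo⟩ := (move_spec σ o z).1 ⟨g, hx, h1⟩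
    obtain ⟨f', hf', hfo'⟩ := (move_spec σ o' z).1 ⟨g, hx, h2⟩
    obtain rfl := tr_flag hf hf'
    exact ⟨f, hfo, hfo'⟩
  · rintro ⟨f, h1, h2⟩
    obtain ⟨z, hz⟩ := exists_tr f
    obtain ⟨g, hg, hgo⟩ := (move_spec σ o z).2 ⟨f, hz, h1⟩
    obtain ⟨g', hg', hgo'⟩ := (move_spec σ o' z).2 ⟨f, hz, h2⟩
    obtain rfl := tr_flag hg hg'
    exact ⟨g, hgo, hgo'⟩

/-- Incidence-preserving permutations keeping points and lines apart. -/
def colAut : Subgroup (Equiv.Perm Obj) where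
  carrier := {π | π ∈ incAut ∧ ∀ o, (π o).isLeft = o.isLeft}
  one_mem' := ⟨one_mem _, fun _ => rfl⟩
  mul_mem' := by
    rintro π ρ ⟨a, b⟩ ⟨c, d⟩
    exact ⟨mul_mem a c, fun o => by rw [Equiv.Perm.mul_apply, b, d]⟩
  inv_mem' := by
    rintro π ⟨a, b⟩
    refine ⟨inv_mem a, fun o => ?_⟩
    have h := b (π⁻¹ o)
    simp only [← Equiv.Perm.mul_apply, mul_inv_cancel, Equiv.Perm.one_apply] at h
    exact h.symm

theorem same_side {π : Equiv.Perm Obj} (h : π ∈ incAut) {o o' : Obj} (ho : o.isLeft = o'.isLeft) :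
    (π o).isLeft = (π o').isLeft := by
  obtain ⟨x, h1, h2, h3, h4⟩ := (side_iff o o').1 ho
  exact (side_iff _ _).2 ⟨π x, fun e => h1 (π.injective e), fun e => h2 (π.injective e), by rw [h, h3], by rw [h, h4]⟩

theorem side_flip {π : Equiv.Perm Obj} (h : π ∈ incAut) (hn : π ∉ colAut) (o : Obj) : (π o).isLeft = !o.isLeft := by
  by_contra hc
  have hc' : (π o).isLeft = o.isLeft := by revert hc; cases (π o).isLeft <;> cases o.isLeft <;> decide
  refine hn ⟨h, fun q => ?_⟩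
  by_cases hq : q.isLeft = o.isLeft
  · rw [same_side h hq, hc', hq]
  · by_contra hd
    have he : (π q).isLeft = (π o).isLeft := by
      rw [hc']; revert hq hd; cases (π q).isLeft <;> cases q.isLeft <;> cases o.isLeft <;> decide
    have h2 := same_side (inv_mem h) he
    simp only [← Equiv.Perm.mul_apply, inv_mul_cancel, Equiv.Perm.one_apply] at h2
    exact hq h2

theorem inv_mul_mem {π ρ : Equiv.Perm Obj} (hπ : π ∈ incAut) (hρ : ρ ∈ incAut) (hπ' : π ∉ colAut) (hρ' : ρ ∉ colAut) :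
    π * ρ ∈ colAut :=
  ⟨mul_mem hπ hρ, fun o => by rw [Equiv.Perm.mul_apply, side_flip hπ hπ', side_flip hρ hρ', Bool.not_not]⟩

theorem exists_point {π : Equiv.Perm Obj} (h : π ∈ colAut) (p : Fin 13) : ∃ q, π (Sum.inl p) = Sum.inl q := by
  have := h.2 (Sum.inl p)
  cases e : π (Sum.inl p) with
  | inl q => exact ⟨q, rfl⟩
  | inr l => rw [e] at this; exact Bool.noConfusion this

theorem exists_line {π : Equiv.Perm Obj} (h : π ∈ colAut) (l : Fin 13) : ∃ m, π (Sum.inr l) = Sum.inr m := by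
  have := h.2 (Sum.inr l)
  cases e : π (Sum.inr l) with
  | inl q => rw [e] at this; exact Bool.noConfusion this
  | inr m => exact ⟨m, rfl⟩

theorem inc_iff {π : Equiv.Perm Obj} (h : π ∈ colAut) {p l q m : Fin 13} (hp : π (Sum.inl p) = Sum.inl q)
    (hl : π (Sum.inr l) = Sum.inr m) : inc q m = inc p l := by
  have := h.1 (Sum.inl p) (Sum.inr l)
  rwa [hp, hl] at this

theorem agree_line {π ρ : Equiv.Perm Obj} (hπ : π ∈ colAut) (hρ : ρ ∈ colAut) {a b l : Fin 13} (hab : a ≠ b)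
    (ha : inc a l = true) (hb : inc b l = true) (ea : π (Sum.inl a) = ρ (Sum.inl a))
    (eb : π (Sum.inl b) = ρ (Sum.inl b)) : π (Sum.inr l) = ρ (Sum.inr l) := by
  obtain ⟨a', ha'⟩ := exists_point hπ a
  obtain ⟨b', hb'⟩ := exists_point hπ b
  obtain ⟨m, hm⟩ := exists_line hπ l
  obtain ⟨m', hm'⟩ := exists_line hρ l
  rw [hm, hm']
  congr 1
  refine line_unique a' b' (fun e => hab (Sum.inl_injective (π.injective (by rw [ha', hb', e])))) m m' ?_ ?_ ?_ ?_
  · rw [inc_iff hπ ha' hm, ha]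
  · rw [inc_iff hπ hb' hm, hb]
  · rw [inc_iff hρ (ea ▸ ha') hm', ha]
  · rw [inc_iff hρ (eb ▸ hb') hm', hb]

theorem agree_point {π ρ : Equiv.Perm Obj} (hπ : π ∈ colAut) (hρ : ρ ∈ colAut) {x l m : Fin 13} (hlm : l ≠ m)
    (hl : inc x l = true) (hm : inc x m = true) (el : π (Sum.inr l) = ρ (Sum.inr l))
    (em : π (Sum.inr m) = ρ (Sum.inr m)) : π (Sum.inl x) = ρ (Sum.inl x) := by
  obtain ⟨x', hx⟩ := exists_point hπ x
  obtain ⟨x'', hx'⟩ := exists_point hρ x
  obtain ⟨l', hl'⟩ := exists_line hπ l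
  obtain ⟨m', hm'⟩ := exists_line hπ m
  rw [hx, hx']
  congr 1
  refine meet_unique l' m' (fun e => hlm (Sum.inr_injective (π.injective (by rw [hl', hm', e])))) x' x'' ?_ ?_ ?_ ?_
  · rw [inc_iff hπ hx hl', hl]
  · rw [inc_iff hπ hx hm', hm]
  · rw [inc_iff hρ hx' (el ▸ hl'), hl]
  · rw [inc_iff hρ hx' (em ▸ hm'), hm]

theorem step {π ρ : Equiv.Perm Obj} (hπ : π ∈ colAut) (hρ : ρ ∈ colAut) (x a b c d : Fin 13)
    (key : ∃ l m : Fin 13, l ≠ m ∧ inc x l = true ∧ inc x m = true ∧ a ≠ b ∧ inc a l = true ∧ inc b l = true ∧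
      c ≠ d ∧ inc c m = true ∧ inc d m = true)
    (ea : π (Sum.inl a) = ρ (Sum.inl a)) (eb : π (Sum.inl b) = ρ (Sum.inl b)) (ec : π (Sum.inl c) = ρ (Sum.inl c))
    (ed : π (Sum.inl d) = ρ (Sum.inl d)) : π (Sum.inl x) = ρ (Sum.inl x) := by
  obtain ⟨l, m, h1, h2, h3, h4, h5, h6, h7, h8, h9⟩ := key
  exact agree_point hπ hρ h1 h2 h3 (agree_line hπ hρ h4 h5 h6 ea eb) (agree_line hπ hρ h7 h8 h9 ec ed)

theorem determined {π ρ : Equiv.Perm Obj} (hπ : π ∈ colAut) (hρ : ρ ∈ colAut)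
    (h0 : π (Sum.inl 0) = ρ (Sum.inl 0)) (h1 : π (Sum.inl 1) = ρ (Sum.inl 1))
    (h2 : π (Sum.inl 2) = ρ (Sum.inl 2)) (h5 : π (Sum.inl 5) = ρ (Sum.inl 5)) : π = ρ := by
  have h3 := step hπ hρ 3 0 1 2 5 (by decide +kernel) h0 h1 h2 h5
  have h8 := step hπ hρ 8 0 2 1 5 (by decide +kernel) h0 h2 h1 h5
  have h4 := step hπ hρ 4 0 5 1 2 (by decide +kernel) h0 h5 h1 h2
  have h9 := step hπ hρ 9 0 1 8 4 (by decide +kernel) h0 h1 h8 h4
  have h12 := step hπ hρ 12 0 2 5 9 (by decide +kernel) h0 h2 h5 h9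
  have h7 := step hπ hρ 7 0 5 1 12 (by decide +kernel) h0 h5 h1 h12
  have h10 := step hπ hρ 10 1 2 5 9 (by decide +kernel) h1 h2 h5 h9
  have h6 := step hπ hρ 6 0 10 1 5 (by decide +kernel) h0 h10 h1 h5
  have h11 := step hπ hρ 11 0 10 1 12 (by decide +kernel) h0 h10 h1 h12
  have hp : ∀ p, π (Sum.inl p) = ρ (Sum.inl p) := by
    intro p
    fin_cases p <;> assumption
  refine Equiv.ext fun o => ?_
  rcases o with p | l
  · exact hp p
  · have key : ∀ k : Fin 13, k ≠ k + 1 ∧ inc k k = true ∧ inc (k + 1) k = true := by decide +kernel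
    obtain ⟨k1, k2, k3⟩ := key l
    exact agree_line hπ hρ k1 k2 k3 (hp l) (hp (l + 1))

/-- The point under a permutation of points and lines. -/
def pt (π : Equiv.Perm Obj) (p : Fin 13) : Fin 13 := Sum.elim id id (π (Sum.inl p))

theorem col_image {π : Equiv.Perm Obj} (h : π ∈ colAut) (a b c : Fin 13) (hc : col a b c = false) :
    col (pt π a) (pt π b) (pt π c) = false := by
  rw [← Bool.not_eq_true, col_iff]
  rintro ⟨m, h1, h2, h3⟩
  obtain ⟨l, hl⟩ := exists_line (inv_mem h) m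
  have hl' : π (Sum.inr l) = Sum.inr m := by rw [← hl, ← Equiv.Perm.mul_apply, mul_inv_cancel, Equiv.Perm.one_apply]
  have key : ∀ p, inc (pt π p) m = inc p l := fun p => by
    obtain ⟨q, hq⟩ := exists_point h p
    rw [show pt π p = q by simp [pt, hq]]
    exact inc_iff h hq hl'
  rw [key] at h1 h2 h3
  rw [(col_iff a b c).2 ⟨l, h1, h2, h3⟩] at hc
  exact Bool.noConfusion hc

theorem card_colAut_le : Nat.card colAut ≤ 5616 := by
  classical
  haveI : Fintype colAut := Fintype.ofFinite _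
  rw [← card_quads, ← Fintype.card_coe, ← Nat.card_eq_fintype_card]
  refine Nat.card_le_card_of_injective (fun π => (⟨(((pt π.1 0, pt π.1 1), pt π.1 2), pt π.1 5), ?_⟩ : quads)) ?_
  · have hne : pt π.1 0 ≠ pt π.1 1 := by
      obtain ⟨q, hq⟩ := exists_point π.2 0
      obtain ⟨r, hr⟩ := exists_point π.2 1
      simp only [pt, hq, hr, Sum.elim_inl, id_eq]
      rintro rfl
      exact absurd (Sum.inl_injective (π.1.injective (hq.trans hr.symm))) (by decide)
    simp only [quads, Finset.mem_filter, Finset.mem_product, Finset.mem_univ, true_and, and_true, ne_eq]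
    refine ⟨⟨hne, col_image π.2 0 1 2 (by decide +kernel)⟩, col_image π.2 0 1 5 (by decide +kernel),
      col_image π.2 0 2 5 (by decide +kernel), col_image π.2 1 2 5 (by decide +kernel)⟩
  · intro π ρ h
    simp only [Subtype.mk.injEq, Prod.mk.injEq] at h
    obtain ⟨⟨⟨h0, h1⟩, h2⟩, h5⟩ := h
    have e : ∀ p, pt π.1 p = pt ρ.1 p → π.1 (Sum.inl p) = ρ.1 (Sum.inl p) := by
      intro p hp
      obtain ⟨q, hq⟩ := exists_point π.2 p
      obtain ⟨r, hr⟩ := exists_point ρ.2 p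
      simp only [pt, hq, hr, Sum.elim_inl, id_eq] at hp
      rw [hq, hr, hp]
    exact Subtype.ext (determined π.2 ρ.2 (e 0 h0) (e 1 h1) (e 2 h2) (e 5 h5))

/-- An element of the symmetry group acting trivially on the plane fixes or exchanges the transvections of each flag. -/
theorem sq_fixes {σ : comAut} (h : planeHom σ = 1) {x : SL3} {f : Flag} (hx : IsTr x f) : σ.1 (σ.1 x) = x := by
  have hmove : ∀ o, move σ o = o := fun o => by rw [← planeHom_apply, h]; rfl
  have same : ∀ {z : SL3}, IsTr z f → IsTr (σ.1 z) f := by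
    intro z hz
    have h1 := (move_spec σ (Sum.inl f.1) z).2 ⟨f, hz, (on_self f).1⟩
    have h2 := (move_spec σ (Sum.inr (ln f)) z).2 ⟨f, hz, (on_self f).2⟩
    rw [hmove] at h1 h2
    obtain ⟨g, hg, hg1⟩ := h1
    obtain ⟨g', hg', hg2⟩ := h2
    obtain rfl := tr_flag hg hg'
    rwa [on_pair f g hg1 hg2] at hg
  have two : ∀ {a b c : SL3}, IsTr a f → IsTr b f → IsTr c f → a ≠ b → c = a ∨ c = b := by
    rintro a b c ⟨s, hs, ha⟩ ⟨t, ht, hb⟩ ⟨u, hu, hc⟩ hab
    have key : ∀ s : Z3, s ≠ 0 → ∀ t : Z3, t ≠ 0 → ∀ u : Z3, u ≠ 0 → ¬ s = t → (u = s ∨ u = t) := by decide +kernel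
    rcases key s hs t ht u hu (fun e => hab (Subtype.ext (by rw [ha, hb, e]))) with e | e
    · exact Or.inl (Subtype.ext (by rw [ha, hc, e]))
    · exact Or.inr (Subtype.ext (by rw [hb, hc, e]))
  by_cases he : σ.1 x = x
  · rw [he, he]
  · rcases two hx (same hx) (same (same hx)) (Ne.symm he) with e | e
    · exact e
    · exact absurd (σ.1.injective e) he

end Cfsg.Agent.FGB.L33
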