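import Cfsg.Agent.Lib.FGB.L33Plane
import Mathlib

/-!
# Transvections and centralizers in the special linear group of dimension three over three elements
-/

set_option autoImplicit false
set_option linter.style.haveILetI false
set_option linter.unusedSectionVars false

namespace Cfsg.Agent.FGB.L33

abbrev Z3 := ZMod 3
abbrev Mat := Matrix (Fin 3) (Fin 3) Z3
abbrev SL3 := Matrix.SpecialLinearGroup (Fin 3) Z3
abbrev Vec := Fin 3 → Z3

/-- Thirteen points. -/
def P : Fin 13 → Vec := ![![1, 0, 0], ![0, 1, 0], ![0, 0, 1], ![1, 1, 0], ![0, 1, 1], ![1, 1, 1], ![1, 2, 1],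
  ![1, 2, 2], ![2, 0, 2], ![2, 1, 0], ![0, 2, 1], ![1, 1, 2], ![2, 0, 1]]

/-- Thirteen lines. -/
def L : Fin 13 → Vec := ![![0, 0, 1], ![1, 0, 0], ![1, 2, 0], ![1, 2, 1], ![0, 1, 2], ![1, 0, 2], ![1, 1, 0],
  ![1, 2, 2], ![1, 1, 2], ![1, 1, 1], ![0, 1, 1], ![1, 0, 1], ![0, 1, 0]]

/-- Rank-one matrix of a flag. -/
def rk (f : Flag) (s : Z3) : Mat := Matrix.vecMulVec (s • P f.1) (L (ln f))

/-- A transvection with the given centre and axis. -/
def IsTr (x : SL3) (f : Flag) : Prop := ∃ s : Z3, s ≠ 0 ∧ (x : Mat) = 1 + rk f s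

theorem rk_comm : ∀ f g : Flag, rk f 1 * rk g 1 = rk g 1 * rk f 1 ↔ adj f g = true := by decide +kernel

theorem rk_inj : ∀ (f g : Flag) (t : Z3), rk f 1 = rk g t → f = g := by decide +kernel

theorem classify : ∀ v : Vec, v ≠ 0 → ∀ φ : Vec, φ ≠ 0 → φ 0 * v 0 + φ 1 * v 1 + φ 2 * v 2 = 0 →
    ∃ f : Flag, ∃ s : Z3, s ≠ 0 ∧ Matrix.vecMulVec v φ = rk f s := by decide +kernel

/-- Triple product. -/
def det3 (a b c : Vec) : Z3 :=
  a 0 * (b 1 * c 2 - b 2 * c 1) - a 1 * (b 0 * c 2 - b 2 * c 0) + a 2 * (b 0 * c 1 - b 1 * c 0)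

theorem frame : ∀ (f : Flag) (s : Z3), s ≠ 0 → ∃ u : Vec,
    L (ln f) 0 * u 0 + L (ln f) 1 * u 1 + L (ln f) 2 * u 2 = 0 ∧ ∃ w : Vec,
    L (ln f) 0 * w 0 + L (ln f) 1 * w 1 + L (ln f) 2 * w 2 = 1 ∧ det3 (s • P f.1) u w = 1 := by decide +kernel

theorem dot_flag : ∀ (f : Flag) (s : Z3),
    L (ln f) 0 * (s • P f.1) 0 + L (ln f) 1 * (s • P f.1) 1 + L (ln f) 2 * (s • P f.1) 2 = 0 := by decide +kernel

theorem rk_smul (f : Flag) (s : Z3) : rk f s = s • rk f 1 := by
  simp [rk, Matrix.smul_vecMulVec]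

theorem tr_ne_one {x : SL3} {f : Flag} (h : IsTr x f) : x ≠ 1 := by
  obtain ⟨s, hs, hx⟩ := h
  rintro rfl
  have h0 : rk f s = 0 := by simpa using hx.symm
  rw [rk_smul, smul_eq_zero] at h0
  have := h0.resolve_left hs
  have key : ∀ g : Flag, rk g 1 ≠ 0 := by decide +kernel
  exact key f this

theorem tr_flag {x : SL3} {f g : Flag} (h : IsTr x f) (h' : IsTr x g) : f = g := by
  obtain ⟨s, hs, hx⟩ := h
  obtain ⟨t, ht, hx'⟩ := h'
  rw [hx] at hx'
  refine rk_inj f g (s⁻¹ * t) ?_
  rw [rk_smul g, ← smul_smul, ← rk_smul g, ← add_left_cancel hx']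
  conv_rhs => rw [rk_smul f, smul_smul, inv_mul_cancel₀ hs, one_smul]

theorem tr_commute {x y : SL3} {f g : Flag} (hx : IsTr x f) (hy : IsTr y g) :
    Commute x y ↔ adj f g = true := by
  obtain ⟨s, hs, hx⟩ := hx
  obtain ⟨t, ht, hy⟩ := hy
  rw [← rk_comm, commute_iff_eq, show x * y = y * x ↔ (x : Mat) * (y : Mat) = (y : Mat) * (x : Mat) from
    ⟨fun h => congrArg Subtype.val h, fun h => Subtype.ext h⟩, hx, hy, rk_smul f, rk_smul g]
  constructor
  · intro h
    have h2 : (s * t) • (rk f 1 * rk g 1) = (s * t) • (rk g 1 * rk f 1) := by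
      simp only [add_mul, mul_add, one_mul, mul_one, smul_mul_smul_comm] at h
      rw [mul_comm t s] at h
      linear_combination (norm := abel) h
    exact smul_right_injective _ (mul_ne_zero hs ht) h2
  · intro h
    simp only [add_mul, mul_add, one_mul, mul_one, smul_mul_smul_comm, h, mul_comm t s]
    abel

theorem card_SL3 : Nat.card SL3 = 5616 := by
  classical
  haveI : Nonempty (Fin 3) := ⟨0⟩
  have hGL : Nat.card (GL (Fin 3) Z3) = 11232 := by
    rw [Matrix.card_GL_field 3, ZMod.card]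
    decide
  let D : GL (Fin 3) Z3 →* Z3ˣ := Matrix.GeneralLinearGroup.det
  have hker : D.ker = (Matrix.SpecialLinearGroup.toGL (n := Fin 3) (R := Z3)).range := by
    ext g
    constructor
    · intro h
      exact ⟨⟨g.1, congrArg Units.val h⟩, Units.ext rfl⟩
    · rintro ⟨s, rfl⟩; exact Units.ext s.2
  have hsur : Function.Surjective D := by
    intro c
    let d : Fin 3 → Z3 := ![(c : Z3), 1, 1]
    have hM : (Matrix.diagonal d).det = c := by simp [d, Fin.prod_univ_three]
    exact ⟨Matrix.GeneralLinearGroup.mk'' (Matrix.diagonal d) (hM ▸ c.isUnit), Units.ext hM⟩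
  have hinj : Function.Injective (Matrix.SpecialLinearGroup.toGL (n := Fin 3) (R := Z3)) :=
    Matrix.SpecialLinearGroup.toGL_injective
  have h := D.ker.card_mul_index
  have hu : Nat.card Z3ˣ = 2 := by rw [Nat.card_eq_fintype_card]; decide
  rw [Subgroup.index_ker, MonoidHom.range_eq_top.2 hsur, Subgroup.card_top, hu, hker,
    ← Nat.card_congr (MonoidHom.ofInjective hinj).toEquiv, hGL] at h
  exact Nat.eq_of_mul_eq_mul_right (show 0 < 2 by norm_num) h

def e13 : SL3 := ⟨!![1, 0, 1; 0, 1, 0; 0, 0, 1], by decide +kernel⟩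
def tA : SL3 := ⟨!![1, 1, 0; 0, 1, 0; 0, 0, 1], by decide +kernel⟩
def tB : SL3 := ⟨!![1, 0, 0; 0, 1, 1; 0, 0, 1], by decide +kernel⟩
def c13 : SL3 := ⟨!![0, 0, 1; 1, 0, 1; 0, 1, 0], by decide +kernel⟩

/-- Upper unitriangular matrices. -/
def U : Subgroup SL3 where
  carrier := {x | x.1 1 0 = 0 ∧ x.1 2 0 = 0 ∧ x.1 2 1 = 0 ∧ x.1 0 0 = 1 ∧ x.1 1 1 = 1 ∧ x.1 2 2 = 1}
  one_mem' := by simp [Matrix.one_apply]
  mul_mem' := by
    rintro x y ⟨a, b, c, d, e, f⟩ ⟨a', b', c', d', e', f'⟩
    simp [Matrix.SpecialLinearGroup.coe_mul, Matrix.mul_apply, Fin.sum_univ_three, *]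
  inv_mem' := by
    rintro x ⟨a, b, c, d, e, f⟩
    simp [Matrix.SpecialLinearGroup.coe_inv, Matrix.adjugate_fin_three, *]

/-- An upper unitriangular matrix from its three entries. -/
def uMat (p : Z3 × Z3 × Z3) : SL3 := ⟨!![1, p.1, p.2.1; 0, 1, p.2.2; 0, 0, 1], by simp [Matrix.det_fin_three]⟩

theorem uMat_mem (p : Z3 × Z3 × Z3) : uMat p ∈ U := by
  show _ ∧ _ ∧ _ ∧ _ ∧ _ ∧ _
  simp [uMat]

theorem exists_uMat {x : SL3} (hx : x ∈ U) : ∃ p, uMat p = x := by
  obtain ⟨a, b, c, d, e, f⟩ := hx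
  refine ⟨(x.1 0 1, x.1 0 2, x.1 1 2), Subtype.ext ?_⟩
  ext i j
  fin_cases i <;> fin_cases j <;> simp [uMat, *]

theorem card_U : Nat.card U = 27 := by
  rw [← Nat.card_congr (Equiv.ofBijective (fun p => (⟨uMat p, uMat_mem p⟩ : U)) ⟨?_, ?_⟩)]
  · simp [Nat.card_prod]
  · intro p q h
    have h' : (uMat p).1 = (uMat q).1 := congrArg (fun z : U => (z : SL3).1) h
    refine Prod.ext ?_ (Prod.ext ?_ ?_)
    · simpa [uMat] using congrFun (congrFun h' 0) 1
    · simpa [uMat] using congrFun (congrFun h' 0) 2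
    · simpa [uMat] using congrFun (congrFun h' 1) 2
  · rintro ⟨x, hx⟩
    obtain ⟨p, rfl⟩ := exists_uMat hx
    exact ⟨p, rfl⟩

theorem U_centralizes {x : SL3} (hx : x ∈ U) : Commute e13 x := by
  obtain ⟨p, rfl⟩ := exists_uMat hx
  refine Subtype.ext ?_
  show e13.1 * (uMat p).1 = (uMat p).1 * e13.1
  ext i j
  fin_cases i <;> fin_cases j <;> simp [e13, uMat, Matrix.mul_apply, Fin.sum_univ_three] <;> ring

/-- Only the root elements centralize both elementary generators. -/
theorem centralizer_tA_tB {x : SL3} (ha : Commute x tA) (hb : Commute x tB) :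
    ∃ b : Z3, (x : Mat) = !![1, 0, b; 0, 1, 0; 0, 0, 1] := by
  have hA : (x : Mat) * tA.1 = tA.1 * x.1 := congrArg Subtype.val ha.eq
  have hB : (x : Mat) * tB.1 = tB.1 * x.1 := congrArg Subtype.val hb.eq
  have a00 := congrFun (congrFun hA 0) 0
  have a01 := congrFun (congrFun hA 0) 1
  have a02 := congrFun (congrFun hA 0) 2
  have a21 := congrFun (congrFun hA 2) 1
  have b02 := congrFun (congrFun hB 0) 2
  have b11 := congrFun (congrFun hB 1) 1
  have b12 := congrFun (congrFun hB 1) 2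
  simp [tA, tB, Matrix.mul_apply, Fin.sum_univ_three] at a00 a01 a02 a21 b02 b11 b12
  have e21 : x.1 2 1 = 0 := b11
  have e01 : x.1 0 1 = 0 := b02
  have hd : x.1.det = 1 := x.2
  have h11 : x.1 1 1 = x.1 0 0 := by linear_combination -a01
  have h22 : x.1 2 2 = x.1 0 0 := by rw [← h11]; linear_combination -b12
  rw [Matrix.det_fin_three] at hd
  simp [a00, a02, a21, e21, e01, h11, h22] at hd
  have key : ∀ a : Z3, a * a * a = 1 → a = 1 := by decide
  have h00 : x.1 0 0 = 1 := key _ hd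
  refine ⟨x.1 0 2, ?_⟩
  ext i j
  fin_cases i <;> fin_cases j <;> simp [a00, a02, a21, e21, e01, h11, h22, h00]

/-- Elements whose centralizer contains a Sylow 3-subgroup are transvections, and conversely. -/
theorem tr_iff {x : SL3} :
    (x ≠ 1 ∧ 27 ∣ Nat.card (Subgroup.centralizer ({x} : Set SL3))) ↔ ∃ f, IsTr x f := by
  classical
  constructor
  · rintro ⟨hx, h27⟩
    haveI : Fact (Nat.Prime 3) := ⟨Nat.prime_three⟩
    obtain ⟨P', hP'⟩ := Sylow.exists_subgroup_card_pow_prime 3 (n := 3) (show (3 : ℕ) ^ 3 ∣ _ from h27)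
    have hmap : Nat.card (P'.map (Subgroup.centralizer ({x} : Set SL3)).subtype) = 27 := by
      rw [← Nat.card_congr (P'.equivMapOfInjective _ (Subgroup.subtype_injective _)).toEquiv, hP']; norm_num
    have hfac : 27 = 3 ^ (Nat.card SL3).factorization 3 := by
      rw [card_SL3, show (5616 : ℕ) = 3 ^ 3 * 208 by norm_num, Nat.factorization_mul (by norm_num) (by norm_num),
        Finsupp.add_apply, Nat.factorization_pow_self Nat.prime_three, Nat.factorization_eq_zero_of_not_dvd (by norm_num)]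
      norm_num
    let P₁ : Sylow 3 SL3 := Sylow.ofCard (P'.map (Subgroup.centralizer ({x} : Set SL3)).subtype) (hmap.trans hfac)
    let Q : Sylow 3 SL3 := Sylow.ofCard U (card_U.trans hfac)
    obtain ⟨g, hg⟩ := MulAction.exists_smul_eq SL3 Q P₁
    have hcomm : ∀ u ∈ U, Commute (g⁻¹ * x * g) u := by
      intro u hu
      have hmem : g * u * g⁻¹ ∈ (P₁ : Subgroup SL3) := by
        rw [← hg, Sylow.coe_subgroup_smul]
        exact ⟨u, hu, rfl⟩
      obtain ⟨⟨c, hc⟩, -, hce⟩ := hmem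
      have hcx : c * x = x * c := Subgroup.mem_centralizer_singleton_iff.1 hc
      have hce' : c = g * u * g⁻¹ := hce
      rw [hce'] at hcx
      calc g⁻¹ * x * g * u = g⁻¹ * (x * (g * u * g⁻¹)) * g := by group
        _ = g⁻¹ * (g * u * g⁻¹ * x) * g := by rw [hcx]
        _ = u * (g⁻¹ * x * g) := by group
    obtain ⟨b, hb⟩ := centralizer_tA_tB (hcomm tA (by show _ ∧ _ ∧ _ ∧ _ ∧ _ ∧ _; decide +kernel))
      (hcomm tB (by show _ ∧ _ ∧ _ ∧ _ ∧ _ ∧ _; decide +kernel))
    have hy : (g⁻¹ * x * g).1 = 1 + Matrix.vecMulVec (b • ![1, 0, 0] : Vec) (![0, 0, 1] : Vec) := by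
      rw [hb]
      ext i j
      fin_cases i <;> fin_cases j <;> simp [Matrix.vecMulVec_apply]
    set v : Vec := g.1.mulVec (b • ![1, 0, 0]) with hv
    set φ : Vec := Matrix.vecMul ![0, 0, 1] (g⁻¹).1 with hφ
    have hgg : g.1 * (g⁻¹).1 = 1 := congrArg Subtype.val (mul_inv_cancel g)
    have hgg' : (g⁻¹).1 * g.1 = 1 := congrArg Subtype.val (inv_mul_cancel g)
    have hx' : x.1 = 1 + Matrix.vecMulVec v φ := by
      have e : x = g * (g⁻¹ * x * g) * g⁻¹ := by group
      rw [e, Matrix.SpecialLinearGroup.coe_mul, Matrix.SpecialLinearGroup.coe_mul, hy, mul_add, add_mul, mul_one, hgg,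
        Matrix.mul_vecMulVec, Matrix.vecMulVec_mul]
    have hne : Matrix.vecMulVec v φ ≠ 0 := fun h => hx (Subtype.ext (by rw [hx', h, add_zero]; rfl))
    have hdot : φ 0 * v 0 + φ 1 * v 1 + φ 2 * v 2 = 0 := by
      have : φ ⬝ᵥ v = 0 := by
        rw [hφ, hv, ← Matrix.dotProduct_mulVec, Matrix.mulVec_mulVec, hgg', Matrix.one_mulVec]
        simp [dotProduct, Fin.sum_univ_three]
      simpa [dotProduct, Fin.sum_univ_three] using this
    obtain ⟨f, s, hs, hfs⟩ := classify v (fun h => hne (by rw [h]; exact Matrix.zero_vecMulVec φ)) φ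
      (fun h => hne (by rw [h]; exact Matrix.vecMulVec_zero v)) hdot
    exact ⟨f, s, hs, by rw [hx', hfs]⟩
  · rintro ⟨f, hf⟩
    refine ⟨tr_ne_one hf, ?_⟩
    obtain ⟨s, hs, hx⟩ := hf
    obtain ⟨u, hu, w, hw, hd⟩ := frame f s hs
    have hdv := dot_flag f s
    set v : Vec := s • P f.1 with hv
    set φ : Vec := L (ln f) with hφ
    let g : SL3 := ⟨!![v 0, u 0, w 0; v 1, u 1, w 1; v 2, u 2, w 2], by
      rw [← hd, Matrix.det_fin_three]
      simp [det3]
      ring⟩
    have hxg : x * g = g * e13 := by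
      refine Subtype.ext ?_
      rw [Matrix.SpecialLinearGroup.coe_mul, Matrix.SpecialLinearGroup.coe_mul, hx, rk, ← hv, ← hφ]
      simp only [g, e13]
      rw [add_mul, one_mul, Matrix.vecMulVec_mul]
      have e : Matrix.vecMul φ !![v 0, u 0, w 0; v 1, u 1, w 1; v 2, u 2, w 2] = ![0, 0, 1] := by
        funext j
        fin_cases j <;> simp [Matrix.vecMul, dotProduct, Fin.sum_univ_three]
        · exact hdv
        · exact hu
        · exact hw
      rw [e]
      ext i j
      fin_cases i <;> fin_cases j <;> simp [Matrix.mul_apply, Fin.sum_univ_three, Matrix.vecMulVec_apply] <;> ring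
    have hle : U.map (MulAut.conj g).toMonoidHom ≤ Subgroup.centralizer ({x} : Set SL3) := by
      rintro _ ⟨z, hz, rfl⟩
      refine Subgroup.mem_centralizer_singleton_iff.2 ?_
      have hc := (U_centralizes hz).eq
      have e : x = g * e13 * g⁻¹ := by rw [← hxg]; group
      show g * z * g⁻¹ * x = x * (g * z * g⁻¹)
      rw [e]
      calc g * z * g⁻¹ * (g * e13 * g⁻¹) = g * (z * e13) * g⁻¹ := by group
        _ = g * (e13 * z) * g⁻¹ := by rw [hc]
        _ = g * e13 * g⁻¹ * (g * z * g⁻¹) := by group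
    have h := Subgroup.card_dvd_of_le hle
    rwa [← Nat.card_congr (U.equivMapOfInjective _ (MulEquiv.injective (MulAut.conj g))).toEquiv, card_U] at h

theorem exists_tr (f : Flag) : ∃ x : SL3, IsTr x f := by
  have key : ∀ g : Flag, (1 + rk g 1).det = 1 := by decide +kernel
  exact ⟨⟨1 + rk f 1, key f⟩, 1, one_ne_zero, rfl⟩

/-- Nothing but the identity commutes with all transvections. -/
theorem eq_one_of_commute {x : SL3} (h : ∀ y f, IsTr y f → Commute x y) : x = 1 := by
  obtain ⟨b, hb⟩ := centralizer_tA_tB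
    (h tA (0, 1) (by unfold IsTr; decide +kernel)) (h tB (1, 1) (by unfold IsTr; decide +kernel))
  by_contra hx
  have hb0 : b ≠ 0 := fun h0 => hx (Subtype.ext (by
    rw [hb, h0]; ext i j; fin_cases i <;> fin_cases j <;> rfl))
  have htr : ∃ f, IsTr x f := by
    have key : ∀ c : Z3, c ≠ 0 → ∃ f : Flag, ∃ s : Z3, s ≠ 0 ∧ (!![1, 0, c; 0, 1, 0; 0, 0, 1] : Mat) = 1 + rk f s := by
      decide +kernel
    obtain ⟨f, s, hs, e⟩ := key b hb0
    exact ⟨f, s, hs, hb.trans e⟩
  obtain ⟨f, hf⟩ := htr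
  obtain ⟨g, hg⟩ := far f
  obtain ⟨y, hy⟩ := exists_tr g
  have := (tr_commute hf hy).1 (h y g hy)
  rw [hg] at this
  exact Bool.noConfusion this

theorem center_eq_bot : Subgroup.center SL3 = ⊥ :=
  (Subgroup.eq_bot_iff_forall _).2 fun x hx => eq_one_of_commute fun y _ _ => (Subgroup.mem_center_iff.1 hx y).symm

theorem card_centralizer_thirteen : Nat.card (Subgroup.centralizer ({c13} : Set SL3)) = 13 := by
  classical
  haveI : Fintype (Subgroup.centralizer ({c13} : Set SL3)) := Fintype.ofFinite _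
  let F : Finset Vec := Finset.univ.filter fun c => det3 c ![c 2, c 0 + c 2, c 1] ![c 1, c 2 + c 1, c 0 + c 2] = 1
  have hF : F.card = 13 := by
    have : (Finset.univ.filter fun c : Vec =>
        det3 c ![c 2, c 0 + c 2, c 1] ![c 1, c 2 + c 1, c 0 + c 2] = 1).card = 13 := by decide +kernel
    exact this
  have hle : Nat.card (Subgroup.centralizer ({c13} : Set SL3)) ≤ 13 := by
    rw [← hF, ← Fintype.card_coe, ← Nat.card_eq_fintype_card]
    have hform : ∀ y : Subgroup.centralizer ({c13} : Set SL3),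
        ((y : SL3).1 0 1 = (y : SL3).1 2 0 ∧ (y : SL3).1 1 1 = (y : SL3).1 0 0 + (y : SL3).1 2 0 ∧
          (y : SL3).1 2 1 = (y : SL3).1 1 0) ∧
        ((y : SL3).1 0 2 = (y : SL3).1 1 0 ∧ (y : SL3).1 1 2 = (y : SL3).1 2 0 + (y : SL3).1 1 0 ∧
          (y : SL3).1 2 2 = (y : SL3).1 0 0 + (y : SL3).1 2 0) := by
      intro y
      have e : (y : SL3).1 * c13.1 = c13.1 * (y : SL3).1 :=
        congrArg Subtype.val
          (show (y : SL3) * c13 = c13 * (y : SL3) from Subgroup.mem_centralizer_singleton_iff.1 y.2)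
      have e00 := congrFun (congrFun e 0) 0
      have e10 := congrFun (congrFun e 1) 0
      have e20 := congrFun (congrFun e 2) 0
      have e01 := congrFun (congrFun e 0) 1
      have e11 := congrFun (congrFun e 1) 1
      have e21 := congrFun (congrFun e 2) 1
      simp [c13, Matrix.mul_apply, Fin.sum_univ_three] at e00 e10 e20 e01 e11 e21
      refine ⟨⟨e00, e10, e20⟩, ?_, ?_, ?_⟩
      · linear_combination e01 + e20
      · linear_combination e11 + e00 + e20
      · linear_combination e21 + e10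
    refine Nat.card_le_card_of_injective (fun y => (⟨fun i => (y : SL3).1 i 0, Finset.mem_filter.2 ⟨Finset.mem_univ _, ?_⟩⟩ : F)) ?_
    · obtain ⟨⟨a, b, c⟩, a', b', c'⟩ := hform y
      have hd : (y : SL3).1.det = 1 := (y : SL3).2
      rw [Matrix.det_fin_three, a, b, c, a', b', c'] at hd
      refine Eq.trans ?_ hd
      simp [det3]
      ring
    · intro y y' h
      have h0 : ∀ i, (y : SL3).1 i 0 = (y' : SL3).1 i 0 := fun i => congrFun (congrArg Subtype.val h) i
      obtain ⟨⟨a, b, c⟩, a', b', c'⟩ := hform y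
      obtain ⟨⟨A, B, C⟩, A', B', C'⟩ := hform y'
      refine Subtype.ext (Subtype.ext ?_)
      ext i j
      fin_cases i <;> fin_cases j <;> simp [a, b, c, a', b', c', A, B, C, A', B', C', h0]
  haveI : Fact (Nat.Prime 13) := ⟨by norm_num⟩
  have ho : orderOf c13 = 13 := orderOf_eq_prime (by decide +kernel) (by decide +kernel)
  have hge := Nat.le_of_dvd Nat.card_pos
    (ho ▸ Subgroup.orderOf_dvd_natCard (Subgroup.centralizer ({c13} : Set SL3)) (Subgroup.mem_centralizer_singleton_iff.2 rfl))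
  omega

/-- No nontrivial element has centralizer order divisible by 26. -/
theorem not_dvd_twentysix {x : SL3} (hx : x ≠ 1) : ¬ 26 ∣ Nat.card (Subgroup.centralizer ({x} : Set SL3)) := by
  classical
  intro h
  haveI : Fact (Nat.Prime 13) := ⟨by norm_num⟩
  obtain ⟨a, ha⟩ := exists_prime_orderOf_dvd_card' (G := Subgroup.centralizer ({x} : Set SL3)) 13
    (dvd_trans (by norm_num) h)
  have hao : orderOf (a : SL3) = 13 := by rw [Subgroup.orderOf_coe, ha]
  have hax : (a : SL3) * x = x * a := Subgroup.mem_centralizer_singleton_iff.1 a.2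
  have hC : ∀ b : SL3, orderOf b = 13 → Nat.card (Subgroup.centralizer ({b} : Set SL3)) = 13 := by
    intro b hb
    have hfac : 13 = 13 ^ (Nat.card SL3).factorization 13 := by
      rw [card_SL3, show (5616 : ℕ) = 13 ^ 1 * 432 by norm_num, Nat.factorization_mul (by norm_num) (by norm_num),
        Finsupp.add_apply, Nat.factorization_pow_self (by norm_num : Nat.Prime 13),
        Nat.factorization_eq_zero_of_not_dvd (by norm_num)]
      norm_num
    have ho : orderOf c13 = 13 := orderOf_eq_prime (by decide +kernel) (by decide +kernel)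
    obtain ⟨g, hg⟩ := MulAction.exists_smul_eq SL3 (Sylow.ofCard (Subgroup.zpowers b) (by rw [Nat.card_zpowers, hb]; exact hfac))
      (Sylow.ofCard (Subgroup.zpowers c13) (by rw [Nat.card_zpowers, ho]; exact hfac))
    have hmem : g * b * g⁻¹ ∈ Subgroup.zpowers c13 := by
      have := congrArg (fun S : Sylow 13 SL3 => (S : Subgroup SL3)) hg
      simp only [Sylow.coe_subgroup_smul] at this
      have hb' : g * b * g⁻¹ ∈ (Subgroup.zpowers b).map (MulAut.conj g).toMonoidHom := ⟨b, Subgroup.mem_zpowers b, rfl⟩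
      exact (SetLike.ext_iff.1 this (g * b * g⁻¹)).1 hb'
    have hgen : Subgroup.zpowers (g * b * g⁻¹) = Subgroup.zpowers c13 :=
      Subgroup.eq_of_le_of_card_ge (Subgroup.zpowers_le.2 hmem) (by
        rw [Nat.card_zpowers, Nat.card_zpowers, ho, show g * b * g⁻¹ = MulAut.conj g b from rfl, MulEquiv.orderOf_eq, hb])
    rw [← card_centralizer_thirteen]
    refine Nat.card_congr ((MulAut.conj g).toEquiv.subtypeEquiv fun z => ?_)
    rw [Subgroup.mem_centralizer_singleton_iff, Subgroup.mem_centralizer_singleton_iff]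
    show _ ↔ MulAut.conj g z * c13 = c13 * MulAut.conj g z
    constructor
    · intro hz
      have hz' : Commute (MulAut.conj g z) (g * b * g⁻¹) := (show Commute z b from hz).map (MulAut.conj g).toMonoidHom
      obtain ⟨i, hi⟩ := Subgroup.mem_zpowers_iff.1 (hgen.symm ▸ Subgroup.mem_zpowers c13)
      rw [← hi]
      exact (hz'.zpow_right i).eq
    · intro hz
      obtain ⟨i, hi⟩ := Subgroup.mem_zpowers_iff.1 hmem
      have hz' : Commute (MulAut.conj g z) (MulAut.conj g b) := by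
        rw [show MulAut.conj g b = g * b * g⁻¹ from rfl, ← hi]
        exact (show Commute (MulAut.conj g z) c13 from hz).zpow_right i
      exact (MulAut.conj g).injective (by simpa using hz'.eq)
  have hxo : orderOf x = 13 := by
    have h1 := Subgroup.orderOf_dvd_natCard _ (Subgroup.mem_centralizer_singleton_iff.2 hax.symm :
      x ∈ Subgroup.centralizer ({(a : SL3)} : Set SL3))
    rw [hC _ hao] at h1
    exact ((Nat.dvd_prime (by norm_num)).1 h1).resolve_left fun h' => hx (orderOf_eq_one_iff.1 h')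
  rw [hC x hxo] at h
  norm_num at h

theorem isSimple : IsSimpleGroup (Matrix.ProjectiveSpecialLinearGroup (Fin 3) Z3) →
    IsSimpleGroup SL3 := by
  intro h
  have hinj : Function.Injective (QuotientGroup.mk' (Subgroup.center SL3)) := by
    rw [← MonoidHom.ker_eq_bot_iff, QuotientGroup.ker_mk', center_eq_bot]
  exact (MulEquiv.ofBijective _ ⟨hinj, QuotientGroup.mk'_surjective _⟩).isSimpleGroup

end Cfsg.Agent.FGB.L33
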