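import Mathlib

/-!
# The projective plane of order three on thirteen cyclically numbered points
-/

set_option autoImplicit false

namespace Cfsg.Agent.FGB.L33

/-- The perfect difference set. -/
def diff : Fin 4 → Fin 13 := ![0, 1, 3, 9]

/-- Incidence of a point and a line. -/
def inc (p l : Fin 13) : Bool := p - l == 0 || p - l == 1 || p - l == 3 || p - l == 9

/-- A flag: a point and one of the four lines through it. -/
abbrev Flag := Fin 13 × Fin 4

/-- The line of a flag. -/
def ln (f : Flag) : Fin 13 := f.1 - diff f.2

/-- Points and lines together. -/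
abbrev Obj := Fin 13 ⊕ Fin 13

/-- A flag lies on each of its two members. -/
def on (f : Flag) : Obj → Bool := Sum.elim (fun p => f.1 == p) (fun l => ln f == l)

/-- Two flags with a common member. -/
def adj (f g : Flag) : Bool := f.1 == g.1 || ln f == ln g

/-- The common member of two adjacent flags. -/
def common (f g : Flag) : Obj := if f.1 = g.1 then Sum.inl f.1 else Sum.inr (ln f)

/-- Two flags on an object. -/
def flagOn : Obj → Fin 4 → Flag := Sum.elim (fun p k => (p, k)) (fun l k => (l + diff k, k))

/-- Two objects with a flag in common: equal or incident. -/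
def meets : Obj → Obj → Bool
  | .inl p, .inl q => p == q
  | .inr l, .inr m => l == m
  | .inl p, .inr l => inc p l
  | .inr l, .inl p => inc p l

theorem common_iff : ∀ f g : Flag, adj f g = true → f ≠ g → ∀ h : Flag,
    ((adj h f = true ∧ adj h g = true) ↔ on h (common f g) = true) := by decide +kernel

theorem twin : ∀ f g : Flag, f ≠ g → ∃ h : Flag, ¬ (adj h f = true ↔ adj h g = true) := by decide +kernel

theorem flagOn_on : ∀ (o : Obj) (k : Fin 4), on (flagOn o k) o = true := by decide +kernel

theorem flagOn_ne : ∀ o : Obj, flagOn o 0 ≠ flagOn o 1 := by decide +kernel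

theorem flagOn_adj : ∀ o : Obj, adj (flagOn o 0) (flagOn o 1) = true := by decide +kernel

theorem common_flagOn : ∀ o : Obj, common (flagOn o 0) (flagOn o 1) = o := by decide +kernel

theorem on_inj : ∀ o o' : Obj, (∀ k : Fin 4, on (flagOn o k) o' = true) → o = o' := by decide +kernel

theorem meets_iff : ∀ o o' : Obj, meets o o' = true ↔ ∃ f : Flag, on f o = true ∧ on f o' = true := by decide +kernel

theorem on_pair : ∀ f g : Flag, on g (Sum.inl f.1) = true → on g (Sum.inr (ln f)) = true → g = f := by decide +kernel

theorem on_self : ∀ f : Flag, on f (Sum.inl f.1) = true ∧ on f (Sum.inr (ln f)) = true := by decide +kernel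

theorem far : ∀ f : Flag, ∃ g : Flag, adj f g = false := by decide +kernel

theorem side_iff : ∀ o o' : Obj,
    (o.isLeft = o'.isLeft ↔ ∃ x : Obj, x ≠ o ∧ x ≠ o' ∧ meets x o = true ∧ meets x o' = true) := by decide +kernel

theorem meet_unique : ∀ l m : Fin 13, l ≠ m → ∀ p q : Fin 13,
    inc p l = true → inc p m = true → inc q l = true → inc q m = true → p = q := by decide +kernel

theorem line_unique : ∀ p q : Fin 13, p ≠ q → ∀ l m : Fin 13,
    inc p l = true → inc q l = true → inc p m = true → inc q m = true → l = m := by decide +kernel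

/-- Three points on a line. -/
def col (a b c : Fin 13) : Bool := (List.finRange 13).any fun l => inc a l && inc b l && inc c l

/-- Ordered quadruples with no three points on a line. -/
def quads : Finset (((Fin 13 × Fin 13) × Fin 13) × Fin 13) :=
  ((((Finset.univ.filter fun x : Fin 13 × Fin 13 => x.1 ≠ x.2) ×ˢ Finset.univ).filter
      fun x => col x.1.1 x.1.2 x.2 = false) ×ˢ Finset.univ).filter
    fun x => col x.1.1.1 x.1.1.2 x.2 = false ∧ col x.1.1.1 x.1.2 x.2 = false ∧ col x.1.1.2 x.1.2 x.2 = false

theorem card_quads : quads.card = 5616 := by decide +kernel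

theorem col_iff : ∀ a b c : Fin 13, col a b c = true ↔ ∃ l, inc a l = true ∧ inc b l = true ∧ inc c l = true := by
  decide +kernel

end Cfsg.Agent.FGB.L33
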