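import Cfsg.Agent.Lib.FGB.L33Aut

/-!
# Recognition of the group of order 5616 from its commuting relation
-/

set_option autoImplicit false
set_option linter.style.haveILetI false
set_option linter.unusedSectionVars false

namespace Cfsg.Agent.FGB.L33

variable {G : Type*} [Group G] [Finite G]

/-- Conjugation in `G` transported along a commutation-preserving bijection. -/
noncomputable def transport (g : G ≃ SL3) (h1 : g 1 = 1) (hc : ∀ x y, Commute (g x) (g y) ↔ Commute x y) :
    G →* comAut where
  toFun h := ⟨g.permCongr (MulAut.conj h).toEquiv, by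
    constructor
    · rw [Equiv.permCongr_apply, show g.symm 1 = 1 by rw [← h1, Equiv.symm_apply_apply]]
      show g (MulAut.conj h 1) = 1
      rw [map_one, h1]
    · intro x y
      rw [Equiv.permCongr_apply, Equiv.permCongr_apply, hc]
      show Commute (MulAut.conj h (g.symm x)) (MulAut.conj h (g.symm y)) ↔ _
      rw [commute_map_iff (MulAut.conj h).injective, ← hc, Equiv.apply_symm_apply, Equiv.apply_symm_apply]⟩
  map_one' := Subtype.ext (Equiv.ext fun x => by simp [Equiv.permCongr_apply])
  map_mul' a b := Subtype.ext (Equiv.ext fun x => by simp [Equiv.permCongr_apply, mul_assoc])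

theorem transport_apply (g : G ≃ SL3) (h1 : g 1 = 1) (hc : ∀ x y, Commute (g x) (g y) ↔ Commute x y) (h y : G) :
    (transport g h1 hc h).1 (g y) = g (h * y * h⁻¹) := by
  show g ((MulAut.conj h) (g.symm (g y))) = _
  rw [Equiv.symm_apply_apply]
  rfl

/-- The action of `G` on points and lines. -/
noncomputable def act (g : G ≃ SL3) (h1 : g 1 = 1) (hc : ∀ x y, Commute (g x) (g y) ↔ Commute x y) :
    G →* Equiv.Perm Obj := planeHom.comp (transport g h1 hc)

theorem act_mem (g : G ≃ SL3) (h1 : g 1 = 1) (hc : ∀ x y, Commute (g x) (g y) ↔ Commute x y) (h : G) :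
    act g h1 hc h ∈ incAut := planeHom_mem _

theorem act_injective (g : G ≃ SL3) (h1 : g 1 = 1) (hc : ∀ x y, Commute (g x) (g y) ↔ Commute x y) :
    Function.Injective (act g h1 hc) := by
  classical
  rw [← MonoidHom.ker_eq_bot_iff]
  set K := (act g h1 hc).ker with hK
  have hG : Nat.card G = 5616 := (Nat.card_congr g).trans card_SL3
  have hsq : ∀ k : K, k * k = 1 := by
    rintro ⟨k, hk⟩
    refine Subtype.ext (g.injective ?_)
    show g (k * k) = g 1
    rw [h1]
    refine eq_one_of_commute fun y f hy => ?_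
    obtain ⟨x, rfl⟩ := g.surjective y
    rw [hc]
    have e := sq_fixes (σ := transport g h1 hc k) hk hy
    rw [transport_apply, transport_apply] at e
    have e' : k * (k * x * k⁻¹) * k⁻¹ = x := g.injective e
    show k * k * x = x * (k * k)
    calc k * k * x = k * (k * x * k⁻¹) * k⁻¹ * (k * k) := by group
      _ = x * (k * k) := by rw [e']
  haveI : Fact (Nat.Prime 2) := ⟨Nat.prime_two⟩
  have hp : IsPGroup 2 K := fun k => ⟨1, by rw [pow_one, pow_two]; exact hsq k⟩
  obtain ⟨n, hn⟩ := IsPGroup.iff_card.1 hp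
  have hn4 : n ≤ 4 := by
    have hd := Subgroup.card_subgroup_dvd_card K
    rw [hn, hG] at hd
    by_contra hlt
    have := (pow_dvd_pow 2 (show 5 ≤ n by omega)).trans hd
    norm_num at this
  by_contra hbot
  have hn0 : n ≠ 0 := by
    rintro rfl
    exact hbot (Subgroup.eq_bot_of_card_eq _ hn)
  haveI : Fact (Nat.Prime 13) := ⟨by norm_num⟩
  obtain ⟨z, hz⟩ := exists_prime_orderOf_dvd_card' (G := G) 13 (by rw [hG]; norm_num)
  letI : MulAction (Subgroup.zpowers z) K :=
    MulAction.compHom K ((MulAut.conjNormal (H := K)).comp (Subgroup.zpowers z).subtype)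
  have hmod := (IsPGroup.of_card (n := 1) (p := 13) (G := Subgroup.zpowers z)
    (by rw [Nat.card_zpowers, hz, pow_one])).card_modEq_card_fixedPoints K
  obtain ⟨k, hk, hk1⟩ : ∃ k ∈ MulAction.fixedPoints (Subgroup.zpowers z) K, k ≠ 1 := by
    by_contra! hall
    have e : Nat.card (MulAction.fixedPoints (Subgroup.zpowers z) K) = 1 := by
      rw [Nat.card_eq_one_iff_unique]
      exact ⟨⟨fun a b => Subtype.ext ((hall _ a.2).trans (hall _ b.2).symm)⟩, ⟨⟨1, fun m => map_one (MulAut.conjNormal (H := K) (m : G))⟩⟩⟩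
    rw [e, hn, Nat.ModEq] at hmod
    rcases (show n = 1 ∨ n = 2 ∨ n = 3 ∨ n = 4 by omega) with rfl | rfl | rfl | rfl <;> norm_num at hmod
  have hzk : z * (k : G) = k * z := by
    have := congrArg Subtype.val (hk ⟨z, Subgroup.mem_zpowers z⟩)
    exact mul_inv_eq_iff_eq_mul.1 this
  have hz1 : z ≠ 1 := fun e => by rw [e, orderOf_one] at hz; norm_num at hz
  have h26 : 26 ∣ Nat.card (Subgroup.centralizer ({z} : Set G)) := by
    have a : 13 ∣ Nat.card (Subgroup.centralizer ({z} : Set G)) :=
      hz ▸ Subgroup.orderOf_dvd_natCard _ (Subgroup.mem_centralizer_singleton_iff.2 rfl)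
    have b : 2 ∣ Nat.card (Subgroup.centralizer ({z} : Set G)) := by
      have ho : orderOf (k : G) = 2 := orderOf_eq_prime (by rw [pow_two]; exact congrArg Subtype.val (hsq k))
        fun e => hk1 (Subtype.ext e)
      exact ho ▸ Subgroup.orderOf_dvd_natCard _ (Subgroup.mem_centralizer_singleton_iff.2 hzk.symm)
    exact Nat.Coprime.mul_dvd_of_dvd_of_dvd (by norm_num : Nat.Coprime 13 2) a b
  refine not_dvd_twentysix (x := g z) (fun e => hz1 (g.injective (e.trans h1.symm))) ?_
  rwa [← Nat.card_congr (g.subtypeEquiv (p := fun w => w ∈ Subgroup.centralizer ({z} : Set G)) (q := fun w => w ∈ Subgroup.centralizer ({g z} : Set SL3)) fun w => by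
    rw [Subgroup.mem_centralizer_singleton_iff, Subgroup.mem_centralizer_singleton_iff]
    exact (hc w z).symm)]

/-- The elements of `G` keeping points and lines apart. -/
noncomputable def sideKer (g : G ≃ SL3) (h1 : g 1 = 1) (hc : ∀ x y, Commute (g x) (g y) ↔ Commute x y) :
    Subgroup G := colAut.comap (act g h1 hc)

theorem sideKer_cases (g : G ≃ SL3) (h1 : g 1 = 1) (hc : ∀ x y, Commute (g x) (g y) ↔ Commute x y) :
    sideKer g h1 hc = ⊤ ∨ (sideKer g h1 hc).index = 2 := by
  by_cases h : ∀ a, a ∈ sideKer g h1 hc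
  · exact Or.inl (eq_top_iff.2 fun a _ => h a)
  push_neg at h
  obtain ⟨a, ha⟩ := h
  refine Or.inr (Subgroup.index_eq_two_iff.2 ⟨a, fun b => ?_⟩)
  by_cases hb : b ∈ sideKer g h1 hc
  · exact Or.inr ⟨hb, fun hba => ha ((mul_mem_cancel_left hb).1 hba)⟩
  · refine Or.inl ⟨?_, hb⟩
    show act g h1 hc (b * a) ∈ colAut
    rw [map_mul]
    exact inv_mul_mem (act_mem g h1 hc b) (act_mem g h1 hc a) hb ha

theorem exists_iso_colAut (hs : IsSimpleGroup SL3) : Nonempty (SL3 ≃* colAut) ∧ Nat.card colAut = 5616 := by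
  have hK : sideKer (Equiv.refl SL3) rfl (fun _ _ => Iff.rfl) = ⊤ := by
    refine (sideKer_cases _ _ _).resolve_right fun h2 => ?_
    haveI := hs
    rcases (Subgroup.normal_of_index_eq_two h2).eq_bot_or_eq_top with h | h
    · rw [h, Subgroup.index_bot, card_SL3] at h2; norm_num at h2
    · rw [h, Subgroup.index_top] at h2; norm_num at h2
  let φ : SL3 →* colAut := (act (Equiv.refl SL3) rfl (fun _ _ => Iff.rfl)).codRestrict colAut fun x =>
    (hK.symm ▸ Subgroup.mem_top x : x ∈ sideKer (Equiv.refl SL3) rfl (fun _ _ => Iff.rfl))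
  have hinj : Function.Injective φ := fun a b h =>
    act_injective (Equiv.refl SL3) rfl (fun _ _ => Iff.rfl) (congrArg Subtype.val h)
  haveI : Finite colAut := inferInstance
  have hcard : Nat.card colAut = 5616 := le_antisymm card_colAut_le (by
    rw [← card_SL3]; exact Nat.card_le_card_of_injective φ hinj)
  exact ⟨⟨MulEquiv.ofBijective φ ((Nat.bijective_iff_injective_and_card φ).2 ⟨hinj, card_SL3.trans hcard.symm⟩)⟩, hcard⟩

/-- A group with the commuting relation of the special linear group is isomorphic to it. -/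
theorem recognize (hs : IsSimpleGroup SL3) (g : G ≃ SL3) (h1 : g 1 = 1)
    (hc : ∀ x y, Commute (g x) (g y) ↔ Commute x y) : Nonempty (G ≃* SL3) := by
  obtain ⟨⟨e⟩, hcol⟩ := exists_iso_colAut hs
  have hG : Nat.card G = 5616 := (Nat.card_congr g).trans card_SL3
  let φ : sideKer g h1 hc →* colAut :=
    ((act g h1 hc).comp (sideKer g h1 hc).subtype).codRestrict colAut fun x => x.2
  have hinj : Function.Injective φ := fun a b h =>
    Subtype.ext (act_injective g h1 hc (congrArg Subtype.val h))
  rcases sideKer_cases g h1 hc with hT | h2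
  · have hcard : Nat.card (sideKer g h1 hc) = Nat.card colAut := by rw [hT, Subgroup.card_top, hG, hcol]
    exact ⟨(Subgroup.topEquiv.symm.trans (MulEquiv.subgroupCongr hT.symm)).trans
      ((MulEquiv.ofBijective φ ((Nat.bijective_iff_injective_and_card φ).2 ⟨hinj, hcard⟩)).trans e.symm)⟩
  · exfalso
    have hk : Nat.card (sideKer g h1 hc) = 2808 := by
      have h := (sideKer g h1 hc).card_mul_index
      rw [h2, hG] at h
      omega
    let S : Subgroup SL3 := φ.range.map e.symm.toMonoidHom
    have hS : Nat.card S = 2808 := by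
      rw [← Nat.card_congr (φ.range.equivMapOfInjective _ e.symm.injective).toEquiv,
        ← Nat.card_congr (MonoidHom.ofInjective hinj).toEquiv, hk]
    have hi : S.index = 2 := by
      have h := S.card_mul_index
      rw [hS, card_SL3] at h
      omega
    haveI := hs
    rcases (Subgroup.normal_of_index_eq_two hi).eq_bot_or_eq_top with h | h
    · rw [h, Subgroup.index_bot, card_SL3] at hi; norm_num at hi
    · rw [h, Subgroup.index_top] at hi; norm_num at hi

end Cfsg.Agent.FGB.L33
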