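import Mathlib

/-!
# Finite groups in which every nontrivial element fixes exactly two points
-/

set_option autoImplicit false
set_option linter.all false

namespace Cfsg.Agent.FGB.LineStab

open MulAction

universe u v

theorem arith3 (n o₁ o₂ o₃ a₁ a₂ a₃ : ℕ) (hn : 0 < n) (h₁ : o₁ * a₁ = n) (h₂ : o₂ * a₂ = n)
    (h₃ : o₃ * a₃ = n) (hb : 2 ≤ a₂) (hc : 2 ≤ a₃) (hs : o₁ + o₂ + o₃ = n + 2) (ha : 4 ≤ a₁) :
    a₂ < 4 ∧ a₃ < 4 ∧ o₁ ≤ 12 ∧ (6 ≤ a₁ → o₁ ≤ 2) := by
  have m1 : o₁ * 4 ≤ n := h₁ ▸ Nat.mul_le_mul_left _ ha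
  have m2 : o₂ * 2 ≤ n := h₂ ▸ Nat.mul_le_mul_left _ hb
  have m3 : o₃ * 2 ≤ n := h₃ ▸ Nat.mul_le_mul_left _ hc
  have hb4 : a₂ < 4 := by
    by_contra h
    have : o₂ * 4 ≤ n := h₂ ▸ Nat.mul_le_mul_left _ (by omega)
    omega
  have hc4 : a₃ < 4 := by
    by_contra h
    have : o₃ * 4 ≤ n := h₃ ▸ Nat.mul_le_mul_left _ (by omega)
    omega
  refine ⟨hb4, hc4, ?_⟩
  rcases (show a₂ = 2 ∨ a₂ = 3 by omega) with rfl | rfl <;>
    rcases (show a₃ = 2 ∨ a₃ = 3 by omega) with rfl | rfl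
  · exact ⟨by omega, fun _ => by omega⟩
  · have h6 : o₁ * a₁ = 6 * o₁ - 12 := by omega
    refine ⟨?_, fun h => ?_⟩
    · by_contra hlt
      rcases Nat.lt_or_ge a₁ 6 with h | h
      · have : o₁ * a₁ ≤ o₁ * 5 := Nat.mul_le_mul_left _ (by omega)
        omega
      · have : o₁ * 6 ≤ o₁ * a₁ := Nat.mul_le_mul_left _ h
        omega
    · have : o₁ * 6 ≤ o₁ * a₁ := Nat.mul_le_mul_left _ h
      omega
  · have h6 : o₁ * a₁ = 6 * o₁ - 12 := by omega
    refine ⟨?_, fun h => ?_⟩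
    · by_contra hlt
      rcases Nat.lt_or_ge a₁ 6 with h | h
      · have : o₁ * a₁ ≤ o₁ * 5 := Nat.mul_le_mul_left _ (by omega)
        omega
      · have : o₁ * 6 ≤ o₁ * a₁ := Nat.mul_le_mul_left _ h
        omega
    · have : o₁ * 6 ≤ o₁ * a₁ := Nat.mul_le_mul_left _ h
      omega
  · omega

theorem bound {Q : Type u} {Ω : Type v} [Group Q] [Finite Q] [Finite Ω] [MulAction Q Ω]
    (hfix : ∀ q : Q, q ≠ 1 → Nat.card (fixedBy Ω q) = 2)
    (hstab : ∀ x : Ω, 2 ≤ Nat.card (stabilizer Q x)) :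
    Nat.card {x : Ω // 6 ≤ Nat.card (stabilizer Q x)} ≤ 2 ∧
      Nat.card {x : Ω // 4 ≤ Nat.card (stabilizer Q x)} ≤ 12 := by
  classical
  haveI : Fintype Q := Fintype.ofFinite Q
  haveI : Fintype Ω := Fintype.ofFinite Ω
  haveI : Fintype (orbitRel.Quotient Q Ω) := Fintype.ofFinite _
  set n := Nat.card Q with hn
  have hnpos : 0 < n := Nat.card_pos
  -- Burnside
  have hB : (∑ x : Ω, (1 : ℕ)) + 2 * (n - 1) = Fintype.card (orbitRel.Quotient Q Ω) * n := by
    rw [Finset.sum_const, Finset.card_univ, smul_eq_mul, mul_one, hn, Nat.card_eq_fintype_card,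
      ← sum_card_fixedBy_eq_card_orbits_mul_card_group Q Ω,
      ← Finset.add_sum_erase _ _ (Finset.mem_univ (1 : Q)),
      Finset.sum_congr rfl (g := fun _ => 2) (fun q hq => by
        rw [← Nat.card_eq_fintype_card]; exact hfix q (Finset.ne_of_mem_erase hq)),
      Finset.sum_const, Finset.card_erase_of_mem (Finset.mem_univ _), Finset.card_univ, smul_eq_mul,
      mul_comm (Fintype.card Q - 1)]
    congr 1
    exact Fintype.card_congr ((Equiv.Set.univ Ω).symm.trans (Equiv.setCongr (by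
      ext x; simp [fixedBy])))
  let o : orbitRel.Quotient Q Ω → ℕ := fun ω => Nat.card (orbit Q ω.out)
  let a : orbitRel.Quotient Q Ω → ℕ := fun ω => Nat.card (stabilizer Q ω.out)
  have hoa : ∀ ω, o ω * a ω = n := fun ω => by
    show Nat.card (orbit Q ω.out) * Nat.card (stabilizer Q ω.out) = n
    rw [mul_comm, Nat.card_coe_set_eq, ← index_stabilizer, Subgroup.card_mul_index]
  have ha2 : ∀ ω, 2 ≤ a ω := fun ω => hstab _
  have hsum : ∀ P : Ω → Prop, (∀ (q : Q) x, P (q • x) ↔ P x) →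
      Nat.card {x // P x} = ∑ ω, (if P ω.out then o ω else 0) := by
    intro P hP
    rw [show Nat.card {x // P x} = ∑ x : Ω, if P x then 1 else 0 by
        rw [Nat.card_eq_fintype_card, Fintype.card_subtype, Finset.card_filter],
      ← (selfEquivSigmaOrbits Q Ω).symm.sum_comp (fun x => if P x then 1 else 0), Fintype.sum_sigma]
    refine Finset.sum_congr rfl fun ω _ => ?_
    have hc : ∀ y : orbit Q ω.out, (if P ((selfEquivSigmaOrbits Q Ω).symm ⟨ω, y⟩) then 1 else 0) =
        (if P ω.out then 1 else 0 : ℕ) := by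
      rintro ⟨y, hy⟩
      obtain ⟨q, rfl⟩ := hy
      show (if P (q • ω.out) then 1 else 0) = _
      simp only [hP]
    rw [Finset.sum_congr rfl (fun y _ => hc y), Finset.sum_const, Finset.card_univ,
      ← Nat.card_eq_fintype_card, smul_eq_mul, mul_ite, mul_one, mul_zero]
  have hconst : ∀ k : ℕ, ∀ (q : Q) (x : Ω), k ≤ Nat.card (stabilizer Q (q • x)) ↔ k ≤ Nat.card (stabilizer Q x) := by
    intro k q x
    rw [Nat.card_congr (stabilizerEquivStabilizerOfOrbitRel
      (show orbitRel Q Ω (q • x) x from mem_orbit x q)).toEquiv]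
  have htot : ∑ ω, o ω + 2 * (n - 1) = Fintype.card (orbitRel.Quotient Q Ω) * n := by
    rw [← hB, Finset.sum_const, Finset.card_univ, smul_eq_mul, mul_one]
    congr 1
    have := hsum (fun _ => True) (fun _ _ => Iff.rfl)
    simp only [if_true] at this
    rw [← this, Nat.card_congr (Equiv.subtypeUnivEquiv fun _ => trivial), Nat.card_eq_fintype_card]
  obtain ⟨e⟩ : Nonempty (orbitRel.Quotient Q Ω ≃ Fin (Fintype.card (orbitRel.Quotient Q Ω))) :=
    ⟨Fintype.equivFin _⟩
  generalize hr : Fintype.card (orbitRel.Quotient Q Ω) = r at e htot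
  rw [← e.symm.sum_comp] at htot
  have hle : ∀ i, o (e.symm i) * 2 ≤ n := fun i =>
    (hoa (e.symm i)) ▸ Nat.mul_le_mul_left _ (ha2 _)
  have hr3 : r ≤ 3 := by
    by_contra h4
    have h1 : (∑ i : Fin r, o (e.symm i)) * 2 ≤ r * n := by
      rw [Finset.sum_mul]
      refine (Finset.sum_le_sum (fun i _ => hle i)).trans ?_
      simp
    have h2 : 4 * n ≤ r * n := Nat.mul_le_mul_right _ (by omega)
    omega
  rw [hsum _ (hconst 6), hsum _ (hconst 4), ← e.symm.sum_comp, ← e.symm.sum_comp]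
  have ho : ∀ i, o (e.symm i) * a (e.symm i) = n := fun i => hoa _
  have hopos : ∀ i, 1 ≤ o (e.symm i) := fun i => by
    rcases Nat.eq_zero_or_pos (o (e.symm i)) with h | h
    · have := ho i; rw [h, zero_mul] at this; omega
    · exact h
  simp only [show ∀ ω : orbitRel.Quotient Q Ω, Nat.card (stabilizer Q ω.out) = a ω from fun _ => rfl]
  interval_cases r
  · simp
  · simp only [Fin.sum_univ_succ, Fin.sum_univ_zero, add_zero] at htot ⊢
    have := hle 0
    have := hopos 0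
    constructor <;> split_ifs <;> omega
  · simp only [Fin.sum_univ_two] at htot ⊢
    constructor <;> split_ifs <;> omega
  · simp only [Fin.sum_univ_three] at htot ⊢
    have hs : o (e.symm 0) + o (e.symm 1) + o (e.symm 2) = n + 2 := by omega
    have A0 := arith3 n _ _ _ _ _ _ hnpos (ho 0) (ho 1) (ho 2) (ha2 _) (ha2 _) hs
    have A1 := arith3 n _ _ _ _ _ _ hnpos (ho 1) (ho 0) (ho 2) (ha2 _) (ha2 _) (by omega)
    have A2 := arith3 n _ _ _ _ _ _ hnpos (ho 2) (ho 0) (ho 1) (ha2 _) (ha2 _) (by omega)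
    rcases Nat.lt_or_ge (a (e.symm 0)) 4 with h0 | h0
    · rcases Nat.lt_or_ge (a (e.symm 1)) 4 with h1 | h1
      · rcases Nat.lt_or_ge (a (e.symm 2)) 4 with h2 | h2
        · constructor <;> split_ifs <;> omega
        · obtain ⟨-, -, x, y⟩ := A2 h2
          constructor <;> split_ifs with i1 i2 i3 <;> first | omega | (have := y (by omega); omega)
      · obtain ⟨-, _, x, y⟩ := A1 h1
        constructor <;> split_ifs with i1 i2 i3 <;> first | omega | (have := y (by omega); omega)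
    · obtain ⟨_, _, x, y⟩ := A0 h0
      constructor <;> split_ifs with i1 i2 i3 <;> first | omega | (have := y (by omega); omega)

end Cfsg.Agent.FGB.LineStab
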