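import Cfsg.Agent.Lib.SmallSimple.BlockCongr
import Cfsg.Agent.Lib.SmallSimple.BlockFrobenius
import Cfsg.Agent.Lib.SmallSimple.ThreePrimes
import Cfsg.Agent.Lib.ClassSum.Basic
import Cfsg.Agent.Lib.CharFS.Basic

/-!
# Tools for a simple group of order 7920

Residues of the character degrees at a prime dividing the order once, the principal block relation and
integrality on conjugacy classes.
-/

set_option autoImplicit false
set_option linter.style.haveILetI false
set_option linter.unusedSectionVars false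

namespace Cfsg.Agent.FGB.M11

open Cfsg
open Cfsg.Agent.SmallSimple
open scoped ComplexConjugate

universe u

/-- The degree of a character. -/
noncomputable abbrev dg {G : Type u} [Group G] (χ : IrrCharacter G) : ℕ := charDegree (χ : G → ℂ)

variable {G : Type u} [Group G] [Finite G]

theorem apply_one (χ : IrrCharacter G) : (χ : G → ℂ) 1 = ((dg χ : ℕ) : ℂ) :=
  CT.deg_eq (CT.isCharacter_of_isIrr χ.2)

theorem dg_dvd (χ : IrrCharacter G) : dg χ ∣ Nat.card G := by
  haveI := Fintype.ofFinite G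
  exact Glauberman.deg_dvd_card χ

theorem dg_triv : dg (CT.trivIrr G) = 1 := by simp [dg, charDegree, CT.trivIrr_apply]

theorem sum_sq : ∑ χ : IrrCharacter G, dg χ ^ 2 = Nat.card G := by
  haveI := Fintype.ofFinite G
  have h := CT.sum_degree_sq (G := G)
  simp only [apply_one] at h
  exact_mod_cast h

theorem centralizer_eq_of_prime {p : ℕ} [hp : Fact p.Prime] {P : Subgroup G} (hP : Nat.card P = p) {x : G}
    (hx : x ∈ P) (hx1 : x ≠ 1) :
    Subgroup.centralizer ({x} : Set G) = Subgroup.centralizer (P : Set G) := by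
  have hz : Subgroup.zpowers x = P := Subgroup.eq_of_le_of_card_ge (Subgroup.zpowers_le.2 hx) (by
    rw [Nat.card_zpowers, hP]
    have hd : orderOf x ∣ p := hP ▸ Subgroup.orderOf_dvd_natCard _ hx
    rw [((Nat.dvd_prime hp.out).1 hd).resolve_left fun h => hx1 (orderOf_eq_one_iff.1 h)])
  refine le_antisymm (fun g hg => Subgroup.mem_centralizer_iff.2 fun y hy => ?_)
    (Subgroup.centralizer_le (Set.singleton_subset_iff.2 hx))
  rw [← hz] at hy
  obtain ⟨i, rfl⟩ := hy
  exact ((show Commute g x from Subgroup.mem_centralizer_singleton_iff.1 hg).zpow_right i).eq.symm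

/-- The weight of a residue. -/
def wt (p d : ℕ) : ℕ := d % p * (p - d % p)

theorem dvd_of_wt_eq_zero {p d : ℕ} (hp : 0 < p) (h : wt p d = 0) : p ∣ d := by
  rcases Nat.mul_eq_zero.1 h with h | h
  · exact Nat.dvd_of_mod_eq_zero h
  · exact absurd h (by have := Nat.mod_lt d hp; omega)

/-- The bound on the residues of the degrees. -/
theorem wt_sum_le [IsSimpleGroup G] {p : ℕ} [hp : Fact p.Prime] (P : Sylow p G) (hP : Nat.card P = p)
    (hC : Nat.card (Subgroup.centralizer ((P : Subgroup G) : Set G)) = p) :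
    ∑ χ : IrrCharacter G, wt p (dg χ) ≤ (p - 1) * p := by
  classical
  haveI := Fintype.ofFinite G
  haveI := Fintype.ofFinite (P : Subgroup G)
  set F : IrrCharacter G → ℝ := fun ψ => ∑ x : (P : Subgroup G), ‖(ψ : G → ℂ) x‖ ^ 2 with hF
  have htotal : ∑ ψ : IrrCharacter G, F ψ =
      (∑ ψ : IrrCharacter G, (dg ψ : ℝ) ^ 2) + ((p : ℝ) - 1) * p := by
    simp only [hF]
    rw [Finset.sum_comm, ← Finset.add_sum_erase _ _ (Finset.mem_univ (1 : (P : Subgroup G)))]
    congr 1
    · refine Finset.sum_congr rfl fun ψ _ => ?_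
      rw [OneMemClass.coe_one, apply_one, Complex.norm_natCast]
    · rw [Finset.sum_congr rfl (g := fun _ => (p : ℝ)) fun x hx => ?_, Finset.sum_const,
        Finset.card_erase_of_mem (Finset.mem_univ _), Finset.card_univ, ← Nat.card_eq_fintype_card, hP,
        nsmul_eq_mul, Nat.cast_sub hp.out.one_lt.le, Nat.cast_one]
      have h := CT.column_orthogonality (x : G) (x : G)
      rw [if_pos (IsConj.refl _), centralizer_eq_of_prime hP x.2
        (fun h => Finset.ne_of_mem_erase hx (Subtype.ext h)), hC] at h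
      simp only [Complex.mul_conj'] at h
      exact_mod_cast h
  have hsum := Finset.sum_le_sum fun ψ (_ : ψ ∈ Finset.univ) => restrict_bound (P : Subgroup G) hP ψ
  rw [Finset.sum_add_distrib, htotal] at hsum
  have h : ((∑ χ : IrrCharacter G, wt p (dg χ) : ℕ) : ℝ) ≤ (((p - 1) * p : ℕ) : ℝ) := by
    rw [Nat.cast_sum, Nat.cast_mul, Nat.cast_sub hp.out.one_lt.le, Nat.cast_one]
    refine le_trans (le_of_eq (Finset.sum_congr rfl fun χ _ => ?_)) (le_of_add_le_add_right (a :=
      ∑ ψ : IrrCharacter G, (dg ψ : ℝ) ^ 2) (by linarith))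
    rw [wt, Nat.cast_mul, Nat.cast_sub (Nat.mod_lt _ hp.out.pos).le]
  exact_mod_cast h

/-- The principal block when its exceptional characters are at least two. -/
theorem principal_facts [IsSimpleGroup G] (hnc : ¬ IsMulCommutative G) {p e : ℕ} [hp : Fact p.Prime]
    (P : Sylow p G) (hP : Nat.card P = p)
    (he : e * Nat.card (Subgroup.centralizer ((P : Subgroup G) : Set G)) =
        Nat.card (Subgroup.normalizer ((P : Subgroup G) : Set G)))
    (ht : 2 ≤ (p - 1) / e) :
    ∃ (S T : Finset (IrrCharacter G)) (σ : IrrCharacter G → ℤ) (δ : ℤ),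
      S.card = e - 1 ∧ T.card = (p - 1) / e ∧ CT.trivIrr G ∉ S ∧ CT.trivIrr G ∉ T ∧ Disjoint S T ∧
      (∀ χ ∈ S, (σ χ = 1 ∨ σ χ = -1) ∧ σ χ * (dg χ : ℤ) ≡ 1 [ZMOD p]) ∧
      (δ = 1 ∨ δ = -1) ∧ (∀ θ ∈ T, δ * (dg θ : ℤ) ≡ e [ZMOD p]) ∧
      ∀ θ ∈ T, ∀ g : G, ¬ p ∣ orderOf g →
        (δ : ℂ) * (θ : G → ℂ) g = 1 + ∑ χ ∈ S, (σ χ : ℂ) * (χ : G → ℂ) g := by
  classical
  haveI := Fintype.ofFinite G
  obtain ⟨M, hM⟩ := Blocks.exists_isPModular hp.out
  haveI := hM.2.1.isPrime
  have hrel : (Blocks.D1.cC P).relIndex (Blocks.D1.cN P) = e := by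
    have hle : Subgroup.centralizer ((P : Subgroup G) : Set G) ≤
        Subgroup.normalizer ((P : Subgroup G) : Set G) := Subgroup.centralizer_le_normalizer _
    have h := Subgroup.card_mul_index ((Subgroup.centralizer ((P : Subgroup G) : Set G)).subgroupOf
      (Subgroup.normalizer ((P : Subgroup G) : Set G)))
    rw [Nat.card_congr (Subgroup.subgroupOfEquivOfLe hle).toEquiv, ← he, mul_comm] at h
    exact Nat.eq_of_mul_eq_mul_right Nat.card_pos h
  obtain ⟨X, Y, εX, ε, hdvd, hXY, hdis, hXc, hYc, hX, hε, hY, hag, hrel'⟩ :=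
    Blocks.D1.exists_principal_structure hM P hP hrel
  set triv := CT.trivIrr G with htriv
  have hreg1 : ¬ p ∣ orderOf (1 : G) := by rw [orderOf_one]; exact hp.out.not_dvd_one
  have htY : triv ∉ Y := fun htY => by
    have hsub : ∀ θ' ∈ Y, θ' = triv := fun θ' hθ' => eq_trivIrr_of_charDegree_one hnc (by
      have h1 := hag θ' hθ' triv htY 1 hreg1
      rw [apply_one, apply_one, Nat.cast_inj] at h1
      exact h1.trans dg_triv)
    have h1 : Nat.card Y ≤ 1 := by
      rw [Nat.card_coe_set_eq]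
      exact (Set.ncard_le_one (Set.toFinite _)).2 fun a ha b hb => (hsub a ha).trans (hsub b hb).symm
    omega
  have htX : triv ∈ X :=
    (show triv ∈ X ∪ Y from hXY ▸ Blocks.trivIrr_mem_principalBlock).resolve_right htY
  obtain ⟨x, hxP, hx1⟩ : ∃ x ∈ (P : Subgroup G), x ≠ 1 := by
    by_contra h
    push Not at h
    have hb : (P : Subgroup G) = ⊥ := (Subgroup.eq_bot_iff_forall _).2 h
    have h1 : Nat.card (P : Subgroup G) = 1 := by rw [hb, Subgroup.card_bot]
    exact hp.out.one_lt.ne' (hP.symm.trans h1)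
  have hεt : εX triv = 1 := by
    have h := (hX triv htX).2.2 x hxP hx1 1 (one_mem _) hreg1
    rw [htriv, CT.trivIrr_apply] at h
    exact_mod_cast h.symm
  refine ⟨X.toFinset.erase triv, Y.toFinset, εX, ε, ?_, ?_, Finset.notMem_erase _ _,
    fun h => htY (Set.mem_toFinset.1 h), ?_, fun χ hχ => ?_, hε, fun θ hθ => ?_, fun θ hθ g hg => ?_⟩
  · rw [Finset.card_erase_of_mem (Set.mem_toFinset.2 htX), ← Set.ncard_eq_toFinset_card', ← Nat.card_coe_set_eq,
      hXc]
  · rw [← Set.ncard_eq_toFinset_card', ← Nat.card_coe_set_eq, hYc]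
  · exact Finset.disjoint_of_subset_left (Finset.erase_subset _ _) (Set.disjoint_toFinset.2 hdis)
  · obtain ⟨hs, hm, -⟩ := hX χ (Set.mem_toFinset.1 (Finset.mem_of_mem_erase hχ))
    refine ⟨hs, (hm.mul_left _).trans ?_⟩
    rcases hs with h | h <;> simp [h]
  · refine ((hY θ (Set.mem_toFinset.1 hθ)).mul_left ε).trans ?_
    rcases hε with h | h <;> simp [h]
  · rw [hrel' θ (Set.mem_toFinset.1 hθ) g hg, finsum_mem_eq_toFinset_sum,
      ← Finset.add_sum_erase _ _ (Set.mem_toFinset.2 htX), hεt]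
    simp [htriv, CT.trivIrr_apply]

/-- Integrality of the central character at a rational value. -/
theorem class_dvd (χ : IrrCharacter G) (x : G) {a : ℤ} (h : (χ : G → ℂ) x = (a : ℂ)) :
    dg χ ∣ (Subgroup.centralizer ({x} : Set G)).index * a.natAbs := by
  haveI := Fintype.ofFinite G
  have h1 := ClassSum.omega_isIntegral χ.2 (ClassSum.classInd_isClassWeight x)
  rw [ClassSum.omega_classInd (χ : G → ℂ) (CT.isClassFunction_of_isCharacter (CT.isCharacter_of_isIrr χ.2)) x,
    CT.card_conj_class, h, apply_one] at h1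
  refine ClassSum.eq_natCast_div_mem (CT.deg_pos χ.2) ?_
  rcases Int.natAbs_eq a with e | e
  · rw [Nat.cast_mul, show ((a.natAbs : ℕ) : ℂ) = ((a.natAbs : ℤ) : ℂ) from (Int.cast_natCast _).symm, ← e]
    exact h1
  · rw [Nat.cast_mul, show ((a.natAbs : ℕ) : ℂ) = (((a.natAbs : ℤ)) : ℂ) from (Int.cast_natCast _).symm,
      show ((a.natAbs : ℤ) : ℂ) = -(a : ℂ) by
        rw [← Int.cast_neg]; congr 1; omega, mul_neg, neg_div]
    exact h1.neg

/-- A non-trivial element is not in the kernel of a non-trivial character. -/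
theorem value_ne_dg [IsSimpleGroup G] (hnc : ¬ IsMulCommutative G) {χ : IrrCharacter G}
    (hχ : χ ≠ CT.trivIrr G) {g : G} (hg : g ≠ 1) : (χ : G → ℂ) g ≠ (dg χ : ℂ) := by
  intro h
  obtain ⟨n, ρ, hρ, hχc⟩ := χ.2
  have hdeg : dg χ = Module.finrank ℂ (Fin n → ℂ) := by
    show charDegree (χ : G → ℂ) = _
    rw [← hχc]; exact CT.deg_eq_finrank ρ
  have h2 : ρ.character g = (Module.finrank ℂ (Fin n → ℂ) : ℂ) := by rw [hχc, h, hdeg]
  have hs := CT.scalar_of_norm_eq ρ (g := g) (by rw [h2, Complex.norm_natCast])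
  rw [h2, div_self (by
    rw [← hdeg]; exact Nat.cast_ne_zero.2 (CT.deg_pos χ.2).ne'), one_smul] at hs
  rcases (MonoidHom.normal_ker ρ).eq_bot_or_eq_top with hk | hk
  · exact hg ((Subgroup.eq_bot_iff_forall _).1 hk g hs)
  · refine hχ (eq_trivIrr_of_charDegree_one hnc ?_)
    haveI := hρ
    have hρ1 : ∀ x, ρ x = 1 := fun x => MonoidHom.mem_ker.mp (hk.symm ▸ Subgroup.mem_top x : x ∈ ρ.ker)
    have hV := (CT.isIrreducible_iff ρ).mp hρ
    show dg χ = 1
    rw [hdeg]
    obtain ⟨v, hv⟩ := @exists_ne _ hV.1 (0 : Fin n → ℂ)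
    rcases hV.2 (Submodule.span ℂ {v}) (fun x w hw => by simpa [hρ1 x] using hw) with e | e
    · simp [hv] at e
    · rw [← finrank_top ℂ, ← e, finrank_span_singleton hv]

/-- A degree divisible exactly as often by `p` as the order gives zero at singular elements. -/
theorem vanish {p : ℕ} [Fact p.Prime] (χ : IrrCharacter G) {k : ℕ} (hk : Nat.card G = dg χ * k)
    (hpk : ¬ p ∣ k) {g : G} (hg : p ∣ orderOf g) : (χ : G → ℂ) g = 0 :=
  ThreePrimes.vanish_of_defect_zero χ hk hpk hg

/-- Squares of involution values and the size of a centralizer. -/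
theorem sum_sq_eq_centralizer (x : G) :
    ∑ χ : IrrCharacter G, ‖(χ : G → ℂ) x‖ ^ 2 = (Nat.card (Subgroup.centralizer ({x} : Set G)) : ℝ) := by
  classical
  haveI := Fintype.ofFinite G
  have h := CT.column_orthogonality x x
  rw [if_pos (IsConj.refl _)] at h
  simp only [Complex.mul_conj'] at h
  exact_mod_cast h

/-- The number of solutions of `u * u = 1` is at most the sum of the degrees. -/
theorem card_involutions_le [Fintype G] :
    Nat.card {u : G // u * u = 1} ≤ ∑ χ : IrrCharacter G, dg χ := by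
  have h := CharFS.card_sqrt (1 : G)
  have h2 : ‖(Nat.card {u : G // u * u = 1} : ℂ)‖ ≤ ∑ χ : IrrCharacter G, (dg χ : ℝ) := by
    rw [h]
    refine (norm_sum_le _ _).trans (Finset.sum_le_sum fun χ _ => ?_)
    rw [norm_mul, apply_one, Complex.norm_natCast]
    rcases CharFS.ind_cases χ.2 with h' | h'
    · rw [h'.1]; simp
    · rcases h'.1 with e | e <;> rw [e] <;> simp
  rw [Complex.norm_natCast] at h2
  exact_mod_cast h2

end Cfsg.Agent.FGB.M11
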