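import Mathlib
import Cfsg.Prelude.Def_Sporadic_a

/-!
# The Steiner system of a sharply four-transitive action on eleven points
-/

set_option autoImplicit false
set_option linter.style.haveILetI false
set_option linter.unusedSectionVars false

namespace Cfsg.Agent.FGB.M11

open Cfsg
open scoped Pointwise

variable {G : Type*} [Group G] [Finite G] {α : Type*} [MulAction G α] [Fintype α] [DecidableEq α]

/-- A sharply four-transitive action on eleven points. -/
structure Sharp (G : Type*) [Group G] (α : Type*) [MulAction G α] [Fintype α] : Prop where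
  card : Fintype.card α = 11
  trans : ∀ x y : Fin 4 → α, Function.Injective x → Function.Injective y → ∃ g : G, ∀ i, g • x i = y i
  free : ∀ (g : G) (x : Fin 4 → α), Function.Injective x → (∀ i, g • x i = x i) → g = 1

theorem inj_four {a b c d : α} (hab : a ≠ b) (hac : a ≠ c) (had : a ≠ d) (hbc : b ≠ c) (hbd : b ≠ d)
    (hcd : c ≠ d) : Function.Injective ![a, b, c, d] := by
  intro i j h
  fin_cases i <;> fin_cases j <;> first | rfl | (exfalso; simp_all)

namespace Sharp

variable (S : Sharp G α)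

include S

theorem move {a b c d a' b' c' d' : α} (hab : a ≠ b) (hac : a ≠ c) (had : a ≠ d) (hbc : b ≠ c)
    (hbd : b ≠ d) (hcd : c ≠ d) (hab' : a' ≠ b') (hac' : a' ≠ c') (had' : a' ≠ d') (hbc' : b' ≠ c')
    (hbd' : b' ≠ d') (hcd' : c' ≠ d') :
    ∃ g : G, g • a = a' ∧ g • b = b' ∧ g • c = c' ∧ g • d = d' := by
  obtain ⟨g, hg⟩ := S.trans _ _ (inj_four hab hac had hbc hbd hcd) (inj_four hab' hac' had' hbc' hbd' hcd')
  exact ⟨g, hg 0, hg 1, hg 2, hg 3⟩

theorem eq_one {g : G} {a b c d : α} (hab : a ≠ b) (hac : a ≠ c) (had : a ≠ d) (hbc : b ≠ c)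
    (hbd : b ≠ d) (hcd : c ≠ d) (ha : g • a = a) (hb : g • b = b) (hc : g • c = c) (hd : g • d = d) :
    g = 1 :=
  S.free g _ (inj_four hab hac had hbc hbd hcd) fun i => by fin_cases i <;> assumption

theorem fixed_le_three {g : G} (hg : g ≠ 1) :
    (Finset.univ.filter fun x : α => g • x = x).card ≤ 3 := by
  by_contra h
  obtain ⟨s, hs, hs4⟩ := Finset.exists_subset_card_eq (s := Finset.univ.filter fun x : α => g • x = x) (n := 4) (by omega)
  refine hg (S.free g (fun i => ((s.equivFinOfCardEq hs4).symm i).1)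
    (fun i j h => (s.equivFinOfCardEq hs4).symm.injective (Subtype.ext h)) fun i => ?_)
  exact (Finset.mem_filter.1 (hs ((s.equivFinOfCardEq hs4).symm i).2)).2

/-- Fixed points of an element of prime order. -/
theorem fixed_mod {g : G} {p : ℕ} [hp : Fact p.Prime] (hg : g ^ p = 1) :
    (Finset.univ.filter fun x : α => g • x = x).card % p = 11 % p := by
  set σ : Equiv.Perm α := MulAction.toPermHom G α g with hσ
  have h1 : σ ^ p ^ 1 = 1 := by rw [pow_one, hσ, ← map_pow, hg, map_one]
  have h := Equiv.Perm.card_compl_support_modEq (n := 1) h1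
  have e : σ.supportᶜ = Finset.univ.filter fun x => g • x = x := by
    ext x
    simp [hσ, MulAction.toPermHom_apply]
  rw [e, S.card] at h
  exact h

/-- An element of order three fixes exactly two points. -/
theorem three_fixed {g : G} (hg : g ≠ 1) (h3 : g ^ 3 = 1) {d : α} (hd : g • d = d) :
    ∃ e, e ≠ d ∧ g • e = e ∧ ∀ w, g • w = w → w = d ∨ w = e := by
  haveI : Fact (Nat.Prime 3) := ⟨Nat.prime_three⟩
  have h1 := S.fixed_le_three hg
  have h2 := S.fixed_mod (p := 3) h3
  have hcard : (Finset.univ.filter fun x : α => g • x = x).card = 2 := by omega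
  obtain ⟨x, y, hxy, hs⟩ := Finset.card_eq_two.1 hcard
  have hd' : d ∈ Finset.univ.filter fun x => g • x = x := Finset.mem_filter.2 ⟨Finset.mem_univ d, hd⟩
  have hmem : ∀ w, g • w = w ↔ w = x ∨ w = y := fun w => by
    have := Finset.ext_iff.1 hs w
    simpa using this
  rw [hs, Finset.mem_insert, Finset.mem_singleton] at hd'
  rcases hd' with rfl | rfl
  · exact ⟨y, hxy.symm, (hmem y).2 (Or.inr rfl), fun w hw => (hmem w).1 hw⟩
  · exact ⟨x, hxy, (hmem x).2 (Or.inl rfl), fun w hw => ((hmem w).1 hw).symm⟩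

/-- An element of order two with two fixed points fixes a third one. -/
theorem two_fixed {g : G} (hg : g ≠ 1) (h2 : g ^ 2 = 1) {c d : α} (hcd : c ≠ d) (hc : g • c = c) (hd : g • d = d) :
    ∃ f, f ≠ c ∧ f ≠ d ∧ g • f = f ∧ ∀ w, g • w = w → w = c ∨ w = d ∨ w = f := by
  haveI : Fact (Nat.Prime 2) := ⟨Nat.prime_two⟩
  have h1 := S.fixed_le_three hg
  have h3 := S.fixed_mod (p := 2) h2
  set F := Finset.univ.filter fun x : α => g • x = x with hF
  have hsub : ({c, d} : Finset α) ⊆ F := by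
    intro w hw
    rw [Finset.mem_insert, Finset.mem_singleton] at hw
    rcases hw with rfl | rfl <;> simp [hF, hc, hd]
  have hle : 2 ≤ F.card := (Finset.card_pair hcd).symm.le.trans (Finset.card_le_card hsub)
  have hcard : (F \ {c, d}).card = 1 := by
    rw [Finset.card_sdiff_of_subset hsub, Finset.card_pair hcd]
    omega
  obtain ⟨f, hf⟩ := Finset.card_eq_one.1 hcard
  have hfm : f ∈ F \ {c, d} := hf ▸ Finset.mem_singleton_self f
  simp only [Finset.mem_sdiff, hF, Finset.mem_filter, Finset.mem_univ, true_and, Finset.mem_insert,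
    Finset.mem_singleton, not_or] at hfm
  refine ⟨f, hfm.2.1, hfm.2.2, hfm.1, fun w hw => ?_⟩
  by_cases hwc : w = c
  · exact Or.inl hwc
  by_cases hwd : w = d
  · exact Or.inr (Or.inl hwd)
  right; right
  have : w ∈ F \ {c, d} := by simp [hF, hw, hwc, hwd]
  rw [hf] at this
  exact Finset.mem_singleton.1 this

end Sharp

/-- `e` completes the four points to a block. -/
structure Fifth (G : Type*) [Group G] {α : Type*} [MulAction G α] (a b c d e : α) : Prop where
  hab : a ≠ b
  hac : a ≠ c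
  had : a ≠ d
  hae : a ≠ e
  hbc : b ≠ c
  hbd : b ≠ d
  hbe : b ≠ e
  hcd : c ≠ d
  hce : c ≠ e
  hde : d ≠ e
  cyc : ∃ z : G, z • a = b ∧ z • b = c ∧ z • c = a ∧ z • d = d ∧ z • e = e

namespace Sharp

variable (S : Sharp G α)

include S

theorem cycle_spec {a b c d : α} (hab : a ≠ b) (hac : a ≠ c) (had : a ≠ d) (hbc : b ≠ c) (hbd : b ≠ d)
    (hcd : c ≠ d) {z : G} (h1 : z • a = b) (h2 : z • b = c) (h3 : z • c = a) (h4 : z • d = d) :
    z ≠ 1 ∧ z ^ 3 = 1 := by
  refine ⟨fun h => hab ?_, S.eq_one hab hac had hbc hbd hcd ?_ ?_ ?_ ?_⟩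
  · rw [← h1, h, one_smul]
  all_goals simp only [pow_succ, pow_zero, one_mul, mul_smul, h1, h2, h3, h4]

theorem exists_fifth {a b c d : α} (hab : a ≠ b) (hac : a ≠ c) (had : a ≠ d) (hbc : b ≠ c) (hbd : b ≠ d)
    (hcd : c ≠ d) : ∃ e, Fifth G a b c d e := by
  obtain ⟨z, h1, h2, h3, h4⟩ := S.move hab hac had hbc hbd hcd hbc hab.symm hbd hac.symm hcd had
  obtain ⟨hz, hz3⟩ := S.cycle_spec hab hac had hbc hbd hcd h1 h2 h3 h4
  obtain ⟨e, hed, he, -⟩ := S.three_fixed hz hz3 h4
  exact ⟨e, hab, hac, had, fun h => hab (by rw [← h1, h, he]), hbc, hbd, fun h => hbc (by rw [← h2, h, he]),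
    hcd, fun h => hac (by rw [← h3, h, he]), hed.symm, z, h1, h2, h3, h4, he⟩

theorem fifth_unique {a b c d e e' : α} (h : Fifth G a b c d e) (h' : Fifth G a b c d e') : e = e' := by
  obtain ⟨z, h1, h2, h3, h4, h5⟩ := h.cyc
  obtain ⟨z', g1, g2, g3, g4, g5⟩ := h'.cyc
  have e0 : z⁻¹ * z' = 1 := S.eq_one h.hab h.hac h.had h.hbc h.hbd h.hcd
    (by rw [mul_smul, g1, inv_smul_eq_iff, h1]) (by rw [mul_smul, g2, inv_smul_eq_iff, h2])
    (by rw [mul_smul, g3, inv_smul_eq_iff, h3]) (by rw [mul_smul, g4, inv_smul_eq_iff, h4])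
  obtain rfl := inv_mul_eq_one.1 e0
  obtain ⟨hz, hz3⟩ := S.cycle_spec h.hab h.hac h.had h.hbc h.hbd h.hcd h1 h2 h3 h4
  obtain ⟨f, hfd, -, hall⟩ := S.three_fixed hz hz3 h4
  rw [(hall e h5).resolve_left h.hde.symm, (hall e' g5).resolve_left h'.hde.symm]

theorem swap_ab {a b c d e : α} (h : Fifth G a b c d e) : Fifth G b a c d e := by
  obtain ⟨z, h1, h2, h3, h4, h5⟩ := h.cyc
  exact ⟨h.hab.symm, h.hbc, h.hbd, h.hbe, h.hac, h.had, h.hae, h.hcd, h.hce, h.hde, z⁻¹,
    by rw [inv_smul_eq_iff, h1], by rw [inv_smul_eq_iff, h3], by rw [inv_smul_eq_iff, h2],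
    by rw [inv_smul_eq_iff, h4], by rw [inv_smul_eq_iff, h5]⟩

theorem rot {a b c d e : α} (h : Fifth G a b c d e) : Fifth G b c a d e := by
  obtain ⟨z, h1, h2, h3, h4, h5⟩ := h.cyc
  exact ⟨h.hbc, h.hab.symm, h.hbd, h.hbe, h.hac.symm, h.hcd, h.hce, h.had, h.hae, h.hde, z, h2, h3, h1, h4, h5⟩

theorem swap_de {a b c d e : α} (h : Fifth G a b c d e) : Fifth G a b c e d := by
  obtain ⟨z, h1, h2, h3, h4, h5⟩ := h.cyc
  exact ⟨h.hab, h.hac, h.hae, h.had, h.hbc, h.hbe, h.hbd, h.hce, h.hcd, h.hde.symm, z, h1, h2, h3, h5, h4⟩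

theorem swap_cd {a b c d e : α} (h : Fifth G a b c d e) : Fifth G a b d c e := by
  obtain ⟨u, u1, u2, u3, u4⟩ := S.move h.hab h.hac h.had h.hbc h.hbd h.hcd h.hab.symm h.hbc h.hbd h.hac h.had h.hcd
  have hu : u ≠ 1 := fun e0 => h.hab (by rw [← u2, e0, one_smul])
  have hu2 : u ^ 2 = 1 := S.eq_one h.hab h.hac h.had h.hbc h.hbd h.hcd
    (by rw [pow_two, mul_smul, u1, u2]) (by rw [pow_two, mul_smul, u2, u1]) (by rw [pow_two, mul_smul, u3, u3])
    (by rw [pow_two, mul_smul, u4, u4])
  obtain ⟨f, hfc, hfd, hf, hall⟩ := S.two_fixed hu hu2 h.hcd u3 u4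
  -- the involution inverts the cycles
  have key : ∀ {x y w : α}, Fifth G a b x y w → u • x = x → u • y = y → u • w = w := by
    intro x y w h' hx hy
    obtain ⟨z, h1, h2, h3, h4, h5⟩ := h'.cyc
    have uu : ∀ v : α, u • u • v = v := fun v => by rw [smul_smul, ← pow_two, hu2, one_smul]
    have hinv : u * z * u = z⁻¹ := by
      refine mul_eq_one_iff_eq_inv.1 (S.eq_one h'.hab h'.hac h'.had h'.hbc h'.hbd h'.hcd ?_ ?_ ?_ ?_)
      · rw [mul_smul, h1, mul_smul, mul_smul, u2, h1, u2]
      · rw [mul_smul, h2, mul_smul, mul_smul, hx, h3, u1]; 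
      · rw [mul_smul, h3, mul_smul, mul_smul, u1, h2, hx]
      · rw [mul_smul, h4, mul_smul, mul_smul, hy, h4, hy]
    obtain ⟨hz, hz3⟩ := S.cycle_spec h'.hab h'.hac h'.had h'.hbc h'.hbd h'.hcd h1 h2 h3 h4
    obtain ⟨g, -, -, hg⟩ := S.three_fixed hz hz3 h4
    have hzuw : z • u • w = u • w := by
      have e1 : u • z • u • w = w := by
        rw [smul_smul, smul_smul, hinv, inv_smul_eq_iff]
        exact h5.symm
      calc z • u • w = u • u • z • u • w := (uu _).symm
        _ = u • w := by rw [e1]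
    rcases hg (u • w) hzuw with e0 | e0
    · exfalso
      refine h'.hde ?_
      rw [← hy, ← uu w, e0]
    · rw [e0, (hg w h5).resolve_left h'.hde.symm]
  obtain ⟨e', h'⟩ := S.exists_fifth h.hab h.had h.hac h.hbd h.hbc h.hcd.symm
  have e1 : e = f := by
    rcases hall e (key h u3 u4) with e0 | e0 | e0
    · exact absurd e0.symm h.hce
    · exact absurd e0.symm h.hde
    · exact e0
  have e2 : e' = f := by
    rcases hall e' (key h' u4 u3) with e0 | e0 | e0
    · exact absurd e0.symm h'.hde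
    · exact absurd e0.symm h'.hce
    · exact e0
  rw [e1, ← e2]
  exact h'

end Sharp

/-- A tuple forming a block. -/
def IsBlockTuple (G : Type*) [Group G] {α : Type*} [MulAction G α] (s : Fin 5 → α) : Prop :=
  Fifth G (s 0) (s 1) (s 2) (s 3) (s 4)

theorem IsBlockTuple.injective {s : Fin 5 → α} (h : IsBlockTuple G s) : Function.Injective s := by
  intro i j e
  obtain ⟨h01, h02, h03, h04, h12, h13, h14, h23, h24, h34, -⟩ := h
  fin_cases i <;> fin_cases j <;> first | rfl | (exfalso; simp_all)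

/-- The blocks. -/
def blocks (G : Type*) [Group G] (α : Type*) [MulAction G α] [DecidableEq α] : Set (Finset α) :=
  {b | ∃ s : Fin 5 → α, IsBlockTuple G s ∧ b = Finset.univ.image s}

namespace Sharp

variable (S : Sharp G α)

include S

theorem blockTuple_perm (σ : Equiv.Perm (Fin 5)) {s : Fin 5 → α} (h : IsBlockTuple G s) :
    IsBlockTuple G (s ∘ σ) := by
  have hσ : σ ∈ Submonoid.closure (Set.range fun i : Fin 4 => Equiv.swap i.castSucc i.succ) := by
    rw [Equiv.Perm.mclosure_swap_castSucc_succ]; trivial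
  induction hσ using Submonoid.closure_induction generalizing s with
  | mem σ hσ =>
    obtain ⟨i, rfl⟩ := hσ
    fin_cases i
    · exact S.swap_ab h
    · exact S.rot (S.swap_ab h)
    · exact S.swap_cd h
    · exact S.swap_de h
  | one => exact h
  | mul x y _ _ hx hy =>
    have := hy (hx h)
    exact this

/-- The blocks form a Steiner system. -/
theorem steiner : IsSteinerSystem 4 5 (blocks G α) := by
  refine ⟨?_, fun t ht => ?_⟩
  · rintro b ⟨s, hs, rfl⟩
    rw [Finset.card_image_of_injective _ hs.injective, Finset.card_univ, Fintype.card_fin]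
  · set x : Fin 4 → α := fun i => ((t.equivFinOfCardEq ht).symm i).1 with hx
    have hxi : Function.Injective x := fun i j h => (t.equivFinOfCardEq ht).symm.injective (Subtype.ext h)
    have hxt : ∀ i, x i ∈ t := fun i => ((t.equivFinOfCardEq ht).symm i).2
    have htx : ∀ w ∈ t, ∃ i, x i = w := fun w hw => ⟨t.equivFinOfCardEq ht ⟨w, hw⟩, by simp [hx]⟩
    obtain ⟨e, he⟩ := S.exists_fifth (hxi.ne (by decide : (0 : Fin 4) ≠ 1)) (hxi.ne (by decide : (0 : Fin 4) ≠ 2))
      (hxi.ne (by decide : (0 : Fin 4) ≠ 3)) (hxi.ne (by decide : (1 : Fin 4) ≠ 2))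
      (hxi.ne (by decide : (1 : Fin 4) ≠ 3)) (hxi.ne (by decide : (2 : Fin 4) ≠ 3))
    set y : Fin 5 → α := ![x 0, x 1, x 2, x 3, e] with hy
    have hyB : IsBlockTuple G y := he
    refine ⟨Finset.univ.image y, ⟨⟨y, hyB, rfl⟩, fun w hw => ?_⟩, ?_⟩
    · obtain ⟨i, rfl⟩ := htx w hw
      refine Finset.mem_image.2 ⟨i.castSucc, Finset.mem_univ _, ?_⟩
      fin_cases i <;> rfl
    rintro _ ⟨⟨s, hs, rfl⟩, hsub⟩
    have hex : ∀ i : Fin 4, ∃ j, s j = x i := fun i => by
      obtain ⟨j, -, hj⟩ := Finset.mem_image.1 (hsub (hxt i))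
      exact ⟨j, hj⟩
    choose j hj using hex
    have hjinj : Function.Injective j := fun a b h => hxi (by rw [← hj a, ← hj b, h])
    obtain ⟨r, -, hr⟩ : ∃ r ∈ (Finset.univ : Finset (Fin 5)), r ∉ Finset.univ.image j := by
      refine Finset.exists_mem_notMem_of_card_lt_card ?_
      rw [Finset.card_image_of_injective _ hjinj, Finset.card_univ, Finset.card_univ, Fintype.card_fin,
        Fintype.card_fin]
      norm_num
    have hrj : ∀ i, j i ≠ r := fun i h => hr (Finset.mem_image.2 ⟨i, Finset.mem_univ _, h⟩)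
    let f : Fin 5 → Fin 5 := ![j 0, j 1, j 2, j 3, r]
    have hf : Function.Injective f := by
      intro a b h
      fin_cases a <;> fin_cases b <;>
        first | rfl | (exfalso; simp [f, hjinj.eq_iff, hrj, (fun i => (hrj i).symm)] at h)
    let σ : Equiv.Perm (Fin 5) := Equiv.ofBijective f (Finite.injective_iff_bijective.1 hf)
    have h' : Fifth G (s (j 0)) (s (j 1)) (s (j 2)) (s (j 3)) (s r) := S.blockTuple_perm σ hs
    rw [hj, hj, hj, hj] at h'
    have heq : y = s ∘ f := by
      funext i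
      fin_cases i
      · exact (hj 0).symm
      · exact (hj 1).symm
      · exact (hj 2).symm
      · exact (hj 3).symm
      · exact S.fifth_unique he h'
    rw [heq, ← Finset.image_image, Finset.image_univ_of_surjective (Finite.injective_iff_surjective.1 hf)]

theorem smul_blockTuple (g : G) {s : Fin 5 → α} (h : IsBlockTuple G s) : IsBlockTuple G fun i => g • s i := by
  obtain ⟨h01, h02, h03, h04, h12, h13, h14, h23, h24, h34, z, h1, h2, h3, h4, h5⟩ := h
  have hne : ∀ {a b : α}, a ≠ b → g • a ≠ g • b := fun h e => h (smul_left_cancel g e)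
  refine ⟨hne h01, hne h02, hne h03, hne h04, hne h12, hne h13, hne h14, hne h23, hne h24, hne h34,
    g * z * g⁻¹, ?_, ?_, ?_, ?_, ?_⟩ <;> simp only [mul_smul, inv_smul_smul, h1, h2, h3, h4, h5]

/-- The group is the automorphism group of its Steiner system once the orders agree. -/
theorem equiv_aut (hinj : Function.Injective (MulAction.toPermHom G α))
    (hcard : Nat.card (setSystemAut (blocks G α)) = Nat.card G) :
    Nonempty (G ≃* setSystemAut (blocks G α)) := by
  have hle : ∀ (g : G) (b : Finset α), b ∈ blocks G α →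
      b.image (MulAction.toPermHom G α g) ∈ blocks G α := by
    rintro g _ ⟨s, hs, rfl⟩
    exact ⟨fun i => g • s i, S.smul_blockTuple g hs, by rw [Finset.image_image]; rfl⟩
  have hmem : ∀ g : G, MulAction.toPermHom G α g ∈ setSystemAut (blocks G α) := by
    intro g
    rw [MulAction.mem_stabilizer_iff]
    apply Set.Subset.antisymm
    · rintro _ ⟨b, hb, rfl⟩
      exact hle g b hb
    · intro b hb
      refine ⟨b.image (MulAction.toPermHom G α g⁻¹), hle g⁻¹ b hb, ?_⟩
      show Finset.image _ (Finset.image _ b) = b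
      rw [Finset.image_image]
      refine (Finset.image_congr (g := id) fun w _ => ?_).trans Finset.image_id
      simp [MulAction.toPermHom_apply]
  let f : G →* setSystemAut (blocks G α) := (MulAction.toPermHom G α).codRestrict _ hmem
  have hf : Function.Injective f := fun a b h => hinj (congrArg Subtype.val h)
  exact ⟨MulEquiv.ofBijective f ((Nat.bijective_iff_injective_and_card f).2 ⟨hf, hcard.symm⟩)⟩

end Sharp

end Cfsg.Agent.FGB.M11
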