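import Cfsg.Agent.Lib.FGB.M11Graph
import Cfsg.Agent.Lib.FGB.M11Sharp

/-!
# The eleven cliques and the sharply four-transitive action on them
-/

set_option autoImplicit false
set_option linter.style.haveILetI false
set_option linter.unusedSectionVars false

namespace Cfsg.Agent.FGB.M11

open Cfsg
open scoped Pointwise

universe u

variable {G : Type u} [Group G] [Finite G] [IsSimpleGroup G]

namespace Tri

variable (D : Tri G)

/-- The base clique. -/
def cliqueK : Set (Sylow 3 G) := insert D.P D.blockA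

/-- The other clique through the base. -/
def cliqueL : Set (Sylow 3 G) := insert D.P D.blockB

theorem A_mem {p : G} (hp : p ∈ (D.P : Subgroup G)) : p • D.Q1 ∈ D.blockA := D.mem_A.2 ⟨p, hp, rfl⟩

theorem Q1_A : D.Q1 ∈ D.blockA := D.mem_A.2 ⟨1, one_mem _, one_smul _ _⟩

theorem adj_AA {p q : G} (hp : p ∈ (D.P : Subgroup G)) (hq : q ∈ (D.P : Subgroup G)) (h : p ≠ q) :
    D.Adj (p • D.Q1) (q • D.Q1) := by
  have := Adj.smul D (D.key (mul_mem (inv_mem hp) hq) (fun e => h (inv_mul_eq_one.1 e))).1 p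
  rwa [smul_smul, mul_inv_cancel_left] at this

theorem adj_AB {p q : G} (hp : p ∈ (D.P : Subgroup G)) (hq : q ∈ (D.P : Subgroup G))
    (h : D.Adj (p • D.Q1) (q • D.Q2)) : p = q := by
  by_contra hne
  refine (D.key (mul_mem (inv_mem hp) hq) (fun e => hne (inv_mul_eq_one.1 e))).2 ?_
  have := Adj.smul D h p⁻¹
  rwa [inv_smul_smul, smul_smul] at this

/-- The recognition of a clique from two of its points. -/
def Phi (X Y W : Sylow 3 G) : Prop :=
  W = X ∨ W = Y ∨ (W ∈ D.common X Y ∧ ∃ W' ∈ D.common X Y, D.Adj W W')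

theorem phi_symm {X Y W : Sylow 3 G} (h : D.Phi X Y W) : D.Phi Y X W := by
  rcases h with h | h | ⟨⟨h1, h2⟩, W', ⟨h3, h4⟩, h5⟩
  · exact Or.inr (Or.inl h)
  · exact Or.inl h
  · exact Or.inr (Or.inr ⟨⟨h2, h1⟩, W', ⟨h4, h3⟩, h5⟩)

theorem phi_smul {X Y W : Sylow 3 G} (g : G) (h : D.Phi X Y W) : D.Phi (g • X) (g • Y) (g • W) := by
  rcases h with h | h | ⟨⟨h1, h2⟩, W', ⟨h3, h4⟩, h5⟩
  · exact Or.inl (by rw [h])
  · exact Or.inr (Or.inl (by rw [h]))
  · exact Or.inr (Or.inr ⟨⟨Adj.smul D h1 g, Adj.smul D h2 g⟩, g • W', ⟨Adj.smul D h3 g, Adj.smul D h4 g⟩, Adj.smul D h5 g⟩)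

theorem phi_iff {W : Sylow 3 G} : D.Phi D.P D.Q1 W ↔ W ∈ D.cliqueK := by
  constructor
  · rintro (h | h | ⟨⟨h1, h2⟩, W', ⟨h3, h4⟩, h5⟩)
    · exact Or.inl h
    · exact Or.inr (h ▸ D.Q1_A)
    · have hcase : ∀ V, D.Adj D.P V → D.Adj D.Q1 V → V ∈ D.blockA ∨ V = D.Q2 := by
        intro V a b
        rcases D.adj_P.1 a with h | h
        · exact Or.inl h
        · obtain ⟨q, hq, rfl⟩ := D.mem_B.1 h
          rw [← one_smul G D.Q1] at b
          rw [← D.adj_AB (one_mem _) hq b, one_smul]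
          exact Or.inr rfl
      rcases hcase W h1 h2 with h | rfl
      · exact Or.inr h
      · exfalso
        rcases hcase W' h3 h4 with h | rfl
        · obtain ⟨p, hp, rfl⟩ := D.mem_A.1 h
          have h6 := D.adj_symm h5
          rw [← one_smul G D.Q2] at h6
          rw [D.adj_AB hp (one_mem _) h6, one_smul] at h4
          exact D.adj_irrefl _ h4
        · exact D.adj_irrefl _ h5
  · rintro (rfl | h)
    · exact Or.inl rfl
    · obtain ⟨p, hp, rfl⟩ := D.mem_A.1 h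
      rcases eq_or_ne p 1 with rfl | hp1
      · exact Or.inr (Or.inl (one_smul _ _))
      · have hne : p ≠ p⁻¹ := fun e =>
          hp1 (D.toLoc.eq_one_of_P hp (by rw [pow_two]; exact mul_eq_one_iff_eq_inv.2 e))
        have hadj : ∀ r ∈ (D.P : Subgroup G), r ≠ 1 → D.Adj D.Q1 (r • D.Q1) := fun r hr h1 => (D.key hr h1).1
        exact Or.inr (Or.inr ⟨⟨D.adj_P.2 (Or.inl h), hadj p hp hp1⟩, p⁻¹ • D.Q1,
          ⟨D.adj_P.2 (Or.inl (D.A_mem (inv_mem hp))), hadj _ (inv_mem hp) (inv_ne_one.2 hp1)⟩,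
          D.adj_AA hp (inv_mem hp) hne⟩)

theorem fix_K_of_pair {g : G} (h : (g • D.P = D.P ∧ g • D.Q1 = D.Q1) ∨ (g • D.P = D.Q1 ∧ g • D.Q1 = D.P)) :
    g • D.cliqueK = D.cliqueK := by
  have hsub : g • D.cliqueK ⊆ D.cliqueK := by
    rintro _ ⟨W, hW, rfl⟩
    have h' := D.phi_smul g (D.phi_iff.2 hW)
    rcases h with ⟨h1, h2⟩ | ⟨h1, h2⟩ <;> rw [h1, h2] at h'
    · exact D.phi_iff.1 h'
    · exact D.phi_iff.1 (D.phi_symm h')
  exact Set.eq_of_subset_of_ncard_le hsub (by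
    rw [show g • D.cliqueK = (g • ·) '' D.cliqueK from rfl, Set.ncard_image_of_injective _ (MulAction.injective g)])

theorem smul_range {g : G} (hg : g ∈ (D.P : Subgroup G)) (Q : Sylow 3 G) :
    g • insert D.P (Set.range fun p : (D.P : Subgroup G) => (p : G) • Q) =
      insert D.P (Set.range fun p : (D.P : Subgroup G) => (p : G) • Q) := by
  refine Set.eq_of_subset_of_ncard_le ?_ (by
    rw [show g • insert D.P (Set.range fun p : (D.P : Subgroup G) => (p : G) • Q) = (g • ·) '' _ from rfl,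
      Set.ncard_image_of_injective _ (MulAction.injective g)])
  rintro _ ⟨W, rfl | ⟨p, rfl⟩, rfl⟩
  · exact Or.inl (D.P_fix hg)
  · exact Or.inr ⟨⟨g * p, mul_mem hg p.2⟩, (smul_smul g (p : G) Q).symm⟩

theorem P_K {g : G} (hg : g ∈ (D.P : Subgroup G)) : g • D.cliqueK = D.cliqueK := D.smul_range hg D.Q1

theorem P_L {g : G} (hg : g ∈ (D.P : Subgroup G)) : g • D.cliqueL = D.cliqueL := D.smul_range hg D.Q2

theorem swap_K {t : G} (ht : t ∈ D.toLoc.T) (h : t • D.Q1 = D.Q2) : t • D.cliqueK = D.cliqueL := by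
  have hcK : D.cliqueK.ncard = 10 := by rw [cliqueK, Set.ncard_insert_of_notMem D.P_not_A, D.ncard_A]
  have hcL : D.cliqueL.ncard = 10 := by rw [cliqueL, Set.ncard_insert_of_notMem D.P_not_B, D.ncard_B]
  refine Set.eq_of_subset_of_ncard_le ?_ (by
    rw [show t • D.cliqueK = (t • ·) '' D.cliqueK from rfl, Set.ncard_image_of_injective _ (MulAction.injective t), hcK, hcL])
  rintro _ ⟨W, rfl | ⟨p, rfl⟩, rfl⟩
  · exact Or.inl (D.T_fix ht)
  · refine Or.inr (D.mem_B.2 ⟨t * p * t⁻¹, D.toLoc.conj_mem (D.toLoc.mem_T.1 ht).1 p.2, ?_⟩)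
    rw [← h, smul_smul, inv_mul_cancel_right, ← smul_smul]

theorem Q2_not_K : D.Q2 ∉ D.cliqueK := by
  rintro (h | h)
  · exact D.Q2_ne h
  · obtain ⟨p, hp, e⟩ := D.mem_A.1 h
    exact D.AB_disjoint hp (one_mem _) (by rw [e, one_smul])

theorem K_ne_L : D.cliqueK ≠ D.cliqueL := fun h =>
  D.Q2_not_K (h ▸ Or.inr (D.mem_B.2 ⟨1, one_mem _, one_smul _ _⟩))

theorem N_K {n : G} (hn : n ∈ D.toLoc.N) : n • D.cliqueK = D.cliqueK ∨ n • D.cliqueK = D.cliqueL := by
  obtain ⟨q, hq, t, ht, rfl⟩ := D.toLoc.decomp hn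
  rcases D.T_Q1 ht with h | h
  · exact Or.inl (by rw [← smul_smul, D.fix_K_of_pair (Or.inl ⟨D.T_fix ht, h⟩), D.P_K hq])
  · exact Or.inr (by rw [← smul_smul, D.swap_K ht h, D.P_L hq])

theorem exists_to_point {X : Sylow 3 G} (hX : X ∈ D.cliqueK) : ∃ h : G, h • D.cliqueK = D.cliqueK ∧ h • D.P = X := by
  rcases hX with rfl | h
  · exact ⟨1, one_smul _ _, one_smul _ _⟩
  · obtain ⟨p, hp, rfl⟩ := D.mem_A.1 h
    obtain ⟨s, s1, s2⟩ := D.exists_flip
    exact ⟨p * s, by rw [← smul_smul, D.fix_K_of_pair (Or.inr ⟨s1, s2⟩), D.P_K hp], by rw [← smul_smul, s1]⟩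

theorem L_orbit : D.cliqueL ∈ MulAction.orbit G D.cliqueK := by
  obtain ⟨τ, hτ, h1, -⟩ := D.exists_swap
  exact ⟨τ, D.swap_K hτ h1⟩

theorem through_P {M : Set (Sylow 3 G)} (hM : M ∈ MulAction.orbit G D.cliqueK) (hP : D.P ∈ M) :
    M = D.cliqueK ∨ M = D.cliqueL := by
  obtain ⟨g, rfl⟩ := hM
  obtain ⟨h, hK, hh⟩ := D.exists_to_point (Set.mem_smul_set_iff_inv_smul_mem.1 hP)
  have hn : g * h ∈ D.toLoc.N := Sylow.smul_eq_iff_mem_normalizer.1 (by rw [← smul_smul, hh, smul_inv_smul])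
  have e : g • D.cliqueK = (g * h) • D.cliqueK := by rw [← smul_smul, hK]
  show g • D.cliqueK = _ ∨ g • D.cliqueK = _
  rw [e]
  exact D.N_K hn

theorem two_points {M M' : Set (Sylow 3 G)} (hM : M ∈ MulAction.orbit G D.cliqueK)
    (hM' : M' ∈ MulAction.orbit G D.cliqueK) (hne : M ≠ M') {X Y : Sylow 3 G}
    (hXM : X ∈ M) (hXM' : X ∈ M') (hYM : Y ∈ M) (hYM' : Y ∈ M') : X = Y := by
  obtain ⟨g, rfl⟩ := MulAction.exists_smul_eq G D.P X
  have e1 := D.through_P (MulAction.mem_orbit_of_mem_orbit g⁻¹ hM) (Set.mem_smul_set_iff_inv_smul_mem.2 (by rw [inv_inv]; exact hXM))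
  have e2 := D.through_P (MulAction.mem_orbit_of_mem_orbit g⁻¹ hM') (Set.mem_smul_set_iff_inv_smul_mem.2 (by rw [inv_inv]; exact hXM'))
  have a := Set.smul_mem_smul_set (a := g⁻¹) hYM
  have b := Set.smul_mem_smul_set (a := g⁻¹) hYM'
  have hboth : g⁻¹ • Y ∈ D.cliqueK ∧ g⁻¹ • Y ∈ D.cliqueL := by
    rcases e1 with e1 | e1 <;> rcases e2 with e2 | e2 <;> rw [e1] at a <;> rw [e2] at b
    · exact absurd (smul_left_cancel g⁻¹ (e1.trans e2.symm)) hne
    · exact ⟨a, b⟩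
    · exact ⟨b, a⟩
    · exact absurd (smul_left_cancel g⁻¹ (e1.trans e2.symm)) hne
  obtain ⟨h1, h2⟩ := hboth
  have hP : g⁻¹ • Y = D.P := by
    rcases h1 with h1 | h1
    · exact h1
    · rcases h2 with h2 | h2
      · exact h2
      · obtain ⟨p, hp, ep⟩ := D.mem_A.1 h1
        obtain ⟨q, hq, eq⟩ := D.mem_B.1 h2
        exact absurd (ep.trans eq.symm) (D.AB_disjoint hp hq)
  rw [← hP, smul_inv_smul]

theorem other_unique {M M' : Set (Sylow 3 G)} (hM : M ∈ MulAction.orbit G D.cliqueK)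
    (hM' : M' ∈ MulAction.orbit G D.cliqueK) (hMK : M ≠ D.cliqueK) (hM'K : M' ≠ D.cliqueK)
    {X : Sylow 3 G} (hX : X ∈ D.cliqueK) (hXM : X ∈ M) (hXM' : X ∈ M') : M = M' := by
  obtain ⟨h, hK, rfl⟩ := D.exists_to_point hX
  have key : ∀ V ∈ MulAction.orbit G D.cliqueK, h • D.P ∈ V → V ≠ D.cliqueK → V = h • D.cliqueL := by
    intro V hV hPV hVK
    rcases D.through_P (MulAction.mem_orbit_of_mem_orbit h⁻¹ hV)
      (Set.mem_smul_set_iff_inv_smul_mem.2 (by rw [inv_inv]; exact hPV)) with e | e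
    · exact absurd (by rw [← smul_inv_smul h V, e, hK]) hVK
    · rw [← smul_inv_smul h V, e]
  rw [key M hM hXM hMK, key M' hM' hXM' hM'K]

theorem other_exists {X : Sylow 3 G} (hX : X ∈ D.cliqueK) :
    ∃ M ∈ MulAction.orbit G D.cliqueK, M ≠ D.cliqueK ∧ X ∈ M := by
  obtain ⟨h, hK, rfl⟩ := D.exists_to_point hX
  refine ⟨h • D.cliqueL, MulAction.mem_orbit_of_mem_orbit h D.L_orbit, fun e => ?_, Set.smul_mem_smul_set (Or.inl rfl)⟩
  exact D.K_ne_L (smul_left_cancel h (hK.trans e.symm))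

theorem card_orbit : Nat.card (MulAction.orbit G D.cliqueK) = 11 := by
  set H := MulAction.stabilizer G D.cliqueK with hH
  have horb : MulAction.orbit H D.P = D.cliqueK := by
    refine Set.Subset.antisymm ?_ fun X hX => ?_
    · rintro _ ⟨h, rfl⟩
      have := Set.smul_mem_smul_set (a := (h : G)) (show D.P ∈ D.cliqueK from Or.inl rfl)
      rwa [MulAction.mem_stabilizer_iff.1 h.2] at this
    · obtain ⟨h, hK, rfl⟩ := D.exists_to_point hX
      exact ⟨⟨h, MulAction.mem_stabilizer_iff.2 hK⟩, rfl⟩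
  have h1 := Subgroup.card_mul_index (MulAction.stabilizer H D.P)
  rw [MulAction.index_stabilizer, horb, cliqueK, Set.ncard_insert_of_notMem D.P_not_A, D.ncard_A] at h1
  let f : ↥(D.P : Subgroup G) × D.T1 → MulAction.stabilizer H D.P := fun x =>
    ⟨⟨(x.1 : G) * x.2, MulAction.mem_stabilizer_iff.2 (by
      rw [← smul_smul, D.fix_K_of_pair (Or.inl ⟨D.T_fix (D.mem_T1.1 x.2.2).1, (D.mem_T1.1 x.2.2).2⟩), D.P_K x.1.2])⟩,
      MulAction.mem_stabilizer_iff.2 (show ((x.1 : G) * x.2) • D.P = D.P by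
        rw [← smul_smul, D.T_fix (D.mem_T1.1 x.2.2).1, D.P_fix x.1.2])⟩
  have hf : Function.Bijective f := by
    constructor
    · rintro ⟨p, t⟩ ⟨p', t'⟩ h
      have h' : (p : G) * t = p' * t' := congrArg Subtype.val (congrArg Subtype.val h)
      have e : (p' : G)⁻¹ * p = t' * (t : G)⁻¹ := by
        calc (p' : G)⁻¹ * p = (p' : G)⁻¹ * (p * t) * (t : G)⁻¹ := by group
          _ = _ := by rw [h']; group
      have h1 := D.toLoc.T_P (mul_mem (inv_mem p'.2) p.2)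
        (e ▸ mul_mem (D.mem_T1.1 t'.2).1 (inv_mem (D.mem_T1.1 t.2).1))
      have h2 : p = p' := Subtype.ext (inv_mul_eq_one.1 h1).symm
      subst h2
      exact Prod.ext rfl (Subtype.ext (mul_left_cancel h'))
    · rintro ⟨⟨g, hgK⟩, hgP⟩
      have hgP' : g • D.P = D.P := hgP
      obtain ⟨q, hq, t, ht, e⟩ := D.toLoc.decomp (Sylow.smul_eq_iff_mem_normalizer.1 hgP')
      rcases D.T_Q1 ht with h | h
      · exact ⟨(⟨q, hq⟩, ⟨t, D.mem_T1.2 ⟨ht, h⟩⟩), Subtype.ext (Subtype.ext e.symm)⟩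
      · have := MulAction.mem_stabilizer_iff.1 hgK
        rw [e, ← smul_smul, D.swap_K ht h, D.P_L hq] at this
        exact absurd this.symm D.K_ne_L
  have h2 := Nat.card_congr (Equiv.ofBijective f hf)
  rw [Nat.card_prod, D.toLoc.card_P, D.card_T1] at h2
  rw [← h2] at h1
  have h3 := Subgroup.card_mul_index H
  rw [MulAction.index_stabilizer, D.hG, ← h1] at h3
  rw [Nat.card_coe_set_eq]
  omega

theorem meets {M : Set (Sylow 3 G)} (hM : M ∈ MulAction.orbit G D.cliqueK) (hMK : M ≠ D.cliqueK) :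
    ∃ X ∈ D.cliqueK, X ∈ M := by
  choose f hf1 hf2 hf3 using fun X : D.cliqueK => D.other_exists X.2
  let F : D.cliqueK → ↥(MulAction.orbit G D.cliqueK \ {D.cliqueK}) := fun X => ⟨f X, hf1 X, hf2 X⟩
  have hinj : Function.Injective F := fun X Y h => by
    have e : f X = f Y := congrArg Subtype.val h
    refine Subtype.ext (D.two_points (hf1 X) (MulAction.mem_orbit_self _) (hf2 X) (hf3 X) X.2 ?_ Y.2)
    rw [e]; exact hf3 Y
  have hsurj := ((Nat.bijective_iff_injective_and_card F).2 ⟨hinj, by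
    rw [Nat.card_coe_set_eq, Nat.card_coe_set_eq, Set.ncard_sdiff_singleton_of_mem (MulAction.mem_orbit_self _),
      ← Nat.card_coe_set_eq (MulAction.orbit G D.cliqueK), D.card_orbit, cliqueK,
      Set.ncard_insert_of_notMem D.P_not_A, D.ncard_A]⟩).2
  obtain ⟨X, hX⟩ := hsurj ⟨M, hM, hMK⟩
  have e : f X = M := congrArg Subtype.val hX
  refine ⟨X, X.2, ?_⟩
  rw [← e]
  exact hf3 X

theorem normal_form : ∃ std : Fin 4 → MulAction.orbit G D.cliqueK,
    ∀ M : Fin 4 → MulAction.orbit G D.cliqueK, Function.Injective M → ∃ g : G, ∀ i, g • M i = std i := by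
  obtain ⟨x0, hx0, hx01⟩ : ∃ x ∈ (D.P : Subgroup G), x ≠ 1 := by
    haveI : Fact (Nat.Prime 3) := ⟨Nat.prime_three⟩
    obtain ⟨x, hx⟩ := exists_prime_orderOf_dvd_card' (G := (D.P : Subgroup G)) 3 (by rw [D.toLoc.card_P]; norm_num)
    refine ⟨x, x.2, fun e => ?_⟩
    rw [← Subgroup.orderOf_coe, e, orderOf_one] at hx
    omega
  have hQ1 : D.Q1 ∈ D.cliqueK := Or.inr D.Q1_A
  have hxQ : x0 • D.Q1 ∈ D.cliqueK := Or.inr (D.A_mem hx0)
  obtain ⟨R, hR, hRK, hR1⟩ := D.other_exists hQ1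
  obtain ⟨R', hR', hR'K, hR'1⟩ := D.other_exists hxQ
  refine ⟨![⟨D.cliqueK, MulAction.mem_orbit_self _⟩, ⟨D.cliqueL, D.L_orbit⟩, ⟨R, hR⟩, ⟨R', hR'⟩], fun M hM => ?_⟩
  have ne : ∀ (g : G) (i j : Fin 4), i ≠ j → g • (M i : Set (Sylow 3 G)) ≠ g • (M j : Set (Sylow 3 G)) :=
    fun g i j hij e => hij (hM (Subtype.ext (smul_left_cancel g e)))
  have orb : ∀ (g : G) (i : Fin 4), g • (M i : Set (Sylow 3 G)) ∈ MulAction.orbit G D.cliqueK :=
    fun g i => MulAction.mem_orbit_of_mem_orbit g (M i).2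
  have neK : ∀ (g : G), g • (M 0 : Set (Sylow 3 G)) = D.cliqueK → ∀ i : Fin 4, i ≠ 0 →
      g • (M i : Set (Sylow 3 G)) ≠ D.cliqueK := fun g e i hi h => ne g i 0 hi (h.trans e.symm)
  obtain ⟨g₀, hg₀⟩ := (M 0).2
  set g1 := g₀⁻¹ with hg1
  have e0 : g1 • (M 0 : Set (Sylow 3 G)) = D.cliqueK := by rw [hg1, inv_smul_eq_iff]; exact hg₀.symm
  obtain ⟨X, hXK, hX⟩ := D.meets (orb g1 1) (neK _ e0 1 (by decide))
  obtain ⟨h, hK, rfl⟩ := D.exists_to_point hXK
  set g2 := h⁻¹ * g1 with hg2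
  have a0 : g2 • (M 0 : Set (Sylow 3 G)) = D.cliqueK := by
    rw [hg2, ← smul_smul, e0, inv_smul_eq_iff, hK]
  have a1 : g2 • (M 1 : Set (Sylow 3 G)) = D.cliqueL := (D.through_P (orb g2 1) (by
      rw [hg2, ← smul_smul]
      exact Set.mem_smul_set_iff_inv_smul_mem.2 (by rw [inv_inv]; exact hX))).resolve_left
    (neK _ a0 1 (by decide))
  obtain ⟨X, hXK, hX⟩ := D.meets (orb g2 2) (neK _ a0 2 (by decide))
  obtain ⟨p, hp, rfl⟩ : ∃ p ∈ (D.P : Subgroup G), p • D.Q1 = X := by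
    rcases hXK with rfl | h
    · rcases D.through_P (orb g2 2) hX with e | e
      · exact absurd (e.trans a0.symm) (ne g2 2 0 (by decide))
      · exact absurd (e.trans a1.symm) (ne g2 2 1 (by decide))
    · exact D.mem_A.1 h
  set g3 := p⁻¹ * g2 with hg3
  have b0 : g3 • (M 0 : Set (Sylow 3 G)) = D.cliqueK := by rw [hg3, ← smul_smul, a0, D.P_K (inv_mem hp)]
  have b1 : g3 • (M 1 : Set (Sylow 3 G)) = D.cliqueL := by rw [hg3, ← smul_smul, a1, D.P_L (inv_mem hp)]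
  have b2 : g3 • (M 2 : Set (Sylow 3 G)) = R := D.other_unique (orb g3 2) hR (neK _ b0 2 (by decide)) hRK hQ1
    (by rw [hg3, ← smul_smul]; exact Set.mem_smul_set_iff_inv_smul_mem.2 (by rw [inv_inv]; exact hX)) hR1
  obtain ⟨X, hXK, hX⟩ := D.meets (orb g3 3) (neK _ b0 3 (by decide))
  obtain ⟨q, hq, rfl⟩ : ∃ q ∈ (D.P : Subgroup G), q • D.Q1 = X := by
    rcases hXK with rfl | h
    · rcases D.through_P (orb g3 3) hX with e | e
      · exact absurd (e.trans b0.symm) (ne g3 3 0 (by decide))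
      · exact absurd (e.trans b1.symm) (ne g3 3 1 (by decide))
    · exact D.mem_A.1 h
  have hq1 : q ≠ 1 := fun e => ne g3 3 2 (by decide) (by
    rw [b2]
    exact D.other_unique (orb g3 3) hR (neK _ b0 3 (by decide)) hRK hQ1 (by rwa [e, one_smul] at hX) hR1)
  obtain ⟨t, ht, et⟩ := D.T1_trans hq hx0 hq1 hx01
  obtain ⟨htT, ht1⟩ := D.mem_T1.1 ht
  have c0 : (t * g3) • (M 0 : Set (Sylow 3 G)) = D.cliqueK := by
    rw [← smul_smul, b0, D.fix_K_of_pair (Or.inl ⟨D.T_fix htT, ht1⟩)]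
  have c1 : (t * g3) • (M 1 : Set (Sylow 3 G)) = D.cliqueL := (D.through_P (orb _ 1) (by
      rw [← smul_smul, b1]
      have := Set.smul_mem_smul_set (a := t) (show D.P ∈ D.cliqueL from Or.inl rfl)
      rwa [D.T_fix htT] at this)).resolve_left (neK _ c0 1 (by decide))
  have c2 : (t * g3) • (M 2 : Set (Sylow 3 G)) = R := D.other_unique (orb _ 2) hR (neK _ c0 2 (by decide)) hRK hQ1
    (by
      rw [← smul_smul, b2]
      have := Set.smul_mem_smul_set (a := t) hR1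
      rwa [ht1] at this) hR1
  have c3 : (t * g3) • (M 3 : Set (Sylow 3 G)) = R' := D.other_unique (orb _ 3) hR' (neK _ c0 3 (by decide)) hR'K hxQ
    (by
      rw [← smul_smul]
      have := Set.smul_mem_smul_set (a := t) hX
      rwa [show t • (q • D.Q1) = x0 • D.Q1 by rw [← et, ← smul_smul (t * q), inv_smul_eq_iff.2 ht1.symm, smul_smul]] at this) hR'1
  refine ⟨t * g3, fun i => Subtype.ext ?_⟩
  fin_cases i
  exacts [c0, c1, c2, c3]

theorem exists_sharp (hG : Nat.card G = 7920) :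
    ∃ (α : Type u) (_ : MulAction G α) (_ : Fintype α), Sharp G α := by
  obtain ⟨D⟩ := exists_tri (G := G) hG
  classical
  haveI := Fintype.ofFinite (MulAction.orbit G D.cliqueK)
  refine ⟨MulAction.orbit G D.cliqueK, inferInstance, inferInstance, ?_⟩
  obtain ⟨std, hstd⟩ := D.normal_form
  have hcard : Fintype.card (MulAction.orbit G D.cliqueK) = 11 := by rw [← Nat.card_eq_fintype_card, D.card_orbit]
  have htrans : ∀ x y : Fin 4 → MulAction.orbit G D.cliqueK, Function.Injective x → Function.Injective y →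
      ∃ g : G, ∀ i, g • x i = y i := fun x y hx hy => by
    obtain ⟨g, hg⟩ := hstd x hx
    obtain ⟨g', hg'⟩ := hstd y hy
    exact ⟨g'⁻¹ * g, fun i => by rw [← smul_smul, hg, inv_smul_eq_iff, hg']⟩
  refine ⟨hcard, htrans, fun g x hx hgx => ?_⟩
  let F : G → (Fin 4 ↪ MulAction.orbit G D.cliqueK) := fun a => ⟨fun i => a • x i, (MulAction.injective a).comp hx⟩
  have hinj : Function.Injective F := ((Nat.bijective_iff_surjective_and_card F).2
    ⟨fun y => (htrans x y hx y.injective).imp fun a ha => DFunLike.ext _ _ ha, by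
      rw [hG, Nat.card_eq_fintype_card, Fintype.card_embedding_eq, Fintype.card_fin, hcard]; decide⟩).1
  exact hinj (DFunLike.ext _ _ fun i => (hgx i).trans (one_smul G (x i)).symm)

end Tri

end Cfsg.Agent.FGB.M11
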