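import Cfsg.Agent.Lib.FGB.M11Basic

/-!
# The degrees of the characters of a simple group of order 7920
-/

set_option autoImplicit false
set_option linter.style.haveILetI false
set_option linter.unusedSectionVars false

namespace Cfsg.Agent.FGB.M11

open Cfsg
open Cfsg.Agent.SmallSimple
open scoped ComplexConjugate

universe u

variable {G : Type u} [Group G] [Finite G] [IsSimpleGroup G]

/-- A simple group of the order of `M11` is not commutative. -/
theorem noncomm (hG : Nat.card G = 7920) : ¬ IsMulCommutative G :=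
  not_isMulCommutative (by rw [hG]; norm_num)

theorem card_sylow_prime (hG : Nat.card G = 7920) {p : ℕ} [Fact p.Prime] {m : ℕ} (hm : 7920 = p * m)
    (hpm : ¬ p ∣ m) (P : Sylow p G) : Nat.card P = p := by
  simpa using card_sylow_of_eq (k := 1) (m := m) P (by rw [hG, hm, pow_one]) hpm

set_option maxRecDepth 8000 in
theorem eleven_cases : ∀ n ∈ Nat.divisors 720, ∀ e ∈ Nat.divisors 10, n % 11 = 1 → n ≠ 1 → e ≠ 1 →
    ∀ c : ℕ, n * (e * c) = 720 → (e = 5 ∧ c = 1) ∨ ((e = 2 ∨ e = 5 ∨ e = 10) ∧ c ≠ 1) := by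
  intro n hn e he
  fin_cases he <;> fin_cases hn <;> omega

theorem no_big_two : searchL (bigCands 7920 11 88) (2 * 11) 7920 11 2 (2 - 1) 1 1 = false := by
  decide +kernel

theorem no_big_five : searchL (bigCands 7920 11 88) (2 * 11) 7920 11 5 (5 - 1) 1 1 = false := by
  decide +kernel

theorem no_big_ten : searchL (bigCands 7920 11 88) (2 * 11) 7920 11 10 (10 - 1) 1 1 = false := by
  decide +kernel

/-- The normalizer of a subgroup of order eleven is a Frobenius group of order 55. -/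
theorem eleven (hG : Nat.card G = 7920) : ∃ P : Sylow 11 G,
    Nat.card P = 11 ∧ Nat.card (Subgroup.centralizer ((P : Subgroup G) : Set G)) = 11 ∧
    Nat.card (Subgroup.normalizer ((P : Subgroup G) : Set G)) = 55 := by
  haveI : Fact (Nat.Prime 11) := ⟨by norm_num⟩
  obtain ⟨n, e, c, hn, hn1, hn2, he, he1, hnec, -, P, -, hN, hC⟩ :=
    block_data (G := G) 11 (N := 7920) (m := 720) (B := 88) hG (by norm_num) (by norm_num) (by norm_num) (by norm_num)
  have hP := card_sylow_prime hG (p := 11) (m := 720) (by norm_num) (by norm_num) P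
  rcases eleven_cases n (Nat.mem_divisors.2 ⟨hn, by norm_num⟩) e (Nat.mem_divisors.2 ⟨he, by norm_num⟩)
    hn1 hn2 he1 c hnec with ⟨rfl, rfl⟩ | ⟨hee, hc⟩
  · exact ⟨P, hP, by rw [hC], by rw [hN]⟩
  · exfalso
    have h := search_big (noncomm hG) (p := 11) (N := 7920) (B := 88) hG (by norm_num) P hP he1 hN hC hc
    rcases hee with rfl | rfl | rfl
    · exact absurd h (by rw [no_big_two]; simp)
    · exact absurd h (by rw [no_big_five]; simp)
    · exact absurd h (by rw [no_big_ten]; simp)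

set_option maxRecDepth 8000 in
theorem five_cases : ∀ n ∈ Nat.divisors 1584, ∀ e ∈ Nat.divisors 4, n % 5 = 1 → n ≠ 1 → e ≠ 1 →
    ∀ c : ℕ, n * (e * c) = 1584 → (c % 2 = 0) ∨ (e = 4 ∧ c = 1) ∨ (e = 4 ∧ c = 11) := by
  intro n hn e he
  fin_cases he <;> fin_cases hn <;> omega

/-- Either the normalizer of a subgroup of order five has order 20, or an involution centralizes it. -/
theorem five_pre (hG : Nat.card G = 7920) : ∃ P : Sylow 5 G, Nat.card P = 5 ∧
    ((Nat.card (Subgroup.centralizer ((P : Subgroup G) : Set G)) = 5 ∧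
      Nat.card (Subgroup.normalizer ((P : Subgroup G) : Set G)) = 20) ∨
    ∃ x t : G, orderOf x = 5 ∧ orderOf t = 2 ∧ Commute x t) := by
  haveI : Fact (Nat.Prime 5) := ⟨by norm_num⟩
  haveI : Fact (Nat.Prime 11) := ⟨by norm_num⟩
  haveI : Fact (Nat.Prime 2) := ⟨Nat.prime_two⟩
  obtain ⟨n, e, c, hn, hn1, hn2, he, he1, hnec, -, P, -, hN, hC⟩ :=
    block_data (G := G) 5 (N := 7920) (m := 1584) (B := 88) hG (by norm_num) (by norm_num) (by norm_num) (by norm_num)
  have hP := card_sylow_prime hG (p := 5) (m := 1584) (by norm_num) (by norm_num) P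
  refine ⟨P, hP, ?_⟩
  obtain ⟨x₀, hx₀⟩ := exists_prime_orderOf_dvd_card' (G := (P : Subgroup G)) 5 (by rw [hP])
  have hcase := five_cases n (Nat.mem_divisors.2 ⟨hn, by norm_num⟩) e (Nat.mem_divisors.2 ⟨he, by norm_num⟩)
    hn1 hn2 he1 c hnec
  rcases hcase with hc | ⟨rfl, rfl⟩ | ⟨rfl, rfl⟩
  · right
    obtain ⟨t₀, ht₀⟩ := exists_prime_orderOf_dvd_card'
      (G := Subgroup.centralizer ((P : Subgroup G) : Set G)) 2
      (by rw [hC]; exact Dvd.dvd.mul_left (Nat.dvd_of_mod_eq_zero hc) 5)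
    exact ⟨x₀, t₀, by rw [Subgroup.orderOf_coe, hx₀], by rw [Subgroup.orderOf_coe, ht₀],
      Subgroup.mem_centralizer_iff.1 t₀.2 _ x₀.2⟩
  · exact Or.inl ⟨by rw [hC], by rw [hN]⟩
  · exfalso
    obtain ⟨g₀, hg₀⟩ := exists_prime_orderOf_dvd_card'
      (G := Subgroup.centralizer ((P : Subgroup G) : Set G)) 11 (by rw [hC]; exact dvd_mul_left 11 5)
    obtain ⟨Q, hQ, hQC, -⟩ := eleven hG
    obtain ⟨R, hR⟩ := (IsPGroup.of_card (n := 1) (p := 11)
      (by rw [pow_one, Nat.card_zpowers, Subgroup.orderOf_coe, hg₀]) :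
      IsPGroup 11 (Subgroup.zpowers (g₀ : G))).exists_le_sylow
    have hRcard := card_sylow_prime hG (p := 11) (m := 720) (by norm_num) (by norm_num) R
    have hgR : (g₀ : G) ∈ (R : Subgroup G) := hR (Subgroup.mem_zpowers _)
    have hg1 : (g₀ : G) ≠ 1 := fun h => by
      have : orderOf (g₀ : G) = 11 := by rw [Subgroup.orderOf_coe, hg₀]
      rw [h, orderOf_one] at this
      omega
    have hx : (x₀ : G) ∈ Subgroup.centralizer ((R : Subgroup G) : Set G) := by
      rw [← centralizer_eq_of_prime hRcard hgR hg1, Subgroup.mem_centralizer_singleton_iff]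
      exact Subgroup.mem_centralizer_iff.1 g₀.2 _ x₀.2
    obtain ⟨h, rfl⟩ := MulAction.exists_smul_eq G Q R
    have hy : h⁻¹ * (x₀ : G) * h ∈ Subgroup.centralizer ((Q : Subgroup G) : Set G) := by
      rw [Subgroup.mem_centralizer_iff]
      intro q hq
      have h1 := Subgroup.mem_centralizer_iff.1 hx (h * q * h⁻¹)
        (show h * q * h⁻¹ ∈ (Q : Subgroup G).map (MulAut.conj h).toMonoidHom from ⟨q, hq, rfl⟩)
      calc q * (h⁻¹ * (x₀ : G) * h) = h⁻¹ * (h * q * h⁻¹ * (x₀ : G)) * h := by group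
        _ = h⁻¹ * ((x₀ : G) * (h * q * h⁻¹)) * h := by rw [h1]
        _ = h⁻¹ * (x₀ : G) * h * q := by group
    have := Subgroup.orderOf_dvd_natCard _ hy
    rw [hQC, show h⁻¹ * (x₀ : G) * h = MulAut.conj h⁻¹ (x₀ : G) by simp, MulEquiv.orderOf_eq,
      Subgroup.orderOf_coe, hx₀] at this
    norm_num at this

theorem eleven_values : ∀ d ∈ Nat.divisors 7920, d ≤ 88 → 2 ≤ d →
    (d % 11 = 1 → d = 12 ∨ d = 45) ∧ (d % 11 = 10 → d = 10) := by decide +kernel

theorem pattern : ∀ a : ℕ, a < 5 → ∀ b : ℕ, b < 5 → ∀ c : ℕ, c < 5 → a + b + c = 4 →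
    (1 - 10 * (a : ℤ) + 12 * b + 45 * c - 5) % 11 = 0 →
    (1 - 10 * (a : ℤ) + 12 * b + 45 * c).natAbs ∣ 7920 →
    (1 : ℤ) + 100 * a + 144 * b + 2025 * c + 2 * (1 - 10 * (a : ℤ) + 12 * b + 45 * c) ^ 2 ≤ 7920 →
    (a = 2 ∧ b = 2 ∧ c = 0) ∨ (a = 3 ∧ b = 0 ∧ c = 1) := by
  intro a ha b hb c hc h
  interval_cases a <;> interval_cases b <;> interval_cases c <;> first | omega | norm_num

/-- A function with three values. -/
theorem three_valued {α : Type*} (s : Finset α) (f : α → ℤ) {u v w : ℤ} (huv : u ≠ v) (huw : u ≠ w) (hvw : v ≠ w)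
    (h : ∀ i ∈ s, f i = u ∨ f i = v ∨ f i = w) :
    s.card = (s.filter fun i => f i = u).card + (s.filter fun i => f i = v).card + (s.filter fun i => f i = w).card ∧
    ∀ φ : ℤ → ℤ, ∑ i ∈ s, φ (f i) = ((s.filter fun i => f i = u).card : ℤ) * φ u +
      ((s.filter fun i => f i = v).card : ℤ) * φ v + ((s.filter fun i => f i = w).card : ℤ) * φ w := by
  classical
  have key : ∀ φ : ℤ → ℤ, ∑ i ∈ s, φ (f i) = ((s.filter fun i => f i = u).card : ℤ) * φ u +
      ((s.filter fun i => f i = v).card : ℤ) * φ v + ((s.filter fun i => f i = w).card : ℤ) * φ w := fun φ => by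
    have e : ∀ i ∈ s, φ (f i) = (if f i = u then φ u else 0) + (if f i = v then φ v else 0) +
        (if f i = w then φ w else 0) := fun i hi => by
      rcases h i hi with h | h | h <;> simp [h, huv, huw, hvw, huv.symm, huw.symm, hvw.symm]
    rw [Finset.sum_congr rfl e, Finset.sum_add_distrib, Finset.sum_add_distrib, ← Finset.sum_filter,
      ← Finset.sum_filter, ← Finset.sum_filter, Finset.sum_const, Finset.sum_const, Finset.sum_const,
      nsmul_eq_mul, nsmul_eq_mul, nsmul_eq_mul]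
  refine ⟨?_, key⟩
  have := key fun _ => 1
  simp only [Finset.sum_const, mul_one, nsmul_eq_mul] at this
  exact_mod_cast this

/-- The principal block for eleven: a set of four and a set of two characters. -/
structure Block (G : Type u) [Group G] [Finite G] where
  S : Finset (IrrCharacter G)
  T : Finset (IrrCharacter G)
  σ : IrrCharacter G → ℤ
  tS : CT.trivIrr G ∉ S
  tT : CT.trivIrr G ∉ T
  dis : Disjoint S T
  cS : S.card = 4
  cT : T.card = 2
  pat : ((∀ θ ∈ T, dg θ = 5) ∧ (S.filter fun χ => σ χ * (dg χ : ℤ) = -10).card = 2 ∧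
      (S.filter fun χ => σ χ * (dg χ : ℤ) = 12).card = 2) ∨
    ((∀ θ ∈ T, dg θ = 16) ∧ (S.filter fun χ => σ χ * (dg χ : ℤ) = -10).card = 3 ∧
      (S.filter fun χ => σ χ * (dg χ : ℤ) = 45).card = 1)
  valS : ∀ χ ∈ S, (σ χ = -1 ∧ dg χ = 10) ∨ (σ χ = 1 ∧ dg χ = 12) ∨ (σ χ = 1 ∧ dg χ = 45)
  rel : ∀ θ ∈ T, ∀ g : G, ¬ 11 ∣ orderOf g → (θ : G → ℂ) g = 1 + ∑ χ ∈ S, (σ χ : ℂ) * (χ : G → ℂ) g
  rest : ∀ χ, χ ≠ CT.trivIrr G → χ ∉ S → χ ∉ T → 11 ∣ dg χ

theorem exists_block (hG : Nat.card G = 7920) : Nonempty (Block G) := by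
  classical
  haveI : Fact (Nat.Prime 11) := ⟨by norm_num⟩
  have hnc := noncomm hG
  obtain ⟨P, hP, hC, hN⟩ := eleven hG
  obtain ⟨S, T, σ, δ, hSc, hTc, htS, htT, hdis, hσ, hδ, hθm, hrel⟩ :=
    principal_facts hnc (e := 5) P hP (by rw [hC, hN]) (by norm_num)
  norm_num at hSc hTc
  have hd88 : ∀ χ : IrrCharacter G, dg χ ≤ 88 := fun χ => by
    have h := Finset.single_le_sum (f := fun χ : IrrCharacter G => dg χ ^ 2) (fun _ _ => Nat.zero_le _)
      (Finset.mem_univ χ)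
    rw [sum_sq, hG] at h
    nlinarith
  have h2 : ∀ χ : IrrCharacter G, χ ≠ CT.trivIrr G → 2 ≤ dg χ := fun χ h => two_le_charDegree hnc h
  have hval : ∀ χ ∈ S, (σ χ = -1 ∧ dg χ = 10) ∨ (σ χ = 1 ∧ dg χ = 12) ∨ (σ χ = 1 ∧ dg χ = 45) := by
    intro χ hχ
    obtain ⟨hs, hm⟩ := hσ χ hχ
    obtain ⟨h12, h10⟩ := eleven_values (dg χ) (Nat.mem_divisors.2 ⟨hG ▸ dg_dvd χ, by norm_num⟩) (hd88 χ)
      (h2 χ fun h => htS (h ▸ hχ))
    rw [Int.ModEq] at hm
    rcases hs with h | h <;> rw [h] at hm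
    · exact Or.inr ((h12 (by omega)).imp (fun e => ⟨h, e⟩) fun e => ⟨h, e⟩)
    · exact Or.inl ⟨h, h10 (by omega)⟩
  have hf : ∀ χ ∈ S, σ χ * (dg χ : ℤ) = -10 ∨ σ χ * (dg χ : ℤ) = 12 ∨ σ χ * (dg χ : ℤ) = 45 := fun χ hχ => by
    rcases hval χ hχ with ⟨h, e⟩ | ⟨h, e⟩ | ⟨h, e⟩ <;> rw [h, e] <;> norm_num
  obtain ⟨hcnt, hφ⟩ := three_valued S (fun χ => σ χ * (dg χ : ℤ)) (u := -10) (v := 12) (w := 45)
    (by norm_num) (by norm_num) (by norm_num) hf
  set a := (S.filter fun χ => σ χ * (dg χ : ℤ) = -10).card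
  set b := (S.filter fun χ => σ χ * (dg χ : ℤ) = 12).card
  set c := (S.filter fun χ => σ χ * (dg χ : ℤ) = 45).card
  rw [hSc] at hcnt
  have hlin : ∀ θ ∈ T, δ * (dg θ : ℤ) = 1 - 10 * (a : ℤ) + 12 * b + 45 * c := by
    intro θ hθ
    have h := hrel θ hθ 1 (by rw [orderOf_one]; norm_num)
    simp only [apply_one] at h
    have h' : δ * (dg θ : ℤ) = 1 + ∑ χ ∈ S, σ χ * (dg χ : ℤ) := by exact_mod_cast h
    rw [h', hφ fun z => z]
    ring
  obtain ⟨θ, hθ⟩ := Finset.card_pos.1 (show 0 < T.card by omega)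
  have hab : (1 - 10 * (a : ℤ) + 12 * b + 45 * c).natAbs = dg θ := by
    rw [← hlin θ hθ]
    rcases hδ with h | h <;> simp [h]
  have hsqT : ∀ θ' ∈ T, ((dg θ' : ℤ)) ^ 2 = (1 - 10 * (a : ℤ) + 12 * b + 45 * c) ^ 2 := fun θ' h => by
    rw [← hlin θ' h]
    rcases hδ with h | h <;> simp [h]
  have hsq : (1 : ℤ) + 100 * a + 144 * b + 2025 * c + 2 * (1 - 10 * (a : ℤ) + 12 * b + 45 * c) ^ 2 ≤ 7920 := by
    have hle : ∑ χ ∈ insert (CT.trivIrr G) (S ∪ T), dg χ ^ 2 ≤ ∑ χ : IrrCharacter G, dg χ ^ 2 :=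
      Finset.sum_le_univ_sum_of_nonneg fun _ => Nat.zero_le _
    rw [sum_sq, hG, Finset.sum_insert (by simp [htS, htT]), Finset.sum_union hdis, dg_triv] at hle
    have hS2 : ∑ χ ∈ S, ((dg χ : ℤ)) ^ 2 = 100 * a + 144 * b + 2025 * c := by
      rw [← Finset.sum_congr rfl fun χ hχ => show (σ χ * (dg χ : ℤ)) ^ 2 = (dg χ : ℤ) ^ 2 by
        rcases (hσ χ hχ).1 with h | h <;> simp [h], hφ fun z => z ^ 2]
      ring
    have hle' : (1 : ℤ) + (∑ χ ∈ S, (dg χ : ℤ) ^ 2 + ∑ χ ∈ T, (dg χ : ℤ) ^ 2) ≤ 7920 := by exact_mod_cast hle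
    rw [hS2, Finset.sum_congr rfl hsqT, Finset.sum_const, hTc] at hle'
    simp only [nsmul_eq_mul] at hle'
    push_cast at hle'
    linarith
  have hpat := pattern a (by omega) b (by omega) c (by omega) hcnt.symm (by
      have h := hθm θ hθ
      rw [hlin θ hθ, Int.ModEq] at h
      push_cast at h
      omega)
    (hab ▸ hG ▸ dg_dvd θ) hsq
  have hTd : ∀ θ' ∈ T, δ = 1 ∧ (dg θ' : ℤ) = 1 - 10 * (a : ℤ) + 12 * b + 45 * c := fun θ' h => by
    have e := hlin θ' h
    have hpos : (0 : ℤ) < dg θ' := by exact_mod_cast CT.deg_pos θ'.2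
    rcases hδ with hd | hd
    · exact ⟨hd, by rw [← e, hd, one_mul]⟩
    · rw [hd] at e
      rcases hpat with ⟨h1, h2, h3⟩ | ⟨h1, h2, h3⟩ <;> rw [h1, h2, h3] at e <;> omega
  -- residues outside the block
  have hbud := wt_sum_le P hP hC
  have hwB : ∑ χ ∈ insert (CT.trivIrr G) (S ∪ T), wt 11 (dg χ) = 110 := by
    rw [Finset.sum_insert (by simp [htS, htT]), Finset.sum_union hdis, dg_triv,
      Finset.sum_congr rfl (s₁ := S) (g := fun _ => 10) (fun χ hχ => by
        rcases hval χ hχ with ⟨-, e⟩ | ⟨-, e⟩ | ⟨-, e⟩ <;> rw [e] <;> rfl),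
      Finset.sum_congr rfl (s₁ := T) (g := fun _ => 30) (fun θ' hθ' => by
        have e := (hTd θ' hθ').2
        rcases hpat with ⟨h1, h2, h3⟩ | ⟨h1, h2, h3⟩ <;> rw [h1, h2, h3] at e
        · rw [show dg θ' = 5 by omega]; rfl
        · rw [show dg θ' = 16 by omega]; rfl), Finset.sum_const, Finset.sum_const, hSc, hTc]
    rfl
  refine ⟨⟨S, T, σ, htS, htT, hdis, hSc, hTc, ?_, hval, fun θ' hθ' g hg => ?_, fun χ h1 h2 h3 => ?_⟩⟩
  · rcases hpat with ⟨h1, h2, h3⟩ | ⟨h1, h2, h3⟩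
    · refine Or.inl ⟨fun θ' hθ' => ?_, h1, h2⟩
      have e := (hTd θ' hθ').2
      rw [h1, h2, h3] at e
      omega
    · refine Or.inr ⟨fun θ' hθ' => ?_, h1, h3⟩
      have e := (hTd θ' hθ').2
      rw [h1, h2, h3] at e
      omega
  · have h := hrel θ' hθ' g hg
    rwa [(hTd θ' hθ').1, Int.cast_one, one_mul] at h
  · refine dvd_of_wt_eq_zero (by norm_num) (Nat.le_zero.1 ?_)
    have hnot : χ ∉ insert (CT.trivIrr G) (S ∪ T) := by simp [h1, h2, h3]
    have h4 : ∑ ψ ∈ insert χ (insert (CT.trivIrr G) (S ∪ T)), wt 11 (dg ψ) ≤ 110 :=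
      (Finset.sum_le_univ_sum_of_nonneg fun _ => Nat.zero_le _).trans hbud
    rw [Finset.sum_insert hnot, hwB] at h4
    omega

theorem ten_cases : ∀ k < 10, k ≠ 0 → k ≠ 5 → 5 ∣ 10 / Nat.gcd 10 k := by decide

/-- A character of degree five excludes an element of order ten. -/
theorem no_ten_of_five (hG : Nat.card G = 7920) {χ : IrrCharacter G} (hd : dg χ = 5) {x t : G}
    (hx : orderOf x = 5) (ht : orderOf t = 2) (hxt : Commute x t) : False := by
  classical
  haveI : Fact (Nat.Prime 5) := ⟨by norm_num⟩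
  have hnc := noncomm hG
  set w := x * t with hw
  have hwo : orderOf w = 10 := by
    rw [hw, hxt.orderOf_mul_eq_mul_orderOf_of_coprime (by rw [hx, ht]; norm_num), hx, ht]
  have hw5 : w ^ 5 = t := by
    rw [hw, hxt.mul_pow, ← hx, pow_orderOf_eq_one, one_mul, hx,
      show (5 : ℕ) = 2 * 2 + 1 from rfl, pow_succ, pow_mul, ← ht, pow_orderOf_eq_one, one_pow, one_mul]
  obtain ⟨A, hA, hAle, hA4⟩ := value_involution_modEq hnc χ ht
  set Z := Subgroup.zpowers w with hZ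
  haveI := Fintype.ofFinite Z
  obtain ⟨m, hm⟩ := CT.classInner_character_nat
    (CT.isCharacter_restrict Z (CT.isCharacter_of_isIrr χ.2)) (CT.isCharacter_one (G := Z))
  have hzero : ∀ k < 10, k ≠ 0 → k ≠ 5 → (χ : G → ℂ) (w ^ k) = 0 := fun k hk h0 h5 => by
    refine vanish (p := 5) χ (k := 1584) (by rw [hG, hd]) (by norm_num) ?_
    rw [orderOf_pow, hwo]
    exact ten_cases k hk h0 h5
  have hsum : ∑ z : Z, (χ : G → ℂ) z = 5 + A := by
    rw [← Equiv.sum_comp (finEquivZPowers (isOfFinOrder_of_finite w))]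
    have : ∀ i : Fin (orderOf w), ((finEquivZPowers (isOfFinOrder_of_finite w) i : Z) : G) = w ^ (i : ℕ) :=
      fun i => by rw [finEquivZPowers_apply]
    simp only [this]
    rw [Fin.sum_univ_eq_sum_range (fun k => (χ : G → ℂ) (w ^ k)), hwo,
      Finset.sum_eq_add (s := Finset.range 10) 0 5 (by norm_num) (fun k hk h => hzero k (Finset.mem_range.1 hk) h.1 h.2)
        (by simp) (by simp), pow_zero, hw5, apply_one, hd, hA]
    norm_num
  rw [classInner] at hm
  simp only [map_one, mul_one, hsum] at hm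
  rw [Nat.card_zpowers, hwo] at hm
  have h10 : (5 : ℂ) + (A : ℂ) = 10 * (m : ℂ) := by
    rw [← hm, ← mul_assoc]
    norm_num
  have h10' : (5 : ℤ) + A = 10 * (m : ℤ) := by exact_mod_cast h10
  have hne : A ≠ 5 := fun h => by
    refine value_ne_dg hnc (χ := χ) (g := t) (fun h' => ?_) (fun h' => ?_) ?_
    · rw [h', dg_triv] at hd; omega
    · rw [h', orderOf_one] at ht; omega
    · rw [hA, hd, h]; norm_num
  rw [show charDegree (χ : G → ℂ) = 5 from hd] at hAle hA4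
  rw [Int.ModEq] at hA4
  omega

/-- Sixteen divides the class number of an element of order five. -/
theorem no_two_five (hG : Nat.card G = 7920) (B : Block G) (hT : ∀ θ ∈ B.T, dg θ = 16)
    (hS : ∀ χ ∈ B.S, dg χ = 10 ∨ dg χ = 45) {x t : G}
    (hx : orderOf x = 5) (ht : orderOf t = 2) (hxt : Commute x t) : False := by
  classical
  haveI : Fact (Nat.Prime 5) := ⟨by norm_num⟩
  obtain ⟨θ, hθ⟩ := Finset.card_pos.1 (show 0 < B.T.card by rw [B.cT]; norm_num)
  have h1 : (θ : G → ℂ) x = ((1 : ℤ) : ℂ) := by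
    rw [B.rel θ hθ x (by rw [hx]; norm_num), Finset.sum_eq_zero, add_zero, Int.cast_one]
    intro χ hχ
    rcases hS χ hχ with h | h
    · rw [vanish (p := 5) χ (k := 792) (by rw [hG, h]) (by norm_num) (by rw [hx]), mul_zero]
    · rw [vanish (p := 5) χ (k := 176) (by rw [hG, h]) (by norm_num) (by rw [hx]), mul_zero]
  have h2 := class_dvd θ x h1
  rw [hT θ hθ, Int.natAbs_one, mul_one] at h2
  have h3 : 2 ∣ Nat.card (Subgroup.centralizer ({x} : Set G)) :=
    ht ▸ Subgroup.orderOf_dvd_natCard _ (Subgroup.mem_centralizer_singleton_iff.2 hxt.symm.eq)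
  have h4 := Subgroup.card_mul_index (Subgroup.centralizer ({x} : Set G))
  have h5 : 2 * 16 ∣ 7920 := hG ▸ h4 ▸ mul_dvd_mul h3 h2
  norm_num at h5

/-- The normalizer of a subgroup of order five has order twenty. -/
theorem five (hG : Nat.card G = 7920) : ∃ P : Sylow 5 G, Nat.card P = 5 ∧
    Nat.card (Subgroup.centralizer ((P : Subgroup G) : Set G)) = 5 ∧
    Nat.card (Subgroup.normalizer ((P : Subgroup G) : Set G)) = 20 := by
  obtain ⟨P, hP, h | ⟨x, t, hx, ht, hxt⟩⟩ := five_pre hG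
  · exact ⟨P, hP, h.1, h.2⟩
  exfalso
  obtain ⟨B⟩ := exists_block hG
  rcases B.pat with ⟨hT, -, -⟩ | ⟨hT, h10, h45⟩
  · obtain ⟨θ, hθ⟩ := Finset.card_pos.1 (show 0 < B.T.card by rw [B.cT]; norm_num)
    exact no_ten_of_five hG (hT θ hθ) hx ht hxt
  · refine no_two_five hG B hT (fun χ hχ => ?_) hx ht hxt
    obtain ⟨hc, -⟩ := three_valued B.S (fun χ => B.σ χ * (dg χ : ℤ)) (u := -10) (v := 12) (w := 45)
      (by norm_num) (by norm_num) (by norm_num)
      (fun χ hχ => by rcases B.valS χ hχ with ⟨h, e⟩ | ⟨h, e⟩ | ⟨h, e⟩ <;> rw [h, e] <;> norm_num)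
    rw [B.cS, h10, h45] at hc
    rcases B.valS χ hχ with ⟨-, e⟩ | ⟨h, e⟩ | ⟨-, e⟩
    · exact Or.inl e
    · have h0 : (B.S.filter fun χ => B.σ χ * (dg χ : ℤ) = 12).card = 0 := by omega
      exact absurd (Finset.mem_filter.2 ⟨hχ, by rw [h, e]; norm_num⟩)
        (Finset.eq_empty_iff_forall_notMem.1 (Finset.card_eq_zero.1 h0) χ)
    · exact Or.inr e

theorem five_residue : ∀ d ∈ Nat.divisors 7920, 11 ∣ d → d ≤ 88 →
    (d % 5 = 0 ∨ d % 5 = 1 ∨ d % 5 = 4) → d = 11 ∨ d = 44 ∨ d = 55 ∨ d = 66 := by decide +kernel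

theorem last_pattern : ∀ i : ℕ, i < 3 → ∀ j : ℕ, j < 3 → ∀ l : ℕ, l < 3 → ∀ k : ℕ, k < 5 →
    11 ^ 2 * i + 44 ^ 2 * j + 66 ^ 2 * l + 55 ^ 2 * k = 5082 → i + j + l ≤ 2 →
    i = 1 ∧ j = 1 ∧ l = 0 ∧ k = 1 := by
  intro i hi j hj l hl k hk h h'
  interval_cases i <;> interval_cases j <;> interval_cases l <;> omega

/-- The numbers of characters of each degree. -/
theorem degrees (hG : Nat.card G = 7920) :
    (∀ χ : IrrCharacter G, dg χ ∈ [1, 10, 11, 16, 44, 45, 55]) ∧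
    (∀ n : ℕ, (Finset.univ.filter fun χ : IrrCharacter G => dg χ = n).card =
      if n = 1 ∨ n = 11 ∨ n = 44 ∨ n = 45 ∨ n = 55 then 1 else if n = 10 then 3 else if n = 16 then 2 else 0) ∧
    (∀ θ : IrrCharacter G, dg θ = 16 → ∀ g : G, ¬ 11 ∣ orderOf g → (θ : G → ℂ) g =
      1 - (∑ χ ∈ Finset.univ.filter (fun χ : IrrCharacter G => dg χ = 10), (χ : G → ℂ) g) +
        ∑ χ ∈ Finset.univ.filter (fun χ : IrrCharacter G => dg χ = 45), (χ : G → ℂ) g) := by
  classical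
  haveI : Fact (Nat.Prime 5) := ⟨by norm_num⟩
  have hnc := noncomm hG
  obtain ⟨B⟩ := exists_block hG
  obtain ⟨P, hP, hC, hN⟩ := five hG
  have hres : ∀ χ : IrrCharacter G, dg χ % 5 = 0 ∨ dg χ % 5 = 1 ∨ dg χ % 5 = 5 - 1 :=
    deg_mod_cases hnc P hP hC (by rw [hN])
  have hd88 : ∀ χ : IrrCharacter G, dg χ ≤ 88 := fun χ => by
    have h := Finset.single_le_sum (f := fun χ : IrrCharacter G => dg χ ^ 2) (fun _ _ => Nat.zero_le _)
      (Finset.mem_univ χ)
    rw [sum_sq, hG] at h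
    nlinarith
  obtain ⟨hcS, hφ⟩ := three_valued B.S (fun χ => B.σ χ * (dg χ : ℤ)) (u := -10) (v := 12) (w := 45)
    (by norm_num) (by norm_num) (by norm_num)
    (fun χ hχ => by rcases B.valS χ hχ with ⟨h, e⟩ | ⟨h, e⟩ | ⟨h, e⟩ <;> rw [h, e] <;> norm_num)
  have h12 : ∀ χ ∈ B.S, dg χ ≠ 12 := fun χ _ h => by
    have := hres χ
    rw [h] at this
    norm_num at this
  obtain ⟨hT, h10, h45⟩ : (∀ θ ∈ B.T, dg θ = 16) ∧
      (B.S.filter fun χ => B.σ χ * (dg χ : ℤ) = -10).card = 3 ∧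
      (B.S.filter fun χ => B.σ χ * (dg χ : ℤ) = 45).card = 1 := by
    rcases B.pat with ⟨-, -, h⟩ | h
    · obtain ⟨χ, hχ⟩ := Finset.card_pos.1 (h.symm ▸ two_pos)
      obtain ⟨hχS, he⟩ := Finset.mem_filter.1 hχ
      rcases B.valS χ hχS with ⟨h1, e⟩ | ⟨-, e⟩ | ⟨h1, e⟩
      · rw [h1, e] at he; norm_num at he
      · exact absurd e (h12 χ hχS)
      · rw [h1, e] at he; norm_num at he
    · exact h
  have hval : ∀ χ ∈ B.S, (B.σ χ = -1 ∧ dg χ = 10) ∨ (B.σ χ = 1 ∧ dg χ = 45) := fun χ hχ => by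
    rcases B.valS χ hχ with h | h | h
    · exact Or.inl h
    · exact absurd h.2 (h12 χ hχ)
    · exact Or.inr h
  set triv := CT.trivIrr G with htriv
  set K := insert triv (B.S ∪ B.T) with hK
  set R := Finset.univ \ K with hR
  have hRd : ∀ χ ∈ R, dg χ = 11 ∨ dg χ = 44 ∨ dg χ = 55 ∨ dg χ = 66 := by
    intro χ hχ
    simp only [hR, hK, Finset.mem_sdiff, Finset.mem_univ, Finset.mem_insert, Finset.mem_union, not_or,
      true_and] at hχ
    refine five_residue _ (Nat.mem_divisors.2 ⟨hG ▸ dg_dvd χ, by norm_num⟩) (B.rest χ hχ.1 hχ.2.1 hχ.2.2) (hd88 χ) ?_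
    simpa using hres χ
  have hcnt : ∀ (φ : ℕ → ℕ) (s : Finset (IrrCharacter G)),
      (∀ χ ∈ s, dg χ = 11 ∨ dg χ = 44 ∨ dg χ = 55 ∨ dg χ = 66) →
      ∑ χ ∈ s, φ (dg χ) = (s.filter fun χ => dg χ = 11).card * φ 11 + (s.filter fun χ => dg χ = 44).card * φ 44 +
        (s.filter fun χ => dg χ = 66).card * φ 66 + (s.filter fun χ => dg χ = 55).card * φ 55 := by
    intro φ s hs
    have e : ∀ χ ∈ s, φ (dg χ) = (if dg χ = 11 then φ 11 else 0) + (if dg χ = 44 then φ 44 else 0) +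
        (if dg χ = 66 then φ 66 else 0) + (if dg χ = 55 then φ 55 else 0) := fun χ hχ => by
      rcases hs χ hχ with h | h | h | h <;> simp [h]
    rw [Finset.sum_congr rfl e, Finset.sum_add_distrib, Finset.sum_add_distrib, Finset.sum_add_distrib,
      ← Finset.sum_filter, ← Finset.sum_filter, ← Finset.sum_filter, ← Finset.sum_filter]
    simp only [Finset.sum_const, smul_eq_mul]
  set i := (R.filter fun χ => dg χ = 11).card with hi
  set j := (R.filter fun χ => dg χ = 44).card with hj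
  set l := (R.filter fun χ => dg χ = 66).card with hl
  set k := (R.filter fun χ => dg χ = 55).card with hk
  have hnotin : triv ∉ B.S ∪ B.T := by simp [htriv, B.tS, B.tT]
  have hKsum : ∀ φ : ℕ → ℕ, ∑ χ ∈ K, φ (dg χ) = φ 1 + 3 * φ 10 + φ 45 + 2 * φ 16 := by
    intro φ
    have hc12 : (B.S.filter fun χ => B.σ χ * (dg χ : ℤ) = 12).card = 0 := by rw [B.cS] at hcS; omega
    have hS10 : ∀ χ ∈ B.S, (B.σ χ * (dg χ : ℤ) = -10 ↔ dg χ = 10) := fun χ hχ => by
      rcases hval χ hχ with ⟨h, e⟩ | ⟨h, e⟩ <;> rw [h, e] <;> norm_num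
    have hS45 : ∀ χ ∈ B.S, (B.σ χ * (dg χ : ℤ) = 45 ↔ dg χ = 45) := fun χ hχ => by
      rcases hval χ hχ with ⟨h, e⟩ | ⟨h, e⟩ <;> rw [h, e] <;> norm_num
    have e : ∀ χ ∈ B.S, φ (dg χ) = (if dg χ = 10 then φ 10 else 0) + (if dg χ = 45 then φ 45 else 0) := fun χ hχ => by
      rcases hval χ hχ with ⟨-, e⟩ | ⟨-, e⟩ <;> simp [e]
    rw [hK, Finset.sum_insert hnotin, Finset.sum_union B.dis, htriv, dg_triv,
      Finset.sum_congr rfl (s₁ := B.T) (g := fun _ => φ 16) (fun θ hθ => by rw [hT θ hθ]),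
      Finset.sum_congr rfl e, Finset.sum_add_distrib, ← Finset.sum_filter, ← Finset.sum_filter,
      ← Finset.filter_congr hS10, ← Finset.filter_congr hS45]
    simp only [Finset.sum_const, smul_eq_mul, h10, h45, B.cT]
    ring
  have htot : ∀ φ : ℕ → ℕ, ∑ χ : IrrCharacter G, φ (dg χ) =
      φ 1 + 3 * φ 10 + φ 45 + 2 * φ 16 + (i * φ 11 + j * φ 44 + l * φ 66 + k * φ 55) := by
    intro φ
    rw [← Finset.sum_sdiff (Finset.subset_univ K), ← hR, hcnt φ R hRd, hKsum]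
    ring
  have hsq := htot fun d => d ^ 2
  rw [sum_sq, hG] at hsq
  have hw := wt_sum_le P hP hC
  rw [htot fun d => wt 5 d] at hw
  have w1 : wt 5 1 = 4 := rfl
  have w10 : wt 5 10 = 0 := rfl
  have w45 : wt 5 45 = 0 := rfl
  have w16 : wt 5 16 = 4 := rfl
  have w11 : wt 5 11 = 4 := rfl
  have w44 : wt 5 44 = 4 := rfl
  have w66 : wt 5 66 = 4 := rfl
  have w55 : wt 5 55 = 0 := rfl
  simp only [w1, w10, w45, w16, w11, w44, w66, w55] at hw
  norm_num at hsq hw
  obtain ⟨hi1, hj1, hl0, hk1⟩ := last_pattern i (by omega) j (by omega) l (by omega) k (by omega)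
    (by norm_num; omega) (by omega)
  have hfib : ∀ n : ℕ, (Finset.univ.filter fun χ : IrrCharacter G => dg χ = n).card =
      if n = 1 ∨ n = 11 ∨ n = 44 ∨ n = 45 ∨ n = 55 then 1 else if n = 10 then 3 else if n = 16 then 2 else 0 := by
    intro n
    rw [Finset.card_filter]
    rw [htot fun d => if d = n then 1 else 0, hi1, hj1, hl0, hk1]
    by_cases h1 : n = 1
    · simp [h1]
    by_cases h10' : n = 10
    · simp [h10']
    by_cases h11 : n = 11
    · simp [h11]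
    by_cases h16 : n = 16
    · simp [h16]
    by_cases h44 : n = 44
    · simp [h44]
    by_cases h45' : n = 45
    · simp [h45']
    by_cases h55 : n = 55
    · simp [h55]
    simp [h1, h10', h11, h16, h44, h45', h55, Ne.symm h1, Ne.symm h10', Ne.symm h11, Ne.symm h16,
      Ne.symm h44, Ne.symm h45', Ne.symm h55]
  have hnot : ∀ n : ℕ, (Finset.univ.filter fun χ : IrrCharacter G => dg χ = n).card ≠ 0 →
      n ∈ [1, 10, 11, 16, 44, 45, 55] := by
    intro n hn
    rw [hfib n] at hn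
    simp only [List.mem_cons, List.not_mem_nil, or_false]
    split_ifs at hn with a b c <;> omega
  refine ⟨fun χ => hnot _ (Finset.card_ne_zero_of_mem (Finset.mem_filter.2 ⟨Finset.mem_univ χ, rfl⟩)),
    hfib, fun θ hθ g hg => ?_⟩
  have hRcase : ∀ χ, χ ∉ K → dg χ = 11 ∨ dg χ = 44 ∨ dg χ = 55 ∨ dg χ = 66 := fun χ h =>
    hRd χ (by simp [hR, h])
  have hθT : θ ∈ B.T := by
    by_contra h
    by_cases hK' : θ ∈ K
    · simp only [hK, Finset.mem_insert, Finset.mem_union] at hK'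
      rcases hK' with e | e | e
      · rw [e, htriv, dg_triv] at hθ; omega
      · rcases hval θ e with ⟨-, e'⟩ | ⟨-, e'⟩ <;> omega
      · exact h e
    · have := hRcase θ hK'; omega
  have hfilt : ∀ n, (n = 10 ∨ n = 45) →
      (Finset.univ.filter fun χ : IrrCharacter G => dg χ = n) = B.S.filter fun χ => dg χ = n := by
    intro n hn
    ext χ
    simp only [Finset.mem_filter, Finset.mem_univ, true_and]
    refine ⟨fun h => ⟨?_, h⟩, fun h => h.2⟩
    by_contra hns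
    by_cases hK' : χ ∈ K
    · simp only [hK, Finset.mem_insert, Finset.mem_union] at hK'
      rcases hK' with e | e | e
      · rw [e, htriv, dg_triv] at h; omega
      · exact hns e
      · have := hT χ e; omega
    · have := hRcase χ hK'; omega
  have e : ∀ χ ∈ B.S, (B.σ χ : ℂ) * (χ : G → ℂ) g =
      (if dg χ = 45 then (χ : G → ℂ) g else 0) - (if dg χ = 10 then (χ : G → ℂ) g else 0) := fun χ hχ => by
    rcases hval χ hχ with ⟨h, e⟩ | ⟨h, e⟩ <;> simp [h, e]
  rw [B.rel θ hθT g hg, Finset.sum_congr rfl e, Finset.sum_sub_distrib, ← Finset.sum_filter, ← Finset.sum_filter,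
    hfilt 10 (Or.inl rfl), hfilt 45 (Or.inr rfl)]
  ring

end Cfsg.Agent.FGB.M11
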