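import Cfsg.Agent.Lib.FGB.M11Triangle

/-!
# The graph on the fifty-five Sylow three-subgroups
-/

set_option autoImplicit false
set_option linter.style.haveILetI false
set_option linter.unusedSectionVars false

namespace Cfsg.Agent.FGB.M11

open Cfsg
open scoped Pointwise

universe u

variable {G : Type u} [Group G] [Finite G] [IsSimpleGroup G]

private theorem num_facts : ((18 : ℕ) : ZMod 7) = 1 + 3 ∧ ((8 : ℕ) : ZMod 7) = 1 ∧
    ¬ (((1 : ZMod 7) * 55 + 1 * 3 + 3) * 55 + (1 * 55 + 1 * 3 + 3) * 3 + 3 * 3) * (18 * 55) = 0 := by decide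

namespace Tri

variable (D : Tri G)

/-- First block of neighbours of the base. -/
def blockA : Set (Sylow 3 G) := Set.range fun p : (D.P : Subgroup G) => (p : G) • D.Q1

/-- Second block of neighbours of the base. -/
def blockB : Set (Sylow 3 G) := Set.range fun p : (D.P : Subgroup G) => (p : G) • D.Q2

theorem mem_A {X : Sylow 3 G} : X ∈ D.blockA ↔ ∃ p ∈ (D.P : Subgroup G), p • D.Q1 = X :=
  ⟨fun ⟨p, h⟩ => ⟨p, p.2, h⟩, fun ⟨p, hp, h⟩ => ⟨⟨p, hp⟩, h⟩⟩

theorem mem_B {X : Sylow 3 G} : X ∈ D.blockB ↔ ∃ p ∈ (D.P : Subgroup G), p • D.Q2 = X :=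
  ⟨fun ⟨p, h⟩ => ⟨p, p.2, h⟩, fun ⟨p, hp, h⟩ => ⟨⟨p, hp⟩, h⟩⟩

theorem P_fix {p : G} (hp : p ∈ (D.P : Subgroup G)) : p • D.P = D.P :=
  Sylow.smul_eq_iff_mem_normalizer.2 (D.toLoc.P_le hp)

theorem free_of_ne {X : Sylow 3 G} (hX : X ≠ D.P) {p q : G} (hp : p ∈ (D.P : Subgroup G))
    (hq : q ∈ (D.P : Subgroup G)) (h : p • X = q • X) : p = q :=
  (inv_mul_eq_one.1 (D.toLoc.semiregular hX (mul_mem (inv_mem hq) hp)
    (by rw [← smul_smul, h, inv_smul_smul]))).symm

theorem ncard_A : D.blockA.ncard = 9 := by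
  rw [blockA, Set.ncard_range_of_injective fun p q h => Subtype.ext (D.free_of_ne D.Q1_ne p.2 q.2 h), D.toLoc.card_P]

theorem ncard_B : D.blockB.ncard = 9 := by
  rw [blockB, Set.ncard_range_of_injective fun p q h => Subtype.ext (D.free_of_ne D.Q2_ne p.2 q.2 h), D.toLoc.card_P]

theorem Q1_not_B {q : G} (hq : q ∈ (D.P : Subgroup G)) : q • D.Q2 ≠ D.Q1 := by
  intro h
  have h2 : q⁻¹ • D.Q2 = q • D.Q2 := by
    rw [← D.inv q hq, inv_eq_of_mul_eq_one_right D.toLoc.i0_mul, ← smul_smul, ← smul_smul, D.i0_Q2, h, D.i0_Q1]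
  have h3 := D.free_of_ne D.Q2_ne (inv_mem hq) hq h2
  rw [D.toLoc.eq_one_of_P hq (by rw [pow_two]; exact mul_eq_one_iff_eq_inv.2 h3.symm), one_smul] at h
  exact D.Q1_ne_Q2 h.symm

theorem AB_disjoint {p q : G} (hp : p ∈ (D.P : Subgroup G)) (hq : q ∈ (D.P : Subgroup G)) :
    p • D.Q1 ≠ q • D.Q2 := fun h =>
  D.Q1_not_B (mul_mem (inv_mem hp) hq) (by rw [← smul_smul, ← h, inv_smul_smul])

theorem P_not_A : D.P ∉ D.blockA := fun h => by
  obtain ⟨p, hp, e⟩ := D.mem_A.1 h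
  exact D.Q1_ne (smul_left_cancel p (e.trans (D.P_fix hp).symm))

theorem P_not_B : D.P ∉ D.blockB := fun h => by
  obtain ⟨p, hp, e⟩ := D.mem_B.1 h
  exact D.Q2_ne (smul_left_cancel p (e.trans (D.P_fix hp).symm))

/-- The eighteen neighbours of the base. -/
def nbP : Set (Sylow 3 G) := D.blockA ∪ D.blockB

theorem ncard_nbP : D.nbP.ncard = 18 := by
  rw [nbP, Set.ncard_union_eq ?_, D.ncard_A, D.ncard_B]
  rw [Set.disjoint_left]
  intro X hA hB
  obtain ⟨p, hp, rfl⟩ := D.mem_A.1 hA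
  obtain ⟨q, hq, e⟩ := D.mem_B.1 hB
  exact D.AB_disjoint hp hq e.symm

theorem T_Q2' {t : G} (ht : t ∈ D.toLoc.T) : t • D.Q2 = D.Q1 ∨ t • D.Q2 = D.Q2 := by
  rcases D.cent_orbit (g := t * (D.z * D.z)) (by
    have hzz : D.z * D.z * D.i0 = D.i0 * (D.z * D.z) := by rw [mul_assoc, D.zc, ← mul_assoc, D.zc, mul_assoc]
    rw [mul_assoc, hzz, ← mul_assoc, (D.toLoc.mem_T.1 ht).2, mul_assoc]) with h' | h' | h'
    <;> rw [← smul_smul, ← smul_smul D.z D.z, D.z_P, D.z_Q1] at h'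
  · exact absurd (smul_left_cancel t (h'.trans (D.T_fix ht).symm)) D.Q2_ne
  · exact Or.inl h'
  · exact Or.inr h'

theorem nbP_stable {n : G} (hn : n ∈ D.toLoc.N) {X : Sylow 3 G} (hX : X ∈ D.nbP) : n • X ∈ D.nbP := by
  obtain ⟨q, hq, t, ht, rfl⟩ := D.toLoc.decomp hn
  have htN := (D.toLoc.mem_T.1 ht).1
  have key : ∀ p ∈ (D.P : Subgroup G), ∀ Y : Sylow 3 G, (t • Y = D.Q1 ∨ t • Y = D.Q2) → (q * t) • (p • Y) ∈ D.nbP := by
    intro p hp Y hY
    have e : (q * t) • (p • Y) = (q * (t * p * t⁻¹)) • (t • Y) := by rw [smul_smul, smul_smul]; congr 1; group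
    rw [e]
    rcases hY with h | h <;> rw [h]
    · exact Or.inl (D.mem_A.2 ⟨_, mul_mem hq (D.toLoc.conj_mem htN hp), rfl⟩)
    · exact Or.inr (D.mem_B.2 ⟨_, mul_mem hq (D.toLoc.conj_mem htN hp), rfl⟩)
  rcases hX with hX | hX
  · obtain ⟨p, hp, rfl⟩ := D.mem_A.1 hX
    exact key p hp _ (D.T_Q1 ht)
  · obtain ⟨p, hp, rfl⟩ := D.mem_B.1 hX
    exact key p hp _ (D.T_Q2' ht)

theorem card_sylow (D : Tri G) : Nat.card (Sylow 3 G) = 55 := by
  haveI : Fact (Nat.Prime 3) := ⟨Nat.prime_three⟩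
  have h := Subgroup.card_mul_index D.toLoc.N
  rw [D.toLoc.card_N, D.hG, show D.toLoc.N.index = Nat.card (Sylow 3 G) from (Sylow.card_eq_index_normalizer D.P).symm] at h
  omega

/-- The far points. -/
def farSet : Set (Sylow 3 G) := (insert D.P D.nbP)ᶜ

theorem mem_far {X : Sylow 3 G} : X ∈ D.farSet ↔ D.Far X := by
  simp only [farSet, nbP, Set.mem_compl_iff, Set.mem_insert_iff, Set.mem_union, not_or, mem_A, mem_B, Far]
  constructor
  · rintro ⟨h1, h2, h3⟩
    exact ⟨h1, fun p hp => ⟨fun e => h2 ⟨p, hp, e.symm⟩, fun e => h3 ⟨p, hp, e.symm⟩⟩⟩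
  · rintro ⟨h1, h2⟩
    exact ⟨h1, fun ⟨p, hp, e⟩ => (h2 p hp).1 e.symm, fun ⟨p, hp, e⟩ => (h2 p hp).2 e.symm⟩

theorem P_not_nbP : D.P ∉ D.nbP := fun h => h.elim D.P_not_A D.P_not_B

theorem ncard_far : D.farSet.ncard = 36 := by
  rw [farSet, Set.ncard_compl, D.card_sylow, Set.ncard_insert_of_notMem D.P_not_nbP, D.ncard_nbP]

theorem far_orbit {X Y : Sylow 3 G} (hX : X ∈ D.farSet) (hY : Y ∈ D.farSet) : ∃ n ∈ D.toLoc.N, n • X = Y := by
  have hsub : MulAction.orbit D.toLoc.N X ⊆ D.farSet := by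
    rintro _ ⟨n, rfl⟩ h
    refine hX ?_
    have hn' := inv_mem n.2
    rcases h with h | h
    · left
      rw [show X = (n : G)⁻¹ • ((n : G) • X) from (inv_smul_smul _ _).symm]
      exact (congrArg ((n : G)⁻¹ • ·) h).trans (Sylow.smul_eq_iff_mem_normalizer.2 hn')
    · right
      rw [show X = (n : G)⁻¹ • ((n : G) • X) from (inv_smul_smul _ _).symm]
      exact D.nbP_stable hn' h
  have h1 := Subgroup.card_mul_index (MulAction.stabilizer D.toLoc.N X)
  rw [MulAction.index_stabilizer, D.toLoc.card_N] at h1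
  have hmap : (MulAction.stabilizer D.toLoc.N X).map D.toLoc.N.subtype = D.toLoc.N ⊓ MulAction.stabilizer G X := by
    ext g
    constructor
    · rintro ⟨n, hn, rfl⟩
      exact ⟨n.2, hn⟩
    · rintro ⟨hg, hgX⟩
      exact ⟨⟨g, hg⟩, hgX, rfl⟩
  have h2 := D.far_stab (D.mem_far.1 hX)
  rw [← hmap, Subgroup.card_map_of_injective D.toLoc.N.subtype_injective] at h2
  have h3 := Nat.mul_le_mul_right (MulAction.orbit D.toLoc.N X).ncard h2
  have he := Set.eq_of_subset_of_ncard_le hsub (by rw [D.ncard_far]; omega)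
  rw [← he] at hY
  obtain ⟨n, hn⟩ := hY
  exact ⟨n, n.2, hn⟩

/-- Adjacency: the orbit of the base pair. -/
def Adj (X Y : Sylow 3 G) : Prop := ∃ g : G, g • D.P = X ∧ g • D.Q1 = Y

theorem Adj.smul {X Y : Sylow 3 G} (h : D.Adj X Y) (a : G) : D.Adj (a • X) (a • Y) := by
  obtain ⟨g, h1, h2⟩ := h
  exact ⟨a * g, by rw [← smul_smul, h1], by rw [← smul_smul, h2]⟩

theorem adj_smul {X Y : Sylow 3 G} (a : G) : D.Adj (a • X) (a • Y) ↔ D.Adj X Y :=
  ⟨fun h => by have := Adj.smul D h a⁻¹; rwa [inv_smul_smul, inv_smul_smul] at this, fun h => Adj.smul D h a⟩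

theorem adj_base : D.Adj D.P D.Q1 := ⟨1, one_smul _ _, one_smul _ _⟩

theorem exists_flip : ∃ s : G, s • D.P = D.Q1 ∧ s • D.Q1 = D.P := by
  obtain ⟨τ, -, h1, h2⟩ := D.exists_swap
  refine ⟨D.z * D.z * τ * D.z, ?_, ?_⟩
  · rw [← smul_smul, D.z_P, ← smul_smul, h1, ← smul_smul, D.z_Q2, D.z_P]
  · rw [← smul_smul, D.z_Q1, ← smul_smul, h2, ← smul_smul, D.z_Q1, D.z_Q2]

theorem adj_symm {X Y : Sylow 3 G} (h : D.Adj X Y) : D.Adj Y X := by
  obtain ⟨g, h1, h2⟩ := h
  obtain ⟨s, s1, s2⟩ := D.exists_flip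
  exact ⟨g * s, by rw [← smul_smul, s1, h2], by rw [← smul_smul, s2, h1]⟩

theorem adj_irrefl (X : Sylow 3 G) : ¬ D.Adj X X := fun ⟨g, h1, h2⟩ =>
  D.Q1_ne (smul_left_cancel g (h2.trans h1.symm))

theorem adj_P {Y : Sylow 3 G} : D.Adj D.P Y ↔ Y ∈ D.nbP := by
  constructor
  · rintro ⟨g, h1, rfl⟩
    exact D.nbP_stable (Sylow.smul_eq_iff_mem_normalizer.1 h1) (Or.inl (D.mem_A.2 ⟨1, one_mem _, one_smul _ _⟩))
  · rintro (h | h)
    · obtain ⟨p, hp, rfl⟩ := D.mem_A.1 h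
      exact ⟨p, D.P_fix hp, rfl⟩
    · obtain ⟨p, hp, rfl⟩ := D.mem_B.1 h
      obtain ⟨τ, hτ, h1, -⟩ := D.exists_swap
      exact ⟨p * τ, by rw [← smul_smul, D.T_fix hτ, D.P_fix hp], by rw [← smul_smul, h1]⟩

/-- The common neighbours. -/
def common (X Y : Sylow 3 G) : Set (Sylow 3 G) := {W | D.Adj X W ∧ D.Adj Y W}

theorem ncard_common_smul (a : G) (X Y : Sylow 3 G) :
    (D.common (a • X) (a • Y)).ncard = (D.common X Y).ncard := by
  rw [show D.common (a • X) (a • Y) = (a • ·) '' D.common X Y from ?_,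
    Set.ncard_image_of_injective _ (MulAction.injective a)]
  ext W
  constructor
  · rintro ⟨h1, h2⟩
    rw [← smul_inv_smul a W] at h1 h2
    exact ⟨a⁻¹ • W, ⟨(D.adj_smul a).1 h1, (D.adj_smul a).1 h2⟩, smul_inv_smul a W⟩
  · rintro ⟨V, ⟨h1, h2⟩, rfl⟩
    exact ⟨(D.adj_smul a).2 h1, (D.adj_smul a).2 h2⟩

theorem ncard_nb (X : Sylow 3 G) : {W | D.Adj X W}.ncard = 18 := by
  obtain ⟨g, rfl⟩ := MulAction.exists_smul_eq G D.P X
  have h := D.ncard_common_smul g D.P D.P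
  simp only [common, and_self] at h
  rw [h, show {W | D.Adj D.P W} = D.nbP from Set.ext fun W => D.adj_P, D.ncard_nbP]

/-- The common count of adjacent points. -/
noncomputable def lam : ℕ := (D.common D.P D.Q1).ncard

theorem common_adj {X Y : Sylow 3 G} (h : D.Adj X Y) : (D.common X Y).ncard = D.lam := by
  obtain ⟨g, rfl, rfl⟩ := h
  exact D.ncard_common_smul g _ _

theorem exists_mu : ∃ μ : ℕ, (∀ X Y, X ≠ Y → ¬ D.Adj X Y → (D.common X Y).ncard = μ) ∧
    2 * μ + D.lam + 1 = 18 := by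
  classical
  haveI := Fintype.ofFinite (Sylow 3 G)
  obtain ⟨X0, hX0⟩ : D.farSet.Nonempty := Set.nonempty_of_ncard_ne_zero (by rw [D.ncard_far]; omega)
  set μ := (D.common D.P X0).ncard with hμ
  have hconst : ∀ X Y, X ≠ Y → ¬ D.Adj X Y → (D.common X Y).ncard = μ := by
    intro X Y hne hA
    obtain ⟨g, rfl⟩ := MulAction.exists_smul_eq G D.P X
    rw [← smul_inv_smul g Y] at hA hne ⊢
    rw [D.adj_smul] at hA
    obtain ⟨n, hn, e⟩ := D.far_orbit hX0 (show g⁻¹ • Y ∈ D.farSet from fun h => h.elim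
      (fun h => hne (by rw [h])) fun h => hA (D.adj_P.2 h))
    rw [← e, D.ncard_common_smul]
    conv_lhs => rw [← (Sylow.smul_eq_iff_mem_normalizer.2 hn : n • D.P = D.P)]
    exact D.ncard_common_smul n _ _
  refine ⟨μ, hconst, ?_⟩
  have hs : D.nbP.toFinset.card = 18 := by rw [← Set.ncard_eq_toFinset_card', D.ncard_nbP]
  have ht : D.farSet.toFinset.card = 36 := by rw [← Set.ncard_eq_toFinset_card', D.ncard_far]
  have hab : ∀ Y ∈ D.nbP.toFinset, (D.farSet.toFinset.bipartiteAbove D.Adj Y).card = 18 - (D.lam + 1) := by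
    intro Y hY
    rw [Set.mem_toFinset, ← D.adj_P] at hY
    rw [← Set.ncard_coe_finset, show ((D.farSet.toFinset.bipartiteAbove D.Adj Y : Finset _) : Set (Sylow 3 G)) =
      {W | D.Adj Y W} \ insert D.P (D.common D.P Y) from ?_,
      Set.ncard_sdiff (show insert D.P (D.common D.P Y) ⊆ {W | D.Adj Y W} from
        Set.insert_subset (D.adj_symm hY) fun W hW => hW.2), D.ncard_nb,
      Set.ncard_insert_of_notMem (fun h => D.adj_irrefl _ h.1), D.common_adj hY]
    ext W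
    simp only [Finset.bipartiteAbove, Finset.coe_filter, Set.mem_sdiff, Set.mem_ofPred_eq]
    rw [Set.mem_toFinset]
    simp only [farSet, Set.mem_compl_iff, Set.mem_insert_iff, common, Set.mem_ofPred_eq, ← D.adj_P]
    tauto
  have hbe : ∀ X ∈ D.farSet.toFinset, (D.nbP.toFinset.bipartiteBelow D.Adj X).card = μ := by
    intro X hX
    rw [Set.mem_toFinset] at hX
    rw [← hconst D.P X (fun h => hX (Or.inl h.symm)) (fun h => hX (Or.inr (D.adj_P.1 h))), ← Set.ncard_coe_finset]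
    congr 1
    ext W
    simp only [Finset.bipartiteBelow, Finset.coe_filter, Set.mem_toFinset, common, Set.mem_ofPred_eq, ← D.adj_P]
    exact and_congr_right fun _ => ⟨D.adj_symm, D.adj_symm⟩
  have h := Finset.card_mul_eq_card_mul D.Adj hab hbe
  have hl : D.lam + 1 ≤ 18 := by
    have := Set.ncard_le_ncard (show insert D.P (D.common D.P D.Q1) ⊆ {W | D.Adj D.Q1 W} from
      Set.insert_subset (D.adj_symm D.adj_base) fun W hW => hW.2)
    rwa [D.ncard_nb, Set.ncard_insert_of_notMem (fun h => D.adj_irrefl _ h.1)] at this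
  rw [hs, ht] at h
  omega

theorem adj_Q1_Q2 : D.Adj D.Q1 D.Q2 := ⟨D.z, D.z_P, D.z_Q1⟩

theorem alpha_const {x y : G} (hx : x ∈ (D.P : Subgroup G)) (hy : y ∈ (D.P : Subgroup G)) (hx1 : x ≠ 1) (hy1 : y ≠ 1)
    {Y : Sylow 3 G} (hY : Y = D.Q1 ∨ Y = D.Q2) (h : D.Adj D.Q1 (x • Y)) : D.Adj D.Q1 (y • Y) := by
  obtain ⟨t, ht, e⟩ := D.T1_trans hx hy hx1 hy1
  obtain ⟨htT, ht1⟩ := D.mem_T1.1 ht
  have htY : t • Y = Y := by
    rcases hY with rfl | rfl
    · exact ht1
    · exact D.T_Q2 htT ht1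
  have h' := Adj.smul D h t
  rwa [ht1, show t • (x • Y) = (t * x * t⁻¹) • (t • Y) by rw [smul_smul, smul_smul]; congr 1; group, e, htY] at h'

theorem not_complete : ¬ ∀ X ∈ D.nbP, X ≠ D.Q1 → D.Adj D.Q1 X := by
  intro hall
  set S := insert D.P D.nbP with hS
  have hcl : ∀ g : G, g • D.P ∈ S → g • S = S := by
    have hS' : S = insert D.P {W | D.Adj D.P W} := by
      rw [hS]; congr 1; exact Set.ext fun W => D.adj_P.symm
    have hQ : insert D.Q1 {W | D.Adj D.Q1 W} = S := by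
      refine (Set.eq_of_subset_of_ncard_le ?_ ?_).symm
      · rintro W (rfl | hW)
        · exact Or.inr (D.adj_symm D.adj_base)
        · rcases eq_or_ne W D.Q1 with h | h
          · exact Or.inl h
          · exact Or.inr (hall W hW h)
      · rw [Set.ncard_insert_of_notMem (fun h : D.Q1 ∈ {W | D.Adj D.Q1 W} => D.adj_irrefl _ h), D.ncard_nb, hS,
          Set.ncard_insert_of_notMem D.P_not_nbP, D.ncard_nbP]
    have himg : ∀ (g : G) (X : Sylow 3 G), g • insert X {W | D.Adj X W} = insert (g • X) {W | D.Adj (g • X) W} := by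
      intro g X
      ext W
      rw [Set.mem_smul_set_iff_inv_smul_mem, Set.mem_insert_iff, Set.mem_insert_iff, inv_smul_eq_iff]
      refine or_congr Iff.rfl ?_
      conv_rhs => rw [← smul_inv_smul g W]
      exact (D.adj_smul g).symm
    have hSn : ∀ n ∈ D.toLoc.N, n • S = S := fun n hn => by
      rw [hS', himg, Sylow.smul_eq_iff_mem_normalizer.2 hn]
    intro g hg
    rcases hg with h | h
    · exact hSn g (Sylow.smul_eq_iff_mem_normalizer.1 h)
    · obtain ⟨k, hk1, hk2⟩ := D.adj_P.2 h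
      have hk : k • S = S := hSn k (Sylow.smul_eq_iff_mem_normalizer.1 hk1)
      have hz : D.z • S = S := by
        rw [hS', himg, D.z_P, hQ, ← hS']
      have hgk : (k * D.z)⁻¹ * g ∈ D.toLoc.N := Sylow.smul_eq_iff_mem_normalizer.1 (by
        rw [← smul_smul, inv_smul_eq_iff, ← smul_smul, D.z_P, hk2])
      calc g • S = (k * D.z) • (((k * D.z)⁻¹ * g) • S) := by rw [smul_smul, mul_inv_cancel_left]
        _ = S := by rw [hSn _ hgk, ← smul_smul, hz, hk]
  have horb : MulAction.orbit (MulAction.stabilizer G S) D.P = S := by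
    refine Set.Subset.antisymm ?_ ?_
    · rintro _ ⟨h, rfl⟩
      have := Set.smul_mem_smul_set (a := (h : G)) (show D.P ∈ S from Or.inl rfl)
      rwa [MulAction.mem_stabilizer_iff.1 h.2] at this
    · intro X hX
      obtain ⟨g, rfl⟩ := MulAction.exists_smul_eq G D.P X
      exact ⟨⟨g, MulAction.mem_stabilizer_iff.2 (hcl g hX)⟩, rfl⟩
  have h1 := MulAction.index_stabilizer (MulAction.stabilizer G S) D.P
  rw [horb, hS, Set.ncard_insert_of_notMem D.P_not_nbP, D.ncard_nbP] at h1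
  have h2 := (Subgroup.index_dvd_card _).trans (Subgroup.card_subgroup_dvd_card (MulAction.stabilizer G S))
    |> fun h => (show (18 + 1) ∣ Nat.card G from h1 ▸ h)
  rw [D.hG] at h2
  norm_num at h2

theorem not_srg : ¬ (D.lam = 1 ∧ ∀ X Y, X ≠ Y → ¬ D.Adj X Y → (D.common X Y).ncard = 8) := by
  classical
  rintro ⟨hl, hm⟩
  haveI : Fact (Nat.Prime 7) := ⟨by norm_num⟩
  haveI := Fintype.ofFinite (Sylow 3 G)
  obtain ⟨A, hAdef⟩ : ∃ A : Matrix (Sylow 3 G) (Sylow 3 G) (ZMod 7), ∀ X Y, A X Y = if D.Adj X Y then 1 else 0 :=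
    ⟨Matrix.of fun X Y => if D.Adj X Y then 1 else 0, fun X Y => rfl⟩
  obtain ⟨J, hJdef⟩ : ∃ J : Matrix (Sylow 3 G) (Sylow 3 G) (ZMod 7), ∀ X Y, J X Y = 1 :=
    ⟨Matrix.of fun _ _ => 1, fun X Y => rfl⟩
  have h55 : Fintype.card (Sylow 3 G) = 55 := by rw [← Nat.card_eq_fintype_card, D.card_sylow]
  have hAA : A * A = J + (3 : ZMod 7) • (1 : Matrix (Sylow 3 G) (Sylow 3 G) (ZMod 7)) := by
    ext X Y
    have e : (A * A) X Y = ((D.common X Y).ncard : ZMod 7) := by
      rw [Matrix.mul_apply, Finset.sum_congr rfl (fun W _ => show A X W * A W Y = if W ∈ D.common X Y then 1 else 0 by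
          by_cases a : D.Adj X W <;> by_cases b : D.Adj W Y <;>
            simp [hAdef, common, a, b, show D.Adj Y W ↔ D.Adj W Y from ⟨D.adj_symm, D.adj_symm⟩]),
        Finset.sum_boole, Set.ncard_eq_toFinset_card']
      congr 2
      ext W
      simp
    rw [e, Matrix.add_apply, Matrix.smul_apply, hJdef, smul_eq_mul]
    rcases eq_or_ne X Y with rfl | hne
    · rw [show D.common X X = {W | D.Adj X W} by simp [common], D.ncard_nb]
      rw [Matrix.one_apply_eq, mul_one]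
      exact num_facts.1
    · by_cases hA : D.Adj X Y
      · rw [D.common_adj hA, hl]
        rw [Matrix.one_apply_ne hne, mul_zero, add_zero, Nat.cast_one]
      · rw [hm X Y hne hA, Matrix.one_apply_ne hne, mul_zero, add_zero]
        exact num_facts.2.1
  have hJJ : J * J = (55 : ZMod 7) • J := by
    ext X Y
    simp [hJdef, Matrix.mul_apply, Matrix.smul_apply, h55]
  have hAJ : A * J = (18 : ZMod 7) • J := by
    ext X Y
    simp only [Matrix.mul_apply, hJdef, hAdef, mul_one, Matrix.smul_apply, smul_eq_mul]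
    rw [Finset.sum_boole]
    have := D.ncard_nb X
    rw [Set.ncard_eq_toFinset_card'] at this
    simp only [Set.toFinset_setOf] at this
    rw [this]
    norm_num
  have step : ∀ a b : ZMod 7, (a • J + b • 1) * (J + (3 : ZMod 7) • 1) = (a * 55 + a * 3 + b) • J + (b * 3) • 1 := by
    intro a b
    simp only [mul_add, add_mul, smul_mul_assoc, Matrix.mul_smul, mul_one, one_mul, hJJ, smul_smul]
    module
  have hA7 : A ^ 7 = A * ((A * A) * (A * A) * (A * A)) := by noncomm_ring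
  have htr := ZMod.trace_pow_card A
  have htA : Matrix.trace A = 0 := Finset.sum_eq_zero fun X _ => (hAdef X X).trans (if_neg (D.adj_irrefl X))
  have hJt : Matrix.trace J = 55 := by simp [Matrix.trace, hJdef, h55]
  have h2 : (A * A) * (A * A) = ((1 : ZMod 7) * 55 + 1 * 3 + 3) • J + ((3 : ZMod 7) * 3) • 1 := by
    rw [← step, one_smul, hAA]
  rw [hA7, h2, hAA, step, mul_add, Matrix.mul_smul, Matrix.mul_smul, hAJ, mul_one, Matrix.trace_add,
    Matrix.trace_smul, Matrix.trace_smul, Matrix.trace_smul, htA, hJt, zero_pow (by norm_num)] at htr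
  simp only [smul_eq_mul, mul_zero, add_zero] at htr
  exact num_facts.2.2 htr

/-- The first block is a clique and the blocks are almost disjoint. -/
theorem key {x : G} (hx : x ∈ (D.P : Subgroup G)) (hx1 : x ≠ 1) :
    D.Adj D.Q1 (x • D.Q1) ∧ ¬ D.Adj D.Q1 (x • D.Q2) := by
  obtain ⟨μ, hμ, hsum⟩ := D.exists_mu
  by_cases ha : D.Adj D.Q1 (x • D.Q1) <;> by_cases hb : D.Adj D.Q1 (x • D.Q2)
  · refine absurd ?_ D.not_complete
    rintro X (hX | hX) hne
    · obtain ⟨p, hp, rfl⟩ := D.mem_A.1 hX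
      exact D.alpha_const hx hp hx1 (fun h => hne (by rw [h, one_smul])) (Or.inl rfl) ha
    · obtain ⟨p, hp, rfl⟩ := D.mem_B.1 hX
      rcases eq_or_ne p 1 with rfl | h
      · rw [one_smul]; exact D.adj_Q1_Q2
      · exact D.alpha_const hx hp hx1 h (Or.inr rfl) hb
  · exact ⟨ha, hb⟩
  · exfalso
    have hB : ∀ q ∈ (D.P : Subgroup G), D.Adj D.Q1 (q • D.Q2) := fun q hq => by
      rcases eq_or_ne q 1 with rfl | h
      · rw [one_smul]; exact D.adj_Q1_Q2
      · exact D.alpha_const hx hq hx1 h (Or.inr rfl) hb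
    have hlam : D.common D.P D.Q1 = D.blockB := by
      ext W
      constructor
      · rintro ⟨h1, h2⟩
        rcases D.adj_P.1 h1 with h | h
        · obtain ⟨p, hp, rfl⟩ := D.mem_A.1 h
          rcases eq_or_ne p 1 with rfl | hp1
          · rw [one_smul] at h2; exact absurd h2 (D.adj_irrefl _)
          · exact absurd (D.alpha_const hp hx hp1 hx1 (Or.inl rfl) h2) ha
        · exact h
      · intro h
        obtain ⟨q, hq, rfl⟩ := D.mem_B.1 h
        exact ⟨D.adj_P.2 (Or.inr h), hB q hq⟩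
    have hl : D.lam = 9 := by rw [lam, hlam, D.ncard_B]
    have hne : D.Q1 ≠ x • D.Q1 := fun h =>
      hx1 (D.free_of_ne D.Q1_ne hx (one_mem _) (by rw [one_smul]; exact h.symm))
    have hsub : insert D.P D.blockB ⊆ D.common D.Q1 (x • D.Q1) := by
      rintro W (rfl | hW)
      · exact ⟨D.adj_symm D.adj_base, D.adj_symm (D.adj_P.2 (Or.inl (D.mem_A.2 ⟨x, hx, rfl⟩)))⟩
      · obtain ⟨q, hq, rfl⟩ := D.mem_B.1 hW
        refine ⟨hB q hq, ?_⟩
        have := Adj.smul D (hB _ (mul_mem (inv_mem hx) hq)) x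
        rwa [smul_smul, mul_inv_cancel_left] at this
    have h := Set.ncard_le_ncard hsub
    rw [Set.ncard_insert_of_notMem D.P_not_B, D.ncard_B, hμ _ _ hne ha] at h
    omega
  · exfalso
    have hlam : D.common D.P D.Q1 = {D.Q2} := by
      ext W
      constructor
      · rintro ⟨h1, h2⟩
        rcases D.adj_P.1 h1 with h | h
        · obtain ⟨p, hp, rfl⟩ := D.mem_A.1 h
          rcases eq_or_ne p 1 with rfl | hp1
          · rw [one_smul] at h2; exact absurd h2 (D.adj_irrefl _)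
          · exact absurd (D.alpha_const hp hx hp1 hx1 (Or.inl rfl) h2) ha
        · obtain ⟨p, hp, rfl⟩ := D.mem_B.1 h
          rcases eq_or_ne p 1 with rfl | hp1
          · exact one_smul _ _
          · exact absurd (D.alpha_const hp hx hp1 hx1 (Or.inr rfl) h2) hb
      · rintro rfl
        exact ⟨D.adj_P.2 (Or.inr (D.mem_B.2 ⟨1, one_mem _, one_smul _ _⟩)), D.adj_Q1_Q2⟩
    have hl : D.lam = 1 := by rw [lam, hlam, Set.ncard_singleton]
    exact D.not_srg ⟨hl, fun X Y h h' => by rw [hμ X Y h h']; omega⟩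

end Tri

end Cfsg.Agent.FGB.M11
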