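import Cfsg.Agent.Lib.FGB.M11SylowThree
import Cfsg.Agent.Lib.SmallSimple.SylowFive

/-!
# The action of a simple group of order 7920 on its Sylow three-subgroups
-/

set_option autoImplicit false
set_option linter.style.haveILetI false
set_option linter.unusedSectionVars false

namespace Cfsg.Agent.FGB.M11

open Cfsg
open Cfsg.Agent.SmallSimple
open scoped Pointwise

universe u

/-- A Sylow three-subgroup with an inverting involution. -/
structure Loc (G : Type u) [Group G] [Finite G] where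
  hG : Nat.card G = 7920
  simple : IsSimpleGroup G
  P : Sylow 3 G
  i0 : G
  hi0 : orderOf i0 = 2
  inv : ∀ p ∈ (P : Subgroup G), i0 * p * i0⁻¹ = p⁻¹

variable {G : Type u} [Group G] [Finite G]

theorem mem_of_fixes_sylow {X : Sylow 3 G} {p : G} (hp : orderOf p = 3) (h : p • X = X) :
    p ∈ (X : Subgroup G) := by
  haveI : Fact (Nat.Prime 3) := ⟨Nat.prime_three⟩
  refine Cfsg.Agent.SylowFive.le_of_fixes
    (IsPGroup.of_card (n := 1) (by rw [pow_one, Nat.card_zpowers, hp])) X ?_ (Subgroup.mem_zpowers p)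
  intro d hd
  rw [Sylow.smul_eq_iff_mem_normalizer] at h ⊢
  exact (Subgroup.zpowers_le.2 h) hd

theorem mem_conj_sylow {X : Sylow 3 G} {g v : G} (h : v ∈ (X : Subgroup G)) :
    g * v * g⁻¹ ∈ ((g • X : Sylow 3 G) : Subgroup G) := ⟨v, h, rfl⟩

theorem sylow_card (hG : Nat.card G = 7920) (X : Sylow 3 G) : Nat.card (X : Subgroup G) = 9 := by
  haveI : Fact (Nat.Prime 3) := ⟨Nat.prime_three⟩
  simpa using card_sylow_of_eq (k := 2) (m := 880) X (by rw [hG]; norm_num) (by norm_num)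

theorem sylow_comm (hG : Nat.card G = 7920) (X : Sylow 3 G) :
    ∀ a ∈ (X : Subgroup G), ∀ b ∈ (X : Subgroup G), a * b = b * a := fun a ha b hb => by
  haveI : Fact (Nat.Prime 3) := ⟨Nat.prime_three⟩
  haveI := IsPGroup.isMulCommutative_of_card_eq_prime_sq (p := 3) (G := (X : Subgroup G))
    (by rw [sylow_card hG X]; norm_num)
  exact congrArg Subtype.val (mul_comm' (⟨a, ha⟩ : (X : Subgroup G)) ⟨b, hb⟩)

variable [IsSimpleGroup G]

theorem self_centralizing (hG : Nat.card G = 7920) (P : Sylow 3 G) {g : G}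
    (h : ∀ p ∈ (P : Subgroup G), g * p = p * g) : g ∈ (P : Subgroup G) := by
  haveI : Fact (Nat.Prime 2) := ⟨Nat.prime_two⟩
  set C := Subgroup.centralizer ((P : Subgroup G) : Set G) with hC
  have hPC : (P : Subgroup G) ≤ C := fun a ha => Subgroup.mem_centralizer_iff.2 fun p hp => sylow_comm hG P p hp a ha
  have hodd : ¬ 2 ∣ Nat.card C := fun h => by
    obtain ⟨y, hy⟩ := exists_prime_orderOf_dvd_card' (G := C) 2 h
    have hle : (P : Subgroup G) ≤ Subgroup.centralizer ({(y : G)} : Set G) := fun p hp =>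
      Subgroup.mem_centralizer_singleton_iff.2 (Subgroup.mem_centralizer_iff.1 y.2 p hp)
    have := Subgroup.card_dvd_of_le hle
    rw [sylow_card hG P, involution_centralizer hG (by rw [Subgroup.orderOf_coe, hy])] at this
    norm_num at this
  have h1 : Nat.card C ∣ 2 ^ 4 * 9 := by
    have := Subgroup.card_dvd_of_le (show C ≤ Subgroup.normalizer ((P : Subgroup G) : Set G) from
      Subgroup.centralizer_le_normalizer _)
    rwa [sylow_three hG P] at this
  have hle : Nat.card C ≤ 9 := Nat.le_of_dvd (by norm_num) (Nat.Coprime.dvd_of_dvd_mul_left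
    (Nat.Coprime.pow_right 4 (Nat.coprime_comm.1 ((Nat.Prime.coprime_iff_not_dvd Nat.prime_two).2 hodd))) h1)
  have e : (P : Subgroup G) = C := Subgroup.eq_of_le_of_card_ge hPC (by rw [sylow_card hG P]; exact hle)
  rw [e]
  exact Subgroup.mem_centralizer_iff.2 fun p hp => (h p hp).symm

theorem exists_loc (hG : Nat.card G = 7920) : Nonempty (Loc G) := by
  haveI : Fact (Nat.Prime 2) := ⟨Nat.prime_two⟩
  obtain ⟨P⟩ : Nonempty (Sylow 3 G) := inferInstance
  set N := Subgroup.normalizer ((P : Subgroup G) : Set G) with hN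
  obtain ⟨T₀, hT₀⟩ := Sylow.exists_subgroup_card_pow_prime (G := N) 2 (n := 2) (by rw [sylow_three hG P]; norm_num)
  have hTc : Nat.card (T₀.map N.subtype) = 4 := by
    rw [Subgroup.card_map_of_injective N.subtype_injective, hT₀]; norm_num
  obtain ⟨i, hiT, hi⟩ := exists_inverter (sylow_card hG P) (sylow_comm hG P) (fun g => self_centralizing hG P)
    (T := T₀.map N.subtype) hTc
    (fun g hg p hp => (Subgroup.mem_normalizer_iff.1 (Subgroup.map_subtype_le _ hg) p).1 hp)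
  refine ⟨⟨hG, inferInstance, P, i, ?_, hi⟩⟩
  have hii : i ^ 2 ∈ (P : Subgroup G) := self_centralizing hG P fun p hp => by
    refine mul_inv_eq_iff_eq_mul.1 ?_
    calc i ^ 2 * p * (i ^ 2)⁻¹ = i * (i * p * i⁻¹) * i⁻¹ := by rw [pow_two]; group
      _ = i * p⁻¹ * i⁻¹ := by rw [hi p hp]
      _ = (i * p * i⁻¹)⁻¹ := by group
      _ = p := by rw [hi p hp, inv_inv]
  have h2 : i ^ 2 = 1 := by
    have h := Nat.dvd_gcd (Subgroup.orderOf_dvd_natCard _ (pow_mem hiT 2)) (Subgroup.orderOf_dvd_natCard _ hii)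
    rw [hTc, sylow_card hG P] at h
    norm_num at h
    exact h
  refine orderOf_eq_prime h2 fun h1 => ?_
  haveI : Fact (Nat.Prime 3) := ⟨Nat.prime_three⟩
  obtain ⟨x, hx⟩ := exists_prime_orderOf_dvd_card' (G := (P : Subgroup G)) 3 (by rw [sylow_card hG P]; norm_num)
  have h := hi x x.2
  rw [h1, one_mul, inv_one, mul_one] at h
  have h4 : orderOf (x : G) ∣ 2 := orderOf_dvd_of_pow_eq_one (by rw [pow_two]; exact mul_eq_one_iff_eq_inv.2 h)
  rw [Subgroup.orderOf_coe, hx] at h4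
  norm_num at h4

namespace Loc

variable (L : Loc G)

/-- The normalizer of the base subgroup. -/
abbrev N : Subgroup G := Subgroup.normalizer ((L.P : Subgroup G) : Set G)

/-- The part of the normalizer centralizing the involution. -/
def T : Subgroup G := L.N ⊓ Subgroup.centralizer ({L.i0} : Set G)

theorem mem_T {g : G} : g ∈ L.T ↔ g ∈ L.N ∧ g * L.i0 = L.i0 * g :=
  and_congr Iff.rfl Subgroup.mem_centralizer_singleton_iff

theorem card_P : Nat.card (L.P : Subgroup G) = 9 := sylow_card L.hG L.P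

theorem comm : ∀ a ∈ (L.P : Subgroup G), ∀ b ∈ (L.P : Subgroup G), a * b = b * a := sylow_comm L.hG L.P

theorem centr {g : G} (h : ∀ p ∈ (L.P : Subgroup G), g * p = p * g) : g ∈ (L.P : Subgroup G) :=
  self_centralizing L.hG L.P h

theorem card_N : Nat.card L.N = 144 := sylow_three L.hG L.P

theorem conj_mem {g p : G} (hg : g ∈ L.N) (hp : p ∈ (L.P : Subgroup G)) : g * p * g⁻¹ ∈ (L.P : Subgroup G) :=
  (Subgroup.mem_normalizer_iff.1 hg p).1 hp

theorem P_le : (L.P : Subgroup G) ≤ L.N := Subgroup.le_normalizer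

theorem i0_mul : L.i0 * L.i0 = 1 := by rw [← pow_two, ← L.hi0, pow_orderOf_eq_one]

theorem i0_T : L.i0 ∈ L.T := by
  refine L.mem_T.2 ⟨Subgroup.mem_normalizer_iff.2 fun p => ⟨fun hp => ?_, fun hp => ?_⟩, rfl⟩
  · rw [L.inv p hp]; exact inv_mem hp
  · have h := L.inv _ hp
    rw [conj_conj_involution L.hi0] at h
    rw [h]
    exact inv_mem hp

theorem eq_one_of_P {p : G} (hp : p ∈ (L.P : Subgroup G)) (h : p ^ 2 = 1) : p = 1 := by
  have h5 := Nat.dvd_gcd (orderOf_dvd_of_pow_eq_one h) (Subgroup.orderOf_dvd_natCard _ hp)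
  rw [L.card_P] at h5
  norm_num at h5
  exact h5

theorem T_P {p : G} (hp : p ∈ (L.P : Subgroup G)) (hpT : p ∈ L.T) : p = 1 := by
  refine L.eq_one_of_P hp ?_
  have h := L.inv p hp
  rw [← (L.mem_T.1 hpT).2, mul_inv_cancel_right] at h
  rw [pow_two]
  exact mul_eq_one_iff_eq_inv.2 h

/-- Square roots in the base subgroup conjugate the involution. -/
theorem conj_i0 {a : G} (ha : a ∈ (L.P : Subgroup G)) :
    ∃ q ∈ (L.P : Subgroup G), q * L.i0 * q⁻¹ = a * L.i0 := by
  refine ⟨a ^ 5, pow_mem ha 5, ?_⟩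
  have h9 : a ^ 9 = 1 := orderOf_dvd_iff_pow_eq_one.1 (L.card_P ▸ Subgroup.orderOf_dvd_natCard _ ha)
  have h := L.inv _ (pow_mem ha 5)
  calc a ^ 5 * L.i0 * (a ^ 5)⁻¹ = a ^ 5 * L.i0 * (L.i0 * a ^ 5 * L.i0⁻¹) := by rw [h]
    _ = a ^ 5 * (L.i0 * L.i0) * a ^ 5 * L.i0⁻¹ := by group
    _ = a ^ 5 * a ^ 5 * L.i0 := by rw [L.i0_mul, mul_one, inv_eq_of_mul_eq_one_right L.i0_mul]
    _ = a * L.i0 := by rw [← pow_add, show 5 + 5 = 9 + 1 from rfl, pow_succ, h9, one_mul]

/-- Every element of the normalizer is an element of the base times one of `T`. -/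
theorem decomp {n : G} (hn : n ∈ L.N) : ∃ q ∈ (L.P : Subgroup G), ∃ t ∈ L.T, n = q * t := by
  have hiN := (L.mem_T.1 L.i0_T).1
  set a := n * L.i0 * n⁻¹ * L.i0⁻¹ with ha
  have haP : a ∈ (L.P : Subgroup G) := L.centr fun p hp => by
    refine mul_inv_eq_iff_eq_mul.1 ?_
    have hp' : L.i0⁻¹ * p * L.i0 = p⁻¹ := by
      rw [inv_eq_of_mul_eq_one_right L.i0_mul]
      have := L.inv p hp
      rwa [inv_eq_of_mul_eq_one_right L.i0_mul] at this
    have hn' : n⁻¹ * p⁻¹ * n ∈ (L.P : Subgroup G) := by simpa using L.conj_mem (inv_mem hn) (inv_mem hp)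
    calc a * p * a⁻¹ = n * (L.i0 * (n⁻¹ * (L.i0⁻¹ * p * L.i0) * n) * L.i0⁻¹) * n⁻¹ := by rw [ha]; group
      _ = n * (n⁻¹ * p⁻¹ * n)⁻¹ * n⁻¹ := by rw [hp', L.inv _ hn']
      _ = p := by group
  obtain ⟨q, hq, e⟩ := L.conj_i0 haP
  have e' : q * L.i0 * q⁻¹ = n * L.i0 * n⁻¹ := by rw [e, ha]; group
  refine ⟨q, hq, q⁻¹ * n, L.mem_T.2 ⟨mul_mem (inv_mem (L.P_le hq)) hn, ?_⟩, by group⟩
  calc q⁻¹ * n * L.i0 = q⁻¹ * (n * L.i0 * n⁻¹) * n := by group
    _ = q⁻¹ * (q * L.i0 * q⁻¹) * n := by rw [e']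
    _ = L.i0 * (q⁻¹ * n) := by group

theorem card_T : Nat.card L.T = 16 := by
  let f : ↥(L.P : Subgroup G) × L.T → L.N := fun x =>
    ⟨(x.1 : G) * x.2, mul_mem (L.P_le x.1.2) (L.mem_T.1 x.2.2).1⟩
  have hf : Function.Bijective f := by
    constructor
    · rintro ⟨p, t⟩ ⟨p', t'⟩ h
      have h' : (p : G) * t = p' * t' := congrArg Subtype.val h
      have e : (p' : G)⁻¹ * p = t' * (t : G)⁻¹ := by
        calc (p' : G)⁻¹ * p = (p' : G)⁻¹ * (p * t) * (t : G)⁻¹ := by group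
          _ = _ := by rw [h']; group
      have h1 := L.T_P (mul_mem (inv_mem p'.2) p.2) (e ▸ mul_mem t'.2 (inv_mem t.2))
      have h2 : p = p' := Subtype.ext (inv_mul_eq_one.1 h1).symm
      subst h2
      exact Prod.ext rfl (Subtype.ext (mul_left_cancel h'))
    · intro n
      obtain ⟨q, hq, t, ht, e⟩ := L.decomp n.2
      exact ⟨(⟨q, hq⟩, ⟨t, ht⟩), Subtype.ext e.symm⟩
  have := Nat.card_congr (Equiv.ofBijective f hf)
  rw [Nat.card_prod, L.card_P, L.card_N] at this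
  omega

/-- An involution of the normalizer inverts the base or fixes one of its elements of order three. -/
theorem invol_cases {w : G} (hwN : w ∈ L.N) (hw : orderOf w = 2) :
    (∃ q ∈ (L.P : Subgroup G), q * L.i0 * q⁻¹ = w) ∨
      ∃ x ∈ (L.P : Subgroup G), orderOf x = 3 ∧ w * x * w⁻¹ = x := by
  haveI : Fact (Nat.Prime 3) := ⟨Nat.prime_three⟩
  by_cases hfp : ∀ p ∈ (L.P : Subgroup G), w * p * w⁻¹ = p → p = 1
  · left
    have hinv : ∀ p ∈ (L.P : Subgroup G), w * p * w⁻¹ = p⁻¹ := fun p hp => by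
      have hp' := L.conj_mem hwN hp
      have h1 : w * (p * (w * p * w⁻¹)) * w⁻¹ = p * (w * p * w⁻¹) := by
        calc w * (p * (w * p * w⁻¹)) * w⁻¹ = w * p * w⁻¹ * (w * (w * p * w⁻¹) * w⁻¹) := by group
          _ = p * (w * p * w⁻¹) := by rw [conj_conj_involution hw, L.comm _ hp' p hp]
      exact eq_inv_of_mul_eq_one_right (hfp _ (mul_mem hp hp') h1)
    have hwi : w * L.i0 ∈ (L.P : Subgroup G) := L.centr fun p hp => by
      refine mul_inv_eq_iff_eq_mul.1 ?_
      calc w * L.i0 * p * (w * L.i0)⁻¹ = w * (L.i0 * p * L.i0⁻¹) * w⁻¹ := by group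
        _ = p := by rw [L.inv p hp, hinv _ (inv_mem hp), inv_inv]
    obtain ⟨q, hq, e⟩ := L.conj_i0 hwi
    exact ⟨q, hq, by rw [e, mul_assoc, L.i0_mul, mul_one]⟩
  · right
    push Not at hfp
    obtain ⟨v, hv, hwv, hv1⟩ := hfp
    have h3 : 3 ∣ Nat.card (Subgroup.zpowers v) := by
      rw [Nat.card_zpowers]
      have hd : orderOf v ∣ 9 := L.card_P ▸ Subgroup.orderOf_dvd_natCard _ hv
      have h1 : orderOf v ≠ 1 := fun h => hv1 (orderOf_eq_one_iff.1 h)
      have := Nat.le_of_dvd (by norm_num) hd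
      revert hd h1 this
      generalize orderOf v = k
      intro hd h1 this
      interval_cases k <;> omega
    obtain ⟨x, hx⟩ := exists_prime_orderOf_dvd_card' (G := Subgroup.zpowers v) 3 h3
    obtain ⟨i, hi⟩ := Subgroup.mem_zpowers_iff.1 x.2
    refine ⟨x, Subgroup.zpowers_le.2 hv x.2, by rw [Subgroup.orderOf_coe, hx], ?_⟩
    rw [← hi, show w * v ^ i * w⁻¹ = MulAut.conj w (v ^ i) by simp, map_zpow,
      show MulAut.conj w v = w * v * w⁻¹ by simp, hwv]

/-- A two-subgroup of the normalizer centralizing an involution with a fixed point is small. -/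
theorem four_bound {D : Subgroup G} (hD : ∀ d ∈ D, d ∈ L.N) (hDP : ∀ d ∈ D, d ∈ (L.P : Subgroup G) → d = 1)
    {w x : G} (hwN : w ∈ L.N) (hw : orderOf w = 2) (hx : x ∈ (L.P : Subgroup G)) (hx3 : orderOf x = 3)
    (hwx : w * x * w⁻¹ = x) (hcomm : ∀ d ∈ D, d * w = w * d) : Nat.card D ≤ 4 := by
  classical
  obtain ⟨m, hmP, hm3, hwm, hmx, hfix, hinv, hgen⟩ :=
    exists_frame L.card_P L.comm (fun g => L.centr) hw (fun p hp => L.conj_mem hwN hp) hx hx3 hwx
  have hswap : ∀ g ∈ D, ∀ p : G, w * (g * p * g⁻¹) * w⁻¹ = g * (w * p * w⁻¹) * g⁻¹ := fun g hg p => by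
    calc w * (g * p * g⁻¹) * w⁻¹ = (w * g) * p * (w * g)⁻¹ := by group
      _ = (g * w) * p * (g * w)⁻¹ := by rw [hcomm g hg]
      _ = g * (w * p * w⁻¹) * g⁻¹ := by group
  have hne : ∀ (g p : G), p ≠ 1 → g * p * g⁻¹ ≠ 1 := fun g p hp h => hp (conj_eq_one_iff.1 h)
  have hgx : ∀ g ∈ D, g * x * g⁻¹ = x ∨ g * x * g⁻¹ = x⁻¹ := fun g hg =>
    (hfix _ (L.conj_mem (hD g hg) hx) (by rw [hswap g hg, hwx])).resolve_left
      (hne g x fun h => by rw [h, orderOf_one] at hx3; omega)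
  have hgm : ∀ g ∈ D, g * m * g⁻¹ = m ∨ g * m * g⁻¹ = m⁻¹ := fun g hg =>
    (hinv _ (L.conj_mem (hD g hg) hmP) (by rw [hswap g hg, hwm]; group)).resolve_left
      (hne g m fun h => by rw [h, orderOf_one] at hm3; omega)
  let f : D → Bool × Bool := fun g =>
    (decide ((g : G) * x * (g : G)⁻¹ = x), decide ((g : G) * m * (g : G)⁻¹ = m))
  have hf : Function.Injective f := by
    intro g h e
    simp only [f, Prod.mk.injEq, decide_eq_decide] at e
    have hxe : (g : G) * x * (g : G)⁻¹ = (h : G) * x * (h : G)⁻¹ := by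
      by_cases hc : (g : G) * x * (g : G)⁻¹ = x
      · rw [hc, e.1.1 hc]
      · rw [(hgx g g.2).resolve_left hc, (hgx h h.2).resolve_left fun h' => hc (e.1.2 h')]
    have hme : (g : G) * m * (g : G)⁻¹ = (h : G) * m * (h : G)⁻¹ := by
      by_cases hc : (g : G) * m * (g : G)⁻¹ = m
      · rw [hc, e.2.1 hc]
      · rw [(hgm g g.2).resolve_left hc, (hgm h h.2).resolve_left fun h' => hc (e.2.2 h')]
    have hcm : ∀ v : G, (g : G) * v * (g : G)⁻¹ = (h : G) * v * (h : G)⁻¹ →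
        (h : G)⁻¹ * g * v = v * ((h : G)⁻¹ * g) := fun v hv => by
      calc (h : G)⁻¹ * g * v = (h : G)⁻¹ * ((g : G) * v * (g : G)⁻¹) * g := by group
        _ = (h : G)⁻¹ * ((h : G) * v * (h : G)⁻¹) * g := by rw [hv]
        _ = v * ((h : G)⁻¹ * g) := by group
    have h1 := hDP _ (mul_mem (inv_mem h.2) g.2) (hgen _ (hcm x hxe) (hcm m hme))
    exact Subtype.ext (inv_mul_eq_one.1 h1).symm
  have := Nat.card_le_card_of_injective f hf
  simpa [Nat.card_eq_fintype_card] using this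

/-- The centralizer of an element of order three divides 18, and the base is normal in it. -/
theorem card_centralizer_three (L : Loc G) {v : G} (hv : orderOf v = 3) :
    Nat.card (Subgroup.centralizer ({v} : Set G)) ∣ 18 := by
  haveI : Fact (Nat.Prime 3) := ⟨Nat.prime_three⟩
  obtain ⟨R, hR⟩ := (IsPGroup.of_card (n := 1) (p := 3) (by rw [pow_one, Nat.card_zpowers, hv]) :
    IsPGroup 3 (Subgroup.zpowers v)).exists_le_sylow
  obtain ⟨c, hc⟩ := MulAction.exists_smul_eq G R L.P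
  have hvP : c * v * c⁻¹ ∈ (L.P : Subgroup G) := hc ▸ mem_conj_sylow (hR (Subgroup.mem_zpowers v))
  have hreal : (c⁻¹ * L.i0 * c) * v * (c⁻¹ * L.i0 * c)⁻¹ = v⁻¹ := by
    calc (c⁻¹ * L.i0 * c) * v * (c⁻¹ * L.i0 * c)⁻¹ = c⁻¹ * (L.i0 * (c * v * c⁻¹) * L.i0⁻¹) * c := by group
      _ = v⁻¹ := by rw [L.inv _ hvP]; group
  have h9 : 9 ∣ Nat.card (Subgroup.centralizer ({v} : Set G)) := by
    have hle : (R : Subgroup G) ≤ Subgroup.centralizer ({v} : Set G) := fun g hg =>
      Subgroup.mem_centralizer_singleton_iff.2 (sylow_comm L.hG R g hg v (hR (Subgroup.mem_zpowers v)))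
    exact sylow_card L.hG R ▸ Subgroup.card_dvd_of_le hle
  have h4 := not_four_dvd L.hG hv hreal h9
  have h144 := centralizer_dvd L.hG (Or.inr hv)
  obtain ⟨e, he⟩ := h9
  rw [he] at h4 h144 ⊢
  have he16 : e ∣ 16 := Nat.dvd_of_mul_dvd_mul_left (by norm_num : 0 < 9) (show 9 * e ∣ 9 * 16 from h144)
  obtain ⟨i, hi, rfl⟩ := (Nat.dvd_prime_pow Nat.prime_two).1 (show e ∣ 2 ^ 4 by norm_num; exact he16)
  interval_cases i <;> first | omega | norm_num

/-- The base acts semiregularly on the other Sylow subgroups. -/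
theorem semiregular {X : Sylow 3 G} (hX : X ≠ L.P) {p : G} (hp : p ∈ (L.P : Subgroup G)) (h : p • X = X) :
    p = 1 := by
  haveI : Fact (Nat.Prime 3) := ⟨Nat.prime_three⟩
  by_contra hp1
  have h3 : 3 ∣ Nat.card (Subgroup.zpowers p) := by
    rw [Nat.card_zpowers]
    have hd : orderOf p ∣ 9 := L.card_P ▸ Subgroup.orderOf_dvd_natCard _ hp
    have h1 : orderOf p ≠ 1 := fun h => hp1 (orderOf_eq_one_iff.1 h)
    have := Nat.le_of_dvd (by norm_num) hd
    revert hd h1 this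
    generalize orderOf p = k
    intro hd h1 this
    interval_cases k <;> omega
  obtain ⟨v₀, hv₀⟩ := exists_prime_orderOf_dvd_card' (G := Subgroup.zpowers p) 3 h3
  have hv : orderOf (v₀ : G) = 3 := by rw [Subgroup.orderOf_coe, hv₀]
  have hvP : (v₀ : G) ∈ (L.P : Subgroup G) := Subgroup.zpowers_le.2 hp v₀.2
  have hfix : (v₀ : G) • X = X := by
    have hle : Subgroup.zpowers p ≤ MulAction.stabilizer G X :=
      Subgroup.zpowers_le.2 (MulAction.mem_stabilizer_iff.2 h)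
    exact MulAction.mem_stabilizer_iff.1 (hle v₀.2)
  have hvX := mem_of_fixes_sylow hv hfix
  set C := Subgroup.centralizer ({(v₀ : G)} : Set G) with hC
  have hle : ∀ {Y : Sylow 3 G}, (v₀ : G) ∈ (Y : Subgroup G) → (Y : Subgroup G) ≤ C := fun {Y} hY g hg =>
    Subgroup.mem_centralizer_singleton_iff.2 (sylow_comm L.hG Y g hg _ hY)
  have hCN : C ≤ L.N := by
    have hd := L.card_centralizer_three hv
    rw [← hC] at hd
    have h1 := Subgroup.card_mul_index ((L.P : Subgroup G).subgroupOf C)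
    rw [Nat.card_congr (Subgroup.subgroupOfEquivOfLe (hle hvP)).toEquiv, L.card_P] at h1
    have h2 : ((L.P : Subgroup G).subgroupOf C).index = 1 ∨ ((L.P : Subgroup G).subgroupOf C).index = 2 := by
      refine (Nat.dvd_prime Nat.prime_two).1 (Nat.dvd_of_mul_dvd_mul_left (by norm_num : 0 < 9) ?_)
      rw [h1]
      exact hd
    refine (Subgroup.normal_subgroupOf_iff_le_normalizer (hle hvP)).1 ?_
    rcases h2 with h2 | h2
    · rw [Subgroup.index_eq_one.1 h2]; infer_instance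
    · exact Subgroup.normal_of_index_eq_two h2
  refine hX (Sylow.ext (Subgroup.eq_of_le_of_card_ge ?_ (by rw [L.card_P, sylow_card L.hG X])))
  exact SylowFive.le_of_fixes X.2 L.P fun d hd => Sylow.smul_eq_iff_mem_normalizer.2 (hCN (hle hvX hd))

end Loc

end Cfsg.Agent.FGB.M11
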