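import Cfsg.Agent.Lib.FGB.M11Values
import Cfsg.Agent.Lib.PermGp.Order7920

/-!
# A group of order 7920 with the element-order counts of the smallest Mathieu group is simple
-/

set_option autoImplicit false
set_option linter.style.haveILetI false
set_option linter.unusedSectionVars false

namespace Cfsg.Agent.FGB.M11

open Cfsg
open Cfsg.Agent.SmallSimple

universe u

variable {G : Type u} [Group G] [Finite G]

/-- Elements of order `p` when the Sylow subgroups have order `p`. -/
theorem card_order_prime {p : ℕ} [hp : Fact p.Prime] (hP : ∀ R : Sylow p G, Nat.card R = p) :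
    Nat.card {g : G // orderOf g = p} = Nat.card (Sylow p G) * (p - 1) := by
  classical
  haveI := Fintype.ofFinite (Sylow p G)
  haveI := Fintype.ofFinite G
  let f : (Σ R : Sylow p G, {a : (R : Subgroup G) // a ≠ 1}) → {g : G // orderOf g = p} := fun x => ⟨(x.2.1 : G), by
    have hd : orderOf (x.2.1 : G) ∣ p := (Subgroup.orderOf_dvd_natCard _ x.2.1.2).trans (hP x.1).dvd
    exact ((Nat.dvd_prime hp.out).1 hd).resolve_left fun h => x.2.2 (Subtype.ext (orderOf_eq_one_iff.1 h))⟩
  have hgen : ∀ (R : Sylow p G) (g : G), g ∈ (R : Subgroup G) → orderOf g = p → Subgroup.zpowers g = (R : Subgroup G) :=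
    fun R g hg ho => Subgroup.eq_of_le_of_card_ge (Subgroup.zpowers_le.2 hg) (by rw [Nat.card_zpowers, ho]; exact (hP R).le)
  have hf : Function.Bijective f := by
    constructor
    · rintro ⟨R, a, ha⟩ ⟨S, b, hb⟩ h
      have e : (a : G) = b := congrArg Subtype.val h
      have hRS : R = S := Sylow.ext (by
        rw [← hgen R a a.2 (f ⟨R, a, ha⟩).2, ← hgen S b b.2 (f ⟨S, b, hb⟩).2, e])
      subst hRS
      obtain rfl : a = b := Subtype.ext e
      rfl
    · rintro ⟨g, hg⟩
      obtain ⟨R, hR⟩ := (IsPGroup.of_card (n := 1) (p := p) (by rw [Nat.card_zpowers, hg, pow_one]) :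
        IsPGroup p (Subgroup.zpowers g)).exists_le_sylow
      exact ⟨⟨R, ⟨g, hR (Subgroup.mem_zpowers g)⟩, fun h => hp.out.one_lt.ne' (by
        rw [← hg, show g = 1 from congrArg Subtype.val h, orderOf_one])⟩, rfl⟩
  rw [← Nat.card_congr (Equiv.ofBijective f hf), Nat.card_eq_fintype_card (α := Σ R : Sylow p G, _), Fintype.card_sigma]
  rw [Finset.sum_congr rfl (g := fun _ => p - 1) (fun R _ => by
    rw [Fintype.card_subtype_compl, Fintype.card_subtype_eq, ← Nat.card_eq_fintype_card]
    exact congrArg (· - 1) (hP R)), Finset.sum_const, Finset.card_univ, smul_eq_mul, ← Nat.card_eq_fintype_card]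

/-- Conjugation by a Sylow subgroup on the elements of a given order. -/
theorem card_order_mod {p n : ℕ} [hp : Fact p.Prime] {a : G} (ha : orderOf a = p) :
    Nat.card {g : G // orderOf g = n} % p =
      Nat.card {g : G // orderOf g = n ∧ g ∈ Subgroup.centralizer ({a} : Set G)} % p := by
  classical
  haveI := Fintype.ofFinite {g : G // orderOf g = n}
  let σ : Equiv.Perm {g : G // orderOf g = n} :=
    ((MulAut.conj a).toEquiv.subtypeEquiv fun g => by
      show orderOf g = n ↔ orderOf (MulAut.conj a g) = n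
      rw [MulEquiv.orderOf_eq])
  have hval : ∀ g, (σ g : G) = a * g * a⁻¹ := fun g => rfl
  have hpow : ∀ (m : ℕ) g, ((σ ^ m) g : G) = a ^ m * g * (a ^ m)⁻¹ := by
    intro m
    induction m with
    | zero => intro g; simp
    | succ m ih => intro g; rw [pow_succ' σ, Equiv.Perm.mul_apply, hval, ih, pow_succ']; group
  have hσ : σ ^ p ^ 1 = 1 := Equiv.ext fun g => Subtype.ext (by
    rw [hpow, pow_one, orderOf_dvd_iff_pow_eq_one.1 ha.dvd]
    simp)
  have h := Equiv.Perm.card_compl_support_modEq (n := 1) hσ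
  have e : (σ.supportᶜ).card = Nat.card {g : G // orderOf g = n ∧ g ∈ Subgroup.centralizer ({a} : Set G)} := by
    rw [← Nat.card_eq_finsetCard]
    let e : (σ.supportᶜ : Finset {g : G // orderOf g = n}) ≃ {g : G // orderOf g = n ∧ g ∈ Subgroup.centralizer ({a} : Set G)} :=
      { toFun := fun g => ⟨g.1.1, g.1.2, Subgroup.mem_centralizer_singleton_iff.2 (mul_inv_eq_iff_eq_mul.1
          (congrArg Subtype.val (Equiv.Perm.notMem_support.1 (Finset.mem_compl.1 g.2)))).symm⟩
        invFun := fun g => ⟨⟨g.1, g.2.1⟩, Finset.mem_compl.2 (Equiv.Perm.notMem_support.2 (Subtype.ext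
          (mul_inv_eq_iff_eq_mul.2 (Subgroup.mem_centralizer_singleton_iff.1 g.2.2).symm)))⟩
        left_inv := fun g => rfl
        right_inv := fun g => rfl }
    exact Nat.card_congr e
  rw [e, ← Nat.card_eq_fintype_card] at h
  exact h.symm

theorem values_simple [IsSimpleGroup G] (hG : Nat.card G = 7920) {n : ℕ} (hn : n ≠ 1) :
    (n = 11 ∧ Nat.card {g : G // orderOf g = n} = 1440) ∨ 11 ∣ Nat.card {g : G // orderOf g = n} := by
  classical
  haveI : Fact (Nat.Prime 11) := ⟨by norm_num⟩
  obtain ⟨P, hP, hC, hN⟩ := eleven hG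
  by_cases h11 : n = 11
  · left
    subst h11
    refine ⟨rfl, ?_⟩
    rw [card_order_prime fun R => (Nat.card_congr (R.equiv P).toEquiv).trans hP]
    have := card_sylow_mul P
    rw [hN, hG] at this
    omega
  right
  obtain ⟨a, ha⟩ := exists_prime_orderOf_dvd_card' (G := (P : Subgroup G)) 11 (by rw [hP])
  have hao : orderOf (a : G) = 11 := by rw [Subgroup.orderOf_coe, ha]
  refine Nat.dvd_of_mod_eq_zero ?_
  rw [card_order_mod hao]
  haveI : IsEmpty {g : G // orderOf g = n ∧ g ∈ Subgroup.centralizer ({(a : G)} : Set G)} := ⟨fun g => by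
    have := no_eleven hG hao (h := (g : G)) (Subgroup.mem_centralizer_singleton_iff.1 g.2.2).symm
    rw [g.2.1] at this
    rcases (Nat.dvd_prime (by norm_num)).1 this with h | h
    · exact hn h
    · exact h11 h⟩
  rw [Nat.card_of_isEmpty]

theorem simple_of_nse (hG : Nat.card G = 7920)
    (hval : ∀ n : ℕ, 0 < Nat.card {g : G // orderOf g = n} →
      Nat.card {g : G // orderOf g = n} = 1 ∨ Nat.card {g : G // orderOf g = n} = 1440 ∨
        11 ∣ Nat.card {g : G // orderOf g = n}) : IsSimpleGroup G := by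
  classical
  haveI : Fact (Nat.Prime 11) := ⟨by norm_num⟩
  have hsyl : ∀ R : Sylow 11 G, Nat.card R = 11 := fun R => by simpa using card_sylow_of_eq (k := 1) (m := 720) R (by rw [hG]; norm_num) (by norm_num)
  obtain ⟨P⟩ : Nonempty (Sylow 11 G) := inferInstance
  have hmul := card_sylow_mul P
  rw [hG] at hmul
  obtain ⟨a, ha⟩ := exists_prime_orderOf_dvd_card' (G := (P : Subgroup G)) 11 (by rw [hsyl P])
  have hao : orderOf (a : G) = 11 := by rw [Subgroup.orderOf_coe, ha]
  have hn : Nat.card (Sylow 11 G) = 144 := by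
    have hc := card_order_prime hsyl
    haveI : Nonempty {g : G // orderOf g = 11} := ⟨⟨a, hao⟩⟩
    have h := hval 11 Nat.card_pos
    rw [hc] at h
    have hd : Nat.card (Sylow 11 G) ∣ 720 := by
      have h1 : 11 ∣ Nat.card (Subgroup.normalizer ((P : Subgroup G) : Set G)) :=
        hao.symm.dvd.trans (Subgroup.orderOf_dvd_natCard _ (Subgroup.le_normalizer a.2))
      obtain ⟨k, hk⟩ := h1
      exact ⟨k, Nat.eq_of_mul_eq_mul_left (show 0 < 11 by norm_num) (by rw [hk] at hmul; linarith)⟩
    have key : ∀ n ∈ Nat.divisors 720, n % 11 = 1 → n = 1 ∨ n = 12 ∨ n = 45 ∨ n = 144 := by decide +kernel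
    rcases key _ (Nat.mem_divisors.2 ⟨hd, by norm_num⟩) (card_sylow_modEq_one 11 G) with e | e | e | e
    iterate 3 (rw [e] at h; norm_num at h)
    exact e
  rw [hn] at hmul
  have hN : Nat.card (Subgroup.normalizer ((P : Subgroup G) : Set G)) = 55 := by omega
  have hCle : Subgroup.centralizer ({(a : G)} : Set G) ≤ Subgroup.normalizer ((P : Subgroup G) : Set G) := by
    have e := centralizer_eq_of_prime (hsyl P) a.2 (fun h => by rw [h, orderOf_one] at hao; omega)
    rw [e]
    exact SmallSimple.centralizer_le_normalizer _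
  have hno : ∀ g : G, orderOf g ≠ 55 := by
    intro g hg
    haveI : Nonempty {g : G // orderOf g = 55} := ⟨⟨g, hg⟩⟩
    have h := hval 55 Nat.card_pos
    -- conjugate the element into the normalizer
    have ho : orderOf (g ^ 5) = 11 := by rw [orderOf_pow' g (by norm_num), hg]; norm_num
    obtain ⟨R, hR⟩ := (IsPGroup.of_card (n := 1) (p := 11) (by rw [Nat.card_zpowers, ho, pow_one]) :
      IsPGroup 11 (Subgroup.zpowers (g ^ 5))).exists_le_sylow
    have hRe : Subgroup.zpowers (g ^ 5) = (R : Subgroup G) := Subgroup.eq_of_le_of_card_ge hR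
      (by rw [Nat.card_zpowers, ho]; exact (hsyl R).le)
    obtain ⟨k, hk⟩ := MulAction.exists_smul_eq G R P
    set w := k * g * k⁻¹ with hw
    have hwo : orderOf w = 55 := by rw [hw, show k * g * k⁻¹ = MulAut.conj k g by simp, MulEquiv.orderOf_eq, hg]
    have hwP : Subgroup.zpowers (w ^ 5) = (P : Subgroup G) := by
      rw [← hk, Sylow.coe_subgroup_smul, ← hRe]
      show _ = (Subgroup.zpowers (g ^ 5)).map (MulAut.conj k).toMonoidHom
      rw [MonoidHom.map_zpowers, hw, conj_pow]
      simp
    have hle : Subgroup.zpowers w ≤ Subgroup.normalizer ((P : Subgroup G) : Set G) := by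
      refine Subgroup.zpowers_le.2 (SmallSimple.centralizer_le_normalizer _ (Subgroup.mem_centralizer_iff.2 fun y hy => ?_))
      rw [← hwP] at hy
      obtain ⟨i, rfl⟩ := hy
      exact (((Commute.refl w).pow_right 5).zpow_right i).eq.symm
    have hNe := Subgroup.eq_of_le_of_card_ge hle (by rw [hN, Nat.card_zpowers, hwo])
    have haw : (a : G) ∈ Subgroup.zpowers w := hNe ▸ Subgroup.le_normalizer a.2
    have e : Nat.card {g : G // orderOf g = 55 ∧ g ∈ Subgroup.centralizer ({(a : G)} : Set G)} =
        Nat.card {g : Subgroup.zpowers w // orderOf g = 55} := by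
      refine Nat.card_congr
        { toFun := fun g => ⟨⟨g.1, by rw [hNe]; exact hCle g.2.2⟩, by rw [← Subgroup.orderOf_coe]; exact g.2.1⟩
          invFun := fun g => ⟨g.1.1, by rw [Subgroup.orderOf_coe]; exact g.2, Subgroup.mem_centralizer_singleton_iff.2 ?_⟩
          left_inv := fun g => rfl
          right_inv := fun g => rfl }
      obtain ⟨i, hi⟩ := Subgroup.mem_zpowers_iff.1 haw
      obtain ⟨j, hj⟩ := Subgroup.mem_zpowers_iff.1 g.1.2
      rw [← hi, ← hj]
      exact ((Commute.refl w).zpow_zpow j i).eq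
    haveI : Fintype (Subgroup.zpowers w) := Fintype.ofFinite _
    have hcount : Nat.card {g : Subgroup.zpowers w // orderOf g = 55} = 40 := by
      rw [Nat.card_eq_fintype_card, Fintype.card_subtype, IsCyclic.card_orderOf_eq_totient (by
        rw [← Nat.card_eq_fintype_card, Nat.card_zpowers, hwo])]
      decide
    have hmod := card_order_mod (n := 55) hao
    rw [e, hcount] at hmod
    rcases h with h | h | h
    · rw [h] at hmod; norm_num at hmod
    · rw [h] at hmod; norm_num at hmod
    · rw [Nat.mod_eq_zero_of_dvd h] at hmod; norm_num at hmod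
  refine Cfsg.Agent.PermGp.Order7920.simple_of_graph hG (A := {11}) ⟨11, rfl, by norm_num, by rw [hG]; norm_num⟩
    ⟨5, by simp, by norm_num, by rw [hG]; norm_num⟩ (Cfsg.Agent.PermGp.Order7920.sides_of_graph ?_)
  intro x hx y hy hxp hyp hxd hyd
  rintro ⟨g, hg⟩
  obtain rfl : x = 11 := hx
  have hy11 : y ≠ 11 := hy
  -- the element of order eleven is centralized by one of order y
  have hy5 : y = 5 := by
    have ho : orderOf (g ^ y) = 11 := by rw [orderOf_pow' g hyp.pos.ne', hg]; rw [Nat.gcd_mul_left_left, Nat.mul_div_cancel _ hyp.pos]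
    have hoy : orderOf (g ^ 11) = y := by
      rw [orderOf_pow' g (by norm_num), hg, Nat.gcd_mul_right_left, Nat.mul_div_cancel_left _ (by norm_num)]
    obtain ⟨R, hR⟩ := (IsPGroup.of_card (n := 1) (p := 11) (by rw [Nat.card_zpowers, ho, pow_one]) :
      IsPGroup 11 (Subgroup.zpowers (g ^ y))).exists_le_sylow
    have hRe : Subgroup.zpowers (g ^ y) = (R : Subgroup G) := Subgroup.eq_of_le_of_card_ge hR
      (by rw [Nat.card_zpowers, ho]; exact (hsyl R).le)
    have hmem : g ^ 11 ∈ Subgroup.normalizer ((R : Subgroup G) : Set G) := by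
      refine SmallSimple.centralizer_le_normalizer _ (Subgroup.mem_centralizer_iff.2 fun w hw => ?_)
      rw [← hRe] at hw
      obtain ⟨i, rfl⟩ := hw
      exact (((Commute.refl g).pow_pow 11 y).zpow_right i).eq.symm
    have hd := Subgroup.orderOf_dvd_natCard _ hmem
    have hNR : Nat.card (Subgroup.normalizer ((R : Subgroup G) : Set G)) = 55 := by
      have h1 := card_sylow_mul R
      rw [hn, hG] at h1
      omega
    rw [hoy, hNR, show (55 : ℕ) = 5 * 11 by norm_num] at hd
    rcases hyp.dvd_mul.1 hd with h | h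
    · exact (Nat.prime_dvd_prime_iff_eq hyp (by norm_num)).1 h
    · exact absurd ((Nat.prime_dvd_prime_iff_eq hyp (by norm_num)).1 h) hy11
  subst hy5
  exact hno g hg

end Cfsg.Agent.FGB.M11
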