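import Cfsg.Agent.Lib.FGB.M11Local

/-!
# The triangle of an involution and the three orbits of the normalizer on the Sylow three-subgroups
-/

set_option autoImplicit false
set_option linter.style.haveILetI false
set_option linter.unusedSectionVars false

namespace Cfsg.Agent.FGB.M11

open Cfsg
open Cfsg.Agent.SmallSimple
open scoped Pointwise

universe u

variable {G : Type u} [Group G] [Finite G] [IsSimpleGroup G]

/-- The triangle of the base subgroup. -/
structure Tri (G : Type u) [Group G] [Finite G] extends Loc G where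
  z : G
  z3 : orderOf z = 3
  zc : z * i0 = i0 * z

namespace Tri

theorem exists_tri (hG : Nat.card G = 7920) : Nonempty (Tri G) := by
  haveI : Fact (Nat.Prime 3) := ⟨Nat.prime_three⟩
  obtain ⟨L⟩ := exists_loc hG
  obtain ⟨z, hz⟩ := exists_prime_orderOf_dvd_card' (G := Subgroup.centralizer ({L.i0} : Set G)) 3
    (by rw [involution_centralizer hG L.hi0]; norm_num)
  exact ⟨⟨L, z, by rw [Subgroup.orderOf_coe, hz], Subgroup.mem_centralizer_singleton_iff.1 z.2⟩⟩

variable (D : Tri G)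

/-- The first neighbour. -/
def Q1 : Sylow 3 G := D.z • D.P

/-- The second neighbour. -/
def Q2 : Sylow 3 G := D.z • D.z • D.P

theorem z_cube : D.z * D.z * D.z = 1 := by
  rw [← pow_two, ← pow_succ, show (2 + 1 : ℕ) = 3 from rfl, ← D.z3, pow_orderOf_eq_one]

theorem z_Q2 : D.z • D.Q2 = D.P := by
  rw [Q2, smul_smul, smul_smul, D.z_cube, one_smul]

theorem z_P : D.z • D.P = D.Q1 := rfl

theorem z_Q1 : D.z • D.Q1 = D.Q2 := rfl

theorem z_notN : D.z ∉ D.toLoc.N := by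
  intro h
  have hz : D.z ∈ (D.P : Subgroup G) := mem_of_fixes_sylow D.z3 (Sylow.smul_eq_iff_mem_normalizer.2 h)
  have h1 := D.inv _ hz
  rw [← D.zc, mul_inv_cancel_right] at h1
  have h2 := orderOf_dvd_of_pow_eq_one (show D.z ^ 2 = 1 by rw [pow_two]; exact mul_eq_one_iff_eq_inv.2 h1)
  rw [D.z3] at h2
  norm_num at h2

theorem Q1_ne : D.Q1 ≠ D.P := fun h => D.z_notN (Sylow.smul_eq_iff_mem_normalizer.1 h)

theorem Q2_ne : D.Q2 ≠ D.P := fun h => by
  have h1 := D.z_Q2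
  rw [h] at h1
  exact D.z_notN (Sylow.smul_eq_iff_mem_normalizer.1 h1)

theorem Q1_ne_Q2 : D.Q1 ≠ D.Q2 := fun h => by
  have h1 : D.z • D.Q2 = D.z • D.Q1 := by rw [h]
  rw [D.z_Q2, D.z_Q1] at h1
  exact D.Q2_ne h1.symm

theorem i0_fixes_P : D.i0 • D.P = D.P := Sylow.smul_eq_iff_mem_normalizer.2 (D.toLoc.mem_T.1 D.toLoc.i0_T).1

theorem i0_Q1 : D.i0 • D.Q1 = D.Q1 := by
  rw [Q1, smul_smul, ← D.zc, ← smul_smul, D.i0_fixes_P]

theorem i0_Q2 : D.i0 • D.Q2 = D.Q2 := by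
  rw [Q2, smul_smul D.z D.z, smul_smul, show D.i0 * (D.z * D.z) = D.z * D.z * D.i0 by
    rw [← mul_assoc, ← D.zc, mul_assoc, ← D.zc, mul_assoc], ← smul_smul _ D.i0, D.i0_fixes_P]

theorem small_centralizer {v : G} (hv : v ∈ D.toLoc.T) (hvz : v * D.z = D.z * v) : v = 1 ∨ v = D.i0 := by
  haveI : Fact (Nat.Prime 3) := ⟨Nat.prime_three⟩
  set B := D.toLoc.T ⊓ Subgroup.centralizer ({D.z} : Set G) with hB
  have h1 : Nat.card B ∣ 2 := by
    have e1 : Nat.card B ∣ 16 := D.toLoc.card_T ▸ Subgroup.card_dvd_of_le inf_le_left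
    have e2 : Nat.card B ∣ 18 := (Subgroup.card_dvd_of_le inf_le_right).trans (D.toLoc.card_centralizer_three D.z3)
    exact Nat.dvd_gcd e1 e2
  have hi : D.i0 ∈ B := ⟨D.toLoc.i0_T, Subgroup.mem_centralizer_singleton_iff.2 D.zc.symm⟩
  have hvB : v ∈ B := ⟨hv, Subgroup.mem_centralizer_singleton_iff.2 hvz⟩
  have he : Subgroup.zpowers D.i0 = B := Subgroup.eq_of_le_of_card_ge (Subgroup.zpowers_le.2 hi) (by
    rw [Nat.card_zpowers, D.hi0]; exact Nat.le_of_dvd two_pos h1)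
  obtain ⟨i, hi'⟩ := Subgroup.mem_zpowers_iff.1 (he.symm ▸ hvB : v ∈ Subgroup.zpowers D.i0)
  rw [← zpow_mod_orderOf, D.hi0] at hi'
  rcases (show i % ((2 : ℕ) : ℤ) = 0 ∨ i % ((2 : ℕ) : ℤ) = 1 by omega) with h | h <;> rw [h] at hi'
  · exact Or.inl (by rw [← hi', zpow_zero])
  · exact Or.inr (by rw [← hi', zpow_one])

theorem not_normalizes : ¬ ∀ t ∈ D.toLoc.T, D.z * t * D.z⁻¹ ∈ D.toLoc.T := by
  classical
  intro h
  haveI : Fact (Nat.Prime 3) := ⟨Nat.prime_three⟩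
  haveI := Fintype.ofFinite D.toLoc.T
  let σ : D.toLoc.T → D.toLoc.T := fun t => ⟨D.z * t * D.z⁻¹, h t t.2⟩
  have hσi : Function.Injective σ := fun a b e =>
    Subtype.ext (mul_left_cancel (mul_right_cancel (congrArg Subtype.val e)))
  let e : Equiv.Perm D.toLoc.T := Equiv.ofBijective σ (Finite.injective_iff_bijective.1 hσi)
  have he3 : e ^ 3 ^ 1 = 1 := Equiv.ext fun t => Subtype.ext (by
    show D.z * (D.z * (D.z * (t : G) * D.z⁻¹) * D.z⁻¹) * D.z⁻¹ = t
    calc D.z * (D.z * (D.z * (t : G) * D.z⁻¹) * D.z⁻¹) * D.z⁻¹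
        = D.z * D.z * D.z * (t : G) * (D.z * D.z * D.z)⁻¹ := by group
      _ = t := by rw [D.z_cube]; group)
  have hmod := Equiv.Perm.card_compl_support_modEq (n := 1) he3
  have hs : e.supportᶜ = {1, ⟨D.i0, D.toLoc.i0_T⟩} := by
    ext t
    rw [Finset.mem_compl, Equiv.Perm.mem_support, not_not, Finset.mem_insert, Finset.mem_singleton]
    constructor
    · intro ht
      have ht' : D.z * (t : G) * D.z⁻¹ = t := congrArg Subtype.val ht
      rcases D.small_centralizer t.2 (mul_inv_eq_iff_eq_mul.1 ht').symm with h | h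
      · exact Or.inl (Subtype.ext h)
      · exact Or.inr (Subtype.ext h)
    · rintro (rfl | rfl) <;> apply Subtype.ext
      · show D.z * 1 * D.z⁻¹ = 1
        group
      · show D.z * D.i0 * D.z⁻¹ = D.i0
        rw [D.zc, mul_inv_cancel_right]
  rw [hs, Finset.card_pair (fun e => by
    have := congrArg (fun t : D.toLoc.T => orderOf (t : G)) e
    simp only [OneMemClass.coe_one, orderOf_one, D.hi0] at this
    omega), ← Nat.card_eq_fintype_card, D.toLoc.card_T] at hmod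
  exact absurd hmod (by decide)

/-- The centralizer of the involution permutes the triangle. -/
theorem cent_orbit {g : G} (hg : g * D.i0 = D.i0 * g) :
    g • D.P = D.P ∨ g • D.P = D.Q1 ∨ g • D.P = D.Q2 := by
  classical
  set C := Subgroup.centralizer ({D.i0} : Set G) with hC
  have hzC : D.z ∈ C := Subgroup.mem_centralizer_singleton_iff.2 D.zc
  let f : Fin 3 × D.toLoc.T → C := fun x =>
    ⟨D.z ^ (x.1 : ℕ) * x.2, mul_mem (pow_mem hzC _) x.2.2.2⟩
  have hf : Function.Injective f := by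
    rintro ⟨a, t⟩ ⟨b, t'⟩ h
    have h' : D.z ^ (a : ℕ) * t = D.z ^ (b : ℕ) * t' := congrArg Subtype.val h
    suffices hab : a = b by
      subst hab
      exact Prod.ext rfl (Subtype.ext (mul_left_cancel h'))
    by_contra hab
    have hne : (a : ℕ) ≠ b := fun e => hab (Fin.ext e)
    have e : (D.z ^ (b : ℕ))⁻¹ * D.z ^ (a : ℕ) = t' * (t : G)⁻¹ := by
      calc (D.z ^ (b : ℕ))⁻¹ * D.z ^ (a : ℕ) = (D.z ^ (b : ℕ))⁻¹ * (D.z ^ (a : ℕ) * t) * (t : G)⁻¹ := by group
        _ = _ := by rw [h']; group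
    have hT : (D.z ^ (b : ℕ))⁻¹ * D.z ^ (a : ℕ) ∈ D.toLoc.T := e ▸ mul_mem t'.2 (inv_mem t.2)
    have h1 := Nat.dvd_gcd (Subgroup.orderOf_dvd_natCard _ hT) (show orderOf ((D.z ^ (b : ℕ))⁻¹ * D.z ^ (a : ℕ)) ∣ 3 by
      have h3 := Subgroup.orderOf_dvd_natCard _
        (mul_mem (inv_mem (pow_mem (Subgroup.mem_zpowers D.z) b)) (pow_mem (Subgroup.mem_zpowers D.z) a))
      exact h3.trans (Nat.card_zpowers D.z ▸ D.z3 ▸ dvd_rfl))
    rw [D.toLoc.card_T] at h1
    norm_num at h1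
    rw [inv_mul_eq_one, pow_inj_mod, D.z3] at h1
    have := a.2
    have := b.2
    omega
  have hsurj : Function.Surjective f := ((Nat.bijective_iff_injective_and_card f).2 ⟨hf, by
    rw [Nat.card_prod, Nat.card_fin, D.toLoc.card_T, involution_centralizer D.hG D.hi0]⟩).2
  obtain ⟨⟨a, t⟩, e⟩ := hsurj ⟨g, Subgroup.mem_centralizer_singleton_iff.2 hg⟩
  have e' : D.z ^ (a : ℕ) * t = g := congrArg Subtype.val e
  rw [← e', ← smul_smul, Sylow.smul_eq_iff_mem_normalizer.2 t.2.1]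
  fin_cases a
  · exact Or.inl (by rw [pow_zero, one_smul])
  · exact Or.inr (Or.inl (by rw [pow_one]; rfl))
  · exact Or.inr (Or.inr (by rw [pow_two, ← smul_smul]; rfl))

theorem T_fix {t : G} (ht : t ∈ D.toLoc.T) : t • D.P = D.P := Sylow.smul_eq_iff_mem_normalizer.2 ht.1

theorem T_Q1 {t : G} (ht : t ∈ D.toLoc.T) : t • D.Q1 = D.Q1 ∨ t • D.Q1 = D.Q2 := by
  rcases D.cent_orbit (g := t * D.z) (by rw [mul_assoc, D.zc, ← mul_assoc, (D.toLoc.mem_T.1 ht).2, mul_assoc]) with h | h | h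
    <;> rw [← smul_smul, D.z_P] at h
  · exact absurd (smul_left_cancel t (h.trans (D.T_fix ht).symm)) D.Q1_ne
  · exact Or.inl h
  · exact Or.inr h

theorem T_Q2 {t : G} (ht : t ∈ D.toLoc.T) (h : t • D.Q1 = D.Q1) : t • D.Q2 = D.Q2 := by
  rcases D.cent_orbit (g := t * (D.z * D.z)) (by
    have hzz : D.z * D.z * D.i0 = D.i0 * (D.z * D.z) := by rw [mul_assoc, D.zc, ← mul_assoc, D.zc, mul_assoc]
    rw [mul_assoc, hzz, ← mul_assoc, (D.toLoc.mem_T.1 ht).2, mul_assoc]) with h' | h' | h'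
    <;> rw [← smul_smul, ← smul_smul D.z D.z, D.z_P, D.z_Q1] at h'
  · exact absurd (smul_left_cancel t (h'.trans (D.T_fix ht).symm)) D.Q2_ne
  · exact absurd (smul_left_cancel t (h'.trans h.symm)) D.Q1_ne_Q2.symm
  · exact h'

/-- Some element of `T` interchanges the two neighbours. -/
theorem exists_swap : ∃ τ ∈ D.toLoc.T, τ • D.Q1 = D.Q2 ∧ τ • D.Q2 = D.Q1 := by
  by_contra hno
  push Not at hno
  refine D.not_normalizes fun t ht => ?_
  have hall : ∀ t ∈ D.toLoc.T, t • D.Q1 = D.Q1 := fun t ht => by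
    rcases D.T_Q1 ht with h | h
    · exact h
    · refine absurd ?_ (hno t ht h)
      rcases D.cent_orbit (g := t * (D.z * D.z)) (by
        have hzz : D.z * D.z * D.i0 = D.i0 * (D.z * D.z) := by rw [mul_assoc, D.zc, ← mul_assoc, D.zc, mul_assoc]
        rw [mul_assoc, hzz, ← mul_assoc, (D.toLoc.mem_T.1 ht).2, mul_assoc]) with h' | h' | h'
        <;> rw [← smul_smul, ← smul_smul D.z D.z, D.z_P, D.z_Q1] at h'
      · exact absurd (smul_left_cancel t (h'.trans (D.T_fix ht).symm)) D.Q2_ne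
      · exact h'
      · exact absurd (smul_left_cancel t (h.trans h'.symm)) D.Q1_ne_Q2
  refine D.toLoc.mem_T.2 ⟨Sylow.smul_eq_iff_mem_normalizer.1 ?_, ?_⟩
  · have hz' : D.z⁻¹ • D.P = D.Q2 := by rw [inv_smul_eq_iff, D.z_Q2]
    rw [← smul_smul, ← smul_smul, hz', D.T_Q2 ht (hall t ht), D.z_Q2]
  · have e1 : D.z⁻¹ * D.i0 = D.i0 * D.z⁻¹ := by
      rw [inv_mul_eq_iff_eq_mul, ← mul_assoc, D.zc, mul_assoc, mul_inv_cancel, mul_one]
    calc D.z * t * D.z⁻¹ * D.i0 = D.z * (t * (D.z⁻¹ * D.i0)) := by group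
      _ = D.z * (t * D.i0) * D.z⁻¹ := by rw [e1]; group
      _ = D.z * D.i0 * t * D.z⁻¹ := by rw [(D.toLoc.mem_T.1 ht).2]; group
      _ = D.i0 * (D.z * t * D.z⁻¹) := by rw [D.zc]; group

/-- The part of `T` fixing the triangle pointwise. -/
def T1 : Subgroup G := D.toLoc.T ⊓ MulAction.stabilizer G D.Q1

theorem mem_T1 {g : G} : g ∈ D.T1 ↔ g ∈ D.toLoc.T ∧ g • D.Q1 = D.Q1 :=
  and_congr Iff.rfl MulAction.mem_stabilizer_iff

theorem card_T1 : Nat.card D.T1 = 8 := by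
  obtain ⟨τ, hτ, h1, h2⟩ := D.exists_swap
  let f : Bool × D.T1 → D.toLoc.T := fun x => ⟨(if x.1 then τ else 1) * x.2,
    mul_mem (by split_ifs <;> [exact hτ; exact one_mem _]) (D.mem_T1.1 x.2.2).1⟩
  have hf : Function.Bijective f := by
    constructor
    · rintro ⟨a, t⟩ ⟨b, t'⟩ h
      have h' : (if a then τ else 1) * (t : G) = (if b then τ else 1) * t' := congrArg Subtype.val h
      have hab : a = b := by
        by_contra hab
        have h3 := congrArg (fun g => g • D.Q1) h'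
        simp only [← smul_smul, (D.mem_T1.1 t.2).2, (D.mem_T1.1 t'.2).2] at h3
        cases a <;> cases b <;> simp [h1, D.Q1_ne_Q2, D.Q1_ne_Q2.symm] at h3 hab
      subst hab
      exact Prod.ext rfl (Subtype.ext (mul_left_cancel h'))
    · intro t
      rcases D.T_Q1 t.2 with h | h
      · exact ⟨(false, ⟨t, D.mem_T1.2 ⟨t.2, h⟩⟩), Subtype.ext (by simp [f])⟩
      · refine ⟨(true, ⟨τ⁻¹ * t, D.mem_T1.2 ⟨mul_mem (inv_mem hτ) t.2, ?_⟩⟩), Subtype.ext (by simp [f])⟩
        rw [← smul_smul, h, inv_smul_eq_iff, h1]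
  have := Nat.card_congr (Equiv.ofBijective f hf)
  rw [Nat.card_prod, D.toLoc.card_T, Nat.card_eq_fintype_card, Fintype.card_bool] at this
  omega

theorem z_T1 {t : G} (ht : t ∈ D.T1) : D.z * t * D.z⁻¹ ∈ D.T1 := by
  obtain ⟨htT, ht1⟩ := D.mem_T1.1 ht
  have hz' : D.z⁻¹ • D.P = D.Q2 := by rw [inv_smul_eq_iff, D.z_Q2]
  have hz'' : D.z⁻¹ • D.Q1 = D.P := by rw [inv_smul_eq_iff]; rfl
  refine D.mem_T1.2 ⟨D.toLoc.mem_T.2 ⟨Sylow.smul_eq_iff_mem_normalizer.1 ?_, ?_⟩, ?_⟩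
  · rw [← smul_smul, ← smul_smul, hz', D.T_Q2 htT ht1, D.z_Q2]
  · have e1 : D.z⁻¹ * D.i0 = D.i0 * D.z⁻¹ := by
      rw [inv_mul_eq_iff_eq_mul, ← mul_assoc, D.zc, mul_assoc, mul_inv_cancel, mul_one]
    calc D.z * t * D.z⁻¹ * D.i0 = D.z * (t * (D.z⁻¹ * D.i0)) := by group
      _ = D.z * (t * D.i0) * D.z⁻¹ := by rw [e1]; group
      _ = D.z * D.i0 * t * D.z⁻¹ := by rw [(D.toLoc.mem_T.1 htT).2]; group
      _ = D.i0 * (D.z * t * D.z⁻¹) := by rw [D.zc]; group
  · rw [← smul_smul, ← smul_smul, hz'', D.T_fix htT, D.z_P]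

/-- The only involution of `T1` is the inversion. -/
theorem T1_invol {u : G} (hu : u ∈ D.T1) (hu2 : orderOf u = 2) : u = D.i0 := by
  classical
  by_contra hne
  obtain ⟨huT, hu1⟩ := D.mem_T1.1 hu
  have huN := (D.toLoc.mem_T.1 huT).1
  obtain ⟨x, hx, hx3, hux⟩ : ∃ x ∈ (D.P : Subgroup G), orderOf x = 3 ∧ u * x * u⁻¹ = x := by
    refine (D.toLoc.invol_cases huN hu2).resolve_left ?_
    rintro ⟨q, hq, e⟩
    refine hne ?_
    have h1 : u * D.i0⁻¹ = q * q := by
      rw [← e]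
      calc q * D.i0 * q⁻¹ * D.i0⁻¹ = q * (D.i0 * q⁻¹ * D.i0⁻¹) := by group
        _ = q * q := by rw [D.inv _ (inv_mem hq), inv_inv]
    have h2 : q * q = 1 := D.toLoc.T_P (mul_mem hq hq) (h1 ▸ mul_mem huT (inv_mem D.toLoc.i0_T))
    rw [h2, mul_inv_eq_one] at h1
    exact h1
  have hi1 : D.i0 ∈ D.T1 := D.mem_T1.2 ⟨D.toLoc.i0_T, D.i0_Q1⟩
  have hzi : D.z * D.i0 * D.z⁻¹ = D.i0 := by rw [D.zc, mul_inv_cancel_right]
  set u1 := D.z * u * D.z⁻¹ with hu1def
  set u2 := D.z * u1 * D.z⁻¹ with hu2def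
  have hu13 : D.z * u2 * D.z⁻¹ = u := by
    rw [hu2def, hu1def]
    calc D.z * (D.z * (D.z * u * D.z⁻¹) * D.z⁻¹) * D.z⁻¹ = D.z * D.z * D.z * u * (D.z * D.z * D.z)⁻¹ := by group
      _ = u := by rw [D.z_cube]; group
  have hsq : ∀ v : G, v * v = 1 → v * D.i0 = D.i0 * v → (v * D.i0) * (v * D.i0) = 1 := fun v hv hc => by
    calc (v * D.i0) * (v * D.i0) = v * (D.i0 * v) * D.i0 := by group
      _ = v * v * (D.i0 * D.i0) := by rw [← hc]; group
      _ = 1 := by rw [hv, D.toLoc.i0_mul, one_mul]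
  have huu : u * u = 1 := by rw [← pow_two, ← hu2, pow_orderOf_eq_one]
  have hm1 := D.z_T1 hu
  have hm2 := D.z_T1 hm1
  have hu1u1 : u1 * u1 = 1 := by rw [hu1def]; calc _ = D.z * (u * u) * D.z⁻¹ := by group
                                                _ = 1 := by rw [huu]; group
  have hu2u2 : u2 * u2 = 1 := by rw [hu2def]; calc _ = D.z * (u1 * u1) * D.z⁻¹ := by group
                                                _ = 1 := by rw [hu1u1]; group
  have hc : ∀ v ∈ D.T1, v * D.i0 = D.i0 * v := fun v hv => (D.toLoc.mem_T.1 (D.mem_T1.1 hv).1).2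
  -- distinctness
  have hu_one : u ≠ 1 := fun h => by rw [h, orderOf_one] at hu2; omega
  have hnz : D.z * u * D.z⁻¹ ≠ u := fun h => by
    rcases D.small_centralizer huT (mul_inv_eq_iff_eq_mul.1 h).symm with e | e
    · exact hu_one e
    · exact hne e
  have hnz2 : u2 ≠ u := fun h => hnz (by
    have : D.z * u2 * D.z⁻¹ = D.z * u * D.z⁻¹ := by rw [h]
    rw [hu13] at this
    exact this.symm)
  have hui : u * D.i0 ≠ u := fun h => by
    have h' : D.i0 = 1 := mul_eq_left.1 h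
    have := D.hi0
    rw [h', orderOf_one] at this
    omega
  have hcross : u1 ≠ u * D.i0 ∧ u2 ≠ u * D.i0 := by
    have step : ∀ v : G, D.z * (v * D.i0) * D.z⁻¹ = D.z * v * D.z⁻¹ * D.i0 := fun v => by
      calc D.z * (v * D.i0) * D.z⁻¹ = D.z * v * D.z⁻¹ * (D.z * D.i0 * D.z⁻¹) := by group
        _ = _ := by rw [hzi]
    have hii : ∀ v : G, v * D.i0 * D.i0 = v := fun v => by rw [mul_assoc, D.toLoc.i0_mul, mul_one]
    constructor
    · intro h
      have e2 : u2 = u := by rw [hu2def, h, step, ← hu1def, h, hii]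
      exact hnz2 e2
    · intro h
      have e1 : u = u1 * D.i0 := by rw [← hu13, h, step]
      have : u1 = u * D.i0 := by rw [e1, hii]
      have e2 : u2 = u := by rw [hu2def, this, step, ← hu1def, this, hii]
      exact hnz2 e2
  haveI := Fintype.ofFinite D.T1
  have hmem : ∀ v ∈ ({1, u, u1, u2} : Finset G), v ∈ D.T1 ∧ v * v = 1 := by
    intro v hv
    simp only [Finset.mem_insert, Finset.mem_singleton] at hv
    rcases hv with rfl | rfl | rfl | rfl
    · exact ⟨one_mem _, one_mul 1⟩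
    · exact ⟨hu, huu⟩
    · exact ⟨hm1, hu1u1⟩
    · exact ⟨hm2, hu2u2⟩
  have hcases : u1 ≠ u2 ∧ (∀ v ∈ ({1, u, u1, u2} : Finset G), v ≠ D.i0) ∧ u1 ≠ 1 ∧ u2 ≠ 1 ∧
      u2 ≠ u1 * D.i0 ∧ u1 ≠ u2 * D.i0 ∧ u ≠ u1 * D.i0 ∧ u ≠ u2 * D.i0 := by
    have c1 : ∀ {a b : G}, D.z * a * D.z⁻¹ = D.z * b * D.z⁻¹ → a = b := fun h => mul_left_cancel (mul_right_cancel h)
    have step : ∀ v : G, D.z * (v * D.i0) * D.z⁻¹ = D.z * v * D.z⁻¹ * D.i0 := fun v => by
      calc D.z * (v * D.i0) * D.z⁻¹ = D.z * v * D.z⁻¹ * (D.z * D.i0 * D.z⁻¹) := by group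
        _ = _ := by rw [hzi]
    have hii : ∀ v : G, v * D.i0 * D.i0 = v := fun v => by rw [mul_assoc, D.toLoc.i0_mul, mul_one]
    have hi01 : D.i0 ≠ 1 := fun h => by have := D.hi0; rw [h, orderOf_one] at this; omega
    have n1 : u1 ≠ 1 := fun h => hu_one (conj_eq_one_iff.1 h)
    have n2 : u2 ≠ 1 := fun h => n1 (conj_eq_one_iff.1 h)
    have m1 : u1 ≠ D.i0 := fun h => hne (c1 (by rw [← hu1def, h, hzi]))
    have m2 : u2 ≠ D.i0 := fun h => m1 (c1 (by rw [← hu2def, h, hzi]))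
    have p12 : u1 ≠ u2 := fun h => hnz (c1 (by rw [← hu1def, ← hu2def, h]))
    have q12 : u2 ≠ u1 * D.i0 := fun h => hcross.1 (c1 (by rw [step, ← hu1def, ← hu2def, h]))
    refine ⟨p12, ?_, n1, n2, q12, fun h => q12 (by rw [h, hii]), fun h => hcross.1 (by rw [h, hii]),
      fun h => hcross.2 (by rw [h, hii])⟩
    intro v hv
    simp only [Finset.mem_insert, Finset.mem_singleton] at hv
    rcases hv with rfl | rfl | rfl | rfl <;> first | exact hne | exact m1 | exact m2 | exact hi01.symm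
  obtain ⟨p12, hni, n1, n2, q12, q21, q01, q02⟩ := hcases
  have hi01 : D.i0 ≠ 1 := fun h => by have := D.hi0; rw [h, orderOf_one] at this; omega
  have hsep : ∀ v ∈ ({1, u, u1, u2} : Finset G), ∀ v' ∈ ({1, u, u1, u2} : Finset G), v ≠ v' * D.i0 := by
    intro v hv v' hv' h
    have hself : ∀ a : G, a ≠ a * D.i0 := fun a e => hi01 (mul_eq_left.1 e.symm)
    have hone : ∀ a ∈ ({1, u, u1, u2} : Finset G), a * D.i0 ≠ 1 := fun a ha e =>
      hni a ha (by rw [eq_inv_of_mul_eq_one_left e, inv_eq_of_mul_eq_one_right D.toLoc.i0_mul])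
    simp only [Finset.mem_insert, Finset.mem_singleton] at hv
    rcases hv with rfl | rfl | rfl | rfl
    · exact hone v' hv' h.symm
    all_goals
      simp only [Finset.mem_insert, Finset.mem_singleton] at hv'
      rcases hv' with rfl | rfl | rfl | rfl
    all_goals first
      | exact hself _ h
      | exact hni _ (by simp) (h.trans (one_mul _))
      | exact q01 h
      | exact q02 h
      | exact q12 h
      | exact q21 h
      | exact hcross.1 h
      | exact hcross.2 h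
  have hV : ({1, u, u1, u2} : Finset G).card = 4 := Finset.card_eq_four.2
    ⟨1, u, u1, u2, hu_one.symm, n1.symm, n2.symm, hnz.symm, hnz2.symm, p12, rfl⟩
  have hall : ∀ v ∈ D.T1, v * v = 1 := by
    let f : ↥({1, u, u1, u2} : Finset G) × Bool → D.T1 := fun x =>
      ⟨(x.1 : G) * (if x.2 then D.i0 else 1), mul_mem (hmem _ x.1.2).1 (by split_ifs <;> [exact hi1; exact one_mem _])⟩
    have hf : Function.Injective f := by
      rintro ⟨a, i⟩ ⟨b, j⟩ h
      have h' : (a : G) * (if i then D.i0 else 1) = (b : G) * (if j then D.i0 else 1) := congrArg Subtype.val h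
      cases i <;> cases j <;> simp only [Bool.false_eq_true, if_false, if_true, mul_one] at h'
      · exact Prod.ext (Subtype.ext h') rfl
      · exact absurd h' (hsep _ a.2 _ b.2)
      · exact absurd h'.symm (hsep _ b.2 _ a.2)
      · exact Prod.ext (Subtype.ext (mul_right_cancel h')) rfl
    intro v hv
    have hsurj : Function.Surjective f := ((Fintype.bijective_iff_injective_and_card f).2
      ⟨hf, by rw [Fintype.card_prod, Fintype.card_coe, hV, Fintype.card_bool, ← Nat.card_eq_fintype_card, D.card_T1]⟩).2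
    obtain ⟨⟨a, i⟩, hi⟩ := hsurj ⟨v, hv⟩
    have e : (a : G) * (if i then D.i0 else 1) = v := congrArg Subtype.val hi
    rw [← e]
    cases i
    · simpa using (hmem _ a.2).2
    · simpa using hsq _ (hmem _ a.2).2 (hc _ (hmem _ a.2).1)
  have hcomm : ∀ d ∈ D.T1, d * u = u * d := fun d hd => by
    calc d * u = (u * u) * (d * u) * (d * d) := by rw [huu, hall d hd, one_mul, mul_one]
      _ = u * ((u * d) * (u * d)) * d := by group
      _ = u * d := by rw [hall _ (mul_mem hu hd), mul_one]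
  have := D.toLoc.four_bound (D := D.T1) (fun d hd => (D.toLoc.mem_T.1 (D.mem_T1.1 hd).1).1)
    (fun d hd hdP => D.toLoc.T_P hdP (D.mem_T1.1 hd).1) huN hu2 hx hx3 hux hcomm
  rw [D.card_T1] at this
  omega

/-- `T1` acts freely and transitively on the non-trivial elements of the base. -/
theorem T1_trans {x y : G} (hx : x ∈ (D.P : Subgroup G)) (hy : y ∈ (D.P : Subgroup G)) (hx1 : x ≠ 1) (hy1 : y ≠ 1) :
    ∃ g ∈ D.T1, g * x * g⁻¹ = y := by
  classical
  have hfree : ∀ g ∈ D.T1, g * x * g⁻¹ = x → g = 1 := by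
    intro g hg hgx
    by_contra hg1
    have hd : orderOf g ∣ 2 ^ 3 := (Subgroup.orderOf_dvd_natCard _ hg).trans (by rw [D.card_T1]; norm_num)
    obtain ⟨k, -, hk⟩ := (Nat.dvd_prime_pow Nat.prime_two).1 hd
    have h2 : 2 ∣ orderOf g := by
      rw [hk]
      refine dvd_pow_self 2 fun h => ?_
      rw [h, pow_zero] at hk
      exact hg1 (orderOf_eq_one_iff.1 hk)
    have e := D.T1_invol (pow_mem hg (orderOf g / 2)) (orderOf_pow_orderOf_div (orderOf_pos g).ne' h2)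
    have hcom : Commute (g ^ (orderOf g / 2)) x := (show Commute g x from mul_inv_eq_iff_eq_mul.1 hgx).pow_left _
    rw [e] at hcom
    have h3 := D.inv x hx
    rw [hcom.eq, mul_inv_cancel_right] at h3
    exact hx1 (D.toLoc.eq_one_of_P hx (by rw [pow_two]; exact mul_eq_one_iff_eq_inv.2 h3))
  haveI := Fintype.ofFinite D.T1
  haveI := Fintype.ofFinite (D.P : Subgroup G)
  let f : D.T1 → {p : (D.P : Subgroup G) // p ≠ 1} := fun g => ⟨⟨(g : G) * x * (g : G)⁻¹,
    D.toLoc.conj_mem (D.toLoc.mem_T.1 (D.mem_T1.1 g.2).1).1 hx⟩, fun h => hx1 (conj_eq_one_iff.1 (congrArg Subtype.val h))⟩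
  have hf : Function.Injective f := fun g h e => by
    have e' : (g : G) * x * (g : G)⁻¹ = (h : G) * x * (h : G)⁻¹ := congrArg (fun p => ((p.1 : (D.P : Subgroup G)) : G)) e
    refine Subtype.ext (inv_mul_eq_one.1 (hfree _ (mul_mem (inv_mem h.2) g.2) ?_)).symm
    calc (h : G)⁻¹ * g * x * ((h : G)⁻¹ * g)⁻¹ = (h : G)⁻¹ * ((g : G) * x * (g : G)⁻¹) * h := by group
      _ = x := by rw [e']; group
  have hsurj : Function.Surjective f := ((Fintype.bijective_iff_injective_and_card f).2 ⟨hf, by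
    rw [← Nat.card_eq_fintype_card, D.card_T1, Fintype.card_subtype_compl, Fintype.card_subtype_eq,
      ← Nat.card_eq_fintype_card, D.toLoc.card_P]⟩).2
  obtain ⟨g, hg⟩ := hsurj ⟨⟨y, hy⟩, fun h => hy1 (congrArg Subtype.val h)⟩
  exact ⟨g, g.2, congrArg (fun p => ((p.1 : (D.P : Subgroup G)) : G)) hg⟩

/-- A Sylow subgroup in neither block. -/
def Far (X : Sylow 3 G) : Prop :=
  X ≠ D.P ∧ ∀ p ∈ (D.P : Subgroup G), X ≠ p • D.Q1 ∧ X ≠ p • D.Q2

/-- The stabilizer in the normalizer of a far point is small. -/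
theorem far_stab {X : Sylow 3 G} (hX : D.Far X) : Nat.card (D.toLoc.N ⊓ MulAction.stabilizer G X : Subgroup G) ≤ 4 := by
  classical
  haveI : Fact (Nat.Prime 2) := ⟨Nat.prime_two⟩
  set S := D.toLoc.N ⊓ MulAction.stabilizer G X with hS
  have hSP : ∀ d ∈ S, d ∈ (D.P : Subgroup G) → d = 1 := fun d hd hdP =>
    D.toLoc.semiregular hX.1 hdP (MulAction.mem_stabilizer_iff.1 hd.2)
  have h2 : IsPGroup 2 S := by
    suffices hd : Nat.card S ∣ 2 ^ 4 by
      obtain ⟨k, -, hk⟩ := (Nat.dvd_prime_pow Nat.prime_two).1 hd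
      exact IsPGroup.of_card hk
    have h1 : Nat.card S ∣ 144 := D.toLoc.card_N ▸ Subgroup.card_dvd_of_le inf_le_left
    have h3 : ¬ 3 ∣ Nat.card S := fun h => by
      haveI : Fact (Nat.Prime 3) := ⟨Nat.prime_three⟩
      obtain ⟨v, hv⟩ := exists_prime_orderOf_dvd_card' (G := S) 3 h
      have hv3 : orderOf (v : G) = 3 := by rw [Subgroup.orderOf_coe, hv]
      have := hSP v v.2 (mem_of_fixes_sylow hv3 (Sylow.smul_eq_iff_mem_normalizer.2 v.2.1))
      rw [this, orderOf_one] at hv3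
      omega
    exact (Nat.Coprime.pow_right 2 (Nat.coprime_comm.1 ((Nat.Prime.coprime_iff_not_dvd Nat.prime_three).2 h3))).dvd_of_dvd_mul_left
      (show Nat.card S ∣ 3 ^ 2 * 2 ^ 4 by norm_num; exact h1)
  by_contra hbig
  haveI : Nontrivial S := Finite.one_lt_card_iff_nontrivial.1 (by omega)
  haveI := h2.center_nontrivial
  obtain ⟨k, hk⟩ := IsPGroup.iff_card.1 (h2.to_subgroup (Subgroup.center S))
  have hk0 : k ≠ 0 := fun h => by
    rw [h, pow_zero] at hk
    exact (Finite.one_lt_card (α := Subgroup.center S)).ne' hk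
  obtain ⟨w₀, hw₀⟩ := exists_prime_orderOf_dvd_card' 2 (hk ▸ dvd_pow_self 2 hk0)
  set w : G := ((w₀ : S) : G) with hwdef
  have hw : orderOf w = 2 := by rw [hwdef, Subgroup.orderOf_coe, Subgroup.orderOf_coe, hw₀]
  have hwc : ∀ d ∈ S, d * w = w * d := fun d hd =>
    congrArg Subtype.val (Subgroup.mem_center_iff.1 w₀.2 ⟨d, hd⟩)
  rcases D.toLoc.invol_cases (w₀ : S).2.1 hw with ⟨q, hq, e⟩ | ⟨x, hx, hx3, hwx⟩
  swap
  · exact hbig (D.toLoc.four_bound (D := S) (fun d hd => hd.1) hSP (w₀ : S).2.1 hw hx hx3 hwx hwc)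
  rw [← hwdef] at e
  -- move to a point fixed by the inversion
  set Y := q⁻¹ • X with hY
  have hiY : D.i0 • Y = Y := by
    rw [hY, smul_smul, show D.i0 * q⁻¹ = q⁻¹ * w by rw [← e]; group, ← smul_smul,
      MulAction.mem_stabilizer_iff.1 (w₀ : S).2.2]
  obtain ⟨g, hg⟩ := MulAction.exists_smul_eq G D.P Y
  set w' := g⁻¹ * D.i0 * g with hw'
  have hw'N : w' ∈ D.toLoc.N := Sylow.smul_eq_iff_mem_normalizer.1 (by
    rw [hw', ← smul_smul, ← smul_smul, hg, hiY, inv_smul_eq_iff, hg])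
  have hw'o : orderOf w' = 2 := by
    rw [hw', show g⁻¹ * D.i0 * g = MulAut.conj g⁻¹ D.i0 by simp, MulEquiv.orderOf_eq, D.hi0]
  rcases D.toLoc.invol_cases hw'N hw'o with ⟨q', hq', e'⟩ | ⟨x, hx, hx3, hwx⟩
  · have hgq : g * q' * D.i0 = D.i0 * (g * q') := by
      calc g * q' * D.i0 = g * (q' * D.i0 * q'⁻¹) * q' := by group
        _ = D.i0 * (g * q') := by rw [e', hw']; group
    have hYX : X = q • Y := by rw [hY, smul_inv_smul]
    have hYo := D.cent_orbit hgq
    rw [← smul_smul, Sylow.smul_eq_iff_mem_normalizer.2 (D.toLoc.P_le hq'), hg] at hYo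
    rcases hYo with h | h | h <;> rw [h] at hYX
    · exact hX.1 (by rw [hYX, Sylow.smul_eq_iff_mem_normalizer.2 (D.toLoc.P_le hq)])
    · exact (hX.2 q hq).1 hYX
    · exact (hX.2 q hq).2 hYX
  · set c := g⁻¹ * q⁻¹ with hc
    have hfix : ∀ d ∈ S, c * d * c⁻¹ ∈ D.toLoc.N ∧ c * d * c⁻¹ * w' = w' * (c * d * c⁻¹) := by
      intro d hd
      refine ⟨Sylow.smul_eq_iff_mem_normalizer.1 ?_, ?_⟩
      · have e1 : c⁻¹ • D.P = X := by rw [hc, mul_inv_rev, inv_inv, inv_inv, ← smul_smul, hg, hY, smul_inv_smul]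
        rw [← smul_smul, ← smul_smul, e1, MulAction.mem_stabilizer_iff.1 hd.2, ← e1, smul_inv_smul]
      · have e2 : w' = c * w * c⁻¹ := by rw [hw', hc, ← e]; group
        rw [e2]
        calc c * d * c⁻¹ * (c * w * c⁻¹) = c * (d * w) * c⁻¹ := by group
          _ = c * (w * d) * c⁻¹ := by rw [hwc d hd]
          _ = c * w * c⁻¹ * (c * d * c⁻¹) := by group
    have hbound := D.toLoc.four_bound (D := S.map (MulAut.conj c).toMonoidHom)
      (by rintro _ ⟨d, hd, rfl⟩; exact (hfix d hd).1)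
      (by
        rintro _ ⟨d, hd, rfl⟩ hP'
        have h1 : orderOf (c * d * c⁻¹) = orderOf d := by
          rw [show c * d * c⁻¹ = MulAut.conj c d by simp, MulEquiv.orderOf_eq]
        obtain ⟨j, hj⟩ := h2 ⟨d, hd⟩
        have hd2 : orderOf d ∣ 2 ^ j := orderOf_dvd_of_pow_eq_one (congrArg Subtype.val hj)
        have hd9 : orderOf d ∣ 9 := h1 ▸ D.toLoc.card_P ▸ Subgroup.orderOf_dvd_natCard _ hP'
        have := Nat.dvd_gcd hd2 hd9
        rw [Nat.Coprime.pow_left j (by norm_num : Nat.Coprime 2 9), Nat.dvd_one, orderOf_eq_one_iff] at this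
        rw [this]
        simp)
      hw'N hw'o hx hx3 hwx (by rintro _ ⟨d, hd, rfl⟩; exact (hfix d hd).2)
    rw [Subgroup.card_map_of_injective (f := (MulAut.conj c).toMonoidHom) (MulAut.conj c).injective] at hbound
    exact hbig hbound

end Tri

end Cfsg.Agent.FGB.M11
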