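import Cfsg.Agent.Lib.FGB.M11Degrees

/-!
# Centralizers of involutions and of elements of order three in a simple group of order 7920
-/

set_option autoImplicit false
set_option linter.style.haveILetI false
set_option linter.unusedSectionVars false

namespace Cfsg.Agent.FGB.M11

open Cfsg
open Cfsg.Agent.SmallSimple
open scoped ComplexConjugate

universe u

variable {G : Type u} [Group G] [Finite G] [IsSimpleGroup G]

/-- An element commuting with an element of order `p` lies in the conjugate of the centralizer. -/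
theorem orderOf_dvd_prime_of_commute {p : ℕ} [hp : Fact p.Prime] (P : Sylow p G) (hP : Nat.card P = p)
    (hC : Nat.card (Subgroup.centralizer ((P : Subgroup G) : Set G)) = p) {g h : G} (hg : orderOf g = p)
    (hgh : Commute g h) : orderOf h ∣ p := by
  obtain ⟨R, hR⟩ := (IsPGroup.of_card (n := 1) (p := p) (by rw [pow_one, Nat.card_zpowers, hg]) :
      IsPGroup p (Subgroup.zpowers g)).exists_le_sylow
  have hRcard : Nat.card R = p := (Nat.card_congr (P.equiv R).toEquiv).symm.trans hP
  have hgR : g ∈ (R : Subgroup G) := hR (Subgroup.mem_zpowers _)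
  have hg1 : g ≠ 1 := fun e => hp.out.one_lt.ne' (by rw [← hg, e, orderOf_one])
  have hh : h ∈ Subgroup.centralizer ((R : Subgroup G) : Set G) := by
    rw [← centralizer_eq_of_prime hRcard hgR hg1, Subgroup.mem_centralizer_singleton_iff]
    exact hgh.symm.eq
  obtain ⟨k, rfl⟩ := MulAction.exists_smul_eq G P R
  have hy : k⁻¹ * h * k ∈ Subgroup.centralizer ((P : Subgroup G) : Set G) := by
    rw [Subgroup.mem_centralizer_iff]
    intro q hq
    have h1 := Subgroup.mem_centralizer_iff.1 hh (k * q * k⁻¹)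
      (show k * q * k⁻¹ ∈ (P : Subgroup G).map (MulAut.conj k).toMonoidHom from ⟨q, hq, rfl⟩)
    calc q * (k⁻¹ * h * k) = k⁻¹ * (k * q * k⁻¹ * h) * k := by group
      _ = k⁻¹ * (h * (k * q * k⁻¹)) * k := by rw [h1]
      _ = k⁻¹ * h * k * q := by group
  have := Subgroup.orderOf_dvd_natCard _ hy
  rwa [hC, show k⁻¹ * h * k = MulAut.conj k⁻¹ h by simp, MulEquiv.orderOf_eq] at this

theorem no_five (hG : Nat.card G = 7920) {g h : G} (hg : orderOf g = 5) (hgh : Commute g h) :
    orderOf h ∣ 5 := by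
  haveI : Fact (Nat.Prime 5) := ⟨by norm_num⟩
  obtain ⟨P, hP, hC, -⟩ := five hG
  exact orderOf_dvd_prime_of_commute P hP hC hg hgh

theorem no_eleven (hG : Nat.card G = 7920) {g h : G} (hg : orderOf g = 11) (hgh : Commute g h) :
    orderOf h ∣ 11 := by
  haveI : Fact (Nat.Prime 11) := ⟨by norm_num⟩
  obtain ⟨P, hP, hC, -⟩ := eleven hG
  exact orderOf_dvd_prime_of_commute P hP hC hg hgh

/-- The centralizer of an element of order two or three has order dividing 144. -/
theorem centralizer_dvd (hG : Nat.card G = 7920) {x : G} (hx : orderOf x = 2 ∨ orderOf x = 3) :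
    Nat.card (Subgroup.centralizer ({x} : Set G)) ∣ 144 := by
  have hd : Nat.card (Subgroup.centralizer ({x} : Set G)) ∣ 5 * (11 * 144) := by
    have := Subgroup.card_subgroup_dvd_card (Subgroup.centralizer ({x} : Set G))
    rwa [hG] at this
  have key : ∀ q : ℕ, q.Prime → q = 5 ∨ q = 11 → ¬ q ∣ Nat.card (Subgroup.centralizer ({x} : Set G)) := by
    intro q hq hq' h
    haveI : Fact q.Prime := ⟨hq⟩
    obtain ⟨g₀, hg₀⟩ := exists_prime_orderOf_dvd_card' (G := Subgroup.centralizer ({x} : Set G)) q h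
    have hcom : Commute (g₀ : G) x := Subgroup.mem_centralizer_singleton_iff.1 g₀.2
    have hgo : orderOf (g₀ : G) = q := by rw [Subgroup.orderOf_coe, hg₀]
    rcases hq' with rfl | rfl
    · have := no_five hG hgo hcom
      rcases hx with e | e <;> rw [e] at this <;> norm_num at this
    · have := no_eleven hG hgo hcom
      rcases hx with e | e <;> rw [e] at this <;> norm_num at this
  refine ((Nat.Coprime.symm ((Nat.Prime.coprime_iff_not_dvd (by norm_num)).2
    (key 11 (by norm_num) (Or.inr rfl)))).dvd_of_dvd_mul_left ?_)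
  exact (Nat.Coprime.symm ((Nat.Prime.coprime_iff_not_dvd (by norm_num)).2
    (key 5 (by norm_num) (Or.inl rfl)))).dvd_of_dvd_mul_left hd

/-- The ten characters. -/
structure Chars (G : Type u) [Group G] [Finite G] where
  D : Finset (IrrCharacter G)
  E : Finset (IrrCharacter G)
  a : IrrCharacter G
  b : IrrCharacter G
  c : IrrCharacter G
  d : IrrCharacter G
  cD : D.card = 3
  cE : E.card = 2
  dgD : ∀ χ ∈ D, dg χ = 10
  dgE : ∀ χ ∈ E, dg χ = 16
  dga : dg a = 11
  dgb : dg b = 44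
  dgc : dg c = 45
  dgd : dg d = 55
  split : ∀ {M : Type} [AddCommMonoid M] (f : IrrCharacter G → M),
    ∑ χ, f χ = f (CT.trivIrr G) + ∑ χ ∈ D, f χ + f a + ∑ χ ∈ E, f χ + f b + f c + f d
  rel : ∀ θ ∈ E, ∀ g : G, ¬ 11 ∣ orderOf g →
    (θ : G → ℂ) g = 1 - (∑ χ ∈ D, (χ : G → ℂ) g) + (c : G → ℂ) g

theorem exists_chars (hG : Nat.card G = 7920) : Nonempty (Chars G) := by
  classical
  obtain ⟨hmem, hfib, hrel⟩ := degrees hG
  set F : ℕ → Finset (IrrCharacter G) := fun n => Finset.univ.filter fun χ : IrrCharacter G => dg χ = n with hF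
  have one : ∀ n, (if n = 1 ∨ n = 11 ∨ n = 44 ∨ n = 45 ∨ n = 55 then 1 else if n = 10 then 3 else
      if n = 16 then 2 else 0) = 1 → ∃ χ, F n = {χ} ∧ dg χ = n := by
    intro n hn
    obtain ⟨χ, hχ⟩ := Finset.card_eq_one.1 ((hfib n).trans hn)
    have hm : χ ∈ F n := by
      show χ ∈ Finset.univ.filter fun χ : IrrCharacter G => dg χ = n
      rw [hχ]
      exact Finset.mem_singleton_self χ
    exact ⟨χ, hχ, (Finset.mem_filter.1 hm).2⟩
  obtain ⟨t, ht, htd⟩ := one 1 (by norm_num)
  obtain ⟨a, ha, had⟩ := one 11 (by norm_num)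
  obtain ⟨b, hb, hbd⟩ := one 44 (by norm_num)
  obtain ⟨c, hc, hcd⟩ := one 45 (by norm_num)
  obtain ⟨d, hd, hdd⟩ := one 55 (by norm_num)
  have htt : t = CT.trivIrr G := eq_trivIrr_of_charDegree_one (noncomm hG) htd
  refine ⟨⟨F 10, F 16, a, b, c, d, hfib 10, hfib 16, fun χ h => (Finset.mem_filter.1 h).2,
    fun χ h => (Finset.mem_filter.1 h).2, had, hbd, hcd, hdd, fun {M} _ f => ?_, fun θ hθ g hg => ?_⟩⟩
  · rw [← Finset.sum_fiberwise_of_maps_to (s := (Finset.univ : Finset (IrrCharacter G)))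
      (t := ({1, 10, 11, 16, 44, 45, 55} : Finset ℕ)) (g := fun χ => dg χ) (fun χ _ => by simpa using hmem χ) f]
    rw [Finset.sum_insert (by decide), Finset.sum_insert (by decide), Finset.sum_insert (by decide),
      Finset.sum_insert (by decide), Finset.sum_insert (by decide), Finset.sum_insert (by decide),
      Finset.sum_singleton]
    simp only [hF] at ht ha hb hc hd ⊢
    rw [ht, ha, hb, hc, hd, Finset.sum_singleton, Finset.sum_singleton, Finset.sum_singleton,
      Finset.sum_singleton, Finset.sum_singleton, htt]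
    simp only [add_assoc]
  · rw [hrel θ (Finset.mem_filter.1 hθ).2 g hg]
    simp only [hF] at hc
    rw [hc, Finset.sum_singleton]

/-- An involution is central in no subgroup of index 55. -/
theorem index_ne_fiftyfive (hG : Nat.card G = 7920) {t : G} (ht : orderOf t = 2) :
    (Subgroup.centralizer ({t} : Set G)).index ≠ 55 := by
  classical
  intro hidx
  haveI := Fintype.ofFinite G
  have hnc := noncomm hG
  obtain ⟨X⟩ := exists_chars hG
  have hC : Nat.card (Subgroup.centralizer ({t} : Set G)) = 144 := by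
    have h := Subgroup.card_mul_index (Subgroup.centralizer ({t} : Set G))
    rw [hidx, hG] at h
    omega
  choose v hv hvle hv4 using fun χ : IrrCharacter G => value_involution_modEq hnc χ ht
  have hdvd : ∀ χ, dg χ ∣ 55 * (v χ).natAbs := fun χ => hidx ▸ class_dvd χ t (hv χ)
  have hnot2 : ¬ 11 ∣ orderOf t := by rw [ht]; norm_num
  have hsum : ∑ χ, (v χ) ^ 2 = (144 : ℤ) := by
    have h := sum_sq_eq_centralizer t
    rw [hC] at h
    simp only [hv, Complex.norm_intCast] at h
    have h' : ((∑ χ, (v χ) ^ 2 : ℤ) : ℝ) = ((144 : ℤ) : ℝ) := by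
      push_cast
      simpa [sq_abs] using h
    exact_mod_cast h'
  have horth : ∑ χ, (dg χ : ℤ) * v χ = 0 := by
    have h := CT.column_orthogonality t (1 : G)
    rw [if_neg (fun e => by
      have h1 : t = 1 := isConj_one_left.1 e
      rw [h1, orderOf_one] at ht
      omega)] at h
    simp only [apply_one, hv, Complex.conj_natCast] at h
    have h' : ((∑ χ, v χ * (dg χ : ℤ) : ℤ) : ℂ) = 0 := by push_cast; exact h
    rw [Finset.sum_congr rfl fun χ _ => mul_comm ((dg χ : ℤ)) (v χ)]
    exact_mod_cast h'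
  have hbd : ∀ χ, (v χ) ^ 2 ≤ 144 := fun χ =>
    hsum ▸ Finset.single_le_sum (f := fun χ => (v χ) ^ 2) (fun _ _ => sq_nonneg _) (Finset.mem_univ χ)
  have hE : ∀ θ ∈ X.E, v θ = 0 := by
    intro θ hθ
    have h := hdvd θ
    rw [X.dgE θ hθ] at h
    have h1 : 16 ∣ (v θ).natAbs := (by norm_num : Nat.Coprime 16 55).dvd_of_dvd_mul_left h
    have h2 := hbd θ
    have h3 : (v θ).natAbs ≤ 12 := by
      have : ((v θ).natAbs : ℤ) ^ 2 ≤ 144 := by rw [Int.natAbs_sq]; exact h2
      have : (v θ).natAbs ^ 2 ≤ 144 := by exact_mod_cast this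
      nlinarith
    omega
  have hc : v X.c = 9 := by
    have h := hdvd X.c
    rw [X.dgc] at h
    have h1 : 9 ∣ (v X.c).natAbs := (by norm_num : Nat.Coprime 9 55).dvd_of_dvd_mul_left
      ((by norm_num : (9 : ℕ) ∣ 45).trans h)
    have h2 := hbd X.c
    have h3 : (v X.c).natAbs ≤ 12 := by
      have : ((v X.c).natAbs : ℤ) ^ 2 ≤ 144 := by rw [Int.natAbs_sq]; exact h2
      have : (v X.c).natAbs ^ 2 ≤ 144 := by exact_mod_cast this
      nlinarith
    have h4 := hv4 X.c
    rw [show charDegree (X.c : G → ℂ) = 45 from X.dgc, Int.ModEq] at h4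
    omega
  obtain ⟨θ, hθ⟩ := Finset.card_pos.1 (show 0 < X.E.card by rw [X.cE]; norm_num)
  have hD : ∑ χ ∈ X.D, v χ = 10 := by
    have h := X.rel θ hθ t hnot2
    simp only [hv, hE θ hθ, hc] at h
    have h' : ((0 : ℤ) : ℂ) = ((1 - ∑ χ ∈ X.D, v χ + 9 : ℤ) : ℂ) := by push_cast; simpa using h
    have h'' : (0 : ℤ) = 1 - ∑ χ ∈ X.D, v χ + 9 := by exact_mod_cast h'
    omega
  have htriv : v (CT.trivIrr G) = 1 := by
    have h := hv (CT.trivIrr G)
    rw [CT.trivIrr_apply] at h
    exact_mod_cast h.symm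
  have hD2 : 100 ≤ 3 * ∑ χ ∈ X.D, (v χ) ^ 2 := by
    have h := sq_sum_le_card_mul_sum_sq (s := X.D) (f := v)
    rw [hD, X.cD] at h
    simpa using h
  rw [X.split fun χ => (v χ) ^ 2, Finset.sum_congr rfl (s₁ := X.E) (g := fun _ => (0 : ℤ))
    (fun χ hχ => by rw [hE χ hχ]; rfl), Finset.sum_const_zero, htriv, hc] at hsum
  rw [X.split fun χ => (dg χ : ℤ) * v χ, Finset.sum_congr rfl (s₁ := X.E) (g := fun _ => (0 : ℤ))
    (fun χ hχ => by rw [hE χ hχ, mul_zero]), Finset.sum_const_zero,
    Finset.sum_congr rfl (s₁ := X.D) (g := fun χ => 10 * v χ) (fun χ hχ => by rw [X.dgD χ hχ]; rfl),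
    ← Finset.mul_sum, hD, htriv, hc, dg_triv, X.dga, X.dgb, X.dgc, X.dgd] at horth
  push_cast at horth
  nlinarith [sq_nonneg (4 * v X.a - v X.b), sq_nonneg (5 * v X.a - v X.d), sq_nonneg (5 * v X.b - 4 * v X.d)]

/-- The centralizer of an involution has order 48. -/
theorem involution_centralizer (hG : Nat.card G = 7920) {t : G} (ht : orderOf t = 2) :
    Nat.card (Subgroup.centralizer ({t} : Set G)) = 48 := by
  classical
  haveI := Fintype.ofFinite G
  haveI : Fact (Nat.Prime 2) := ⟨Nat.prime_two⟩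
  have hinv : ∀ s : G, orderOf s = 2 → 55 ∣ (Subgroup.centralizer ({s} : Set G)).index := fun s hs => by
    have h1 := Subgroup.card_mul_index (Subgroup.centralizer ({s} : Set G))
    obtain ⟨k, hk⟩ := centralizer_dvd hG (Or.inl hs)
    refine ⟨k, Nat.eq_of_mul_eq_mul_left (Nat.card_pos (α := Subgroup.centralizer ({s} : Set G))) ?_⟩
    rw [h1, hG, mul_left_comm, ← hk]
    all_goals norm_num
  have hbound : ∀ s : Finset G, (∀ g ∈ s, orderOf g = 2) → s.card + 1 ≤ 218 := by
    intro s hs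
    have h1 := card_involutions_le (G := G)
    obtain ⟨X⟩ := exists_chars hG
    rw [X.split fun χ => dg χ, Finset.sum_congr rfl (s₁ := X.D) (g := fun _ => 10) X.dgD,
      Finset.sum_congr rfl (s₁ := X.E) (g := fun _ => 16) X.dgE, Finset.sum_const, Finset.sum_const, X.cD, X.cE,
      dg_triv, X.dga, X.dgb, X.dgc, X.dgd] at h1
    rw [Nat.card_eq_fintype_card, Fintype.card_subtype] at h1
    refine le_trans ?_ (h1.trans (le_of_eq (by norm_num)))
    rw [← Finset.card_insert_of_notMem (a := (1 : G)) (fun h => by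
      have := hs 1 h; rw [orderOf_one] at this; omega)]
    refine Finset.card_le_card fun g hg => ?_
    rw [Finset.mem_filter]
    refine ⟨Finset.mem_univ g, ?_⟩
    rcases Finset.mem_insert.1 hg with rfl | hg
    · exact one_mul 1
    · rw [← pow_two, ← hs g hg, pow_orderOf_eq_one]
  -- an involution with a centralizer of odd index
  obtain ⟨Q⟩ : Nonempty (Sylow 2 G) := inferInstance
  have h2 : 2 ∣ Nat.card (Q : Subgroup G) := Q.dvd_card_of_dvd_card (by rw [hG]; norm_num)
  haveI : Nontrivial (Q : Subgroup G) := Finite.one_lt_card_iff_nontrivial.1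
    (lt_of_lt_of_le one_lt_two (Nat.le_of_dvd Nat.card_pos h2))
  haveI := Q.2.center_nontrivial
  obtain ⟨k, hk⟩ := IsPGroup.iff_card.1 (Q.2.to_subgroup (Subgroup.center (Q : Subgroup G)))
  have hk0 : k ≠ 0 := fun h => by
    rw [h, pow_zero] at hk
    exact (Finite.one_lt_card (α := Subgroup.center (Q : Subgroup G))).ne' hk
  obtain ⟨z₀, hz₀⟩ := exists_prime_orderOf_dvd_card' 2 (hk ▸ dvd_pow_self 2 hk0)
  set s : G := ((z₀ : (Q : Subgroup G)) : G) with hsdef
  have hs : orderOf s = 2 := by rw [hsdef, Subgroup.orderOf_coe, Subgroup.orderOf_coe, hz₀]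
  have hQs : (Q : Subgroup G) ≤ Subgroup.centralizer ({s} : Set G) := fun q hq =>
    Subgroup.mem_centralizer_singleton_iff.2 (congrArg Subtype.val (Subgroup.mem_center_iff.1 z₀.2 ⟨q, hq⟩))
  have hsodd : ¬ 2 ∣ (Subgroup.centralizer ({s} : Set G)).index := fun h =>
    Q.not_dvd_index (h.trans (Subgroup.index_dvd_of_le hQs))
  set Cl : G → Finset G := fun g => Finset.univ.filter fun x => IsConj g x with hCl
  have hClc : ∀ g, (Cl g).card = (Subgroup.centralizer ({g} : Set G)).index := fun g => by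
    rw [← CT.card_conj_class, Nat.card_eq_fintype_card, Fintype.card_subtype]
  have hClo : ∀ g, orderOf g = 2 → ∀ x ∈ Cl g, orderOf x = 2 := by
    intro g hg x hx
    obtain ⟨c, rfl⟩ := isConj_iff.1 (Finset.mem_filter.1 hx).2
    rw [show c * g * c⁻¹ = MulAut.conj c g by simp, MulEquiv.orderOf_eq, hg]
  have hs165 : (Subgroup.centralizer ({s} : Set G)).index = 165 := by
    have h1 := hbound (Cl s) (hClo s hs)
    rw [hClc] at h1
    obtain ⟨m, hm⟩ := hinv s hs
    have := index_ne_fiftyfive hG hs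
    have : m ≠ 0 := fun h => Subgroup.index_ne_zero_of_finite (H := Subgroup.centralizer ({s} : Set G))
      (by rw [hm, h, mul_zero])
    omega
  have hconj : IsConj s t := by
    by_contra hne
    have hdis : Disjoint (Cl s) (Cl t) := Finset.disjoint_left.2 fun x hx hx' =>
      hne ((Finset.mem_filter.1 hx).2.trans (Finset.mem_filter.1 hx').2.symm)
    have h1 := hbound (Cl s ∪ Cl t) (fun g hg => (Finset.mem_union.1 hg).elim (hClo s hs g) (hClo t ht g))
    rw [Finset.card_union_of_disjoint hdis, hClc, hClc, hs165] at h1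
    obtain ⟨m, hm⟩ := hinv t ht
    have : m ≠ 0 := fun h => Subgroup.index_ne_zero_of_finite (H := Subgroup.centralizer ({t} : Set G))
      (by rw [hm, h, mul_zero])
    omega
  have hidx : (Subgroup.centralizer ({t} : Set G)).index = 165 := by
    rw [← hs165, ← hClc, ← hClc]
    congr 1
    ext x
    simp only [hCl, Finset.mem_filter, Finset.mem_univ, true_and]
    exact ⟨hconj.trans, hconj.symm.trans⟩
  have h := Subgroup.card_mul_index (Subgroup.centralizer ({t} : Set G))
  rw [hidx, hG] at h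
  omega

/-- A character value at a real element of order three is an integer congruent to the degree. -/
theorem value_three (χ : IrrCharacter G) {z g : G} (hz : orderOf z = 3) (hg : g * z * g⁻¹ = z⁻¹) :
    ∃ A : ℤ, (χ : G → ℂ) z = (A : ℂ) ∧ (3 : ℤ) ∣ A - (dg χ : ℤ) := by
  classical
  obtain ⟨n, ρ, -, hχc⟩ := χ.2
  have hdeg : dg χ = Module.finrank ℂ (Fin n → ℂ) := by
    show charDegree (χ : G → ℂ) = _
    rw [← hχc]; exact CT.deg_eq_finrank ρ
  have hreal : conj ((χ : G → ℂ) z) = (χ : G → ℂ) z := by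
    rw [← CT.char_inv_eq_conj (CT.isCharacter_of_isIrr χ.2) z,
      CT.isClassFunction_isConj (CT.isClassFunction_of_isCharacter (CT.isCharacter_of_isIrr χ.2))
        (isConj_iff.2 ⟨g, hg⟩)]
  obtain ⟨ω, hω, he⟩ := CT.exists_eigenvalues_one ρ z
  rw [hχc] at he
  have h1 : ∀ i, ω i + conj (ω i) = if ω i = 1 then 2 else -1 := by
    intro i
    have h3 : ω i ^ 3 = 1 := hz ▸ hω i
    have hnorm : ‖ω i‖ = 1 := Complex.norm_eq_one_of_pow_eq_one h3 (by norm_num)
    have hinv : conj (ω i) = ω i ^ 2 := by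
      have h4 : ω i * conj (ω i) = 1 := by rw [Complex.mul_conj', hnorm]; norm_num
      calc conj (ω i) = ω i ^ 3 * conj (ω i) := by rw [h3, one_mul]
        _ = ω i ^ 2 * (ω i * conj (ω i)) := by ring
        _ = ω i ^ 2 := by rw [h4, mul_one]
    rw [hinv]
    split_ifs with h
    · rw [h]; norm_num
    · have h5 : (ω i - 1) * (ω i ^ 2 + ω i + 1) = 0 := by linear_combination h3
      have h6 := (mul_eq_zero.1 h5).resolve_left (sub_ne_zero.2 h)
      linear_combination h6
  set m := (Finset.univ.filter fun i => ω i ≠ 1).card with hm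
  have h2 : 2 * (χ : G → ℂ) z = ((2 * (dg χ : ℤ) - 3 * (m : ℤ) : ℤ) : ℂ) := by
    have h4 : ∀ i, ω i + conj (ω i) = 2 - (if ω i ≠ 1 then 3 else 0) := fun i => by
      rw [h1 i]
      by_cases h : ω i = 1 <;> simp [h] <;> norm_num
    calc 2 * (χ : G → ℂ) z = ∑ i, (ω i + conj (ω i)) := by
          rw [Finset.sum_add_distrib, ← map_sum, ← he, hreal]; ring
      _ = _ := by
          rw [Finset.sum_congr rfl fun i _ => h4 i, Finset.sum_sub_distrib, ← Finset.sum_filter, Finset.sum_const,
            Finset.sum_const, Finset.card_univ, Fintype.card_fin, hdeg, ← hm, nsmul_eq_mul, nsmul_eq_mul]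
          push_cast
          ring
  set K : ℤ := 2 * (dg χ : ℤ) - 3 * (m : ℤ) with hK
  have hint : IsIntegral ℤ (((K.natAbs : ℕ) : ℂ) / ((2 : ℕ) : ℂ)) := by
    have h0 := CT.isIntegral_char ρ z
    rw [hχc] at h0
    rcases Int.natAbs_eq K with e | e
    · rw [show ((K.natAbs : ℕ) : ℂ) = ((K.natAbs : ℤ) : ℂ) from (Int.cast_natCast _).symm, ← e, ← h2]
      simpa using h0
    · rw [show ((K.natAbs : ℕ) : ℂ) = ((K.natAbs : ℤ) : ℂ) from (Int.cast_natCast _).symm,
        show (K.natAbs : ℤ) = -K by omega, Int.cast_neg, ← h2]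
      simpa [neg_div] using h0.neg
  obtain ⟨A, hA⟩ : (2 : ℤ) ∣ K := by
    have := ClassSum.eq_natCast_div_mem two_pos hint
    omega
  refine ⟨A, ?_, ?_⟩
  · have : 2 * (χ : G → ℂ) z = 2 * (A : ℂ) := by rw [h2, hA]; push_cast; ring
    exact mul_left_cancel₀ two_ne_zero this
  · omega

/-- Four does not divide the centralizer order of a real element of order three. -/
theorem not_four_dvd (hG : Nat.card G = 7920) {z g : G} (hz : orderOf z = 3) (hg : g * z * g⁻¹ = z⁻¹)
    (h9 : 9 ∣ Nat.card (Subgroup.centralizer ({z} : Set G))) :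
    ¬ 4 ∣ Nat.card (Subgroup.centralizer ({z} : Set G)) := by
  classical
  intro h4
  obtain ⟨X⟩ := exists_chars hG
  choose v hv hv3 using fun χ : IrrCharacter G => value_three χ hz hg
  set N := Nat.card (Subgroup.centralizer ({z} : Set G)) with hN
  have hidx := Subgroup.card_mul_index (Subgroup.centralizer ({z} : Set G))
  rw [← hN, hG] at hidx
  have hsum : ∑ χ, (v χ) ^ 2 = (N : ℤ) := by
    have h := sum_sq_eq_centralizer z
    simp only [hv, Complex.norm_intCast] at h
    have h' : ((∑ χ, (v χ) ^ 2 : ℤ) : ℝ) = (((N : ℤ)) : ℝ) := by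
      push_cast
      simpa [sq_abs] using h
    exact_mod_cast h'
  have h144 := centralizer_dvd hG (Or.inr hz)
  rw [← hN] at h144
  have hNval : N = 36 ∨ N = 72 ∨ N = 144 := by
    have h36 : 36 ∣ N := Nat.Coprime.mul_dvd_of_dvd_of_dvd (by norm_num : Nat.Coprime 4 9) h4 h9
    obtain ⟨k, hk⟩ := h36
    have hk4 : k ∣ 4 := Nat.dvd_of_mul_dvd_mul_left (by norm_num : 0 < 36) (by rw [← hk]; exact h144)
    have := Nat.le_of_dvd (by norm_num) hk4
    interval_cases k <;> omega
  have hE : ∀ θ ∈ X.E, (N = 36 → 16 ≤ (v θ) ^ 2) ∧ (N = 72 → 64 ≤ (v θ) ^ 2) ∧ (N = 144 → 256 ≤ (v θ) ^ 2) := by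
    intro θ hθ
    have hne : (v θ).natAbs ≠ 0 := by
      have := hv3 θ
      rw [X.dgE θ hθ] at this
      omega
    have h := class_dvd θ z (hv θ)
    rw [X.dgE θ hθ] at h
    rw [← Int.natAbs_sq]
    refine ⟨fun e => ?_, fun e => ?_, fun e => ?_⟩ <;> rw [e] at hidx
    · have e' : (Subgroup.centralizer ({z} : Set G)).index = 220 := by omega
      rw [e'] at h
      have h' : 4 ∣ (v θ).natAbs := (by norm_num : Nat.Coprime 4 55).dvd_of_dvd_mul_left
        (Nat.dvd_of_mul_dvd_mul_left (by norm_num : 0 < 4) (show 4 * 4 ∣ 4 * (55 * (v θ).natAbs) by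
          rw [← mul_assoc]; exact h))
      have : (4 : ℤ) ≤ ((v θ).natAbs : ℤ) := by
        exact_mod_cast Nat.le_of_dvd (Nat.pos_of_ne_zero hne) h'
      nlinarith
    · have e' : (Subgroup.centralizer ({z} : Set G)).index = 110 := by omega
      rw [e'] at h
      have h' : 8 ∣ (v θ).natAbs := (by norm_num : Nat.Coprime 8 55).dvd_of_dvd_mul_left
        (Nat.dvd_of_mul_dvd_mul_left (by norm_num : 0 < 2) (show 2 * 8 ∣ 2 * (55 * (v θ).natAbs) by
          rw [← mul_assoc]; exact h))
      have : (8 : ℤ) ≤ ((v θ).natAbs : ℤ) := by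
        exact_mod_cast Nat.le_of_dvd (Nat.pos_of_ne_zero hne) h'
      nlinarith
    · have e' : (Subgroup.centralizer ({z} : Set G)).index = 55 := by omega
      rw [e'] at h
      have h' : 16 ∣ (v θ).natAbs := (by norm_num : Nat.Coprime 16 55).dvd_of_dvd_mul_left h
      have : (16 : ℤ) ≤ ((v θ).natAbs : ℤ) := by
        exact_mod_cast Nat.le_of_dvd (Nat.pos_of_ne_zero hne) h'
      nlinarith
  have hone : ∀ χ : IrrCharacter G, ¬ 3 ∣ dg χ → 1 ≤ (v χ) ^ 2 := by
    intro χ hd
    have hne : v χ ≠ 0 := fun h => by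
      have := hv3 χ
      rw [h] at this
      omega
    have := Int.natAbs_sq (v χ)
    have h1 : (1 : ℤ) ≤ ((v χ).natAbs : ℤ) := by
      exact_mod_cast Nat.one_le_iff_ne_zero.2 (Int.natAbs_ne_zero.2 hne)
    nlinarith
  rw [X.split fun χ => (v χ) ^ 2] at hsum
  have h1 := hone (CT.trivIrr G) (by rw [dg_triv]; norm_num)
  have h2 := Finset.card_nsmul_le_sum X.D (fun χ => (v χ) ^ 2) 1
    (fun χ hχ => hone χ (by rw [X.dgD χ hχ]; norm_num))
  rw [X.cD, nsmul_eq_mul] at h2
  push_cast at h2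
  have h3 := hone X.a (by rw [X.dga]; norm_num)
  have h4' := hone X.b (by rw [X.dgb]; norm_num)
  have h5 := hone X.d (by rw [X.dgd]; norm_num)
  have h6 := sq_nonneg (v X.c)
  rcases hNval with e | e | e <;> rw [e] at hsum <;> push_cast at hsum
  · have h7 := Finset.card_nsmul_le_sum X.E (fun χ => (v χ) ^ 2) 16 (fun χ hχ => (hE χ hχ).1 e)
    rw [X.cE, nsmul_eq_mul] at h7
    push_cast at h7
    linarith
  · have h7 := Finset.card_nsmul_le_sum X.E (fun χ => (v χ) ^ 2) 64 (fun χ hχ => (hE χ hχ).2.1 e)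
    rw [X.cE, nsmul_eq_mul] at h7
    push_cast at h7
    linarith
  · have h7 := Finset.card_nsmul_le_sum X.E (fun χ => (v χ) ^ 2) 256 (fun χ hχ => (hE χ hχ).2.2 e)
    rw [X.cE, nsmul_eq_mul] at h7
    push_cast at h7
    linarith

end Cfsg.Agent.FGB.M11
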