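import Mathlib
import Cfsg.Agent.Lib.OddLocal.Rank

/-! p-groups of maximal class: an element with centralizer of order p². -/

set_option autoImplicit false

namespace Cfsg.Agent.FGB.MaxClass

universe u

variable {p : ℕ} [hp : Fact p.Prime]

theorem card_quotient_data {S : Type u} [Group S] [Finite S] (hS : IsPGroup p S) {n : ℕ}
    (hn : Nat.card S = p ^ n) (hZ : Subgroup.center S ≠ ⊤) :
    ∃ k i : ℕ, 2 ≤ k ∧ 1 ≤ i ∧ k + i = n ∧ Nat.card (S ⧸ Subgroup.center S) = p ^ k ∧
      Nat.card (Subgroup.center S) = p ^ i := by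
  haveI : Nontrivial S := by
    by_contra h
    rw [not_nontrivial_iff_subsingleton] at h
    exact hZ (eq_top_iff.mpr fun x _ => (Subsingleton.elim x 1) ▸ one_mem _)
  haveI := hS.center_nontrivial
  obtain ⟨k, hk⟩ := IsPGroup.iff_card.mp (hS.to_quotient (Subgroup.center S))
  obtain ⟨i, hi⟩ := IsPGroup.iff_card.mp (hS.to_subgroup (Subgroup.center S))
  have hi1 : 1 ≤ i := by
    by_contra h
    have := Finite.one_lt_card (α := Subgroup.center S)
    rw [hi, show i = 0 by omega, pow_zero] at this
    omega
  have hk2 : 2 ≤ k := by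
    by_contra h
    haveI : IsCyclic (S ⧸ Subgroup.center S) := by
      rcases (show k = 0 ∨ k = 1 by omega) with rfl | rfl
      · rw [pow_zero] at hk
        haveI : Subsingleton (S ⧸ Subgroup.center S) := (Nat.card_eq_one_iff_unique.mp hk).1
        infer_instance
      · exact isCyclic_of_prime_card (p := p) (by rw [hk, pow_one])
    have hc := (QuotientGroup.mk' (Subgroup.center S)).isMulCommutative_of_isCyclic_of_ker_le_center
      (QuotientGroup.ker_mk' _).le
    exact hZ (eq_top_iff.mpr fun x _ => Subgroup.mem_center_iff.mpr fun y => hc.is_comm.comm y x)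
  refine ⟨k, i, hk2, hi1, ?_, hk, hi⟩
  apply Nat.pow_right_injective hp.out.two_le
  show p ^ (k + i) = p ^ n
  rw [pow_add, ← hk, ← hi, ← hn, ← Subgroup.card_eq_card_quotient_mul_card_subgroup]

theorem class_le_one_of_center {S : Type u} [Group S] [Group.IsNilpotent S] (hZ : Subgroup.center S = ⊤) :
    Group.nilpotencyClass S ≤ 1 :=
  Group.IsNilpotent.nilpotencyClass_le_one_iff.mpr
    ⟨⟨fun x y => Subgroup.mem_center_iff.mp (hZ ▸ Subgroup.mem_top y) x⟩⟩

theorem class_le {n : ℕ} {S : Type u} [Group S] [Finite S] (hS : IsPGroup p S) (hn : Nat.card S = p ^ n)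
    (h2 : 2 ≤ n) : Group.nilpotencyClass S ≤ n - 1 := by
  induction n using Nat.strong_induction_on generalizing S with
  | _ n ih =>
    haveI := hS.isNilpotent
    by_cases hZ : Subgroup.center S = ⊤
    · exact (class_le_one_of_center hZ).trans (by omega)
    obtain ⟨k, i, hk2, hi1, hki, hk, -⟩ := card_quotient_data hS hn hZ
    haveI : Nontrivial S := Finite.one_lt_card_iff_nontrivial.mp
      (by rw [hn]; exact one_lt_pow₀ hp.out.one_lt (by omega))
    have := ih k (by omega) (hS.to_quotient _) hk hk2
    rw [Group.nilpotencyClass_eq_quotient_center_plus_one]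
    omega

theorem center_data {n : ℕ} {S : Type u} [Group S] [Finite S] (hS : IsPGroup p S) (hn : Nat.card S = p ^ n)
    (h3 : 3 ≤ n) (hc : Group.nilpotencyClass S = n - 1) :
    Nat.card (Subgroup.center S) = p ∧ Nat.card (S ⧸ Subgroup.center S) = p ^ (n - 1) ∧
      Group.nilpotencyClass (S ⧸ Subgroup.center S) = n - 1 - 1 := by
  haveI := hS.isNilpotent
  have hZ : Subgroup.center S ≠ ⊤ := fun h => by have := class_le_one_of_center h; omega
  obtain ⟨k, i, hk2, hi1, hki, hk, hi⟩ := card_quotient_data hS hn hZ
  have h := class_le (hS.to_quotient _) hk hk2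
  have hq := Group.nilpotencyClass_quotient_center (G := S)
  have hk' : k = n - 1 := by omega
  refine ⟨?_, hk' ▸ hk, by omega⟩
  rw [hi, show i = 1 by omega, pow_one]

/-- An element with centralizer of order `p²` forces maximal class. -/
theorem class_of_centralizer {n : ℕ} {S : Type u} [Group S] [Finite S] (hS : IsPGroup p S)
    (hn : Nat.card S = p ^ n) (s : S)
    (hs : Nat.card (Subgroup.centralizer ({s} : Set S)) = p ^ 2) :
    Group.nilpotencyClass S = n - 1 := by
  induction n using Nat.strong_induction_on generalizing S with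
  | _ n ih =>
    haveI := hS.isNilpotent
    set C := Subgroup.centralizer ({s} : Set S) with hCdef
    have h2 : 2 ≤ n := by
      have h := Nat.le_of_dvd Nat.card_pos (Subgroup.card_subgroup_dvd_card C)
      rw [hs, hn] at h
      exact (Nat.pow_le_pow_iff_right hp.out.one_lt).mp h
    haveI : Nontrivial S := Finite.one_lt_card_iff_nontrivial.mp
      (by rw [hn]; exact one_lt_pow₀ hp.out.one_lt (by omega))
    by_cases hsZ : s ∈ Subgroup.center S
    · have hC : C = ⊤ := eq_top_iff.mpr fun x _ => Subgroup.mem_centralizer_singleton_iff.mpr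
        (Subgroup.mem_center_iff.mp hsZ x)
      rw [hC, Subgroup.card_top, hn] at hs
      have hn2 : n = 2 := Nat.pow_right_injective hp.out.two_le hs
      have hle := class_le hS hn h2
      have hne : Group.nilpotencyClass S ≠ 0 := fun h =>
        not_subsingleton S (Group.nilpotencyClass_zero_iff_subsingleton.mp h)
      omega
    have hZtop : Subgroup.center S ≠ ⊤ := fun h => hsZ (h ▸ Subgroup.mem_top s)
    obtain ⟨k, i, hk2, hi1, hki, hk, hi⟩ := card_quotient_data hS hn hZtop
    have hZC : Subgroup.center S ≤ C := fun z hz => Subgroup.mem_centralizer_singleton_iff.mpr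
      ((Subgroup.mem_center_iff.mp hz s).symm)
    have hi_eq : i = 1 := by
      have hd := Subgroup.card_dvd_of_le hZC
      rw [hi, hs, Nat.pow_dvd_pow_iff_le_right hp.out.one_lt] at hd
      by_contra h
      have heq : Subgroup.center S = C := Subgroup.eq_of_le_of_card_ge hZC
        (by rw [hi, hs, show i = 2 by omega])
      exact hsZ (heq ▸ Subgroup.mem_centralizer_singleton_iff.mpr rfl)
    set Z := Subgroup.center S with hZdef
    let sb : S ⧸ Z := QuotientGroup.mk s
    set Cb := Subgroup.centralizer ({sb} : Set (S ⧸ Z)) with hCb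
    set D := Cb.comap (QuotientGroup.mk' Z) with hDdef
    have hD : ∀ d : D, (d : S) * s * (d : S)⁻¹ * s⁻¹ ∈ Z := fun d => by
      have h := Subgroup.mem_centralizer_singleton_iff.mp d.2
      rw [← QuotientGroup.eq_one_iff]
      simp only [QuotientGroup.mk_mul, QuotientGroup.mk_inv]
      change QuotientGroup.mk' Z (d : S) * sb * (QuotientGroup.mk' Z (d : S))⁻¹ * sb⁻¹ = 1
      rw [h]
      group
    let f : D ⧸ C.subgroupOf D → Z := fun q => ⟨_, hD q.out⟩
    have hf : Function.Injective f := by
      intro q q' hqq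
      have h : ((q.out : D) : S) * s * ((q.out : D) : S)⁻¹ * s⁻¹ =
          ((q'.out : D) : S) * s * ((q'.out : D) : S)⁻¹ * s⁻¹ := congrArg Subtype.val hqq
      rw [← q.out_eq, ← q'.out_eq]
      apply QuotientGroup.eq.mpr
      rw [Subgroup.mem_subgroupOf, Subgroup.mem_centralizer_singleton_iff]
      have h' := mul_right_cancel h
      push_cast
      calc ((q.out : D) : S)⁻¹ * ((q'.out : D) : S) * s
          = ((q.out : D) : S)⁻¹ * (((q'.out : D) : S) * s * ((q'.out : D) : S)⁻¹) * ((q'.out : D) : S) := by group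
        _ = ((q.out : D) : S)⁻¹ * (((q.out : D) : S) * s * ((q.out : D) : S)⁻¹) * ((q'.out : D) : S) := by rw [h']
        _ = s * (((q.out : D) : S)⁻¹ * ((q'.out : D) : S)) := by group
    have hCD : C ≤ D := fun c hc => Subgroup.mem_centralizer_singleton_iff.mpr (by
      change QuotientGroup.mk' Z c * sb = sb * QuotientGroup.mk' Z c
      exact (map_mul (QuotientGroup.mk' Z) c s).symm.trans
        ((congrArg _ (Subgroup.mem_centralizer_singleton_iff.mp hc)).trans (map_mul _ s c)))
    have hcardD : Nat.card D ≤ p * p ^ 2 := by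
      rw [Subgroup.card_eq_card_quotient_mul_card_subgroup (C.subgroupOf D),
        Nat.card_congr (Subgroup.subgroupOfEquivOfLe hCD).toEquiv, hs]
      refine Nat.mul_le_mul_right _ ((Nat.card_le_card_of_injective f hf).trans_eq ?_)
      rw [hi, hi_eq, pow_one]
    have hDcb : Nat.card D = Nat.card Cb * p := by
      have hZD : Z ≤ D := fun z hz => Subgroup.mem_centralizer_singleton_iff.mpr (by
        rw [QuotientGroup.mk'_apply, (QuotientGroup.eq_one_iff z).mpr hz, one_mul, mul_one])
      have h := Basics.card_map_mul_card_inf_ker (QuotientGroup.mk' Z) D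
      rw [QuotientGroup.ker_mk', inf_eq_right.mpr hZD, hDdef,
        Subgroup.map_comap_eq_self_of_surjective (QuotientGroup.mk'_surjective Z)] at h
      rw [hDdef, ← h, hi, hi_eq, pow_one]
    obtain ⟨j, hj⟩ := IsPGroup.iff_card.mp ((hS.to_quotient Z).to_subgroup Cb)
    have hj2 : j ≤ 2 := by
      rw [hDcb, hj, mul_comm p (p ^ 2)] at hcardD
      exact (Nat.pow_le_pow_iff_right hp.out.one_lt).mp (Nat.le_of_mul_le_mul_right hcardD hp.out.pos)
    have hsb : sb ≠ 1 := fun h => hsZ ((QuotientGroup.eq_one_iff s).mp h)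
    have hj2' : j = 2 := by
      by_contra hne
      haveI : Nontrivial (S ⧸ Z) := nontrivial_of_ne sb 1 hsb
      haveI := (hS.to_quotient Z).center_nontrivial
      have hZb : Subgroup.center (S ⧸ Z) ≤ Cb := fun z hz => Subgroup.mem_centralizer_singleton_iff.mpr
        ((Subgroup.mem_center_iff.mp hz sb).symm)
      obtain ⟨l, hl⟩ := IsPGroup.iff_card.mp ((hS.to_quotient Z).to_subgroup (Subgroup.center (S ⧸ Z)))
      have hl1 : 1 ≤ l := by
        by_contra h
        have := Finite.one_lt_card (α := Subgroup.center (S ⧸ Z))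
        rw [hl, show l = 0 by omega, pow_zero] at this
        omega
      have heq : Subgroup.center (S ⧸ Z) = Cb := Subgroup.eq_of_le_of_card_ge hZb
        (by rw [hl, hj]; exact Nat.pow_le_pow_right hp.out.pos (by omega))
      have hmem : sb ∈ Subgroup.center (S ⧸ Z) := heq ▸ Subgroup.mem_centralizer_singleton_iff.mpr rfl
      have htop : Cb = ⊤ := eq_top_iff.mpr fun x _ =>
        Subgroup.mem_centralizer_singleton_iff.mpr (Subgroup.mem_center_iff.mp hmem x)
      rw [htop, Subgroup.card_top, hk] at hj
      have := Nat.pow_right_injective hp.out.two_le hj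
      omega
    have := ih k (by omega) (hS.to_quotient Z) hk sb (by rw [← hCb, hj, hj2'])
    rw [Group.nilpotencyClass_eq_quotient_center_plus_one, this]
    omega

end Cfsg.Agent.FGB.MaxClass
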