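import Mathlib
import Cfsg.Agent.S0662
import Cfsg.Agent.Lib.FGS.PolySeq
import Cfsg.Agent.Lib.Invol.SmallClassPow
import Cfsg.Agent.Lib.FGB.MaxClassCentralizer

/-! The lower central series of a p-group of maximal class. -/

set_option autoImplicit false

namespace Cfsg.Agent.FGB.MaxClass

open Subgroup
open scoped commutatorElement

universe u

variable {p : ℕ} [hp : Fact p.Prime] {G : Type u} [Group G] [Finite G]

/-- `G` has order `p ^ n` and class `n - 1`, said with the lower central series. -/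
structure IsMax (p n : ℕ) (G : Type u) [Group G] : Prop where
  two_le : 2 ≤ n
  card : Nat.card G = p ^ n
  ne_bot : (⊤ : Subgroup G).lowerCentralSeries (n - 2) ≠ ⊥

theorem isMax_of_class {n : ℕ} [Group.IsNilpotent G] (hn : 2 ≤ n) (hG : Nat.card G = p ^ n)
    (hc : Group.nilpotencyClass G = n - 1) : IsMax p n G := by
  refine ⟨hn, hG, fun h => ?_⟩
  have := _root_.lowerCentralSeries_eq_bot_iff_nilpotencyClass_le.1 h
  omega

theorem IsMax.isPGroup {n : ℕ} (h : IsMax p n G) : IsPGroup p G := IsPGroup.of_card h.card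

theorem IsMax.lcs_top {n : ℕ} (h : IsMax p n G) : (⊤ : Subgroup G).lowerCentralSeries (n - 1) = ⊥ :=
  S0662.lcs_quot h.two_le h.card

theorem IsMax.lcs_bot_of_le {n : ℕ} (h : IsMax p n G) {i : ℕ} (hi : n - 1 ≤ i) :
    (⊤ : Subgroup G).lowerCentralSeries i = ⊥ :=
  eq_bot_iff.2 (h.lcs_top ▸ (⊤ : Subgroup G).lowerCentralSeries_antitone hi)

theorem IsMax.class_eq {n : ℕ} (h : IsMax p n G) [Group.IsNilpotent G] :
    Group.nilpotencyClass G = n - 1 := by
  refine le_antisymm (_root_.lowerCentralSeries_eq_bot_iff_nilpotencyClass_le.1 h.lcs_top) ?_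
  by_contra hlt
  exact h.ne_bot (_root_.lowerCentralSeries_eq_bot_iff_nilpotencyClass_le.2 (by omega))

theorem IsMax.lcs_card {n : ℕ} (h : IsMax p n G) : ∀ i, 1 ≤ i → i ≤ n - 1 →
    Nat.card ((⊤ : Subgroup G).lowerCentralSeries i) = p ^ (n - 1 - i) := by
  have hn := h.two_le
  have hGp := h.isPGroup
  haveI := hGp.isNilpotent
  have hlow := S0662.card_bounds hGp (n - 2) h.ne_bot
  have hup : Nat.card (commutator G) ≤ p ^ (n - 2) := by
    obtain ⟨e, he⟩ := IsPGroup.iff_card.1 (hGp.to_subgroup (commutator G))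
    rw [he]
    refine Nat.pow_le_pow_right hp.out.pos ?_
    have h2 := (commutator G).card_eq_card_quotient_mul_card_subgroup
    obtain ⟨f, hf⟩ := IsPGroup.iff_card.1 (hGp.to_quotient (commutator G))
    rw [h.card, he, hf, ← pow_add] at h2
    have h3 := Nat.pow_right_injective hp.out.two_le h2
    by_contra hlt
    have hcyc : IsCyclic (G ⧸ commutator G) := by
      rcases Nat.eq_zero_or_pos f with rfl | hf0
      · haveI := (Nat.card_eq_one_iff_unique.1 (by simpa using hf)).1
        exact isCyclic_of_subsingleton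
      · exact isCyclic_of_prime_card (p := p) (by rw [hf, show f = 1 by omega, pow_one])
    have hb := S0662.commutator_bot_of_cyclic hcyc
    rw [hb, Subgroup.card_bot] at he
    have he0 : e = 0 := by
      by_contra h0
      exact (Nat.one_lt_pow h0 hp.out.one_lt).ne he
    omega
  intro i
  induction i with
  | zero => omega
  | succ i ih =>
    intro _ hi
    rcases Nat.lt_or_ge (n - 2) (i + 1) with htop | hle
    · rw [h.lcs_bot_of_le (by omega), Subgroup.card_bot, show n - 1 - (i + 1) = 0 by omega, pow_zero]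
    refine le_antisymm ?_ (le_trans (le_of_eq (by congr 1; omega)) (hlow (i + 1) hle))
    rcases Nat.eq_zero_or_pos i with rfl | hi0
    · show Nat.card ((⊤ : Subgroup G).lowerCentralSeries 1) ≤ _
      rw [Subgroup.top_lowerCentralSeries_one]
      exact hup.trans (le_of_eq (by congr 1))
    · have h1 := ih hi0 (by omega)
      have hlt : (⊤ : Subgroup G).lowerCentralSeries (i + 1) < (⊤ : Subgroup G).lowerCentralSeries i := by
        rw [Subgroup.lowerCentralSeries_succ]
        refine Cfsg.Agent.Basics.commutator_top_lt_of_isNilpotent fun h' => ?_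
        rw [h', Subgroup.card_bot] at h1
        exact (Nat.one_lt_pow (by omega) hp.out.one_lt).ne h1
      have h2 := Cfsg.Agent.Basics.card_lt_of_lt hlt
      obtain ⟨e, he⟩ := IsPGroup.iff_card.1 (hGp.to_subgroup ((⊤ : Subgroup G).lowerCentralSeries (i + 1)))
      rw [he] at h2 ⊢
      rw [h1, Nat.pow_lt_pow_iff_right hp.out.one_lt] at h2
      exact Nat.pow_le_pow_right hp.out.pos (by omega)

/-- Consecutive terms differ by the index `p`, so any element outside the smaller one generates. -/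
theorem IsMax.exists_zpow_mul {n : ℕ} (h : IsMax p n G) {i : ℕ} (hi : 1 ≤ i) (hi' : i ≤ n - 2)
    {a g : G} (ha : a ∈ (⊤ : Subgroup G).lowerCentralSeries i)
    (ha' : a ∉ (⊤ : Subgroup G).lowerCentralSeries (i + 1))
    (hg : g ∈ (⊤ : Subgroup G).lowerCentralSeries i) :
    ∃ k : ℤ, ∃ w ∈ (⊤ : Subgroup G).lowerCentralSeries (i + 1), g = a ^ k * w := by
  set L := (⊤ : Subgroup G).lowerCentralSeries i
  set M := (⊤ : Subgroup G).lowerCentralSeries (i + 1)
  have hML : M ≤ L := (⊤ : Subgroup G).lowerCentralSeries_antitone (Nat.le_succ i)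
  set X := zpowers a ⊔ M
  have hXL : X ≤ L := sup_le (zpowers_le.2 ha) hML
  have hMX : M < X := lt_of_le_of_ne le_sup_right fun he => ha' (he ▸ mem_sup_left (mem_zpowers a))
  have h1 := h.lcs_card i hi (by omega)
  have h2 := h.lcs_card (i + 1) (by omega) (by omega)
  have h3 := Cfsg.Agent.Basics.card_lt_of_lt hMX
  obtain ⟨e, he⟩ := IsPGroup.iff_card.1 (h.isPGroup.to_subgroup X)
  rw [h2, he, Nat.pow_lt_pow_iff_right hp.out.one_lt] at h3
  have hX : X = L := Subgroup.eq_of_le_of_card_ge hXL
    (by rw [h1, he]; exact Nat.pow_le_pow_right hp.out.pos (by omega))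
  rw [← hX, ← SetLike.mem_coe, Subgroup.mul_normal, Set.mem_mul] at hg
  obtain ⟨x, hx, w, hw, rfl⟩ := hg
  obtain ⟨k, rfl⟩ := hx
  exact ⟨k, w, hw, rfl⟩

theorem IsMax.quot {n : ℕ} (h : IsMax p n G) {j : ℕ} (hj : 1 ≤ j) (hj' : j ≤ n - 1) :
    IsMax p (j + 1) (G ⧸ (⊤ : Subgroup G).lowerCentralSeries j) := by
  have hn := h.two_le
  refine ⟨by omega, ?_, ?_⟩
  · have h2 := ((⊤ : Subgroup G).lowerCentralSeries j).card_eq_card_quotient_mul_card_subgroup
    rw [h.card, h.lcs_card j hj hj'] at h2
    refine (Nat.eq_of_mul_eq_mul_right (pow_pos hp.out.pos (n - 1 - j)) ?_).symm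
    rw [← h2, ← pow_add]; congr 1; omega
  · intro hb
    have hmap : ((⊤ : Subgroup G).lowerCentralSeries (j - 1)).map
        (QuotientGroup.mk' ((⊤ : Subgroup G).lowerCentralSeries j)) = ⊥ := by
      rw [Subgroup.map_lowerCentralSeries, ← MonoidHom.range_eq_map, QuotientGroup.range_mk',
        show j - 1 = j + 1 - 2 by omega, hb]
    rw [Subgroup.map_eq_bot_iff, QuotientGroup.ker_mk'] at hmap
    rcases Nat.eq_zero_or_pos (j - 1) with h0 | h0
    · have h1 := Subgroup.card_le_of_le hmap
      rw [h0, Subgroup.lowerCentralSeries_zero, Subgroup.card_top, h.card, h.lcs_card j hj hj',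
        Nat.pow_le_pow_iff_right hp.out.one_lt] at h1
      omega
    · have h1 := Subgroup.card_le_of_le hmap
      rw [h.lcs_card (j - 1) h0 (by omega), h.lcs_card j hj hj',
        Nat.pow_le_pow_iff_right hp.out.one_lt] at h1
      omega

theorem IsMax.le_center {n : ℕ} (h : IsMax p n G) :
    (⊤ : Subgroup G).lowerCentralSeries (n - 2) ≤ center G := by
  have hb := h.lcs_bot_of_le (show n - 1 ≤ n - 2 + 1 by omega)
  rw [Subgroup.lowerCentralSeries_succ, Subgroup.commutator_eq_bot_iff_le_centralizer,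
    Subgroup.coe_top, Subgroup.centralizer_univ] at hb
  exact hb

theorem IsMax.eq_of_index {n : ℕ} (h : IsMax p n G) (hn : 3 ≤ n) (N : Subgroup G) [N.Normal] {r : ℕ}
    (hr : 2 ≤ r) (hN : N.index = p ^ r) : N = (⊤ : Subgroup G).lowerCentralSeries (r - 1) := by
  haveI := h.isPGroup.isNilpotent
  exact (S0662.result n h.card h.class_eq hn).1 N r hr hN

theorem IsMax.pow_mem_commutator {n : ℕ} (h : IsMax p n G) (hn : 3 ≤ n) (g : G) :
    g ^ p ∈ commutator G := by
  by_contra hg
  haveI := h.isPGroup.isNilpotent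
  have hV : Nat.card (G ⧸ commutator G) = p ^ 2 := by
    have := (h.quot (j := 1) le_rfl (by omega)).card
    rwa [Subgroup.top_lowerCentralSeries_one] at this
  have hcyc : IsCyclic (G ⧸ commutator G) := by
    refine isCyclic_of_orderOf_eq_card (QuotientGroup.mk g) ?_
    obtain ⟨i, hi, he⟩ := (Nat.dvd_prime_pow hp.out).1
      (hV ▸ orderOf_dvd_natCard (QuotientGroup.mk g : G ⧸ commutator G))
    have hnd : ¬ orderOf (QuotientGroup.mk g : G ⧸ commutator G) ∣ p := fun h' => hg
      ((QuotientGroup.eq_one_iff _).1 (orderOf_dvd_iff_pow_eq_one.1 h'))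
    rw [hV, he, show i = 2 by
      rcases Nat.lt_or_ge i 2 with h' | h'
      · exact absurd (he ▸ (pow_dvd_pow p (show i ≤ 1 by omega)).trans (pow_one p).dvd) hnd
      · omega]
  have hc1 := h.lcs_card 1 le_rfl (by omega)
  rw [Subgroup.top_lowerCentralSeries_one, S0662.commutator_bot_of_cyclic hcyc, Subgroup.card_bot] at hc1
  exact (Nat.one_lt_pow (by omega) hp.out.one_lt).ne hc1

end Cfsg.Agent.FGB.MaxClass
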