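import Mathlib
import Cfsg.Agent.Lib.FGB.MaxClassFiltration

/-! Elementary abelian sections of p-groups of maximal class. -/

set_option autoImplicit false

namespace Cfsg.Agent.FGB.MaxClass

open Subgroup
open scoped commutatorElement

universe u

variable {p : ℕ} [hp : Fact p.Prime]

/-- In maximal class of order at most `p ^ (p - 1)` every p-th power is central. -/
theorem IsMax.pow_mem_last {m : ℕ} {G : Type u} [Group G] [Finite G] (h : IsMax p m G) (hm : 3 ≤ m)
    (hmp : m ≤ p) (g : G) : g ^ p ∈ (⊤ : Subgroup G).lowerCentralSeries (m - 2) := by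
  induction m using Nat.strong_induction_on generalizing G with
  | _ m ih =>
  rcases Nat.lt_or_ge m 4 with hm4 | hm4
  · have := h.pow_mem_commutator hm g
    rw [← Subgroup.top_lowerCentralSeries_one] at this
    rwa [show m - 2 = 1 by omega]
  have hG := h.isPGroup
  have hc : (⊤ : Subgroup G).lowerCentralSeries (p - 1) = ⊥ := h.lcs_bot_of_le (by omega)
  have hreg := Invol.SmallClassPow.regular hG hc
  set M := (⊤ : Subgroup G).lowerCentralSeries (m - 3)
  have hM : ∀ x : G, x ^ p ∈ M := by
    intro x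
    have hq := h.quot (j := m - 2) (by omega) (by omega)
    rw [show m - 2 + 1 = m - 1 by omega] at hq
    have hx := ih (m - 1) (by omega) hq (by omega) (by omega) (QuotientGroup.mk x)
    rw [show m - 1 - 2 = m - 3 by omega] at hx
    have hmap := Subgroup.map_lowerCentralSeries (⊤ : Subgroup G)
      (QuotientGroup.mk' ((⊤ : Subgroup G).lowerCentralSeries (m - 2))) (m - 3)
    rw [← MonoidHom.range_eq_map, QuotientGroup.range_mk'] at hmap
    rw [← hmap, ← QuotientGroup.mk'_apply, ← map_pow, ← Subgroup.mem_comap,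
      Subgroup.comap_map_eq, QuotientGroup.ker_mk', sup_eq_left.2
        ((⊤ : Subgroup G).lowerCentralSeries_antitone (by omega))] at hx
    exact hx
  let K : Subgroup G :=
    { carrier := {x | x ^ p = 1}
      one_mem' := one_pow _
      mul_mem' := fun {a b} ha hb => by
        show (a * b) ^ p = 1
        have := FGS.RegularPow.mul_pow_of_left hreg (k := 1) (by simpa using ha) b
        rw [pow_one] at this
        rw [this]; exact hb
      inv_mem' := fun {a} ha => by show a⁻¹ ^ p = 1; rw [inv_pow, ha, inv_one] }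
  haveI : K.Normal := ⟨fun a ha x => by
    show (x * a * x⁻¹) ^ p = 1
    rw [conj_pow, show a ^ p = 1 from ha, mul_one, mul_inv_cancel]⟩
  have hinj : Function.Injective (fun q : G ⧸ K => (⟨q.out ^ p, hM q.out⟩ : M)) := by
    intro q q' hqq
    have h1 : q.out ^ p ^ 1 = q'.out ^ p ^ 1 := by rw [pow_one]; exact congrArg Subtype.val hqq
    rw [FGS.RegularPow.pow_eq_iff hreg, pow_one] at h1
    have hmem : q.out * q'.out⁻¹ ∈ K := h1
    rw [← q.out_eq, ← q'.out_eq]
    exact (QuotientGroup.eq_iff_div_mem).2 (by rwa [div_eq_mul_inv])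
  have hidx := Nat.card_le_card_of_injective _ hinj
  rw [h.lcs_card (m - 3) (by omega) (by omega), show m - 1 - (m - 3) = 2 by omega,
    ← Subgroup.index_eq_card] at hidx
  obtain ⟨r, hr⟩ := IsPGroup.iff_card.1 (hG.to_quotient K)
  rw [← Subgroup.index_eq_card] at hr
  rw [hr, Nat.pow_le_pow_iff_right hp.out.one_lt] at hidx
  have hder : commutator G ≤ K := by
    rcases Nat.lt_or_ge r 2 with hr2 | hr2
    · haveI : IsCyclic (G ⧸ K) := by
        rcases Nat.eq_zero_or_pos r with rfl | h0
        · haveI := (Nat.card_eq_one_iff_unique.1 (by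
            rw [← Subgroup.index_eq_card, hr, pow_zero] : Nat.card (G ⧸ K) = 1)).1
          infer_instance
        · exact isCyclic_of_prime_card (p := p) (by
            rw [← Subgroup.index_eq_card, hr, show r = 1 by omega, pow_one])
      rw [commutator_def, commutator_le]
      intro a _ b _
      rw [← QuotientGroup.eq_one_iff, ← QuotientGroup.mk'_apply, map_commutatorElement,
        commutatorElement_eq_one_iff_mul_comm]
      exact (IsCyclic.commGroup (α := G ⧸ K)).mul_comm _ _
    · rw [h.eq_of_index hm K hr2 hr, show r - 1 = 1 by omega, Subgroup.top_lowerCentralSeries_one]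
  haveI := hG.isNilpotent
  have hcen : g ^ p ∈ center G := by
    rw [mem_center_iff]
    intro x
    have h1 : ⁅x, g⁆ ^ p ^ 1 = 1 := by
      rw [pow_one]
      exact hder (commutator_mem_commutator (mem_top _) (mem_top _))
    rw [commutatorElement_def, ← FGS.RegularPow.pow_eq_iff hreg (x * g * x⁻¹) g 1, pow_one, conj_pow] at h1
    exact mul_inv_eq_iff_eq_mul.1 h1
  have hz := (center_data hG h.card hm h.class_eq).1
  have heq : (⊤ : Subgroup G).lowerCentralSeries (m - 2) = center G := Subgroup.eq_of_le_of_card_ge h.le_center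
    (by rw [hz, h.lcs_card (m - 2) (by omega) (by omega), show m - 1 - (m - 2) = 1 by omega, pow_one])
  rw [heq]; exact hcen

theorem exists_avoid {G : Type u} [Group G] [Finite G] (hG : IsPGroup p G) {ι : Type*} (t : Finset ι)
    (C : ι → Subgroup G) (ht : t.card ≤ p) (hC : ∀ i ∈ t, C i ≠ ⊤) : ∃ g, ∀ i ∈ t, g ∉ C i := by
  classical
  by_contra hall
  push Not at hall
  haveI : Fintype G := Fintype.ofFinite G
  have hsub : (Finset.univ : Finset G) ⊆
      insert 1 (t.biUnion fun i => (Finset.univ.filter fun x => x ∈ C i).erase 1) := by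
    intro g _
    obtain ⟨i, hi, hgi⟩ := hall g
    by_cases hg1 : g = 1
    · exact hg1 ▸ Finset.mem_insert_self _ _
    · exact Finset.mem_insert_of_mem (Finset.mem_biUnion.2 ⟨i, hi, by simp [hg1, hgi]⟩)
  obtain ⟨n, hn⟩ := IsPGroup.iff_card.1 hG
  rcases Nat.eq_zero_or_pos n with rfl | hn0
  · obtain ⟨i, hi, -⟩ := hall 1
    haveI := (Nat.card_eq_one_iff_unique.1 (hn.trans (pow_zero p))).1
    exact hC i hi (eq_top_iff.2 fun x _ => Subsingleton.elim x 1 ▸ one_mem _)
  have hle : ∀ i ∈ t, ((Finset.univ.filter fun x => x ∈ C i).erase 1).card ≤ p ^ (n - 1) - 1 := by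
    intro i hi
    rw [Finset.card_erase_of_mem (by simp)]
    refine Nat.sub_le_sub_right ?_ 1
    rw [← Fintype.card_subtype, ← Nat.card_eq_fintype_card]
    obtain ⟨e, he⟩ := IsPGroup.iff_card.1 (hG.to_subgroup (C i))
    have hlt := Cfsg.Agent.Basics.card_lt_of_lt (lt_top_iff_ne_top.2 (hC i hi))
    rw [Subgroup.card_top, hn, he, Nat.pow_lt_pow_iff_right hp.out.one_lt] at hlt
    exact he.le.trans (Nat.pow_le_pow_right hp.out.pos (by omega))
  have h1 := (Finset.card_le_card hsub).trans ((Finset.card_insert_le _ _).trans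
    (Nat.add_le_add_right (Finset.card_biUnion_le.trans (Finset.sum_le_card_nsmul _ _ _ hle)) 1))
  rw [Finset.card_univ, ← Nat.card_eq_fintype_card, hn, smul_eq_mul] at h1
  obtain ⟨n, rfl⟩ : ∃ k, n = k + 1 := ⟨n - 1, by omega⟩
  rw [Nat.add_sub_cancel] at h1
  obtain ⟨c, hc⟩ : ∃ c, p ^ n = c + 1 := ⟨p ^ n - 1, by have := Nat.one_le_pow n p hp.out.pos; omega⟩
  rw [pow_succ, hc, Nat.add_sub_cancel, add_one_mul, mul_comm c p] at h1
  have h2 : t.card * c ≤ p * c := Nat.mul_le_mul_right c ht
  have := hp.out.two_le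
  omega

/-- The sum of the powers of `1 + x`. -/
theorem geom_sum_one_add {R : Type u} [Ring R] (x : R) : ∀ n : ℕ,
    ∑ i ∈ Finset.range n, (1 + x) ^ i = ∑ j ∈ Finset.range n, n.choose (j + 1) • x ^ j
  | 0 => by simp
  | n + 1 => by
    rw [Finset.sum_range_succ, geom_sum_one_add x n]
    have hexp : (1 + x) ^ n = ∑ j ∈ Finset.range (n + 1), n.choose j • x ^ j := by
      rw [add_comm, (Commute.one_right x).add_pow]
      exact Finset.sum_congr rfl fun j _ => by rw [one_pow, mul_one, nsmul_eq_mul, (n.choose j).cast_commute]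
    rw [hexp, Finset.sum_range_succ (fun j => (n + 1).choose (j + 1) • x ^ j),
      Finset.sum_range_succ (fun j => n.choose j • x ^ j), ← add_assoc, ← Finset.sum_add_distrib]
    congr 1
    · exact Finset.sum_congr rfl fun j _ => by rw [← add_smul, Nat.choose_succ_succ', add_comm]
    · simp

/-- A section of order `p ^ (k + 1)` which is elementary abelian, in order `p ^ (2 * k + 1)`. -/
theorem IsMax.exists_elementary {k : ℕ} {G : Type u} [Group G] [Finite G] (h : IsMax p (2 * k + 1) G)
    (hk : 2 ≤ k) (hpk : k + 2 ≤ p) :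
    ∃ A : Subgroup G, IsMulCommutative A ∧ (∀ a ∈ A, a ^ p = 1) ∧ Nat.card A = p ^ (k + 1) := by
  classical
  have hG := h.isPGroup
  let L : ℕ → Subgroup G := fun i => (⊤ : Subgroup G).lowerCentralSeries i
  have hanti : ∀ {i j : ℕ}, i ≤ j → L j ≤ L i := fun hij => (⊤ : Subgroup G).lowerCentralSeries_antitone hij
  haveI hN : ∀ i, (L i).Normal := fun i => inferInstanceAs ((⊤ : Subgroup G).lowerCentralSeries i).Normal
  have hLbot : ∀ i, 2 * k ≤ i → L i = ⊥ := fun i hi => h.lcs_bot_of_le (by omega)
  have hsucc : ∀ i, ∀ u ∈ L i, ∀ g : G, ⁅u, g⁆ ∈ L (i + 1) := fun i u hu g => by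
    show ⁅u, g⁆ ∈ (⊤ : Subgroup G).lowerCentralSeries (i + 1)
    rw [Subgroup.lowerCentralSeries_succ]
    exact commutator_mem_commutator hu (mem_top g)
  -- the elements centralizing a layer
  let C : ℕ → Subgroup G := fun i =>
    (Subgroup.centralizer (((L i).map (QuotientGroup.mk' (L (i + 2)))) : Set (G ⧸ L (i + 2)))).comap
      (QuotientGroup.mk' (L (i + 2)))
  have hC : ∀ i s, s ∈ C i ↔ ∀ u ∈ L i, ⁅u, s⁆ ∈ L (i + 2) := by
    intro i s
    simp only [C, mem_comap, mem_centralizer_iff, SetLike.mem_coe, Subgroup.mem_map, forall_exists_index, and_imp]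
    refine ⟨fun hs u hu => ?_, fun hs _ u hu hu' => ?_⟩
    · rw [← QuotientGroup.eq_one_iff, ← QuotientGroup.mk'_apply, map_commutatorElement,
        commutatorElement_eq_one_iff_mul_comm]
      exact hs _ u hu rfl
    · subst hu'
      rw [← commutatorElement_eq_one_iff_mul_comm, ← map_commutatorElement, QuotientGroup.mk'_apply,
        QuotientGroup.eq_one_iff]
      exact hs u hu
  have hCne : ∀ i, i ≤ 2 * k - 2 → C i ≠ ⊤ := by
    intro i hi htop
    have hle : L (i + 1) ≤ L (i + 2) := by
      show (⊤ : Subgroup G).lowerCentralSeries (i + 1) ≤ _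
      rw [Subgroup.lowerCentralSeries_succ, commutator_le]
      exact fun u hu g _ => (hC i g).1 (htop ▸ mem_top g) u hu
    have h1 := Subgroup.card_le_of_le hle
    rw [h.lcs_card (i + 1) (by omega) (by omega), h.lcs_card (i + 2) (by omega) (by omega),
      Nat.pow_le_pow_iff_right hp.out.one_lt] at h1
    omega
  obtain ⟨s, hs⟩ := exists_avoid hG (Finset.Icc (k - 2) (2 * k - 2)) C
    (by rw [Nat.card_Icc]; omega) fun i hi => hCne i (Finset.mem_Icc.1 hi).2
  have hstep : ∀ i, k - 1 ≤ i → i ≤ 2 * k - 2 → ∀ a ∈ L i, a ∉ L (i + 1) → ⁅a, s⁆ ∉ L (i + 2) := by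
    intro i hi hi' a ha ha' hbad
    refine hs i (Finset.mem_Icc.2 ⟨by omega, hi'⟩) ((hC i s).2 fun u hu => ?_)
    obtain ⟨z, w, hw, rfl⟩ := h.exists_zpow_mul (i := i) (by omega) (by omega) ha ha' hu
    rw [← QuotientGroup.eq_one_iff] at hbad ⊢
    rw [← QuotientGroup.mk'_apply, map_commutatorElement, commutatorElement_eq_one_iff_commute] at hbad ⊢
    rw [map_mul, map_zpow]
    refine (hbad.zpow_left z).mul_left ?_
    rw [← commutatorElement_eq_one_iff_commute, ← map_commutatorElement, QuotientGroup.mk'_apply,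
      QuotientGroup.eq_one_iff]
    exact hsucc (i + 1) w hw s
  set A := L (k - 1) with hA
  have hAab : ∀ a ∈ A, ∀ b ∈ A, Commute a b := by
    have hcross : ∀ a ∈ L (k - 1), ∀ w ∈ L k, Commute a w := fun a ha w hw => by
      have h1 := FGS.PolySeq.fil_comm (G := G) (k + 1) (k - 1 + 1) (commutator_mem_commutator ha hw)
      rw [← commutatorElement_eq_one_iff_commute, ← Subgroup.mem_bot, ← hLbot (2 * k) le_rfl]
      rw [show k - 1 + 1 + (k + 1) = 2 * k + 1 by omega] at h1
      exact h1
    intro a ha b hb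
    by_cases ha' : a ∈ L k
    · exact (hcross b hb a ha').symm
    have hak : a ∉ L (k - 1 + 1) := by rwa [show k - 1 + 1 = k by omega]
    obtain ⟨z, w, hw, rfl⟩ := h.exists_zpow_mul (i := k - 1) (by omega) (by omega) ha hak hb
    exact ((Commute.refl a).zpow_right z).mul_right (hcross a ha w (show w ∈ L k by
      rwa [show k = k - 1 + 1 by omega]))
  have hcomm : IsMulCommutative A := ⟨⟨fun a b => Subtype.ext (hAab a a.2 b b.2)⟩⟩
  refine ⟨A, hcomm, ?_, ?_⟩
  swap
  · rw [hA, h.lcs_card (k - 1) (by omega) (by omega)]; congr 1; omega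
  -- the p-th power of s is central
  have hsA : s ^ p ∈ A := by
    have hq := h.quot (j := k) (by omega) (by omega)
    have hx := hq.pow_mem_last (by omega) (by omega) (QuotientGroup.mk s)
    rw [show k + 1 - 2 = k - 1 by omega] at hx
    have hmap := Subgroup.map_lowerCentralSeries (⊤ : Subgroup G) (QuotientGroup.mk' (L k)) (k - 1)
    rw [← MonoidHom.range_eq_map, QuotientGroup.range_mk'] at hmap
    rw [← hmap, ← QuotientGroup.mk'_apply, ← map_pow, ← Subgroup.mem_comap,
      Subgroup.comap_map_eq, QuotientGroup.ker_mk', sup_eq_left.2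
        ((⊤ : Subgroup G).lowerCentralSeries_antitone (by omega))] at hx
    exact hx
  have hsZ : s ^ p ∈ center G := by
    suffices H : ∀ j i, i + j = 2 * k - 1 → k - 1 ≤ i → s ^ p ∈ L i → s ^ p ∈ L (2 * k - 1) by
      exact h.le_center (H k (k - 1) (by omega) le_rfl hsA)
    intro j
    induction j with
    | zero => intro i hi _ hm; rwa [show 2 * k - 1 = i by omega]
    | succ j ih =>
      intro i hi hi' hm
      refine ih (i + 1) (by omega) (by omega) (by_contra fun hn => ?_)
      refine hstep i hi' (by omega) _ hm hn ?_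
      rw [commutatorElement_eq_one_iff_commute.2 (Commute.pow_self s p)]
      exact one_mem _
  -- a generator of the top layer
  obtain ⟨b, hb, hb'⟩ : ∃ b ∈ L (k - 2), ⁅b, s⁆ ∉ L k := by
    by_contra hall
    push Not at hall
    exact hs (k - 2) (Finset.mem_Icc.2 ⟨le_rfl, by omega⟩) ((hC (k - 2) s).2 fun u hu => by
      rw [show k - 2 + 2 = k by omega]; exact hall u hu)
  have ha0 : ⁅b, s⁆ ∈ A := by
    have := hsucc (k - 2) b hb s
    rwa [show k - 2 + 1 = k - 1 by omega] at this
  letI : CommGroup A := { (inferInstance : Group A) with mul_comm := fun a b => Subtype.ext (hAab a a.2 b b.2) }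
  let σ : AddMonoid.End (Additive A) := MonoidHom.toAdditive (MulAut.conjNormal s : MulAut A).toMonoidHom
  let τ : AddMonoid.End (Additive A) := σ - 1
  have hval : ∀ v : Additive A, ((Additive.toMul (τ v) : A) : G) = ⁅s, ((Additive.toMul v : A) : G)⁆ := by
    intro v
    show ((Additive.toMul (σ v - v) : A) : G) = _
    rw [toMul_sub, div_eq_mul_inv, Subgroup.coe_mul, Subgroup.coe_inv, commutatorElement_def]
    rfl
  let F : ℕ → AddSubgroup (Additive A) := fun i => Subgroup.toAddSubgroup ((L i).subgroupOf A)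
  have hF : ∀ i v, v ∈ F i ↔ ((Additive.toMul v : A) : G) ∈ L i := fun i v => Iff.rfl
  have hτ : ∀ i v, v ∈ F i → τ v ∈ F (i + 1) := fun i v hv => by
    rw [hF, hval, ← commutatorElement_inv]
    exact inv_mem (hsucc i _ ((hF i v).1 hv) s)
  have hτn : ∀ j i v, v ∈ F i → (τ ^ j) v ∈ F (i + j) := by
    intro j
    induction j with
    | zero => intro i v hv; simpa using hv
    | succ j ih =>
      intro i v hv
      rw [pow_succ']
      exact hτ _ _ (ih i v hv)
  have hF0 : ∀ v, v ∈ F (k - 1) := fun v => (hF _ v).2 (Additive.toMul v).2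
  have hFbot : ∀ i v, 2 * k ≤ i → v ∈ F i → v = 0 := fun i v hi hv => by
    rw [hF, hLbot i hi, mem_bot] at hv
    exact congrArg Additive.ofMul (Subtype.ext hv : Additive.toMul v = 1)
  set v0 : Additive A := Additive.ofMul (⟨⁅b, s⁆, ha0⟩ : A) with hv0
  have hlayer : ∀ j, k - 1 + j ≤ 2 * k - 1 → (τ ^ j) v0 ∉ F (k - 1 + j + 1) := by
    intro j
    induction j with
    | zero =>
      intro _ hm
      rw [pow_zero, hF] at hm
      rw [show k - 1 + 0 + 1 = k by omega] at hm
      exact hb' hm
    | succ j ih =>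
      intro hj hm
      rw [pow_succ', hF] at hm
      have h1 : ((Additive.toMul (τ ((τ ^ j) v0)) : A) : G) ∈ L (k - 1 + (j + 1) + 1) := hm
      rw [hval, ← commutatorElement_inv, inv_mem_iff] at h1
      refine hstep (k - 1 + j) (by omega) (by omega) _ ((hF _ _).1 (hτn j _ v0 (hF0 v0)))
        (fun h2 => ih (by omega) ((hF _ _).2 h2)) ?_
      rwa [show k - 1 + j + 2 = k - 1 + (j + 1) + 1 by omega]
  let ev : Additive A → (AddMonoid.End (Additive A) →+ Additive A) := fun v =>
    { toFun := fun f => f v, map_zero' := rfl, map_add' := fun _ _ => rfl }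
  let N : AddMonoid.End (Additive A) := ∑ i ∈ Finset.range p, σ ^ i
  have hNτ : Commute N τ := by
    refine Finset.sum_induction _ (fun x => Commute x τ) (fun a c ha hc => ha.add_left hc)
      (Commute.zero_left τ) fun i _ => ?_
    exact ((Commute.refl σ).sub_right (Commute.one_right σ)).pow_left i
  -- the norm of the generator
  have hNv0 : N v0 = 0 := by
    have hσ : ∀ (i : ℕ) (v : Additive A),
        ((Additive.toMul ((σ ^ i) v) : A) : G) = s ^ i * ((Additive.toMul v : A) : G) * (s ^ i)⁻¹ := by
      intro i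
      induction i with
      | zero => intro v; simp
      | succ i ih =>
        intro v
        rw [pow_succ']
        show s * ((Additive.toMul ((σ ^ i) v) : A) : G) * s⁻¹ = _
        rw [ih v, pow_succ']; group
    have hprod : ∀ n : ℕ, (⁅b, s⁆ * s) ^ n =
        ((Additive.toMul ((∑ i ∈ Finset.range n, σ ^ i) v0) : A) : G) * s ^ n := by
      intro n
      induction n with
      | zero => simp
      | succ n ih =>
        rw [pow_succ, ih, Finset.sum_range_succ,
          show (∑ i ∈ Finset.range n, σ ^ i + σ ^ n) v0 = (∑ i ∈ Finset.range n, σ ^ i) v0 + (σ ^ n) v0 from rfl,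
          toMul_add, Subgroup.coe_mul, hσ]
        show _ = _ * (s ^ n * ⁅b, s⁆ * (s ^ n)⁻¹) * s ^ (n + 1)
        rw [pow_succ]; group
    have h1 := hprod p
    rw [commutatorElement_def, inv_mul_cancel_right, conj_pow,
      mem_center_iff.1 hsZ b, mul_inv_cancel_right] at h1
    have h2 : ((Additive.toMul (N v0) : A) : G) = 1 := right_eq_mul.1 h1 
    exact congrArg Additive.ofMul (Subtype.ext h2 : Additive.toMul (N v0) = 1)
  have hNzero : ∀ d i v, i + d = 2 * k → k - 1 ≤ i → v ∈ F i → N v = 0 := by
    intro d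
    induction d with
    | zero => intro i v hi _ hv; rw [hFbot i v (by omega) hv, map_zero]
    | succ d ih =>
      intro i v hi hi' hv
      obtain ⟨j, rfl⟩ : ∃ j, i = k - 1 + j := ⟨i - (k - 1), by omega⟩
      set a := (τ ^ j) v0
      obtain ⟨z, w, hw, hvw⟩ := h.exists_zpow_mul (i := k - 1 + j) (by omega) (by omega)
        ((hF _ _).1 (hτn j _ v0 (hF0 v0))) (fun h2 => hlayer j (by omega) ((hF _ _).2 h2))
        ((hF _ _).1 hv)
      have hwA : w ∈ A := hanti (by omega) hw
      have hv' : v = z • a + Additive.ofMul (⟨w, hwA⟩ : A) := by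
        refine Additive.toMul.injective (Subtype.ext ?_)
        rw [toMul_add, toMul_zsmul, Subgroup.coe_mul, SubgroupClass.coe_zpow]
        exact hvw
      rw [hv', map_add, map_zsmul, ih (k - 1 + j + 1) (Additive.ofMul (⟨w, hwA⟩ : A)) (by omega) (by omega)
        ((hF _ _).2 hw), add_zero]
      have : N a = (τ ^ j) (N v0) := by
        have := congrArg (fun f : AddMonoid.End (Additive A) => f v0) (hNτ.pow_right j).eq
        exact this
      rw [this, hNv0, map_zero, smul_zero]
  have hexp : ∀ d i v, i + d = 2 * k → k - 1 ≤ i → v ∈ F i → p • v = 0 := by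
    intro d
    induction d with
    | zero => intro i v hi _ hv; rw [hFbot i v (by omega) hv, smul_zero]
    | succ d ih =>
      intro i v hi hi' hv
      have h1 := hNzero (d + 1) i v hi hi' hv
      have hσeq : σ = 1 + τ := (add_sub_cancel 1 σ).symm
      simp only [N, hσeq, geom_sum_one_add τ p] at h1
      have h1' : ∑ j ∈ Finset.range p, ev v (p.choose (j + 1) • τ ^ j) = 0 := by
        rw [← map_sum]; exact h1
      clear h1
      rename' h1' => h1
      simp only [map_nsmul] at h1
      rw [Finset.sum_eq_single 0] at h1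
      · simp only [pow_zero, zero_add, Nat.choose_one_right] at h1
        exact h1
      · intro j hj hj0
        show p.choose (j + 1) • (τ ^ j) v = 0
        rcases Nat.lt_or_ge j (p - 1) with hlt | hge
        · obtain ⟨q, hq⟩ := hp.out.dvd_choose_self (by omega : j + 1 ≠ 0) (by omega)
          rw [hq, mul_comm, mul_smul, ih (i + 1) _ (by omega) (by omega)
            ((hF _ _).2 (hanti (by omega) ((hF _ _).1 (hτn j i v hv)))), smul_zero]
        · rw [hFbot (i + j) _ (by omega) (hτn j i v hv), smul_zero]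
      · intro h0; exact absurd (Finset.mem_range.2 hp.out.pos) h0
  intro a ha
  have := hexp (k + 1) (k - 1) (Additive.ofMul (⟨a, ha⟩ : A)) (by omega) le_rfl (hF0 _)
  exact congrArg (fun v => ((Additive.toMul v : A) : G)) this

end Cfsg.Agent.FGB.MaxClass
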