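import Mathlib
import Cfsg.Agent.Lib.FGB.MaxClassFiltration
import Cfsg.Agent.Lib.FGB.MaxClassRank

/-! Layers and two-step centralizers in p-groups of maximal class. -/

set_option autoImplicit false

namespace Cfsg.Agent.FGB.MaxClass

open Subgroup
open scoped commutatorElement

universe u

variable {p : ℕ} [hp : Fact p.Prime] {G : Type u} [Group G]

theorem comm_mem_succ {i : ℕ} {u : G} (hu : u ∈ (⊤ : Subgroup G).lowerCentralSeries i) (g : G) :
    ⁅u, g⁆ ∈ (⊤ : Subgroup G).lowerCentralSeries (i + 1) := by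
  rw [Subgroup.lowerCentralSeries_succ]
  exact commutator_mem_commutator hu (mem_top g)

/-- The quotient map by a term of the lower central series. -/
abbrev layerMap (G : Type u) [Group G] (i : ℕ) : G →* G ⧸ (⊤ : Subgroup G).lowerCentralSeries i :=
  QuotientGroup.mk' _

theorem layer_eq_one_iff {i : ℕ} {x : G} :
    layerMap G i x = 1 ↔ x ∈ (⊤ : Subgroup G).lowerCentralSeries i := QuotientGroup.eq_one_iff x

theorem layer_commute {i : ℕ} {z : G} (hz : z ∈ (⊤ : Subgroup G).lowerCentralSeries i) (x : G) :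
    Commute (layerMap G (i + 1) z) (layerMap G (i + 1) x) := by
  rw [← commutatorElement_eq_one_iff_commute, ← map_commutatorElement, layer_eq_one_iff]
  exact comm_mem_succ hz x

theorem layer_comm_mul_right {j : ℕ} {u : G} (hu : u ∈ (⊤ : Subgroup G).lowerCentralSeries j) (x y : G) :
    layerMap G (j + 2) ⁅u, x * y⁆ = layerMap G (j + 2) ⁅u, x⁆ * layerMap G (j + 2) ⁅u, y⁆ := by
  rw [show ⁅u, x * y⁆ = ⁅u, x⁆ * (x * ⁅u, y⁆ * x⁻¹) by simp only [commutatorElement_def]; group, map_mul,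
    map_mul, map_mul, ← (layer_commute (comm_mem_succ hu y) x).eq, map_inv, mul_inv_cancel_right]

theorem layer_comm_mul_left {j : ℕ} {v : G} (hv : v ∈ (⊤ : Subgroup G).lowerCentralSeries j) (u x : G) :
    layerMap G (j + 2) ⁅u * v, x⁆ = layerMap G (j + 2) ⁅v, x⁆ * layerMap G (j + 2) ⁅u, x⁆ := by
  rw [show ⁅u * v, x⁆ = (u * ⁅v, x⁆ * u⁻¹) * ⁅u, x⁆ by simp only [commutatorElement_def]; group, map_mul,
    map_mul, map_mul, ← (layer_commute (comm_mem_succ hv x) u).eq, map_inv, mul_inv_cancel_right]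

theorem layer_comm_eq_one {j : ℕ} {w : G} (hw : w ∈ (⊤ : Subgroup G).lowerCentralSeries (j + 1)) (x : G) :
    layerMap G (j + 2) ⁅w, x⁆ = 1 := layer_eq_one_iff.2 (comm_mem_succ hw x)

/-- Commutation with a fixed element of a layer is a homomorphism to the next layer. -/
def commHom (G : Type u) [Group G] (j : ℕ) (u : (⊤ : Subgroup G).lowerCentralSeries j) :
    G →* G ⧸ (⊤ : Subgroup G).lowerCentralSeries (j + 2) :=
  MonoidHom.mk' (fun x => layerMap G (j + 2) ⁅(u : G), x⁆) (layer_comm_mul_right u.2)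

/-- Commutation with a fixed element is a homomorphism on a layer. -/
def commHomLeft (G : Type u) [Group G] (j : ℕ) (x : G) :
    (⊤ : Subgroup G).lowerCentralSeries j →* G ⧸ (⊤ : Subgroup G).lowerCentralSeries (j + 2) :=
  MonoidHom.mk' (fun u => layerMap G (j + 2) ⁅(u : G), x⁆) fun u v => by
    show layerMap G (j + 2) ⁅(u : G) * v, x⁆ = _
    rw [layer_comm_mul_left v.2]
    exact (layer_commute (comm_mem_succ v.2 x) ⁅(u : G), x⁆).eq

/-- The two-step centralizer. -/
def twoStep (G : Type u) [Group G] (i : ℕ) : Subgroup G :=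
  ⨅ u : (⊤ : Subgroup G).lowerCentralSeries i, (commHom G i u).ker

theorem mem_twoStep {i : ℕ} {s : G} :
    s ∈ twoStep G i ↔ ∀ u ∈ (⊤ : Subgroup G).lowerCentralSeries i,
      ⁅u, s⁆ ∈ (⊤ : Subgroup G).lowerCentralSeries (i + 2) := by
  simp only [twoStep, mem_iInf, MonoidHom.mem_ker, Subtype.forall]
  exact forall₂_congr fun u hu => layer_eq_one_iff

theorem IsMax.twoStep_ne_top [Finite G] {n : ℕ} (h : IsMax p n G) {i : ℕ} (hi : i + 3 ≤ n) :
    twoStep G i ≠ ⊤ := by
  intro htop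
  have hle : (⊤ : Subgroup G).lowerCentralSeries (i + 1) ≤ (⊤ : Subgroup G).lowerCentralSeries (i + 2) := by
    rw [Subgroup.lowerCentralSeries_succ, commutator_le]
    exact fun u hu g _ => mem_twoStep.1 (htop ▸ mem_top g) u hu
  have h1 := Subgroup.card_le_of_le hle
  rw [h.lcs_card (i + 1) (by omega) (by omega), h.lcs_card (i + 2) (by omega) (by omega),
    Nat.pow_le_pow_iff_right hp.out.one_lt] at h1
  omega

theorem IsMax.step [Finite G] {n : ℕ} (h : IsMax p n G) {i : ℕ} (hi : 1 ≤ i) (hi' : i + 2 ≤ n) {s : G}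
    (hs : s ∉ twoStep G i) {a : G} (ha : a ∈ (⊤ : Subgroup G).lowerCentralSeries i)
    (ha' : a ∉ (⊤ : Subgroup G).lowerCentralSeries (i + 1)) :
    ⁅a, s⁆ ∉ (⊤ : Subgroup G).lowerCentralSeries (i + 2) := by
  intro hbad
  refine hs (mem_twoStep.2 fun u hu => ?_)
  obtain ⟨z, w, hw, rfl⟩ := h.exists_zpow_mul hi (by omega) ha ha' hu
  rw [← layer_eq_one_iff] at hbad ⊢
  rw [layer_comm_mul_left ((⊤ : Subgroup G).lowerCentralSeries_antitone (Nat.le_succ i) hw),
    layer_comm_eq_one hw, one_mul]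
  have := map_zpow (commHomLeft G i s) ⟨a, ha⟩ z
  refine this.trans ?_
  show layerMap G (i + 2) ⁅a, s⁆ ^ z = 1
  rw [hbad, one_zpow]

/-- An element commuting with `s` lies deep when `s` avoids the two-step centralizers. -/
theorem IsMax.commute_deep [Finite G] {n : ℕ} (h : IsMax p n G) {m : ℕ} {s g : G} (hm : m + 2 ≤ n)
    (hs : ∀ i, 1 ≤ i → i ≤ m → s ∉ twoStep G i) (hg : g ∈ (⊤ : Subgroup G).lowerCentralSeries 1)
    (hc : Commute g s) : g ∈ (⊤ : Subgroup G).lowerCentralSeries (m + 1) := by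
  suffices H : ∀ i, i ≤ m → g ∈ (⊤ : Subgroup G).lowerCentralSeries (i + 1) from H m le_rfl
  intro i
  induction i with
  | zero => exact fun _ => hg
  | succ i ih =>
    intro hi
    by_contra hn
    refine h.step (i := i + 1) (by omega) (by omega) (hs _ (by omega) hi) (ih (by omega)) hn ?_
    rw [commutatorElement_eq_one_iff_commute.2 hc]
    exact one_mem _

end Cfsg.Agent.FGB.MaxClass
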