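import Mathlib

/-! The wreath product of two groups of prime order, with its filtration. -/

set_option autoImplicit false

namespace Cfsg.Agent.FGB.Wreath

variable (p : ℕ) [hp : Fact p.Prime]

abbrev Vec := ZMod p → ZMod p

/-- Translation by `k`. -/
def shift (k : ZMod p) : Module.End (ZMod p) (Vec p) where
  toFun f := fun i => f (i - k)
  map_add' _ _ := rfl
  map_smul' _ _ := rfl

theorem shift_apply (k : ZMod p) (f : Vec p) (i : ZMod p) : shift p k f i = f (i - k) := rfl

theorem shift_add (k l : ZMod p) : shift p (k + l) = shift p k * shift p l :=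
  LinearMap.ext fun f => funext fun i => by
    show f (i - (k + l)) = f (i - k - l)
    rw [sub_sub]

theorem shift_zero : shift p 0 = 1 :=
  LinearMap.ext fun f => funext fun i => by
    show f (i - 0) = f i
    rw [sub_zero]

theorem shift_pow : ∀ n : ℕ, shift p 1 ^ n = shift p (n : ZMod p)
  | 0 => by rw [pow_zero, Nat.cast_zero, shift_zero]
  | n + 1 => by rw [pow_succ, shift_pow n, Nat.cast_succ, shift_add]

/-- One minus the shift. -/
def tau : Module.End (ZMod p) (Vec p) := 1 - shift p 1

theorem tau_apply (v : Vec p) : tau p v = v - shift p 1 v := rfl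

theorem shift_comm_tau (k : ZMod p) : Commute (shift p k) (tau p) := by
  refine (Commute.one_right _).sub_right ?_
  show shift p k * shift p 1 = shift p 1 * shift p k
  rw [← shift_add, ← shift_add, add_comm]

theorem shift_tau_pow (k : ZMod p) (j : ℕ) (v : Vec p) :
    shift p k ((tau p ^ j) v) = (tau p ^ j) (shift p k v) :=
  congrArg (fun f : Module.End (ZMod p) (Vec p) => f v) ((shift_comm_tau p k).pow_right j).eq

theorem tau_pow_p : tau p ^ p = 0 := by
  have hinj : Function.Injective (algebraMap (ZMod p) (Module.End (ZMod p) (Vec p))) :=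
    (algebraMap (ZMod p) (Module.End (ZMod p) (Vec p))).injective
  haveI : CharP (Module.End (ZMod p) (Vec p)) p := charP_of_injective_algebraMap hinj p
  rw [tau, sub_pow_char_of_commute _ (Commute.one_left _), one_pow, shift_pow, ZMod.natCast_self, shift_zero,
    sub_self]

theorem sub_shift (k : ZMod p) (v : Vec p) :
    ∃ w, v - shift p k v = k • tau p v + (tau p ^ 2) w := by
  suffices H : ∀ n : ℕ, ∀ v : Vec p, ∃ w, v - shift p (n : ZMod p) v = (n : ZMod p) • tau p v + (tau p ^ 2) w by
    have := H k.val v
    rwa [ZMod.natCast_zmod_val] at this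
  intro n
  induction n with
  | zero =>
    intro v
    refine ⟨0, ?_⟩
    rw [Nat.cast_zero, shift_zero, map_zero, zero_smul, add_zero]
    exact sub_self v
  | succ n ih =>
    intro v
    obtain ⟨w, hw⟩ := ih v
    obtain ⟨w', hw'⟩ := ih (tau p v)
    refine ⟨w - (n : ZMod p) • v - w', ?_⟩
    have e : v - shift p ((n + 1 : ℕ) : ZMod p) v =
        (v - shift p (n : ZMod p) v) + (tau p v - (tau p v - shift p (n : ZMod p) (tau p v))) := by
      have : shift p ((n + 1 : ℕ) : ZMod p) v = shift p (n : ZMod p) (shift p 1 v) := by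
        rw [Nat.cast_succ, shift_add]; rfl
      rw [this, tau_apply, map_sub]
      abel
    rw [e, hw, hw', Nat.cast_succ, add_smul, one_smul, map_sub, map_sub, map_smul]
    have h2 : (tau p ^ 2) v = tau p (tau p v) := by rw [pow_two]; rfl
    rw [h2]
    abel

/-- The shift as an action on the multiplicative version of the vectors. -/
def act : Multiplicative (ZMod p) →* MulAut (Multiplicative (Vec p)) where
  toFun k :=
    { toFun := fun v => Multiplicative.ofAdd (shift p k.toAdd v.toAdd)
      invFun := fun v => Multiplicative.ofAdd (shift p (-k.toAdd) v.toAdd)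
      left_inv := fun v => by
        show Multiplicative.ofAdd (shift p (-k.toAdd) (shift p k.toAdd v.toAdd)) = v
        rw [← Module.End.mul_apply, ← shift_add, neg_add_cancel, shift_zero]
        rfl
      right_inv := fun v => by
        show Multiplicative.ofAdd (shift p k.toAdd (shift p (-k.toAdd) v.toAdd)) = v
        rw [← Module.End.mul_apply, ← shift_add, add_neg_cancel, shift_zero]
        rfl
      map_mul' := fun u v => by
        show Multiplicative.ofAdd (shift p k.toAdd (u.toAdd + v.toAdd)) = _
        rw [map_add, ofAdd_add] }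
  map_one' := MulEquiv.ext fun v => by
    show Multiplicative.ofAdd (shift p 0 v.toAdd) = v
    rw [shift_zero]; rfl
  map_mul' k l := MulEquiv.ext fun v => by
    show Multiplicative.ofAdd (shift p (k.toAdd + l.toAdd) v.toAdd) = _
    rw [shift_add]; rfl

abbrev W := Multiplicative (Vec p) ⋊[act p] Multiplicative (ZMod p)

theorem act_apply (k : Multiplicative (ZMod p)) (v : Multiplicative (Vec p)) :
    (act p k v).toAdd = shift p k.toAdd v.toAdd := rfl

/-- The basic vector. -/
def e0 : Vec p := Pi.single 0 1

def gen : W p := SemidirectProduct.inl (Multiplicative.ofAdd (e0 p))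

def top : W p := SemidirectProduct.inr (Multiplicative.ofAdd 1)

theorem comm_right (y g : W p) (hy : y.right = 1) :
    (y * g * y⁻¹ * g⁻¹).right = 1 ∧
      (y * g * y⁻¹ * g⁻¹).left.toAdd = y.left.toAdd - shift p g.right.toAdd y.left.toAdd := by
  constructor
  · simp [hy]
  · simp only [SemidirectProduct.mul_left, SemidirectProduct.inv_left, SemidirectProduct.mul_right,
      SemidirectProduct.inv_right, hy, one_mul, inv_one, mul_one, map_one, MulAut.one_apply,
      toAdd_mul, toAdd_inv, act_apply, map_neg]
    rw [← Module.End.mul_apply, ← shift_add, add_neg_cancel, shift_zero]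
    simp only [Module.End.one_apply]
    abel

theorem gen_mul_top_pow_left : ∀ n : ℕ, ((gen p * top p) ^ n).left.toAdd =
    ∑ i ∈ Finset.range n, shift p (i : ZMod p) (e0 p) ∧
      ((gen p * top p) ^ n).right.toAdd = (n : ZMod p)
  | 0 => by simp
  | n + 1 => by
    obtain ⟨h1, h2⟩ := gen_mul_top_pow_left n
    rw [pow_succ, SemidirectProduct.mul_left, SemidirectProduct.mul_right, toAdd_mul, toAdd_mul, h1, h2,
      Finset.sum_range_succ, act_apply, h2]
    simp [gen, top]

theorem ones_ne : (∑ i ∈ Finset.range p, shift p (i : ZMod p) (e0 p)) ≠ 0 := by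
  intro h
  have h0 := congrFun h 0
  rw [Finset.sum_apply, Finset.sum_eq_single 0] at h0
  · simp [shift_apply, e0] at h0
  · intro i hi hi0
    rw [shift_apply, e0, zero_sub, Pi.single_eq_of_ne]
    rw [neg_ne_zero, Ne, ZMod.natCast_eq_zero_iff]
    intro hd
    have := Nat.le_of_dvd (Nat.pos_of_ne_zero hi0) hd
    rw [Finset.mem_range] at hi
    omega
  · intro h0'
    exact absurd (Finset.mem_range.2 hp.out.pos) h0'

end Cfsg.Agent.FGB.Wreath
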