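import Mathlib
import Cfsg.Agent.Lib.FGB.MaxClassLayers
import Cfsg.Agent.Lib.FGB.WreathModel

/-! A group of maximal class of order `p ^ (p + 1)` does not have exponent `p`. -/

set_option autoImplicit false

namespace Cfsg.Agent.FGB.MaxClass

open Subgroup Polynomial
open scoped commutatorElement

universe u

variable {p : ℕ} [hp : Fact p.Prime]

theorem pow_val_add {Q : Type u} [Group Q] {A : Q} (hA : A ^ p = 1) (e f : ZMod p) :
    A ^ (e + f).val = A ^ e.val * A ^ f.val := by
  rw [← pow_add, ZMod.val_add, ← pow_mod_orderOf A (e.val + f.val)]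
  conv_lhs => rw [← pow_mod_orderOf]
  rw [Nat.mod_mod_of_dvd _ (orderOf_dvd_of_pow_eq_one hA)]

theorem pow_val_mul {Q : Type u} [Group Q] {A : Q} (hA : A ^ p = 1) (e f : ZMod p) :
    (A ^ e.val) ^ f.val = A ^ (e * f).val := by
  rw [← pow_mul, ZMod.val_mul, ← pow_mod_orderOf A (e.val * f.val)]
  conv_rhs => rw [← pow_mod_orderOf]
  rw [Nat.mod_mod_of_dvd _ (orderOf_dvd_of_pow_eq_one hA)]

theorem zpow_eq_pow_val {Q : Type u} [Group Q] {A : Q} (hA : A ^ p = 1) (k : ℤ) :
    A ^ k = A ^ (k : ZMod p).val := by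
  rw [← zpow_natCast, zpow_eq_zpow_iff_modEq]
  refine Int.ModEq.of_dvd (Int.natCast_dvd_natCast.2 (orderOf_dvd_of_pow_eq_one hA)) ?_
  rw [ZMod.val_intCast]
  exact (Int.mod_modEq k p).symm

/-- A group of maximal class of order `p ^ (p + 1)` has an element of order bigger than `p`. -/
theorem IsMax.exists_pow_ne_one {G : Type u} [Group G] [Finite G] (h : IsMax p (p + 1) G) :
    ∃ x : G, x ^ p ≠ 1 := by
  by_contra hall
  push Not at hall
  have hp2 := hp.out.two_le
  let L : ℕ → Subgroup G := fun i => (⊤ : Subgroup G).lowerCentralSeries i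
  obtain ⟨s, hs⟩ := exists_avoid h.isPGroup (Finset.range (p - 1)) (twoStep G)
    (by rw [Finset.card_range]; omega) fun i hi => h.twoStep_ne_top (by rw [Finset.mem_range] at hi; omega)
  obtain ⟨a, ha⟩ : ∃ a : G, ⁅a, s⁆ ∉ L 2 := by
    by_contra hh
    push Not at hh
    exact hs 0 (Finset.mem_range.2 (by omega)) (mem_twoStep.2 fun u _ => hh u)
  let seq : ℕ → G := fun j => Nat.rec a (fun _ x => ⁅x, s⁆) j
  have hseq_succ : ∀ j, seq (j + 1) = ⁅seq j, s⁆ := fun _ => rfl
  have hseq : ∀ j, seq j ∈ L j := by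
    intro j
    induction j with
    | zero => exact mem_top a
    | succ j ih => rw [hseq_succ]; exact comm_mem_succ ih s
  have hseq' : ∀ j, 1 ≤ j → j ≤ p - 1 → seq j ∉ L (j + 1) := by
    intro j hj1
    induction j with
    | zero => omega
    | succ j ih =>
      intro hjp
      rcases Nat.eq_zero_or_pos j with rfl | hj0
      · exact ha
      · exact h.step hj0 (by omega) (hs j (Finset.mem_range.2 (by omega))) (hseq j) (ih hj0 (by omega))
  let pw : ∀ j : ℕ, ZMod p → G ⧸ L (j + 1) := fun j e => (layerMap G (j + 1) (seq j)) ^ e.val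
  have hA : ∀ j, (layerMap G (j + 1) (seq j)) ^ p = 1 := fun j => by rw [← map_pow, hall, map_one]
  have pw_add : ∀ j e f, pw j (e + f) = pw j e * pw j f := fun j e f => pow_val_add (hA j) e f
  have pw_mul : ∀ j e f, pw j e ^ f.val = pw j (e * f) := fun j e f => pow_val_mul (hA j) e f
  have pw_zero : ∀ j, pw j 0 = 1 := fun j => by
    show _ ^ (0 : ZMod p).val = _
    rw [ZMod.val_zero, pow_zero]
  have pw_one : ∀ j, pw j 1 = layerMap G (j + 1) (seq j) := fun j => by
    show _ ^ (1 : ZMod p).val = _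
    rw [ZMod.val_one, pow_one]
  have pw_neg : ∀ j e, pw j (-e) = (pw j e)⁻¹ := fun j e => by
    rw [eq_inv_iff_mul_eq_one, ← pw_add, neg_add_cancel, pw_zero]
  -- transport along an element congruent to a power of `seq j`
  have htrans : ∀ j y (f : ZMod p) (g : G), layerMap G (j + 1) y = pw j f →
      y ∈ L j ∧ layerMap G (j + 2) ⁅y, g⁆ = layerMap G (j + 2) ⁅seq j, g⁆ ^ f.val := by
    intro j y f g hy
    have hy' : layerMap G (j + 1) ((seq j ^ f.val)⁻¹ * y) = 1 := by
      rw [map_mul, map_inv, map_pow, hy, inv_mul_cancel]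
    rw [layer_eq_one_iff] at hy'
    have e : y = seq j ^ f.val * ((seq j ^ f.val)⁻¹ * y) := by group
    have hw : (seq j ^ f.val)⁻¹ * y ∈ L j := (⊤ : Subgroup G).lowerCentralSeries_antitone (Nat.le_succ j) hy'
    refine ⟨e ▸ mul_mem (pow_mem (hseq j) _) hw, ?_⟩
    conv_lhs => rw [e]
    rw [layer_comm_mul_left hw, layer_comm_eq_one hy', one_mul]
    exact map_pow (commHomLeft G j g) ⟨seq j, hseq j⟩ f.val
  -- the group of pairs
  let abar : (ZMod p → G) × Wreath.W p := (fun c => a ^ c.val, Wreath.gen p)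
  let sbar : (ZMod p → G) × Wreath.W p := (fun _ => s, Wreath.top p)
  let Y : Subgroup ((ZMod p → G) × Wreath.W p) := closure {abar, sbar}
  have haY : abar ∈ Y := subset_closure (Set.mem_insert abar _)
  have hsY : sbar ∈ Y := subset_closure (Set.mem_insert_of_mem abar rfl)
  -- linear behaviour of the generated group on the layers
  have hlin : ∀ j, 1 ≤ j → ∀ g ∈ Y, ∃ β : ZMod p, ∀ c : ZMod p,
      layerMap G (j + 2) ⁅seq j, g.1 c⁆ = pw (j + 1) (g.2.right.toAdd + β * c) := by
    intro j hj g hg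
    induction hg using closure_induction with
    | mem g hg =>
      rcases hg with rfl | hg
      · obtain ⟨e, he⟩ : ∃ e : ZMod p, layerMap G (j + 2) ⁅seq j, a⁆ = pw (j + 1) e := by
          have hm : ⁅seq j, a⁆ ∈ L (j + 1) := comm_mem_succ (hseq j) a
          rcases Nat.lt_or_ge (j + 1) p with hlt | hge
          · obtain ⟨z, w, hw, he⟩ := h.exists_zpow_mul (i := j + 1) (by omega) (by omega) (hseq (j + 1))
              (hseq' (j + 1) (by omega) (by omega)) hm
            refine ⟨(z : ZMod p), ?_⟩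
            rw [he, map_mul, layer_eq_one_iff.2 hw, mul_one, map_zpow]
            exact zpow_eq_pow_val (hA (j + 1)) z
          · refine ⟨0, ?_⟩
            have hb : L (j + 1) = ⊥ := h.lcs_bot_of_le (by omega)
            rw [hb, mem_bot] at hm
            rw [hm, map_one, pw_zero]
        refine ⟨e, fun c => ?_⟩
        show layerMap G (j + 2) ⁅seq j, a ^ c.val⁆ = _
        have hh := map_pow (commHom G j ⟨seq j, hseq j⟩) a c.val
        refine hh.trans ?_
        show layerMap G (j + 2) ⁅seq j, a⁆ ^ c.val = _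
        rw [he, pw_mul]
        congr 1
        simp [abar, Wreath.gen]
      · rw [Set.mem_singleton_iff] at hg
        subst hg
        refine ⟨0, fun c => ?_⟩
        show layerMap G (j + 2) ⁅seq j, s⁆ = pw (j + 1) ((1 : ZMod p) + 0 * c)
        rw [zero_mul, add_zero, pw_one, hseq_succ]
    | one =>
      refine ⟨0, fun c => ?_⟩
      show layerMap G (j + 2) ⁅seq j, (1 : G)⁆ = pw (j + 1) ((0 : ZMod p) + 0 * c)
      rw [zero_mul, add_zero, pw_zero, commutatorElement_one_right, map_one]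
    | mul g g' _ _ ih ih' =>
      obtain ⟨β, hb⟩ := ih
      obtain ⟨β', hb'⟩ := ih'
      refine ⟨β + β', fun c => ?_⟩
      show layerMap G (j + 2) ⁅seq j, g.1 c * g'.1 c⁆ = _
      rw [layer_comm_mul_right (hseq j), hb, hb', ← pw_add, Prod.snd_mul, SemidirectProduct.mul_right, toAdd_mul]
      congr 1; ring
    | inv g _ ih =>
      obtain ⟨β, hb⟩ := ih
      refine ⟨-β, fun c => ?_⟩
      show layerMap G (j + 2) ⁅seq j, (g.1 c)⁻¹⁆ = _
      refine (map_inv (commHom G j ⟨seq j, hseq j⟩) (g.1 c)).trans ?_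
      show (layerMap G (j + 2) ⁅seq j, g.1 c⁆)⁻¹ = _
      rw [hb, Prod.snd_inv, SemidirectProduct.inv_right, toAdd_inv, ← pw_neg]
      congr 1; ring
  -- the graded components
  let Pred : ℕ → (ZMod p → G) × Wreath.W p → Prop := fun j y => ∃ (P : (ZMod p)[X]) (m : ZMod p),
    P.natDegree ≤ j ∧ P.coeff 0 = 0 ∧ P.coeff 1 = m ∧ (∀ c, layerMap G (j + 1) (y.1 c) = pw j (P.eval c)) ∧
    y.2.right = 1 ∧ ∃ w, y.2.left.toAdd = m • (Wreath.tau p ^ j) (Wreath.e0 p) + (Wreath.tau p ^ (j + 1)) w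
  let S : ℕ → Subgroup ((ZMod p → G) × Wreath.W p) := fun j =>
    { carrier := {y | Pred j y}
      one_mem' := ⟨0, 0, by simp, by simp, by simp, fun c => by rw [eval_zero, pw_zero]; exact map_one _, rfl, 0, by simp⟩
      mul_mem' := by
        rintro y y' ⟨P, m, h1, h2, h3, h4, h5, w, h6⟩ ⟨P', m', h1', h2', h3', h4', h5', w', h6'⟩
        refine ⟨P + P', m + m', (natDegree_add_le _ _).trans (max_le h1 h1'), by simp [h2, h2'],
          by simp [h3, h3'], fun c => ?_, by simp [h5, h5'], w + w', ?_⟩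
        · show layerMap G (j + 1) (y.1 c * y'.1 c) = _
          rw [map_mul, h4, h4', eval_add, pw_add]
        · simp only [Prod.snd_mul, SemidirectProduct.mul_left, h5, map_one, MulAut.one_apply, toAdd_mul, h6, h6',
            map_add, add_smul]
          abel
      inv_mem' := by
        rintro y ⟨P, m, h1, h2, h3, h4, h5, w, h6⟩
        refine ⟨-P, -m, by simpa using h1, by simp [h2], by simp [h3], fun c => ?_, by simp [h5], -w, ?_⟩
        · show layerMap G (j + 1) (y.1 c)⁻¹ = _
          rw [map_inv, h4, eval_neg, pw_neg]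
        · simp only [Prod.snd_inv, SemidirectProduct.inv_left, h5, inv_one, map_one, MulAut.one_apply, toAdd_inv, h6,
            map_neg, neg_smul]
          abel }
  have hstep : ∀ j, 1 ≤ j → ∀ y ∈ S j, ∀ g ∈ Y, ⁅y, g⁆ ∈ S (j + 1) := by
    rintro j hj y ⟨P, m, h1, h2, h3, h4, h5, w, h6⟩ g hg
    obtain ⟨β, hβ⟩ := hlin j hj g hg
    set α := g.2.right.toAdd with hα
    have hW := Wreath.comm_right p y.2 g.2 h5
    obtain ⟨w1, hw1⟩ := Wreath.sub_shift p α (Wreath.e0 p)
    obtain ⟨w2, hw2⟩ := Wreath.sub_shift p α w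
    refine ⟨P * (C α + C β * Polynomial.X), m * α, ?_, ?_, ?_, fun c => ?_, ?_, m • w1 + α • w + Wreath.tau p w2, ?_⟩
    · refine natDegree_mul_le.trans (Nat.add_le_add h1 ?_)
      exact (natDegree_add_le _ _).trans (max_le (by simp) ((natDegree_C_mul_le _ _).trans natDegree_X_le))
    · simp [mul_coeff_zero, h2]
    · simp [mul_add, coeff_add, ← mul_assoc, coeff_mul_X, coeff_mul_C, h2, h3]
    · show layerMap G (j + 2) ⁅y.1 c, g.1 c⁆ = _
      rw [(htrans j (y.1 c) (P.eval c) (g.1 c) (h4 c)).2, hβ, pw_mul]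
      congr 1
      simp only [eval_mul, eval_add, eval_C, eval_X]
      ring
    · exact hW.1
    · show (y.2 * g.2 * y.2⁻¹ * g.2⁻¹).left.toAdd = _
      rw [hW.2, h6, ← hα, map_add, map_smul, Wreath.shift_tau_pow, Wreath.shift_tau_pow,
        show ∀ A B A' B' : Wreath.Vec p, A + B - (A' + B') = (A - A') + (B - B') from fun _ _ _ _ => by abel,
        ← smul_sub, ← map_sub, ← map_sub, hw1, hw2]
      simp only [map_add, map_smul, ← Module.End.mul_apply, ← pow_add, ← pow_succ, smul_add, smul_smul]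
      rw [show j + 1 + 2 = j + 1 + 1 + 1 by omega, show j + 2 = j + 1 + 1 by omega]
      abel
  have hdown : ∀ y ∈ S 2, y ∈ S 1 := by
    rintro y ⟨P, m, h1, h2, h3, h4, h5, w, h6⟩
    refine ⟨0, 0, by simp, by simp, by simp, fun c => ?_, h5, m • Wreath.e0 p + Wreath.tau p w, ?_⟩
    · rw [eval_zero, pw_zero, layer_eq_one_iff]
      exact (htrans 2 (y.1 c) (P.eval c) 1 (h4 c)).1
    · rw [h6, zero_smul, zero_add, map_add, map_smul, ← Module.End.mul_apply (Wreath.tau p ^ 2) (Wreath.tau p),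
        ← pow_succ]
  -- the derived group sits in the first component
  have hconj : ∀ y ∈ S 1, ∀ g ∈ Y, g * y * g⁻¹ ∈ S 1 := by
    intro y hy g hg
    have := mul_mem (inv_mem (hdown _ (hstep 1 le_rfl y hy g hg))) hy
    rwa [show ⁅y, g⁆⁻¹ * y = g * y * g⁻¹ by rw [commutatorElement_def]; group] at this
  have hbase : ⁅abar, sbar⁆ ∈ S 1 := by
    obtain ⟨h1, h2⟩ := Wreath.comm_right p (Wreath.gen p) (Wreath.top p) rfl
    refine ⟨Polynomial.X, 1, natDegree_X_le, by simp, by simp, fun c => ?_, h1, 0, ?_⟩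
    · show layerMap G 2 ⁅a ^ c.val, s⁆ = pw 1 ((Polynomial.X : (ZMod p)[X]).eval c)
      rw [eval_X]
      exact map_pow (commHomLeft G 0 s) ⟨a, mem_top a⟩ c.val
    · show (Wreath.gen p * Wreath.top p * (Wreath.gen p)⁻¹ * (Wreath.top p)⁻¹).left.toAdd = _
      rw [h2, one_smul, map_zero, add_zero, pow_one, Wreath.tau_apply]
      rfl
  have hder : ∀ g ∈ Y, ∀ g' ∈ Y, ⁅g, g'⁆ ∈ S 1 := by
    intro g hg g' hg'
    induction hg, hg' using closure_induction₂ with
    | mem x y hx hy =>
      rcases hx with rfl | hx <;> rcases hy with rfl | hy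
      · rw [commutatorElement_self]; exact one_mem _
      · rw [Set.mem_singleton_iff.1 hy]; exact hbase
      · rw [Set.mem_singleton_iff.1 hx, ← commutatorElement_inv]; exact inv_mem hbase
      · rw [Set.mem_singleton_iff.1 hx, Set.mem_singleton_iff.1 hy, commutatorElement_self]; exact one_mem _
    | one_left x hx => rw [commutatorElement_one_left]; exact one_mem _
    | one_right x hx => rw [commutatorElement_one_right]; exact one_mem _
    | mul_left x y z hx hy hz h1 h2 =>
      rw [show ⁅x * y, z⁆ = (x * ⁅y, z⁆ * x⁻¹) * ⁅x, z⁆ by simp only [commutatorElement_def]; group]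
      exact mul_mem (hconj _ h2 _ hx) h1
    | mul_right x y z hx hy hz h1 h2 =>
      rw [show ⁅z, x * y⁆ = ⁅z, x⁆ * (x * ⁅z, y⁆ * x⁻¹) by simp only [commutatorElement_def]; group]
      exact mul_mem h1 (hconj _ h2 _ hx)
    | inv_left x y hx hy h1 =>
      rw [show ⁅x⁻¹, y⁆ = x⁻¹ * ⁅x, y⁆⁻¹ * x⁻¹⁻¹ by simp only [commutatorElement_def]; group]
      exact hconj _ (inv_mem h1) _ (inv_mem hx)
    | inv_right x y hx hy h1 =>
      rw [show ⁅x, y⁻¹⁆ = y⁻¹ * ⁅x, y⁆⁻¹ * y⁻¹⁻¹ by simp only [commutatorElement_def]; group]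
      exact hconj _ (inv_mem h1) _ (inv_mem hy)
  have hlcs : ∀ j, ∀ y ∈ (⊤ : Subgroup Y).lowerCentralSeries (j + 1), (y : _) ∈ (S (j + 1)).comap Y.subtype := by
    intro j
    induction j with
    | zero =>
      rw [← SetLike.le_def, Subgroup.lowerCentralSeries_succ, Subgroup.lowerCentralSeries_zero, commutator_le]
      intro g _ g' _
      rw [mem_comap, map_commutatorElement]
      exact hder g g.2 g' g'.2
    | succ j ih =>
      rw [← SetLike.le_def, Subgroup.lowerCentralSeries_succ, commutator_le]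
      intro y hy g _
      rw [mem_comap, map_commutatorElement]
      exact hstep (j + 1) (by omega) _ (ih y hy) g g.2
  -- the power formula in the quotient
  let N := (⊤ : Subgroup Y).lowerCentralSeries (p - 1)
  have hQ : (⊤ : Subgroup (Y ⧸ N)).lowerCentralSeries (p - 1) = ⊥ := by
    rw [← QuotientGroup.range_mk' N, MonoidHom.range_eq_map, ← Subgroup.map_lowerCentralSeries,
      Subgroup.map_eq_bot_iff, QuotientGroup.ker_mk']
  obtain ⟨d, hd, hde⟩ := FGS.PolySeq.mul_pow_eq hp.out hQ (QuotientGroup.mk' N ⟨abar, haY⟩)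
    (QuotientGroup.mk' N ⟨sbar, hsY⟩)
  have hp_vec : ∀ v : Wreath.Vec p, p • v = 0 := fun v => funext fun i => by simp
  have hd1 : d = 1 := by
    rw [← Subgroup.mem_bot]
    refine (closure_le _).2 ?_ hd
    rintro _ ⟨x, hx, rfl⟩
    rw [← QuotientGroup.range_mk' N, MonoidHom.range_eq_map, ← map_commutator, Subgroup.mem_map] at hx
    obtain ⟨y, hy, rfl⟩ := hx
    rw [← _root_.commutator_def, ← Subgroup.top_lowerCentralSeries_one] at hy
    obtain ⟨P, m, -, -, -, -, h5, w, h6⟩ := hlcs 0 y hy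
    rw [pow_one, SetLike.mem_coe, mem_bot, ← map_pow]
    have : y ^ p = 1 := by
      refine Subtype.ext (Prod.ext (funext fun c => hall _) ?_)
      show (y : (ZMod p → G) × Wreath.W p).2 ^ p = 1
      have e : (y : (ZMod p → G) × Wreath.W p).2 =
          SemidirectProduct.inl ((y : (ZMod p → G) × Wreath.W p).2.left) :=
        SemidirectProduct.ext rfl (by rw [SemidirectProduct.right_inl]; exact h5)
      rw [e, ← map_pow, show ((y : (ZMod p → G) × Wreath.W p).2.left) ^ p = 1 from
        congrArg Multiplicative.ofAdd (hp_vec _), map_one]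
    rw [this, map_one]
  have hpa : (⟨abar, haY⟩ : Y) ^ p = 1 := by
    refine Subtype.ext (Prod.ext (funext fun c => hall _) ?_)
    show Wreath.gen p ^ p = 1
    rw [Wreath.gen, ← map_pow, show (Multiplicative.ofAdd (Wreath.e0 p)) ^ p = 1 from
        congrArg Multiplicative.ofAdd (hp_vec _), map_one]
  have hps : (⟨sbar, hsY⟩ : Y) ^ p = 1 := by
    refine Subtype.ext (Prod.ext (funext fun c => hall _) ?_)
    show Wreath.top p ^ p = 1
    rw [Wreath.top, ← map_pow, show (Multiplicative.ofAdd (1 : ZMod p)) ^ p = 1 from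
        congrArg Multiplicative.ofAdd (by simp : p • (1 : ZMod p) = 0), map_one]
  rw [hd1, mul_one, ← map_pow, ← map_pow, hpa, hps, map_one, mul_one, ← map_mul, ← map_pow,
    QuotientGroup.mk'_apply, QuotientGroup.eq_one_iff] at hde
  have hmem : ((⟨abar, haY⟩ * ⟨sbar, hsY⟩ : Y) ^ p : Y).1 ∈ S (p - 1) := by
    have h1 := hlcs (p - 2) ((⟨abar, haY⟩ * ⟨sbar, hsY⟩ : Y) ^ p) (by rwa [show p - 2 + 1 = p - 1 by omega])
    rwa [show p - 2 + 1 = p - 1 by omega] at h1
  obtain ⟨P, m, h1, h2, h3, h4, -, w, h6⟩ := hmem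
  have hP : P = 0 := by
    refine eq_zero_of_natDegree_lt_card_of_eval_eq_zero P Function.injective_id (fun c => ?_)
      (by rw [ZMod.card]; omega)
    by_contra hne
    have h7 := h4 c
    rw [show ((⟨abar, haY⟩ * ⟨sbar, hsY⟩ : Y) ^ p : Y).1.1 c = (a ^ c.val * s) ^ p from rfl, hall, map_one] at h7
    have hord : orderOf (layerMap G (p - 1 + 1) (seq (p - 1))) = p :=
      orderOf_eq_prime (hA _) fun h8 => hseq' (p - 1) (by omega) le_rfl (layer_eq_one_iff.1 h8)
    have h9 : orderOf (layerMap G (p - 1 + 1) (seq (p - 1))) ∣ (P.eval c).val := orderOf_dvd_of_pow_eq_one h7.symm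
    rw [hord] at h9
    exact hne ((ZMod.val_eq_zero _).1 (Nat.eq_zero_of_dvd_of_lt h9 (ZMod.val_lt _)))
  rw [hP, coeff_zero] at h3
  rw [← h3, zero_smul, zero_add, show p - 1 + 1 = p by omega, Wreath.tau_pow_p, LinearMap.zero_apply] at h6
  refine Wreath.ones_ne p ?_
  rw [← (Wreath.gen_mul_top_pow_left p p).1]
  exact h6

end Cfsg.Agent.FGB.MaxClass
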