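import Mathlib
import Cfsg.Agent.Lib.FGB.MaxClassExponent

/-! The power structure of a p-group of maximal class. -/

set_option autoImplicit false

namespace Cfsg.Agent.FGB.MaxClass

open Subgroup
open scoped commutatorElement

universe u

variable {p : ℕ} [hp : Fact p.Prime]

theorem map_layer {G : Type u} [Group G] (j i : ℕ) :
    ((⊤ : Subgroup G).lowerCentralSeries i).map (layerMap G j) =
      (⊤ : Subgroup (G ⧸ (⊤ : Subgroup G).lowerCentralSeries j)).lowerCentralSeries i := by
  rw [Subgroup.map_lowerCentralSeries, ← MonoidHom.range_eq_map, QuotientGroup.range_mk']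

theorem mem_layer_iff {G : Type u} [Group G] {j i : ℕ} (hij : i ≤ j) {x : G} :
    layerMap G j x ∈ (⊤ : Subgroup (G ⧸ (⊤ : Subgroup G).lowerCentralSeries j)).lowerCentralSeries i ↔
      x ∈ (⊤ : Subgroup G).lowerCentralSeries i := by
  rw [← map_layer, ← Subgroup.mem_comap, Subgroup.comap_map_eq, QuotientGroup.ker_mk',
    sup_eq_left.2 ((⊤ : Subgroup G).lowerCentralSeries_antitone hij)]

theorem regular_iff {G : Type u} [Group G] [Finite G] (hG : IsPGroup p G) {T : Subgroup G}
    (hT : (⊤ : Subgroup T).lowerCentralSeries (p - 1) = ⊥) {a b : G} (ha : a ∈ T) (hb : b ∈ T) :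
    a ^ p = b ^ p ↔ (a * b⁻¹) ^ p = 1 := by
  have := FGS.RegularPow.pow_eq_iff (Invol.SmallClassPow.regular (hG.to_subgroup T) hT) (⟨a, ha⟩ : T) ⟨b, hb⟩ 1
  simpa [pow_one, Subtype.ext_iff] using this

theorem regular_mul {G : Type u} [Group G] [Finite G] (hG : IsPGroup p G) {T : Subgroup G}
    (hT : (⊤ : Subgroup T).lowerCentralSeries (p - 1) = ⊥) {a b : G} (ha : a ∈ T) (hb : b ∈ T)
    (h : a ^ p = 1) : (a * b) ^ p = b ^ p := by
  rw [regular_iff hG hT (mul_mem ha hb) hb, mul_inv_cancel_right, h]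

theorem commutator_zpowers_sup {G : Type u} [Group G] (g : G) (j : ℕ) {a b : G}
    (ha : a ∈ zpowers g ⊔ (⊤ : Subgroup G).lowerCentralSeries j)
    (hb : b ∈ zpowers g ⊔ (⊤ : Subgroup G).lowerCentralSeries j) :
    ⁅a, b⁆ ∈ (⊤ : Subgroup G).lowerCentralSeries (j + 1) := by
  rw [← SetLike.mem_coe, Subgroup.mul_normal, Set.mem_mul] at ha hb
  obtain ⟨x, ⟨z, rfl⟩, u, hu, rfl⟩ := ha
  obtain ⟨y, ⟨z', rfl⟩, v, hv, rfl⟩ := hb
  rw [← layer_eq_one_iff, map_commutatorElement, commutatorElement_eq_one_iff_commute, map_mul, map_mul]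
  have hu' := layer_commute hu
  have hv' := layer_commute hv
  exact (((((Commute.refl g).zpow_zpow z z').map _)).mul_right (hv' _).symm).mul_left
    ((hu' _).mul_right (hu' _))

theorem lcs_le_layer {G : Type u} [Group G] (g : G) (j : ℕ) (T : Subgroup G)
    (hT : T ≤ zpowers g ⊔ (⊤ : Subgroup G).lowerCentralSeries j) : ∀ m,
    ((⊤ : Subgroup T).lowerCentralSeries (m + 1)).map T.subtype ≤
      (⊤ : Subgroup G).lowerCentralSeries (j + (m + 1)) := by
  intro m
  induction m with
  | zero =>
    rw [Subgroup.lowerCentralSeries_succ, Subgroup.lowerCentralSeries_zero, map_commutator, commutator_le]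
    rintro _ ⟨a, -, rfl⟩ _ ⟨b, -, rfl⟩
    exact commutator_zpowers_sup g j (hT a.2) (hT b.2)
  | succ m ih =>
    rw [Subgroup.lowerCentralSeries_succ, map_commutator,
      show j + (m + 1 + 1) = j + (m + 1) + 1 by omega, Subgroup.lowerCentralSeries_succ _ (j + (m + 1))]
    exact commutator_mono ih le_top

theorem lcs_bot_of_map {G : Type u} [Group G] {T : Subgroup G} {m : ℕ}
    (h : ((⊤ : Subgroup T).lowerCentralSeries m).map T.subtype ≤ ⊥) :
    (⊤ : Subgroup T).lowerCentralSeries m = ⊥ :=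
  (Subgroup.map_eq_bot_iff_of_injective _ (subtype_injective T)).1 (le_bot_iff.1 h)

/-- The powers of a layer are deep: the exponent statement. -/
def PropE (p : ℕ) (n : ℕ) : Prop :=
  ∀ (G : Type u) [Group G] [Finite G], IsMax p n G → p + 1 ≤ n →
    ∀ a ∈ (⊤ : Subgroup G).lowerCentralSeries (n - p), a ^ p = 1

/-- The powers of a layer are exact. -/
def PropF (p : ℕ) (n : ℕ) : Prop :=
  ∀ (G : Type u) [Group G] [Finite G], IsMax p n G → p + 2 ≤ n →
    ∀ a ∈ (⊤ : Subgroup G).lowerCentralSeries (n - 1 - p),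
      a ∉ (⊤ : Subgroup G).lowerCentralSeries (n - p) → a ^ p ≠ 1

/-- Uniform elements exist. -/
def PropU (p : ℕ) (n : ℕ) : Prop :=
  ∀ (G : Type u) [Group G] [Finite G], IsMax p n G → 3 ≤ n → ∃ s : G, ∀ i ≤ n - 3, s ∉ twoStep G i

theorem IsMax.small_uniform {G : Type u} [Group G] [Finite G] {n : ℕ} (h : IsMax p n G) (hn : 3 ≤ n) {m : ℕ}
    (hm : m + 1 ≤ p) (hm' : m + 3 ≤ n) : ∃ s : G, ∀ i ≤ m, s ∉ twoStep G i := by
  obtain ⟨s, hs⟩ := exists_avoid h.isPGroup (Finset.range (m + 1)) (twoStep G)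
    (by rw [Finset.card_range]; exact hm) fun i hi => h.twoStep_ne_top (by rw [Finset.mem_range] at hi; omega)
  exact ⟨s, fun i hi => hs i (Finset.mem_range.2 (by omega))⟩

theorem twoStep_map {G : Type u} [Group G] (j i : ℕ) {s : G} (hs : s ∈ twoStep G i) :
    layerMap G j s ∈ twoStep (G ⧸ (⊤ : Subgroup G).lowerCentralSeries j) i := by
  rw [mem_twoStep] at hs ⊢
  intro u hu
  rw [← map_layer] at hu ⊢
  obtain ⟨v, hv, rfl⟩ := hu
  rw [← map_commutatorElement]
  exact Subgroup.mem_map_of_mem _ (hs v hv)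

theorem stepE (n : ℕ) (ih : ∀ m < n, PropU.{u} p m) : PropE.{u} p n := by
  intro G _ _ h hn
  have hp2 := hp.out.two_le
  have hG := h.isPGroup
  let L : ℕ → Subgroup G := fun i => (⊤ : Subgroup G).lowerCentralSeries i
  obtain ⟨s, hs, hxs⟩ : ∃ s : G, (∀ i, i + 4 ≤ n → s ∉ twoStep G i) ∧
      ∀ x ∈ L (n - p - 1), Commute x (s ^ p) := by
    rcases Nat.lt_or_ge (p + 2) n with hlarge | hsmall
    · obtain ⟨sq, hsq⟩ := ih (n - 1) (by omega) (G ⧸ L (n - 2))
        (by have := h.quot (j := n - 2) (by omega) (by omega); rwa [show n - 2 + 1 = n - 1 by omega] at this)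
        (by omega)
      obtain ⟨s, rfl⟩ := QuotientGroup.mk_surjective sq
      have hs : ∀ i, i + 4 ≤ n → s ∉ twoStep G i := fun i hi hmem => hsq i (by omega) (twoStep_map _ _ hmem)
      refine ⟨s, hs, fun x hx => ?_⟩
      have hd := h.commute_deep (m := n - 4) (by omega) (fun i _ hi => hs i (by omega))
        (g := s ^ p) (by rw [Subgroup.top_lowerCentralSeries_one]; exact h.pow_mem_commutator (by omega) s)
        (Commute.pow_self s p)
      have hc := FGS.PolySeq.fil_comm (G := G) (n - 4 + 1 + 1) (n - p - 1 + 1) (commutator_mem_commutator hx hd)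
      rw [show n - p - 1 + 1 + (n - 4 + 1 + 1) = (n - p - 1 + (n - 4 + 1) + 1) + 1 by omega] at hc
      have hc' : ⁅x, s ^ p⁆ ∈ L (n - p - 1 + (n - 4 + 1) + 1) := hc
      rw [show L (n - p - 1 + (n - 4 + 1) + 1) = ⊥ from h.lcs_bot_of_le (by omega), mem_bot] at hc'
      exact commutatorElement_eq_one_iff_commute.1 hc'
    · obtain ⟨s, hs⟩ := h.small_uniform (by omega) (m := n - 3) (by omega) (by omega)
      refine ⟨s, fun i hi => hs i (by omega), fun x _ => ?_⟩
      have hd := h.commute_deep (m := n - 3) (by omega) (fun i _ hi => hs i hi)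
        (g := s ^ p) (by rw [Subgroup.top_lowerCentralSeries_one]; exact h.pow_mem_commutator (by omega) s)
        (Commute.pow_self s p)
      exact (mem_center_iff.1 (h.le_center (show s ^ p ∈ L (n - 2) by rwa [show n - 2 = n - 3 + 1 by omega])) x : _)
  set T := zpowers s ⊔ L (n - p) with hT
  have hTb : (⊤ : Subgroup T).lowerCentralSeries (p - 1) = ⊥ := by
    refine lcs_bot_of_map ?_
    have := lcs_le_layer s (n - p) T le_rfl (p - 2)
    rw [show p - 2 + 1 = p - 1 by omega, h.lcs_bot_of_le (show n - 1 ≤ n - p + (p - 1) by omega)] at this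
    exact this
  suffices H : ∀ d i, i + d = n - 1 → n - p ≤ i → ∀ a ∈ L i, a ^ p = 1 from
    fun a ha => H (p - 1) (n - p) (by omega) le_rfl a ha
  intro d
  induction d with
  | zero =>
    intro i hi _ a ha
    rw [show L i = ⊥ from h.lcs_bot_of_le (by omega), mem_bot] at ha
    rw [ha, one_pow]
  | succ d ihd =>
    intro i hi hi' a ha
    rcases Nat.eq_zero_or_pos d with rfl | hd0
    · have hc := h.lcs_card i (by omega) (by omega)
      rw [show n - 1 - i = 1 by omega, pow_one] at hc
      have h1 := pow_card_eq_one' (x := (⟨a, ha⟩ : L i))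
      rw [show Nat.card (L i) = p from hc] at h1
      exact congrArg Subtype.val h1
    · obtain ⟨x, hx, hc⟩ : ∃ x ∈ L (i - 1), ⁅x, s⁆ ∉ L (i + 1) := by
        by_contra hall
        push Not at hall
        exact hs (i - 1) (by omega) (mem_twoStep.2 fun u hu => by
          rw [show i - 1 + 2 = i + 1 by omega]; exact hall u hu)
      have hcL : ⁅x, s⁆ ∈ L i := by
        have := comm_mem_succ hx s
        rwa [show i - 1 + 1 = i by omega] at this
      have hLT : L i ≤ T := ((⊤ : Subgroup G).lowerCentralSeries_antitone hi').trans le_sup_right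
      have hcp : ⁅x, s⁆ ^ p = 1 := by
        have h1 : (⁅x, s⁆ * s) ^ p = s ^ p := by
          rw [commutatorElement_def, inv_mul_cancel_right, conj_pow,
            (hxs x ((⊤ : Subgroup G).lowerCentralSeries_antitone (by omega) hx)).eq, mul_inv_cancel_right]
        have h2 := (regular_iff hG hTb (mul_mem (hLT hcL) (mem_sup_left (mem_zpowers s)))
          (mem_sup_left (mem_zpowers s))).1 h1
        rwa [mul_inv_cancel_right] at h2
      obtain ⟨z, w, hw, rfl⟩ := h.exists_zpow_mul (i := i) (by omega) (by omega) hcL hc ha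
      rw [regular_mul hG hTb (zpow_mem (hLT hcL) z)
        (hLT ((⊤ : Subgroup G).lowerCentralSeries_antitone (Nat.le_succ i) hw))
        (by rw [← zpow_natCast, ← zpow_mul, mul_comm, zpow_mul, zpow_natCast, hcp, one_zpow])]
      exact ihd (i + 1) (by omega) (by omega) w hw

/-- The group generated by an element with deep power and the next layer has small class. -/
theorem IsMax.deep_class {G : Type u} [Group G] [Finite G] {n : ℕ} (h : IsMax p n G) (hn : p + 2 ≤ n) {x : G}
    (hx1 : x ^ p ∈ (⊤ : Subgroup G).lowerCentralSeries (n - 3))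
    (hx2 : x ^ p ∉ (⊤ : Subgroup G).lowerCentralSeries (n - 2)) :
    (⊤ : Subgroup ↥(zpowers x ⊔ (⊤ : Subgroup G).lowerCentralSeries (n - 1 - p))).lowerCentralSeries (p - 1) = ⊥ := by
  have hp2 := hp.out.two_le
  let L : ℕ → Subgroup G := fun i => (⊤ : Subgroup G).lowerCentralSeries i
  set T := zpowers x ⊔ L (n - 1 - p) with hT
  have hcen : ∀ u ∈ L (n - 3), ∀ t ∈ T, Commute u t := by
    intro u hu t ht
    rw [hT, ← SetLike.mem_coe, Subgroup.mul_normal, Set.mem_mul] at ht
    obtain ⟨y, ⟨z, rfl⟩, v, hv, rfl⟩ := ht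
    refine Commute.mul_right ?_ ?_
    · obtain ⟨k, w, hw, rfl⟩ := h.exists_zpow_mul (i := n - 3) (by omega) (by omega) hx1
        (by rwa [show n - 3 + 1 = n - 2 by omega]) hu
      refine ((((Commute.refl x).pow_left p).zpow_left k).mul_left ?_).zpow_right z
      rw [show n - 3 + 1 = n - 2 by omega] at hw
      exact (mem_center_iff.1 (h.le_center hw) x).symm
    · have hc := FGS.PolySeq.fil_comm (G := G) (n - 1 - p + 1) (n - 3 + 1) (commutator_mem_commutator hu hv)
      rw [show n - 3 + 1 + (n - 1 - p + 1) = (n - 3 + (n - 1 - p) + 1) + 1 by omega] at hc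
      have hc' : ⁅u, v⁆ ∈ L (n - 3 + (n - 1 - p) + 1) := hc
      rw [show L (n - 3 + (n - 1 - p) + 1) = ⊥ from h.lcs_bot_of_le (by omega), mem_bot] at hc'
      exact commutatorElement_eq_one_iff_commute.1 hc'
  refine lcs_bot_of_map ?_
  rcases Nat.lt_or_ge 2 p with hp3 | hp2'
  · rw [show p - 1 = p - 2 + 1 by omega, Subgroup.lowerCentralSeries_succ, map_commutator, commutator_le]
    rintro u hu _ ⟨t, -, rfl⟩
    rw [mem_bot, commutatorElement_eq_one_iff_commute]
    refine hcen u ?_ t t.2
    have := lcs_le_layer x (n - 1 - p) T le_rfl (p - 3)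
    rw [show p - 3 + 1 = p - 2 by omega] at this
    exact (⊤ : Subgroup G).lowerCentralSeries_antitone (by omega) (this hu)
  · have hp2e : p = 2 := by omega
    subst hp2e
    rw [show 2 - 1 = 0 + 1 from rfl, Subgroup.lowerCentralSeries_succ, Subgroup.lowerCentralSeries_zero,
      map_commutator, commutator_le]
    rintro _ ⟨a, -, rfl⟩ _ ⟨b, -, rfl⟩
    rw [mem_bot, commutatorElement_eq_one_iff_commute]
    have key : ∀ t ∈ T, ∀ t' ∈ T, Commute t t' := by
      intro t ht t' ht'
      rw [hT, ← SetLike.mem_coe, Subgroup.mul_normal, Set.mem_mul] at ht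
      obtain ⟨y, ⟨z, rfl⟩, v, hv, rfl⟩ := ht
      refine Commute.mul_left (Commute.zpow_left ?_ z)
        (hcen v (by rwa [show n - 3 = n - 1 - 2 by omega]) t' ht')
      rw [hT, ← SetLike.mem_coe, Subgroup.mul_normal, Set.mem_mul] at ht'
      obtain ⟨y', ⟨z', rfl⟩, v', hv', rfl⟩ := ht'
      exact ((Commute.refl x).zpow_right z').mul_right
        (hcen v' (by rwa [show n - 3 = n - 1 - 2 by omega]) x (mem_sup_left (mem_zpowers x))).symm
    exact key a a.2 b b.2

/-- In the quotient by a layer the powers of an earlier layer vanish. -/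
theorem pow_mem_layer {n i : ℕ} (hE : PropE.{u} p (i + p)) {G : Type u} [Group G] [Finite G] (h : IsMax p n G)
    (hi : 1 ≤ i) (hi' : i + p ≤ n) {a : G} (ha : a ∈ (⊤ : Subgroup G).lowerCentralSeries i) :
    a ^ p ∈ (⊤ : Subgroup G).lowerCentralSeries (i + p - 1) := by
  have hp2 := hp.out.two_le
  have hq := h.quot (j := i + p - 1) (by omega) (by omega)
  rw [show i + p - 1 + 1 = i + p by omega] at hq
  have := hE _ hq (by omega) (layerMap G (i + p - 1) a)
    (by rw [show i + p - p = i by omega]; exact (mem_layer_iff (by omega)).2 ha)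
  rw [← map_pow, layer_eq_one_iff] at this
  exact this

theorem pow_not_mem_layer {n i : ℕ} (hF : PropF.{u} p (i + p + 1)) {G : Type u} [Group G] [Finite G]
    (h : IsMax p n G) (hi : 1 ≤ i) (hi' : i + p + 1 ≤ n) {a : G}
    (ha : a ∈ (⊤ : Subgroup G).lowerCentralSeries i)
    (ha' : a ∉ (⊤ : Subgroup G).lowerCentralSeries (i + 1)) :
    a ^ p ∉ (⊤ : Subgroup G).lowerCentralSeries (i + p) := by
  have hp2 := hp.out.two_le
  have hq := h.quot (j := i + p) (by omega) (by omega)
  intro hbad
  rw [← layer_eq_one_iff, map_pow] at hbad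
  refine hF _ hq (by omega) (layerMap G (i + p) a)
    (by rw [show i + p + 1 - 1 - p = i by omega]; exact (mem_layer_iff (by omega)).2 ha)
    (fun hm => ha' ?_) hbad
  rw [show i + p + 1 - p = i + 1 by omega] at hm
  exact (mem_layer_iff (by omega)).1 hm

/-- In order `p ^ (p + 1)` all powers are central. -/
theorem IsMax.pow_central {G : Type u} [Group G] [Finite G] (h : IsMax p (p + 1) G)
    (hE : PropE.{u} p (p + 1)) (x : G) : x ^ p ∈ (⊤ : Subgroup G).lowerCentralSeries (p - 1) := by
  have hp2 := hp.out.two_le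
  have hG := h.isPGroup
  set T := zpowers x ⊔ (⊤ : Subgroup G).lowerCentralSeries 1 with hT
  have hTb : (⊤ : Subgroup T).lowerCentralSeries (p - 1) = ⊥ := by
    refine lcs_bot_of_map ?_
    have := lcs_le_layer x 1 T le_rfl (p - 2)
    rw [show p - 2 + 1 = p - 1 by omega, h.lcs_bot_of_le (show p + 1 - 1 ≤ 1 + (p - 1) by omega)] at this
    exact this
  have hcen : x ^ p ∈ center G := by
    rw [mem_center_iff]
    intro g
    have hc : ⁅g, x⁆ ∈ (⊤ : Subgroup G).lowerCentralSeries 1 := comm_mem_succ (i := 0) (mem_top g) x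
    have hcp := hE G h le_rfl _ (show ⁅g, x⁆ ∈ (⊤ : Subgroup G).lowerCentralSeries (p + 1 - p) by
      rwa [show p + 1 - p = 1 by omega])
    have h1 := regular_mul hG hTb (mem_sup_right hc : ⁅g, x⁆ ∈ T) (mem_sup_left (mem_zpowers x)) hcp
    rw [commutatorElement_def, inv_mul_cancel_right, conj_pow] at h1
    exact mul_inv_eq_iff_eq_mul.1 h1
  haveI := hG.isNilpotent
  have heq : (⊤ : Subgroup G).lowerCentralSeries (p + 1 - 2) = center G := Subgroup.eq_of_le_of_card_ge h.le_center
    (by rw [(center_data hG h.card (by omega) h.class_eq).1, h.lcs_card (p + 1 - 2) (by omega) (by omega),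
      show p + 1 - 1 - (p + 1 - 2) = 1 by omega, pow_one])
  rw [show p - 1 = p + 1 - 2 by omega, heq]
  exact hcen

theorem stepF (n : ℕ) (hE : ∀ m ≤ n, PropE.{u} p m) (ih : ∀ m < n, PropF.{u} p m) : PropF.{u} p n := by
  intro G _ _ h hn a ha ha' hap
  have hp2 := hp.out.two_le
  have hG := h.isPGroup
  let L : ℕ → Subgroup G := fun i => (⊤ : Subgroup G).lowerCentralSeries i
  obtain ⟨x, hx, hx1, hx2⟩ : ∃ x ∈ L (n - 2 - p), x ^ p ∈ L (n - 3) ∧ x ^ p ∉ L (n - 2) := by
    rcases Nat.lt_or_ge (p + 2) n with hlarge | hsmall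
    · obtain ⟨x, hx, hx'⟩ : ∃ x ∈ L (n - 2 - p), x ∉ L (n - 2 - p + 1) := by
        by_contra hall
        push Not at hall
        have h1 := Subgroup.card_le_of_le (show L (n - 2 - p) ≤ L (n - 2 - p + 1) from hall)
        rw [h.lcs_card _ (by omega) (by omega), h.lcs_card _ (by omega) (by omega),
          Nat.pow_le_pow_iff_right hp.out.one_lt] at h1
        omega
      refine ⟨x, hx, ?_, ?_⟩
      · have := pow_mem_layer (hE (n - 2 - p + p) (by omega)) h (by omega) (by omega) hx
        rwa [show n - 2 - p + p - 1 = n - 3 by omega] at this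
      · have := pow_not_mem_layer (ih (n - 2 - p + p + 1) (by omega)) h (by omega) (by omega) hx hx'
        rwa [show n - 2 - p + p = n - 2 by omega] at this
    · have hn' : n = p + 2 := by omega
      subst hn'
      have hq := h.quot (j := p) (by omega) (by omega)
      obtain ⟨xq, hxq⟩ := hq.exists_pow_ne_one
      obtain ⟨x, rfl⟩ := QuotientGroup.mk_surjective xq
      refine ⟨x, by rw [show p + 2 - 2 - p = 0 by omega]; exact mem_top x, ?_, ?_⟩
      · rw [show p + 2 - 3 = p - 1 by omega]
        have h3 := hq.pow_central (hE (p + 1) (by omega)) (layerMap G p x)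
        rw [← map_pow] at h3
        exact (mem_layer_iff (by omega)).1 h3
      · rw [show p + 2 - 2 = p by omega]
        intro hbad
        exact hxq ((QuotientGroup.eq_one_iff _).2 hbad)
  set T := zpowers x ⊔ L (n - 1 - p) with hT
  have hTb : (⊤ : Subgroup T).lowerCentralSeries (p - 1) = ⊥ := h.deep_class hn hx1 hx2
  have hexp : ∀ c ∈ L (n - 1 - p), c ^ p = 1 := by
    intro c hc
    obtain ⟨z, w, hw, rfl⟩ := h.exists_zpow_mul (i := n - 1 - p) (by omega) (by omega) ha
      (by rwa [show n - 1 - p + 1 = n - p by omega]) hc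
    rw [regular_mul hG hTb (zpow_mem (mem_sup_right ha : a ∈ T) z)
      (mem_sup_right ((⊤ : Subgroup G).lowerCentralSeries_antitone (Nat.le_succ _) hw))
      (by rw [← zpow_natCast, ← zpow_mul, mul_comm, zpow_mul, zpow_natCast, hap, one_zpow])]
    exact hE n le_rfl G h (by omega) w (by rwa [show n - p = n - 1 - p + 1 by omega])
  have hzc : x ^ p ∈ center G := by
    rw [mem_center_iff]
    intro g
    have hc : ⁅g, x⁆ ∈ L (n - 1 - p) := by
      have := inv_mem (comm_mem_succ hx g)
      rwa [commutatorElement_inv, show n - 2 - p + 1 = n - 1 - p by omega] at this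
    have h1 := regular_mul hG hTb (mem_sup_right hc : ⁅g, x⁆ ∈ T) (mem_sup_left (mem_zpowers x)) (hexp _ hc)
    rw [commutatorElement_def, inv_mul_cancel_right, conj_pow] at h1
    exact mul_inv_eq_iff_eq_mul.1 h1
  haveI := hG.isNilpotent
  have heq : L (n - 2) = center G := Subgroup.eq_of_le_of_card_ge h.le_center
    (by rw [(center_data hG h.card (by omega) h.class_eq).1, h.lcs_card (n - 2) (by omega) (by omega),
      show n - 1 - (n - 2) = 1 by omega, pow_one])
  exact hx2 (heq ▸ hzc)

theorem stepU (n : ℕ) (hE : ∀ m ≤ n, PropE.{u} p m) (hF : ∀ m < n, PropF.{u} p m) : PropU.{u} p n := by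
  intro G _ _ h hn
  have hp2 := hp.out.two_le
  rcases Nat.lt_or_ge (p + 2) n with hlarge | hsmall
  swap
  · exact h.small_uniform hn (m := n - 3) (by omega) (by omega)
  obtain ⟨s, hs⟩ := h.small_uniform hn (m := p - 1) (by omega) (by omega)
  refine ⟨s, fun i hi => ?_⟩
  induction i using Nat.strong_induction_on with
  | _ i ihi =>
    rcases Nat.lt_or_ge i p with hlt | hge
    · exact hs i (by omega)
    intro hsi
    obtain ⟨k, rfl⟩ : ∃ k, i = k + (p - 1) := ⟨i - (p - 1), by omega⟩
    have hsk := ihi k (by omega) (by omega)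
    apply h.twoStep_ne_top (i := k + (p - 1)) (by omega)
    -- the earlier centralizer is contained in the later one
    obtain ⟨a, ha, hac⟩ : ∃ a ∈ (⊤ : Subgroup G).lowerCentralSeries k,
        ⁅a, s⁆ ∉ (⊤ : Subgroup G).lowerCentralSeries (k + 2) := by
      by_contra hall
      push Not at hall
      exact hsk (mem_twoStep.2 hall)
    have ha' : a ∉ (⊤ : Subgroup G).lowerCentralSeries (k + 1) := fun hh => hac (comm_mem_succ hh s)
    have hap := pow_mem_layer (hE (k + p) (by omega)) h (by omega) (by omega) ha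
    have hap' := pow_not_mem_layer (hF (k + p + 1) (by omega)) h (by omega) (by omega) ha ha'
    rw [show k + p - 1 = k + (p - 1) by omega] at hap
    rw [show k + p = k + (p - 1) + 1 by omega] at hap'
    have hle : twoStep G k ≤ twoStep G (k + (p - 1)) := by
      intro b hb
      have hq := h.quot (j := k + (p - 1) + 2) (by omega) (by omega)
      set π := layerMap G (k + (p - 1) + 2)
      have hx1 : π a ^ p ∈ (⊤ : Subgroup (G ⧸ _)).lowerCentralSeries (k + (p - 1) + 2 + 1 - 3) := by
        rw [← map_pow, show k + (p - 1) + 2 + 1 - 3 = k + (p - 1) by omega]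
        exact (mem_layer_iff (by omega)).2 hap
      have hx2 : π a ^ p ∉ (⊤ : Subgroup (G ⧸ _)).lowerCentralSeries (k + (p - 1) + 2 + 1 - 2) := by
        rw [← map_pow, show k + (p - 1) + 2 + 1 - 2 = k + (p - 1) + 1 by omega]
        exact fun hh => hap' ((mem_layer_iff (by omega)).1 hh)
      have hTb := hq.deep_class (by omega) hx1 hx2
      have hc : ⁅π b, π a⁆ ∈ (⊤ : Subgroup (G ⧸ _)).lowerCentralSeries (k + (p - 1) + 2 + 1 - p) := by
        rw [← map_commutatorElement, show k + (p - 1) + 2 + 1 - p = k + 2 by omega, ← commutatorElement_inv]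
        exact (mem_layer_iff (by omega)).2 (inv_mem (mem_twoStep.1 hb a ha))
      have hcp := hE _ (by omega) _ hq (by omega) _ hc
      have hcT : ⁅π b, π a⁆ ∈ zpowers (π a) ⊔
          (⊤ : Subgroup (G ⧸ _)).lowerCentralSeries (k + (p - 1) + 2 + 1 - 1 - p) :=
        mem_sup_right ((⊤ : Subgroup (G ⧸ _)).lowerCentralSeries_antitone (by omega) hc)
      have h1 := regular_mul hq.isPGroup hTb hcT (mem_sup_left (mem_zpowers (π a))) hcp
      rw [commutatorElement_def, inv_mul_cancel_right, conj_pow] at h1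
      have h2 : Commute (π (a ^ p)) (π b) := by
        rw [map_pow]
        exact (mul_inv_eq_iff_eq_mul.1 h1).symm
      rw [← commutatorElement_eq_one_iff_commute, ← map_commutatorElement, layer_eq_one_iff] at h2
      by_contra hnb
      exact h.step (by omega) (by omega) hnb hap hap' h2
    rw [eq_top_iff]
    intro g _
    obtain ⟨z, hz⟩ : ∃ z : ℤ, g * (s ^ z)⁻¹ ∈ twoStep G k := by
      obtain ⟨z, w, hw, he⟩ := h.exists_zpow_mul (i := k + 1) (by omega) (by omega) (comm_mem_succ ha s) hac
        (comm_mem_succ ha g)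
      refine ⟨z, by_contra fun hnb => h.step (i := k) (by omega) (by omega) hnb ha ha' ?_⟩
      rw [← layer_eq_one_iff, layer_comm_mul_right ha]
      have h1 := map_inv (commHom G k ⟨a, ha⟩) (s ^ z)
      have h2 := map_zpow (commHom G k ⟨a, ha⟩) s z
      change layerMap G (k + 2) ⁅a, (s ^ z)⁻¹⁆ = (layerMap G (k + 2) ⁅a, s ^ z⁆)⁻¹ at h1
      change layerMap G (k + 2) ⁅a, s ^ z⁆ = (layerMap G (k + 2) ⁅a, s⁆) ^ z at h2
      rw [h1, h2, he, map_mul, map_zpow, layer_eq_one_iff.2 hw, mul_one, mul_inv_cancel]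
    have := mul_mem (hle hz) (zpow_mem hsi z)
    rwa [inv_mul_cancel_right] at this

theorem all_props (n : ℕ) : PropE.{u} p n ∧ PropF.{u} p n ∧ PropU.{u} p n := by
  induction n using Nat.strong_induction_on with
  | _ n ih =>
    have hE : PropE.{u} p n := stepE n fun m hm => (ih m hm).2.2
    have hE' : ∀ m ≤ n, PropE.{u} p m := fun m hm => by
      rcases Nat.lt_or_ge m n with h | h
      · exact (ih m h).1
      · rwa [show m = n by omega]
    exact ⟨hE, stepF n hE' fun m hm => (ih m hm).2.1, stepU n hE' fun m hm => (ih m hm).2.1⟩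

end Cfsg.Agent.FGB.MaxClass
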