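import Cfsg.Agent.Lib.FGB.MaxClassBlackburn
import Cfsg.Agent.Lib.MaxSylow.Good

/-!
Facts about p-groups of maximal class, stated inside an ambient group.
-/

set_option autoImplicit false

namespace Cfsg.Agent.FGB.MaxClass.Ambient

open Subgroup Cfsg.Agent.FGB.MaxClass
open scoped commutatorElement

universe u

variable {p : ℕ} [hp : Fact p.Prime] {Ω : Type u} [Group Ω] {S : Subgroup Ω}

/-- The two-step centralizer, inside the ambient group. -/
def TS (S : Subgroup Ω) (i : ℕ) : Subgroup Ω := (twoStep ↥S i).map S.subtype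

theorem lcs_map (S : Subgroup Ω) (k : ℕ) :
    ((⊤ : Subgroup S).lowerCentralSeries k).map S.subtype = S.lowerCentralSeries k := by
  rw [Subgroup.map_lowerCentralSeries, ← MonoidHom.range_eq_map, Subgroup.range_subtype]

theorem mem_lcs_iff {a : S} {k : ℕ} :
    (a : Ω) ∈ S.lowerCentralSeries k ↔ a ∈ (⊤ : Subgroup S).lowerCentralSeries k := by
  rw [← lcs_map]
  exact Subgroup.mem_map_iff_mem S.subtype_injective

theorem lcs_le (k : ℕ) : S.lowerCentralSeries k ≤ S := by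
  rw [← lcs_map]
  exact map_subtype_le _

theorem mem_TS_iff {a : S} {i : ℕ} : (a : Ω) ∈ TS S i ↔ a ∈ twoStep S i :=
  Subgroup.mem_map_iff_mem S.subtype_injective

theorem TS_le (i : ℕ) : TS S i ≤ S := map_subtype_le _

theorem lcs_one_le_TS (i : ℕ) : S.lowerCentralSeries 1 ≤ TS S i := by
  rw [← lcs_map]
  exact Subgroup.map_mono (lcs_one_le_two i)

theorem comm_succ {i : ℕ} {u g : Ω} (hu : u ∈ S.lowerCentralSeries i) (hg : g ∈ S) :
    ⁅u, g⁆ ∈ S.lowerCentralSeries (i + 1) :=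
  mem_lcs_iff (a := ⁅(⟨u, lcs_le i hu⟩ : S), ⟨g, hg⟩⁆).2
    (comm_mem_succ ((mem_lcs_iff (a := ⟨u, lcs_le i hu⟩)).1 hu) _)

theorem comm_succ' {i : ℕ} {u g : Ω} (hu : u ∈ S.lowerCentralSeries i) (hg : g ∈ S) :
    ⁅g, u⁆ ∈ S.lowerCentralSeries (i + 1) := by
  rw [← commutatorElement_inv]
  exact inv_mem (comm_succ hu hg)

theorem comm_add {i j : ℕ} {u v : Ω} (hu : u ∈ S.lowerCentralSeries i) (hv : v ∈ S.lowerCentralSeries j) :
    ⁅u, v⁆ ∈ S.lowerCentralSeries (i + j + 1) := by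
  refine mem_lcs_iff (a := ⁅(⟨u, lcs_le i hu⟩ : S), ⟨v, lcs_le j hv⟩⁆).2 ?_
  have h := FGS.PolySeq.fil_comm (G := S) (j + 1) (i + 1)
    (commutator_mem_commutator ((mem_lcs_iff (a := ⟨u, lcs_le i hu⟩)).1 hu)
      ((mem_lcs_iff (a := ⟨v, lcs_le j hv⟩)).1 hv))
  rwa [show i + 1 + (j + 1) = (i + j + 1) + 1 by omega] at h

theorem TS_comm {i : ℕ} {u x : Ω} (hx : x ∈ TS S i) (hu : u ∈ S.lowerCentralSeries i) :
    ⁅u, x⁆ ∈ S.lowerCentralSeries (i + 2) :=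
  mem_lcs_iff (a := ⁅(⟨u, lcs_le i hu⟩ : S), ⟨x, TS_le i hx⟩⁆).2
    (mem_twoStep.1 ((mem_TS_iff (a := ⟨x, TS_le i hx⟩)).1 hx) _ ((mem_lcs_iff (a := ⟨u, lcs_le i hu⟩)).1 hu))

theorem lcs_anti {i j : ℕ} (h : i ≤ j) : S.lowerCentralSeries j ≤ S.lowerCentralSeries i :=
  S.lowerCentralSeries_antitone h

theorem lcs_conj {i : ℕ} {u g : Ω} (hu : u ∈ S.lowerCentralSeries i) (hg : g ∈ S) :
    g * u * g⁻¹ ∈ S.lowerCentralSeries i := by
  have h := mul_mem (lcs_anti (Nat.le_succ i) (comm_succ' hu hg)) hu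
  rwa [commutatorElement_def, inv_mul_cancel_right] at h

variable [Finite S] {n : ℕ} (h : IsMax p n S)
include h

theorem card_lcs {i : ℕ} (hi : 1 ≤ i) (hi' : i ≤ n - 1) :
    Nat.card (S.lowerCentralSeries i) = p ^ (n - 1 - i) := by
  rw [← lcs_map, Subgroup.card_map_of_injective S.subtype_injective]
  exact h.lcs_card i hi hi'

theorem eq_one {i : ℕ} (hi : n - 1 ≤ i) {u : Ω} (hu : u ∈ S.lowerCentralSeries i) : u = 1 := by
  have := (mem_lcs_iff (a := ⟨u, lcs_le i hu⟩)).1 hu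
  rw [h.lcs_bot_of_le hi, Subgroup.mem_bot] at this
  exact congrArg Subtype.val this

theorem step {i : ℕ} (hi : 1 ≤ i) (hi' : i + 2 ≤ n) {x u : Ω} (hxS : x ∈ S) (hx : x ∉ TS S i)
    (hu : u ∈ S.lowerCentralSeries i) (hu' : u ∉ S.lowerCentralSeries (i + 1)) :
    ⁅u, x⁆ ∉ S.lowerCentralSeries (i + 2) := fun hc =>
  h.step hi hi' (s := ⟨x, hxS⟩) (fun hs => hx (mem_TS_iff.2 hs))
    ((mem_lcs_iff (a := ⟨u, lcs_le i hu⟩)).1 hu) (fun hs => hu' (mem_lcs_iff.2 hs))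
    ((mem_lcs_iff (a := ⁅(⟨u, lcs_le i hu⟩ : S), ⟨x, hxS⟩⁆)).1 hc)

theorem mem_TS_of_comm {i : ℕ} (hi : 1 ≤ i) (hi' : i + 2 ≤ n) {x u : Ω} (hxS : x ∈ S)
    (hu : u ∈ S.lowerCentralSeries i) (hu' : u ∉ S.lowerCentralSeries (i + 1))
    (hc : ⁅u, x⁆ ∈ S.lowerCentralSeries (i + 2)) : x ∈ TS S i :=
  by_contra fun hx => step h hi hi' hxS hx hu hu' hc

theorem split {i : ℕ} (hi : 1 ≤ i) (hi' : i ≤ n - 2) {a g : Ω} (ha : a ∈ S.lowerCentralSeries i)
    (ha' : a ∉ S.lowerCentralSeries (i + 1)) (hg : g ∈ S.lowerCentralSeries i) :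
    ∃ k : ℤ, ∃ w ∈ S.lowerCentralSeries (i + 1), g = a ^ k * w := by
  obtain ⟨k, w, hw, he⟩ := h.exists_zpow_mul hi hi' ((mem_lcs_iff (a := ⟨a, lcs_le i ha⟩)).1 ha)
    (fun hh => ha' (mem_lcs_iff.2 hh)) ((mem_lcs_iff (a := ⟨g, lcs_le i hg⟩)).1 hg)
  exact ⟨k, w, mem_lcs_iff.2 hw, congrArg Subtype.val he⟩

theorem exists_elt {k : ℕ} (hk : 1 ≤ k) (hk' : k + 2 ≤ n) :
    ∃ a ∈ S.lowerCentralSeries k, a ∉ S.lowerCentralSeries (k + 1) := by
  obtain ⟨a, ha, ha'⟩ := h.exists_layer_elt hk hk'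
  exact ⟨a, mem_lcs_iff.2 ha, fun hh => ha' (mem_lcs_iff.1 hh)⟩

theorem TS_eq {i : ℕ} (hi : 1 ≤ i) (hi' : i + 4 ≤ n) : TS S i = TS S 1 := by
  rw [TS, TS, h.twoStep_eq_one hi hi']

theorem TS_top_odd (hn : 5 ≤ n) (hodd : n % 2 = 1) : TS S (n - 3) = TS S 1 := by
  rw [TS, TS, h.twoStep_top_eq_one hn hodd]

theorem TS_ne_top {i : ℕ} (hi : i + 3 ≤ n) : ∃ s ∈ S, s ∉ TS S i := by
  by_contra hall
  push Not at hall
  exact h.twoStep_ne_top hi (eq_top_iff.2 fun a _ => mem_TS_iff.1 (hall a a.2))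

theorem exists_split {k : ℕ} (hk : 1 ≤ k) (hk' : k + 3 ≤ n) {s g : Ω} (hsS : s ∈ S) (hs : s ∉ TS S k)
    (hg : g ∈ S) : ∃ z : ℤ, g * (s ^ z)⁻¹ ∈ TS S k := by
  obtain ⟨z, hz⟩ := h.exists_split hk hk' (s := ⟨s, hsS⟩) (fun hh => hs (mem_TS_iff.2 hh)) ⟨g, hg⟩
  exact ⟨z, mem_TS_iff.2 hz⟩

theorem TS_rep {i : ℕ} (hi : i + 3 ≤ n) {a t : Ω} (ha : a ∈ TS S i) (ha' : a ∉ S.lowerCentralSeries 1)
    (ht : t ∈ TS S i) : ∃ k : ℤ, ∃ w ∈ S.lowerCentralSeries 1, t = a ^ k * w := by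
  have hM := map_layer_one_card_le h (by omega) (twoStep S i) (h.twoStep_ne_top hi)
  set a0 : S := ⟨a, TS_le i ha⟩
  set t0 : S := ⟨t, TS_le i ht⟩
  have hne : layerMap S 1 a0 ≠ 1 := fun he => ha' (mem_lcs_iff.2 (layer_eq_one_iff.1 he))
  have hpow : (layerMap S 1 a0) ^ p = 1 := by
    rw [← map_pow, layer_eq_one_iff, Subgroup.top_lowerCentralSeries_one]
    exact h.pow_mem_commutator (by omega) a0
  have hMeq : zpowers (layerMap S 1 a0) = (twoStep S i).map (layerMap S 1) :=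
    Subgroup.eq_of_le_of_card_ge (zpowers_le.2 (mem_map_of_mem _ ((mem_TS_iff (a := a0)).1 ha)))
      (by rw [Nat.card_zpowers, orderOf_eq_prime hpow hne]; exact hM)
  obtain ⟨k, hk⟩ := hMeq.ge (mem_map_of_mem (layerMap S 1) ((mem_TS_iff (a := t0)).1 ht))
  refine ⟨k, ((a0 ^ k)⁻¹ * t0 : S), mem_lcs_iff.2 ?_, ?_⟩
  · rw [← layer_eq_one_iff, map_mul, map_inv, map_zpow]
    exact inv_mul_eq_one.2 hk
  · show t = a ^ k * ((a ^ k)⁻¹ * t)
    rw [mul_inv_cancel_left]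

theorem TS_comm_TS {i : ℕ} (hi : i + 3 ≤ n) {a b : Ω} (ha : a ∈ TS S i) (hb : b ∈ TS S i) :
    ⁅a, b⁆ ∈ S.lowerCentralSeries 2 := by
  by_cases ha1 : a ∈ S.lowerCentralSeries 1
  · exact comm_succ ha1 (TS_le i hb)
  obtain ⟨k, w, hw, rfl⟩ := TS_rep h hi ha ha1 hb
  have h1 : ⁅a, a ^ k * w⁆ = a ^ k * ⁅a, w⁆ * (a ^ k)⁻¹ := by
    simp only [commutatorElement_def]; group
  rw [h1]
  exact lcs_conj (comm_succ' hw (TS_le i ha)) (zpow_mem (TS_le i ha) k)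

theorem comm_not_mem {i : ℕ} (hi1 : 1 ≤ i) (hi : i + 3 ≤ n) {a b : Ω} (ha : a ∈ TS S i)
    (ha' : a ∉ S.lowerCentralSeries 1) (hbS : b ∈ S) (hb : b ∉ TS S i) :
    ⁅b, a⁆ ∉ S.lowerCentralSeries 2 := by
  intro hba
  set q := layerMap S 2
  set a0 : S := ⟨a, TS_le i ha⟩
  set b0 : S := ⟨b, hbS⟩
  have hab : Commute (q b0) (q a0) := by
    rw [← commutatorElement_eq_one_iff_commute, ← map_commutatorElement, layer_eq_one_iff]
    exact (mem_lcs_iff (a := ⁅b0, a0⁆)).1 hba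
  have hT : ∀ t : S, (t : Ω) ∈ TS S i → Commute (q t) (q b0) := by
    intro t ht
    obtain ⟨k, w, hw, he⟩ := TS_rep h hi ha ha' ht
    have : t = a0 ^ k * ⟨w, lcs_le 1 hw⟩ := Subtype.ext he
    rw [this, map_mul, map_zpow]
    exact (hab.symm.zpow_left k).mul_left (layer_commute ((mem_lcs_iff (a := ⟨w, lcs_le 1 hw⟩)).1 hw) _)
  have hall : ∀ g x : S, ⁅g, x⁆ ∈ (⊤ : Subgroup S).lowerCentralSeries 2 := by
    intro g x
    rw [← layer_eq_one_iff, map_commutatorElement, commutatorElement_eq_one_iff_commute]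
    obtain ⟨z, hz⟩ := exists_split h hi1 hi hbS hb g.2
    obtain ⟨z', hz'⟩ := exists_split h hi1 hi hbS hb x.2
    rw [← inv_mul_cancel_right g (b0 ^ z), ← inv_mul_cancel_right x (b0 ^ z'),
      map_mul q (g * (b0 ^ z)⁻¹), map_mul q (x * (b0 ^ z')⁻¹), map_zpow, map_zpow]
    refine Commute.mul_left (Commute.mul_right ?_ ((hT _ hz).zpow_right z'))
      (Commute.mul_right ((hT _ hz').symm.zpow_left z) ((Commute.refl _).zpow_zpow z z'))
    rw [← commutatorElement_eq_one_iff_commute, ← map_commutatorElement, layer_eq_one_iff]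
    exact (mem_lcs_iff (a := ⁅g * (b0 ^ z)⁻¹, x * (b0 ^ z')⁻¹⁆)).1 (TS_comm_TS h hi hz hz')
  have hle : (⊤ : Subgroup S).lowerCentralSeries 1 ≤ (⊤ : Subgroup S).lowerCentralSeries 2 := by
    rw [Subgroup.top_lowerCentralSeries_one, _root_.commutator_def, commutator_le]
    exact fun g _ x _ => hall g x
  have hc := Subgroup.card_le_of_le hle
  rw [h.lcs_card 1 le_rfl (by omega), h.lcs_card 2 (by omega) (by omega),
    Nat.pow_le_pow_iff_right hp.out.one_lt] at hc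
  omega

theorem centralizer_small (hn : 5 ≤ n) {x : Ω} (hxS : x ∈ S) (hx1 : x ∉ TS S 1) (hx2 : x ∉ TS S (n - 3))
    {A : Subgroup Ω} (hA : A ≤ S) (hcomm : ∀ a ∈ A, Commute a x) : Nat.card A ≤ p ^ 2 := by
  set x0 : S := ⟨x, hxS⟩
  have hb : Nat.card (Subgroup.centralizer ({x0} : Set S)) ≤ p ^ 2 := by
    refine MaxSylow.card_centralizer_le_sq h (by omega) ?_ fun i hi hi' hmem => ?_
    · rw [← Subgroup.top_lowerCentralSeries_one]
      exact fun hh => hx1 (lcs_one_le_TS 1 (mem_lcs_iff.2 hh))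
    · rcases Nat.lt_or_ge i (n - 3) with hlt | hge
      · exact hx1 (TS_eq h hi (by omega) ▸ mem_TS_iff.2 hmem)
      · exact hx2 (show i = n - 3 by omega ▸ mem_TS_iff.2 hmem)
  refine le_trans ?_ hb
  rw [← Nat.card_congr (Subgroup.subgroupOfEquivOfLe hA).toEquiv]
  refine Subgroup.card_le_of_le fun a ha => ?_
  rw [Subgroup.mem_centralizer_singleton_iff]
  exact Subtype.ext (hcomm _ ha).eq

/-- In an exceptional group the derived subgroup moves the third centre. -/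
theorem exceptional_comm (hn : 6 ≤ n) (hexc : ¬ TS S 1 ≤ TS S (n - 3)) {y : Ω}
    (hy : y ∈ S.lowerCentralSeries (n - 4)) (hy' : y ∉ S.lowerCentralSeries (n - 3)) :
    ∃ w ∈ S.lowerCentralSeries 1, w ∉ S.lowerCentralSeries 2 ∧ ⁅w, y⁆ ≠ 1 := by
  obtain ⟨s1, h1, h1'⟩ := h.exists_one_elt (by omega)
  obtain ⟨s, hsS, hs0⟩ := TS_ne_top h (i := 1) (by omega)
  have hs : ∀ i, 1 ≤ i → i + 4 ≤ n → (⟨s, hsS⟩ : S) ∉ twoStep S i := fun i hi hi' hh =>
    hs0 (TS_eq h hi hi' ▸ mem_TS_iff.2 hh)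
  obtain ⟨Q, hQ1, hrec, hmem, hout⟩ := h.exists_chain (by omega) hs h1 h1'
  have hQ : ∀ d, 2 ≤ d → (Q d : Ω) ∈ S.lowerCentralSeries (d - 1) := fun d hd => by
    have := hmem d (by omega)
    rw [deg_of_two_le hd] at this
    exact mem_lcs_iff.2 this
  have hQ' : ∀ d, 2 ≤ d → d + 2 ≤ n → (Q d : Ω) ∉ S.lowerCentralSeries d := fun d hd hd' hh =>
    hout d hd hd' (mem_lcs_iff.1 hh)
  set q1 : Ω := (Q 1 : Ω)
  have hq1 : q1 ∈ TS S 1 := mem_TS_iff.2 (hmem 1 le_rfl)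
  have hout1 : q1 ∉ TS S (n - 3) := by
    intro hh
    apply hexc
    intro t ht
    have hq1' : q1 ∉ S.lowerCentralSeries 1 := fun hm => h1' (hQ1 ▸ mem_lcs_iff.1 hm)
    obtain ⟨k, w, hw, rfl⟩ := TS_rep h (by omega) hq1 hq1' ht
    exact mul_mem (zpow_mem hh k) (lcs_one_le_TS _ hw)
  set a2 : Ω := (Q 2 : Ω) with ha2
  have hw : a2 ∈ S.lowerCentralSeries 1 := hQ 2 le_rfl
  have hzero : ∀ v ∈ S.lowerCentralSeries (n - 3), ⁅a2, v⁆ = 1 := fun v hv =>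
    eq_one h (by omega) (comm_add hw hv)
  have hmain : ⁅a2, (Q (n - 3) : Ω)⁆ ≠ 1 := by
    intro h0
    have hc : ⁅Q 1, Q (n - 3)⁆ ∈ (⊤ : Subgroup S).lowerCentralSeries (n - 2) := by
      have h3 := TS_comm (i := n - 4) (TS_eq h (i := n - 4) (by omega) (by omega) ▸ hq1)
        (by have := hQ (n - 3) (by omega); rwa [show n - 3 - 1 = n - 4 by omega] at this)
      rw [← commutatorElement_inv]
      refine inv_mem (mem_lcs_iff.1 ?_)
      rwa [show n - 4 + 2 = n - 2 by omega] at h3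
    have hcen : ∀ x ∈ (⊤ : Subgroup S).lowerCentralSeries (n - 2), ∀ g : S, Commute x g := fun x hx g =>
      (Subgroup.mem_center_iff.1 (h.le_center hx) g).symm
    have hbel : ∀ i j, 1 ≤ i → 1 ≤ j → 3 ≤ i + j → ⁅Q i, Q j⁆ ∈ deg ↥S (i + j) := fun i j hi hj h3 =>
      deg_comm i j hi hj h3 (commutator_mem_commutator (hmem i hi) (hmem j hj))
    have hdeg : deg ↥S (n - 1) = (⊤ : Subgroup S).lowerCentralSeries (n - 2) := by
      rw [deg_of_two_le (by omega)]; rfl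
    have key := comm_derive (a := Q 1) (b := Q (n - 3)) (s := (⟨s, hsS⟩ : S))
    rw [← hrec 1 le_rfl, ← hrec (n - 3) (by omega), show n - 3 + 1 = n - 2 by omega] at key
    have hd := key ?_ ?_ ?_ ?_ ?_
    · rw [commutatorElement_eq_one_iff_commute.2 (hcen _ hc _)] at hd
      have h00 : ⁅Q 2, Q (n - 3)⁆ = 1 := Subtype.ext h0
      rw [show (1 + 1) = 2 from rfl, h00, one_mul] at hd
      refine hout1 (mem_TS_of_comm h (i := n - 3) (by omega) (by omega) (Q 1).2 (u := (Q (n - 2) : Ω)) ?_ ?_ ?_)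
      · have := hQ (n - 2) (by omega); rwa [show n - 2 - 1 = n - 3 by omega] at this
      · have := hQ' (n - 2) (by omega) (by omega); rwa [show n - 3 + 1 = n - 2 by omega]
      · have : ⁅(Q 1 : Ω), (Q (n - 2) : Ω)⁆ = 1 := congrArg Subtype.val hd.symm
        rw [← commutatorElement_inv, this, inv_one]
        exact one_mem _
    · rw [← commutatorElement_eq_one_iff_commute]
      refine Subtype.ext (eq_one h (i := n - 1) le_rfl ?_)
      have := comm_add (hQ 2 le_rfl) (hQ (n - 2) (by omega))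
      exact lcs_anti (show n - 1 ≤ 2 - 1 + (n - 2 - 1) + 1 by omega) this
    · intro g
      refine hcen _ (hdeg ▸ ?_) g
      have := hbel 2 (n - 3) (by omega) (by omega) (by omega)
      rwa [show 2 + (n - 3) = n - 1 by omega] at this
    · intro g
      refine hcen _ (hdeg ▸ ?_) g
      have := hbel 1 (n - 2) le_rfl (by omega) (by omega)
      rwa [show 1 + (n - 2) = n - 1 by omega] at this
    · exact hcen _ hc _
    · exact hcen _ hc _
  refine ⟨a2, hw, hQ' 2 le_rfl (by omega), fun h0 => hmain ?_⟩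
  have hq3 : (Q (n - 3) : Ω) ∈ S.lowerCentralSeries (n - 4) := by
    have := hQ (n - 3) (by omega); rwa [show n - 3 - 1 = n - 4 by omega] at this
  obtain ⟨k, v, hv, he⟩ := split h (i := n - 4) (by omega) (by omega) hy
    (by rwa [show n - 4 + 1 = n - 3 by omega]) hq3
  rw [he, commutatorElement_eq_one_iff_commute]
  refine Commute.mul_right ((commutatorElement_eq_one_iff_commute.1 h0).zpow_right k) ?_
  rw [← commutatorElement_eq_one_iff_commute]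
  exact hzero v (by rwa [show n - 4 + 1 = n - 3 by omega] at hv)

end Cfsg.Agent.FGB.MaxClass.Ambient
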