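import Cfsg.Agent.Lib.FGB.MaxClassDegree

/-!
In a p-group of maximal class and order `p ^ n` all two-step centralizers below the top one
coincide; the top one coincides with them when `n` is odd.
-/

set_option autoImplicit false

namespace Cfsg.Agent.FGB.MaxClass

open Subgroup
open scoped commutatorElement

universe u

variable {p : ℕ} [hp : Fact p.Prime] {G : Type u} [Group G] [Finite G]

theorem lcs_lt_eq {n : ℕ} {G : Type u} [Group G] [Finite G] (h : IsMax p n G) {d : ℕ} (hd : n ≤ d) {x : G}
    (hx : x ∈ deg G d) : x = 1 := by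
  have hn := h.two_le
  rw [deg_of_two_le (by omega), h.lcs_bot_of_le (by omega)] at hx
  exact mem_bot.1 hx

theorem last_central {n : ℕ} (h : IsMax p n G) (hn : 4 ≤ n) {x : G} (hx : x ∈ deg G (n - 1)) (g : G) :
    Commute x g := by
  rw [deg_of_two_le (by omega), show n - 1 - 1 = n - 2 by omega] at hx
  exact (Subgroup.mem_center_iff.1 (h.le_center hx) g).symm

theorem IsMax.twoStep_quot {n : ℕ} (h : IsMax p n G) {j i : ℕ} (hij : i + 2 ≤ j) (_hj : j ≤ n - 1) {x : G} :
    layerMap G j x ∈ twoStep (G ⧸ (⊤ : Subgroup G).lowerCentralSeries j) i ↔ x ∈ twoStep G i := by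
  refine ⟨fun hx => mem_twoStep.2 fun u hu => ?_, twoStep_map j i⟩
  have := mem_twoStep.1 hx (layerMap G j u) ((mem_layer_iff (by omega)).2 hu)
  rw [← map_commutatorElement] at this
  exact (mem_layer_iff hij).1 this

/-- Data used in the inductive step. -/
theorem IsMax.exists_chain {n : ℕ} (h : IsMax p n G) (hn : 5 ≤ n) {s : G}
    (hs : ∀ i, 1 ≤ i → i + 4 ≤ n → s ∉ twoStep G i) {s1 : G} (h1 : s1 ∈ twoStep G 1)
    (h1' : s1 ∉ (⊤ : Subgroup G).lowerCentralSeries 1) :
    ∃ S : ℕ → G, S 1 = s1 ∧ (∀ d, 1 ≤ d → S (d + 1) = ⁅S d, s⁆) ∧ (∀ d, 1 ≤ d → S d ∈ deg G d) ∧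
      ∀ d, 2 ≤ d → d + 2 ≤ n → S d ∉ (⊤ : Subgroup G).lowerCentralSeries d := by
  let S : ℕ → G := fun d => (fun u => ⁅u, s⁆)^[d - 1] s1
  have hrec : ∀ d, 1 ≤ d → S (d + 1) = ⁅S d, s⁆ := by
    intro d hd
    show (fun u => ⁅u, s⁆)^[d + 1 - 1] s1 = _
    rw [show d + 1 - 1 = (d - 1) + 1 by omega, Function.iterate_succ_apply']
  have hmem : ∀ d, 1 ≤ d → S d ∈ deg G d := by
    intro d hd
    induction d, hd using Nat.le_induction with
    | base => exact h1
    | succ d hd ih =>
      rw [hrec d hd, h.deg_succ (by omega) hd]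
      exact commutator_mem_commutator ih (mem_top s)
  have hs1 : s ∉ twoStep G 1 := hs 1 le_rfl (by omega)
  have h2 : S 2 ∉ (⊤ : Subgroup G).lowerCentralSeries 2 := by
    intro hb
    rw [hrec 1 le_rfl, ← layer_eq_one_iff, map_commutatorElement,
      commutatorElement_eq_one_iff_commute] at hb
    have hall : ∀ g : G, Commute (layerMap G 2 s1) (layerMap G 2 g) := by
      intro g
      obtain ⟨z, hz⟩ := h.exists_split le_rfl (by omega) hs1 g
      rw [← inv_mul_cancel_right g (s ^ z), map_mul, map_zpow]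
      refine Commute.mul_right ?_ (hb.zpow_right z)
      rw [← commutatorElement_eq_one_iff_commute, ← map_commutatorElement, layer_eq_one_iff]
      exact h.comm_one_mem (by omega) s1 h1 _ hz
    have hC : ∀ g x : G, ⁅g, x⁆ ∈ (⊤ : Subgroup G).lowerCentralSeries 2 := by
      intro g x
      rw [← layer_eq_one_iff, map_commutatorElement, commutatorElement_eq_one_iff_commute]
      obtain ⟨z, hz⟩ := h.exists_split le_rfl (by omega) hs1 g
      obtain ⟨z', hz'⟩ := h.exists_split le_rfl (by omega) hs1 x
      have hT : ∀ t ∈ twoStep G 1, Commute (layerMap G 2 t) (layerMap G 2 s) := by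
        intro t ht
        obtain ⟨i, w, hw, rfl⟩ : ∃ i : ℤ, ∃ w ∈ (⊤ : Subgroup G).lowerCentralSeries 1, t = s1 ^ i * w := by
          have hM := map_layer_one_card_le h (by omega) (twoStep G 1) (h.twoStep_ne_top (by omega))
          have hne : layerMap G 1 s1 ≠ 1 := fun he => h1' (layer_eq_one_iff.1 he)
          have hpow : (layerMap G 1 s1) ^ p = 1 := by
            rw [← map_pow, layer_eq_one_iff, Subgroup.top_lowerCentralSeries_one]
            exact h.pow_mem_commutator (by omega) s1
          have hMeq : zpowers (layerMap G 1 s1) = (twoStep G 1).map (layerMap G 1) :=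
            Subgroup.eq_of_le_of_card_ge (zpowers_le.2 (mem_map_of_mem _ h1))
              (by rw [Nat.card_zpowers, orderOf_eq_prime hpow hne]; exact hM)
          obtain ⟨i, hi⟩ := hMeq.ge (mem_map_of_mem (layerMap G 1) ht)
          refine ⟨i, (s1 ^ i)⁻¹ * t, ?_, by rw [mul_inv_cancel_left]⟩
          rw [← layer_eq_one_iff, map_mul, map_inv, map_zpow]
          exact inv_mul_eq_one.2 hi
        rw [map_mul, map_zpow]
        exact (hb.zpow_left i).mul_left (layer_commute hw s)
      rw [← inv_mul_cancel_right g (s ^ z), ← inv_mul_cancel_right x (s ^ z'),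
        map_mul (layerMap G 2) (g * (s ^ z)⁻¹), map_mul (layerMap G 2) (x * (s ^ z')⁻¹), map_zpow, map_zpow]
      refine Commute.mul_left (Commute.mul_right ?_ ((hT _ hz).zpow_right z'))
        (Commute.mul_right ((hT _ hz').symm.zpow_left z) ((Commute.refl _).zpow_zpow z z'))
      rw [← commutatorElement_eq_one_iff_commute, ← map_commutatorElement, layer_eq_one_iff]
      exact h.comm_one_mem (by omega) _ hz _ hz'
    have hle : (⊤ : Subgroup G).lowerCentralSeries 1 ≤ (⊤ : Subgroup G).lowerCentralSeries 2 := by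
      rw [Subgroup.top_lowerCentralSeries_one, _root_.commutator_def, commutator_le]
      exact fun g _ x _ => hC g x
    have hc := Subgroup.card_le_of_le hle
    rw [h.lcs_card 1 le_rfl (by omega), h.lcs_card 2 (by omega) (by omega),
      Nat.pow_le_pow_iff_right hp.out.one_lt] at hc
    omega
  refine ⟨S, rfl, hrec, hmem, ?_⟩
  intro d hd
  induction d, hd using Nat.le_induction with
  | base => exact fun _ => h2
  | succ d hd ih =>
    intro hd'
    rw [hrec d (by omega)]
    have h3 := hmem d (by omega)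
    rw [deg_of_two_le hd] at h3
    obtain ⟨e, rfl⟩ : ∃ e, d = e + 1 := ⟨d - 1, by omega⟩
    exact h.step (i := e) (by omega) (by omega) (hs e (by omega) (by omega)) h3 (ih (by omega))

/-- An element killing a nontrivial element of a layer lies in its two-step centralizer. -/
theorem IsMax.mem_twoStep_of_comm {n : ℕ} (h : IsMax p n G) {i : ℕ} (hi : 1 ≤ i) (hi' : i + 2 ≤ n) {x a : G}
    (ha : a ∈ (⊤ : Subgroup G).lowerCentralSeries i) (ha' : a ∉ (⊤ : Subgroup G).lowerCentralSeries (i + 1))
    (hc : ⁅a, x⁆ ∈ (⊤ : Subgroup G).lowerCentralSeries (i + 2)) : x ∈ twoStep G i :=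
  by_contra fun hx => h.step hi hi' hx ha ha' hc

theorem IsMax.twoStep_one_le_of_mem {n : ℕ} (h : IsMax p n G) (hn : 4 ≤ n) {i : ℕ} {x : G}
    (hx : x ∈ twoStep G 1) (hx' : x ∉ (⊤ : Subgroup G).lowerCentralSeries 1) (hxi : x ∈ twoStep G i) :
    twoStep G 1 ≤ twoStep G i := by
  intro t ht
  have hM := map_layer_one_card_le h (by omega) (twoStep G 1) (h.twoStep_ne_top (by omega))
  have hne : layerMap G 1 x ≠ 1 := fun he => hx' (layer_eq_one_iff.1 he)
  have hpow : (layerMap G 1 x) ^ p = 1 := by
    rw [← map_pow, layer_eq_one_iff, Subgroup.top_lowerCentralSeries_one]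
    exact h.pow_mem_commutator (by omega) x
  have hMeq : zpowers (layerMap G 1 x) = (twoStep G 1).map (layerMap G 1) :=
    Subgroup.eq_of_le_of_card_ge (zpowers_le.2 (mem_map_of_mem _ hx))
      (by rw [Nat.card_zpowers, orderOf_eq_prime hpow hne]; exact hM)
  obtain ⟨k, hk⟩ := hMeq.ge (mem_map_of_mem (layerMap G 1) ht)
  rw [← mul_inv_cancel_left (x ^ k) t]
  refine mul_mem (zpow_mem hxi k) (lcs_one_le_two i ?_)
  rw [← layer_eq_one_iff, map_mul, map_inv, map_zpow]
  exact inv_mul_eq_one.2 hk

/-- The top two-step centralizer in odd exponent, given the lower ones. -/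
theorem IsMax.top_step {n : ℕ} (h : IsMax p n G) (hn : 5 ≤ n) (hodd : n % 2 = 1)
    (hT : ∀ i, 1 ≤ i → i + 4 ≤ n → twoStep G 1 ≤ twoStep G i) : twoStep G 1 ≤ twoStep G (n - 3) := by
  obtain ⟨s1, h1, h1'⟩ := h.exists_one_elt (by omega)
  obtain ⟨s, hs0⟩ : ∃ s, s ∉ twoStep G 1 := by
    by_contra h0
    push Not at h0
    exact h.twoStep_ne_top (i := 1) (by omega) (eq_top_iff.2 fun g _ => h0 g)
  have hs : ∀ i, 1 ≤ i → i + 4 ≤ n → s ∉ twoStep G i := fun i hi hi' =>
    h.not_mem_twoStep_of_le le_rfl (by omega) (by omega) (hT i hi hi') hs0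
  obtain ⟨S, hS1, hrec, hmem, hout⟩ := h.exists_chain hn hs h1 h1'
  have hF := h.deg_comm_succ (by omega) (m := n - 4) fun i hi hi' => hT i hi (by omega)
  obtain ⟨m, rfl⟩ : ∃ m, n = 2 * m + 1 := ⟨n / 2, by omega⟩
  have hstep : ∀ i, 1 ≤ i → i + 2 ≤ 2 * m →
      ⁅S (i + 1), S (2 * m - 1 - i)⁆ = ⁅S i, S (2 * m - i)⁆⁻¹ := by
    intro i hi hi'
    have e : ⁅S i, S (2 * m - 1 - i)⁆ ∈ deg G (2 * m) := by
      have := hF i (2 * m - 1 - i) hi (by omega) (by omega) (by omega)
        (commutator_mem_commutator (hmem i hi) (hmem _ (by omega)))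
      rwa [show i + (2 * m - 1 - i) + 1 = 2 * m by omega] at this
    have hc := last_central h (by omega) (x := ⁅S i, S (2 * m - 1 - i)⁆) e
    have cen : ∀ a b, 1 ≤ a → 1 ≤ b → a + b = 2 * m → ∀ g, Commute ⁅S a, S b⁆ g := by
      intro a b ha hb hab g
      refine last_central h (by omega) ?_ g
      have := deg_comm a b ha hb (by omega) (commutator_mem_commutator (hmem a ha) (hmem b hb))
      rwa [hab] at this
    have he : ⁅⁅S i, S (2 * m - 1 - i)⁆, s⁆ = 1 := commutatorElement_eq_one_iff_commute.2 (hc s)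
    rw [comm_derive (a := S i) (b := S (2 * m - 1 - i)) (s := s)] at he
    · rw [← hrec i hi, ← hrec (2 * m - 1 - i) (by omega), show 2 * m - 1 - i + 1 = 2 * m - i by omega] at he
      exact eq_inv_of_mul_eq_one_left he
    · rw [← commutatorElement_eq_one_iff_commute, ← hrec i hi, ← hrec (2 * m - 1 - i) (by omega)]
      refine lcs_lt_eq h le_rfl ?_
      have := deg_comm (i + 1) (2 * m - 1 - i + 1) (by omega) (by omega) (by omega)
        (commutator_mem_commutator (hmem _ (by omega)) (hmem _ (by omega)))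
      rwa [show i + 1 + (2 * m - 1 - i + 1) = 2 * m + 1 by omega] at this
    · rw [← hrec i hi]
      exact cen _ _ (by omega) (by omega) (by omega)
    · rw [← hrec (2 * m - 1 - i) (by omega)]
      exact cen _ _ (by omega) (by omega) (by omega)
    · exact hc _
    · exact hc _
  have hall : ∀ i, 1 ≤ i → i ≤ m → (⁅S i, S (2 * m - i)⁆ = 1 → ⁅S 1, S (2 * m - 1)⁆ = 1) := by
    intro i hi
    induction i, hi using Nat.le_induction with
    | base => exact fun _ h0 => h0
    | succ i hi ih =>
      intro him h0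
      refine ih (by omega) ?_
      rw [show 2 * m - (i + 1) = 2 * m - 1 - i by omega, hstep i hi (by omega), inv_eq_one] at h0
      exact h0
  have h0 := hall m (by omega) le_rfl (by rw [show 2 * m - m = m by omega, commutatorElement_self])
  refine h.twoStep_one_le_of_mem (by omega) h1 h1' ?_
  have hm1 := hmem (2 * m - 1) (by omega)
  rw [deg_of_two_le (by omega)] at hm1
  refine h.mem_twoStep_of_comm (a := S (2 * m - 1)) (by omega) (by omega) ?_ ?_ ?_
  · rwa [show 2 * m + 1 - 3 = 2 * m - 1 - 1 by omega]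
  · have := hout (2 * m - 1) (by omega) (by omega)
    rwa [show 2 * m + 1 - 3 + 1 = 2 * m - 1 by omega]
  · rw [← commutatorElement_inv, ← hS1, h0, inv_one]
    exact one_mem _

/-- The last but one two-step centralizer in odd exponent. -/
theorem IsMax.next_step {n : ℕ} (h : IsMax p n G) (hn : 7 ≤ n) (hodd : n % 2 = 1)
    (hT : ∀ i, 1 ≤ i → i + 5 ≤ n → twoStep G 1 ≤ twoStep G i) : twoStep G 1 ≤ twoStep G (n - 4) := by
  have hp2 := hp.out.two_le
  by_contra hnot
  rcases Nat.lt_or_ge (p - 1) (n - 4) with hbig | hsmall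
  · refine hnot ?_
    have h1 := h.twoStep_le_shift (k := n - 4 - (p - 1)) (by omega) (by omega)
    rw [show n - 4 - (p - 1) + (p - 1) = n - 4 by omega] at h1
    exact (hT _ (by omega) (by omega)).trans h1
  obtain ⟨s1, h1, h1'⟩ := h.exists_one_elt (by omega)
  obtain ⟨s, hs'⟩ := exists_avoid h.isPGroup ({1, n - 4} : Finset ℕ) (twoStep G)
    ((Finset.card_insert_le _ _).trans (by simpa using hp2))
    (fun i hi => h.twoStep_ne_top (by
      rw [Finset.mem_insert, Finset.mem_singleton] at hi
      omega))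
  have hs0 : s ∉ twoStep G 1 := hs' 1 (by simp)
  have hs : ∀ i, 1 ≤ i → i + 4 ≤ n → s ∉ twoStep G i := by
    intro i hi hi'
    rcases Nat.lt_or_ge i (n - 4) with hlt | hge
    · exact h.not_mem_twoStep_of_le le_rfl (by omega) (by omega) (hT i hi (by omega)) hs0
    · exact hs' i (by rw [show i = n - 4 by omega]; simp)
  obtain ⟨S, hS1, hrec, hmem, hout⟩ := h.exists_chain (by omega) hs h1 h1'
  have hF := h.deg_comm_succ (by omega) (m := n - 5) fun i hi hi' => hT i hi (by omega)
  obtain ⟨m, rfl⟩ : ∃ m, n = 2 * m + 1 := ⟨n / 2, by omega⟩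
  set M := 2 * m - 1 with hM
  set α : ℕ → G := fun i => ⁅S i, S (M - i)⁆ with hα
  set β : ℕ → G := fun i => ⁅S i, S (M + 1 - i)⁆ with hβ
  have hα_mem : ∀ i, 1 ≤ i → i + 1 ≤ M → α i ∈ deg G M := by
    intro i hi hi'
    have := deg_comm i (M - i) hi (by omega) (by omega)
      (commutator_mem_commutator (hmem i hi) (hmem _ (by omega)))
    rwa [show i + (M - i) = M by omega] at this
  have hdegM : deg G M = (⊤ : Subgroup G).lowerCentralSeries (M - 1) := deg_of_two_le (by omega)
  have hdegM1 : deg G (M + 1) = (⊤ : Subgroup G).lowerCentralSeries M := deg_of_two_le (by omega)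
  have hcen : ∀ x ∈ deg G (M + 1), ∀ g, Commute x g := fun x hx g =>
    last_central h (by omega) (by rwa [show 2 * m + 1 - 1 = M + 1 by omega]) g
  have hone : ∀ x, ∀ d, M + 2 ≤ d → x ∈ deg G d → x = 1 := fun x d hd hx => lcs_lt_eq h (by omega) hx
  have hcomm : ∀ a b : ℕ, 1 ≤ a → 1 ≤ b → M + 2 ≤ a + b → ∀ x ∈ deg G a, ∀ y ∈ deg G b, Commute x y :=
    fun a b ha hb hab x hx y hy => commutatorElement_eq_one_iff_commute.1
      (hone _ (a + b) hab (deg_comm a b ha hb (by omega) (commutator_mem_commutator hx hy)))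
  -- neighbouring values cancel modulo the last term
  have hαstep : ∀ i, 1 ≤ i → i + 2 ≤ M → α (i + 1) * α i ∈ deg G (M + 1) := by
    intro i hi hi'
    rw [hdegM1]
    set q := layerMap G M
    have hq : ∀ x, x ∈ deg G (M + 1) → q x = 1 := fun x hx => layer_eq_one_iff.2 (hdegM1 ▸ hx)
    have hc : ⁅S i, S (M - 1 - i)⁆ ∈ deg G M := by
      have := hF i (M - 1 - i) hi (by omega) (by omega) (by omega)
        (commutator_mem_commutator (hmem i hi) (hmem _ (by omega)))
      rwa [show i + (M - 1 - i) + 1 = M by omega] at this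
    have hqc : ∀ x ∈ deg G M, ∀ g : G, Commute (q x) (q g) := by
      intro x hx g
      rw [← commutatorElement_eq_one_iff_commute, ← map_commutatorElement]
      refine hq _ ?_
      rw [h.deg_succ (by omega) (by omega)]
      exact commutator_mem_commutator hx (mem_top g)
    rw [← layer_eq_one_iff]
    have hd : ⁅⁅q (S i), q (S (M - 1 - i))⁆, q s⁆ =
        ⁅⁅q (S i), q s⁆, q (S (M - 1 - i))⁆ * ⁅q (S i), ⁅q (S (M - 1 - i)), q s⁆⁆ := by
      refine comm_derive ?_ ?_ ?_ ?_ ?_
      · rw [← map_commutatorElement, ← map_commutatorElement, ← hrec i hi, ← hrec (M - 1 - i) (by omega),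
          ← commutatorElement_eq_one_iff_commute, ← map_commutatorElement]
        refine hq _ ?_
        have := deg_comm (i + 1) (M - 1 - i + 1) (by omega) (by omega) (by omega)
          (commutator_mem_commutator (hmem _ (by omega)) (hmem _ (by omega)))
        rwa [show i + 1 + (M - 1 - i + 1) = M + 1 by omega] at this
      · intro g
        obtain ⟨g, rfl⟩ := QuotientGroup.mk'_surjective _ g
        rw [← map_commutatorElement, ← hrec i hi, ← map_commutatorElement]
        refine hqc _ ?_ g
        have := deg_comm (i + 1) (M - 1 - i) (by omega) (by omega) (by omega)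
          (commutator_mem_commutator (hmem _ (by omega)) (hmem _ (by omega)))
        rwa [show i + 1 + (M - 1 - i) = M by omega] at this
      · intro g
        obtain ⟨g, rfl⟩ := QuotientGroup.mk'_surjective _ g
        rw [← map_commutatorElement, ← hrec (M - 1 - i) (by omega), ← map_commutatorElement]
        refine hqc _ ?_ g
        have := deg_comm i (M - 1 - i + 1) hi (by omega) (by omega)
          (commutator_mem_commutator (hmem _ hi) (hmem _ (by omega)))
        rwa [show i + (M - 1 - i + 1) = M by omega] at this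
      · rw [← map_commutatorElement, ← map_commutatorElement]
        exact hqc _ hc _
      · rw [← map_commutatorElement, ← map_commutatorElement]
        exact hqc _ hc _
    rw [← map_commutatorElement q (S i) (S (M - 1 - i)),
      commutatorElement_eq_one_iff_commute.2 (hqc _ hc s), ← map_commutatorElement, ← map_commutatorElement,
      ← map_commutatorElement, ← map_commutatorElement, ← hrec i hi, ← hrec (M - 1 - i) (by omega),
      show M - 1 - i + 1 = M - i by omega, ← map_mul, eq_comm] at hd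
    show q (⁅S (i + 1), S (M - (i + 1))⁆ * ⁅S i, S (M - i)⁆) = 1
    rw [show M - (i + 1) = M - 1 - i by omega]
    exact hd
  -- the first value is nontrivial
  have hα1 : α 1 ∉ deg G (M + 1) := by
    intro hb
    apply hnot
    refine h.twoStep_one_le_of_mem (by omega) h1 h1' ?_
    have hm1 := hmem (M - 1) (by omega)
    rw [deg_of_two_le (by omega)] at hm1
    refine h.mem_twoStep_of_comm (a := S (M - 1)) (by omega) (by omega) ?_ ?_ ?_
    · rwa [show 2 * m + 1 - 4 = M - 1 - 1 by omega]
    · have := hout (M - 1) (by omega) (by omega)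
      rwa [show 2 * m + 1 - 4 + 1 = M - 1 by omega]
    · rw [← commutatorElement_inv, ← hS1, show 2 * m + 1 - 4 + 2 = M by omega]
      exact inv_mem (hdegM1 ▸ hb)
  have hα2 : α 2 ∉ deg G (M + 1) := fun hb => hα1 (by
    have := mul_mem (inv_mem hb) (hαstep 1 le_rfl (by omega))
    rwa [inv_mul_cancel_left] at this)
  -- the first two-step centralizer kills the top layer
  have hkill : ⁅α 2, s1⁆ = 1 := by
    have ha : ⁅S 2, s1⁆ ∈ deg G 4 := by
      have := hF 2 1 (by omega) le_rfl (by omega) (by omega) (commutator_mem_commutator (hmem 2 (by omega)) h1)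
      exact this
    have hb : ⁅S (M - 2), s1⁆ ∈ deg G M := by
      have := hF (M - 2) 1 (by omega) le_rfl (by omega) (by omega)
        (commutator_mem_commutator (hmem _ (by omega)) h1)
      rwa [show M - 2 + 1 + 1 = M by omega] at this
    have hc := hα_mem 2 (by omega) (by omega)
    have hA : ⁅⁅S 2, s1⁆, S (M - 2)⁆ = 1 := hone _ (4 + (M - 2)) (by omega)
      (deg_comm 4 (M - 2) (by omega) (by omega) (by omega)
        (commutator_mem_commutator ha (hmem _ (by omega))))
    have hB : ⁅S 2, ⁅S (M - 2), s1⁆⁆ = 1 := hone _ (2 + M) (by omega)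
      (deg_comm 2 M (by omega) (by omega) (by omega) (commutator_mem_commutator (hmem _ (by omega)) hb))
    show ⁅⁅S 2, S (M - 2)⁆, s1⁆ = 1
    rw [comm_derive (hcomm 4 M (by omega) (by omega) (by omega) _ ha _ hb)
      (fun g => by rw [hA]; exact Commute.one_left g) (fun g => by rw [hB]; exact Commute.one_left g)
      (hcomm M 4 (by omega) (by omega) (by omega) _ hc _ ha)
      (hcomm M M (by omega) (by omega) (by omega) _ hc _ hb), hA, hB, one_mul]
  have hTtop : twoStep G 1 ≤ twoStep G (2 * m + 1 - 3) := by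
    refine h.twoStep_one_le_of_mem (by omega) h1 h1' (h.mem_twoStep_of_comm (a := α 2) (by omega) (by omega)
      ?_ ?_ ?_)
    · rw [show 2 * m + 1 - 3 = M - 1 by omega, ← hdegM]
      exact hα_mem 2 (by omega) (by omega)
    · rwa [show 2 * m + 1 - 3 + 1 = M by omega, ← hdegM1]
    · rw [hkill]
      exact one_mem _
  have hstop : s ∉ twoStep G (2 * m + 1 - 3) := h.not_mem_twoStep_of_le le_rfl (by omega) (by omega) hTtop hs0
  set μ := ⁅α 1, s⁆ with hμ
  have hμ1 : μ ≠ 1 := by
    intro he
    refine hstop (h.mem_twoStep_of_comm (a := α 1) (by omega) (by omega) ?_ ?_ (by rw [← hμ, he]; exact one_mem _))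
    · rw [show 2 * m + 1 - 3 = M - 1 by omega, ← hdegM]
      exact hα_mem 1 le_rfl (by omega)
    · rwa [show 2 * m + 1 - 3 + 1 = M by omega, ← hdegM1]
  have hσmem : ∀ x ∈ deg G M, ⁅x, s⁆ ∈ deg G (M + 1) := fun x hx => by
    rw [h.deg_succ (by omega) (by omega)]
    exact commutator_mem_commutator hx (mem_top s)
  have hμc := hcen μ (hσmem _ (hα_mem 1 le_rfl (by omega)))
  have hμp : μ ^ p = 1 := by
    have hmem := hσmem _ (hα_mem 1 le_rfl (by omega))
    rw [hdegM1] at hmem
    have hcard := h.lcs_card M (by omega) (by omega)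
    rw [show 2 * m + 1 - 1 - M = 1 by omega, pow_one] at hcard
    have := pow_card_eq_one' (G := (⊤ : Subgroup G).lowerCentralSeries M) (x := ⟨μ, hmem⟩)
    rw [hcard] at this
    exact congrArg Subtype.val this
  -- commutation with `s` alternates
  have hσ : ∀ i, 1 ≤ i → i + 1 ≤ M → ⁅α i, s⁆ = μ ^ ((-1 : ℤ) ^ (i + 1)) := by
    intro i hi
    induction i, hi using Nat.le_induction with
    | base => intro _; rw [show ((-1 : ℤ) ^ (1 + 1)) = 1 by norm_num, zpow_one]
    | succ i hi ih =>
      intro hi'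
      have hst := hαstep i hi (by omega)
      have h2 : ⁅α (i + 1) * α i, s⁆ = 1 := commutatorElement_eq_one_iff_commute.2 (hcen _ hst s)
      rw [show ⁅α (i + 1) * α i, s⁆ = α (i + 1) * ⁅α i, s⁆ * (α (i + 1))⁻¹ * ⁅α (i + 1), s⁆ by
          simp only [commutatorElement_def]; group,
        ← (hcen _ (hσmem _ (hα_mem i hi (by omega))) (α (i + 1))).eq, mul_inv_cancel_right] at h2
      rw [eq_inv_of_mul_eq_one_right h2, ih (by omega), ← zpow_neg, pow_succ]
      ring_nf
  have hβrec : ∀ i, 1 ≤ i → i + 1 ≤ M → ⁅α i, s⁆ = β (i + 1) * β i := by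
    intro i hi hi'
    have key := comm_derive (a := S i) (b := S (M - i)) (s := s)
    rw [← hrec i hi, ← hrec (M - i) (by omega), show M - i + 1 = M + 1 - i by omega] at key
    show ⁅⁅S i, S (M - i)⁆, s⁆ = ⁅S (i + 1), S (M + 1 - (i + 1))⁆ * ⁅S i, S (M + 1 - i)⁆
    rw [show M + 1 - (i + 1) = M - i by omega]
    refine key ?_ ?_ ?_ ?_ ?_
    · exact hcomm (i + 1) (M + 1 - i) (by omega) (by omega) (by omega) _ (hmem _ (by omega)) _
        (hmem _ (by omega))
    · intro g
      refine hcen _ ?_ g
      have := deg_comm (i + 1) (M - i) (by omega) (by omega) (by omega)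
        (commutator_mem_commutator (hmem _ (by omega)) (hmem _ (by omega)))
      rwa [show i + 1 + (M - i) = M + 1 by omega] at this
    · intro g
      refine hcen _ ?_ g
      have := deg_comm i (M + 1 - i) hi (by omega) (by omega)
        (commutator_mem_commutator (hmem _ hi) (hmem _ (by omega)))
      rwa [show i + (M + 1 - i) = M + 1 by omega] at this
    · exact hcomm M (i + 1) (by omega) (by omega) (by omega) _ (hα_mem i hi hi') _ (hmem _ (by omega))
    · exact hcomm M (M + 1 - i) (by omega) (by omega) (by omega) _ (hα_mem i hi hi') _ (hmem _ (by omega))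
  have hβ1 : β 1 = 1 := by
    show ⁅S 1, S (M + 1 - 1)⁆ = 1
    rw [show M + 1 - 1 = M by omega, commutatorElement_eq_one_iff_commute]
    have hM' := hmem M (by omega)
    rw [hdegM] at hM'
    have h3 := mem_twoStep.1 (hTtop h1) (S M) (by rwa [show 2 * m + 1 - 3 = M - 1 by omega])
    rw [h.lcs_bot_of_le (by omega), mem_bot, commutatorElement_eq_one_iff_commute] at h3
    rw [hS1]
    exact h3.symm
  have hβform : ∀ i, i + 1 ≤ M → β (i + 1) = μ ^ ((-1 : ℤ) ^ (i + 1) * i) := by
    intro i
    induction i with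
    | zero => intro _; simpa using hβ1
    | succ i ih =>
      intro hi
      have h2 := hβrec (i + 1) (by omega) (by omega)
      rw [hσ (i + 1) (by omega) (by omega), ih (by omega), eq_comm, ← eq_mul_inv_iff_mul_eq,
        ← zpow_neg, ← zpow_add] at h2
      rw [h2]
      congr 1
      push_cast
      ring
  have hmid : β m = 1 := by
    show ⁅S m, S (M + 1 - m)⁆ = 1
    rw [show M + 1 - m = m by omega, commutatorElement_self]
  obtain ⟨k, rfl⟩ : ∃ k, m = k + 1 := ⟨m - 1, by omega⟩
  rw [hβform k (by omega), ← orderOf_dvd_iff_zpow_eq_one, orderOf_eq_prime hμp hμ1] at hmid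
  have h3 : (p : ℤ) ∣ k := by
    rcases neg_one_pow_eq_or ℤ (k + 1) with e | e <;> rw [e] at hmid <;> simpa using hmid
  have := Nat.le_of_dvd (by omega) (Int.natCast_dvd_natCast.1 h3)
  omega

theorem blackburn_aux : ∀ (n : ℕ) (G : Type u) [Group G] [Finite G], IsMax p n G →
    (∀ i, 1 ≤ i → i + 4 ≤ n → twoStep G 1 ≤ twoStep G i) ∧
      (n % 2 = 1 → 5 ≤ n → twoStep G 1 ≤ twoStep G (n - 3)) := by
  intro n
  induction n using Nat.strong_induction_on with
  | _ n ih =>
    intro G _ _ h
    have hlow : ∀ i, 1 ≤ i → i + 4 ≤ n → twoStep G 1 ≤ twoStep G i := by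
      intro i hi hi'
      obtain ⟨ihl, iht⟩ := ih (n - 1) (by omega) (G ⧸ (⊤ : Subgroup G).lowerCentralSeries (n - 2))
        (by have := h.quot (j := n - 2) (by omega) (by omega); rwa [show n - 2 + 1 = n - 1 by omega] at this)
      have back : ∀ k, k + 2 ≤ n - 2 → twoStep (G ⧸ (⊤ : Subgroup G).lowerCentralSeries (n - 2)) 1 ≤
          twoStep (G ⧸ (⊤ : Subgroup G).lowerCentralSeries (n - 2)) k → twoStep G 1 ≤ twoStep G k :=
        fun k hk hle x hx => (h.twoStep_quot hk (by omega)).1 (hle (twoStep_map _ 1 hx))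
      have hfive : ∀ k, 1 ≤ k → k + 5 ≤ n → twoStep G 1 ≤ twoStep G k :=
        fun k hk hk' => back k (by omega) (ihl k hk (by omega))
      rcases Nat.lt_or_ge i (n - 4) with hlt | hge
      · exact hfive i hi (by omega)
      obtain rfl : i = n - 4 := by omega
      rcases Nat.mod_two_eq_zero_or_one n with he | ho
      · rcases Nat.lt_or_ge n 6 with h6 | h6
        · omega
        · refine back _ (by omega) ?_
          have := iht (by omega) (by omega)
          rwa [show n - 1 - 3 = n - 4 by omega] at this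
      · rcases Nat.lt_or_ge n 7 with h7 | h7
        · rw [show n - 4 = 1 by omega]
        · exact h.next_step h7 ho hfive
    exact ⟨hlow, fun ho h5 => h.top_step h5 ho hlow⟩

/-- All two-step centralizers below the top one are equal to the first. -/
theorem IsMax.twoStep_eq_one {n : ℕ} (h : IsMax p n G) {i : ℕ} (hi : 1 ≤ i) (hi' : i + 4 ≤ n) :
    twoStep G i = twoStep G 1 := by
  have hle := (blackburn_aux n G h).1 i hi hi'
  refine le_antisymm (fun x hx => by_contra fun hx1 => ?_) hle
  exact h.not_mem_twoStep_of_le le_rfl (by omega) (by omega) hle hx1 hx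

/-- In odd exponent the top two-step centralizer is the first one. -/
theorem IsMax.twoStep_top_eq_one {n : ℕ} (h : IsMax p n G) (hn : 5 ≤ n) (hodd : n % 2 = 1) :
    twoStep G (n - 3) = twoStep G 1 := by
  have hle := (blackburn_aux n G h).2 hodd hn
  refine le_antisymm (fun x hx => by_contra fun hx1 => ?_) hle
  exact h.not_mem_twoStep_of_le le_rfl (by omega) (by omega) hle hx1 hx

end Cfsg.Agent.FGB.MaxClass
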