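import Cfsg.Agent.Lib.FGB.MaxClassAmbient

/-!
Congruences modulo lower central terms and commutator arithmetic.
-/

set_option autoImplicit false

namespace Cfsg.Agent.FGB.MaxClass.Ambient

open Subgroup Cfsg.Agent.FGB.MaxClass
open scoped commutatorElement

universe u

section Plain

variable {G : Type u} [Group G]

/-- Powers in a commutator with central value. -/
theorem comm_zpow_exact {x y : G} (hx : Commute ⁅y, x⁆ x) (hy : Commute ⁅y, x⁆ y) (a b : ℤ) :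
    ⁅y ^ a, x ^ b⁆ = ⁅y, x⁆ ^ (a * b) := by
  set d := ⁅y, x⁆ with hd
  have h1 : ∀ b : ℤ, y * x ^ b * y⁻¹ = d ^ b * x ^ b := by
    intro b
    rw [← conj_zpow, show y * x * y⁻¹ = d * x by rw [hd, commutatorElement_def, inv_mul_cancel_right],
      hx.mul_zpow]
  have h2 : x ^ b * y * (x ^ b)⁻¹ = d ^ (-b) * y := by
    have h := h1 b
    calc x ^ b * y * (x ^ b)⁻¹ = (d ^ b)⁻¹ * (d ^ b * x ^ b) * y * (x ^ b)⁻¹ := by group
      _ = (d ^ b)⁻¹ * (y * x ^ b * y⁻¹) * y * (x ^ b)⁻¹ := by rw [h]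
      _ = d ^ (-b) * y := by group
  have h3 : x ^ b * y ^ a * (x ^ b)⁻¹ = d ^ (-b * a) * y ^ a := by
    rw [← conj_zpow, h2, (hy.zpow_left (-b)).mul_zpow, ← zpow_mul]
  calc ⁅y ^ a, x ^ b⁆ = y ^ a * (x ^ b * y ^ a * (x ^ b)⁻¹)⁻¹ := by rw [commutatorElement_def]; group
    _ = d ^ (a * b) := by rw [h3, mul_inv_rev, mul_inv_cancel_left, ← zpow_neg]; congr 1; ring

/-- A commutator unchanged by commuting corrections, with the first entry inverted. -/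
theorem comm_inv_correct {w y r r' : G} (h1 : Commute r y) (h2 : Commute r r') (h3 : Commute w r')
    (h4 : Commute ⁅w, y⁆ w) : ⁅w⁻¹ * r, y * r'⁆ = (⁅w, y⁆)⁻¹ := by
  have e1 : ⁅w⁻¹ * r, y * r'⁆ = w⁻¹ * ⁅r, y * r'⁆ * w * ⁅w⁻¹, y * r'⁆ := by
    simp only [commutatorElement_def]; group
  have e2 : ⁅w⁻¹, y * r'⁆ = ⁅w⁻¹, y⁆ * (y * ⁅w⁻¹, r'⁆ * y⁻¹) := by
    simp only [commutatorElement_def]; group
  have e3 : ⁅w⁻¹, y⁆ = w⁻¹ * (⁅w, y⁆)⁻¹ * w := by simp only [commutatorElement_def]; group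
  rw [e1, commutatorElement_eq_one_iff_commute.2 (h1.mul_right h2), e2,
    commutatorElement_eq_one_iff_commute.2 h3.inv_left, e3, mul_assoc w⁻¹ (⁅w, y⁆)⁻¹, (h4.inv_left).eq]
  group

end Plain

variable {Ω : Type u} [Group Ω] {S : Subgroup Ω}

open Classical in
/-- The image of an element of `S` modulo a lower central term. -/
noncomputable def chi (S : Subgroup Ω) (j : ℕ) (x : Ω) : S ⧸ (⊤ : Subgroup S).lowerCentralSeries j :=
  if hx : x ∈ S then layerMap S j ⟨x, hx⟩ else 1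

theorem chi_coe (j : ℕ) (a : S) : chi S j (a : Ω) = layerMap S j a := by
  rw [chi, dif_pos a.2]

theorem chi_apply (j : ℕ) {x : Ω} (hx : x ∈ S) : chi S j x = layerMap S j ⟨x, hx⟩ := chi_coe j ⟨x, hx⟩

theorem chi_mul {j : ℕ} {x y : Ω} (hx : x ∈ S) (hy : y ∈ S) : chi S j (x * y) = chi S j x * chi S j y := by
  rw [chi_apply j hx, chi_apply j hy, ← map_mul]
  exact chi_coe j (⟨x, hx⟩ * ⟨y, hy⟩)

theorem chi_zpow {j : ℕ} {x : Ω} (hx : x ∈ S) (k : ℤ) : chi S j (x ^ k) = chi S j x ^ k := by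
  rw [chi_apply j hx, ← map_zpow]
  exact chi_coe j (⟨x, hx⟩ ^ k)

theorem chi_inv {j : ℕ} {x : Ω} (hx : x ∈ S) : chi S j x⁻¹ = (chi S j x)⁻¹ := by
  rw [chi_apply j hx, ← map_inv]
  exact chi_coe j (⟨x, hx⟩⁻¹)

theorem chi_eq_one_iff {j : ℕ} {x : Ω} (hx : x ∈ S) : chi S j x = 1 ↔ x ∈ S.lowerCentralSeries j := by
  rw [chi_apply j hx, layer_eq_one_iff]
  exact (mem_lcs_iff (a := (⟨x, hx⟩ : S))).symm

theorem chi_eq_iff {j : ℕ} {x y : Ω} (hx : x ∈ S) (hy : y ∈ S) :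
    chi S j x = chi S j y ↔ x⁻¹ * y ∈ S.lowerCentralSeries j := by
  rw [← chi_eq_one_iff (mul_mem (inv_mem hx) hy), chi_mul (inv_mem hx) hy, chi_inv hx, inv_mul_eq_one]

/-- Commutation from a layer to the next one is bilinear. -/
theorem chi_comm {i : ℕ} {h r y : Ω} (hh : h ∈ S.lowerCentralSeries i) (hr : r ∈ S.lowerCentralSeries (i + 1))
    (hy : y ∈ S) (a b : ℤ) :
    chi S (i + 2) ⁅h ^ a * r, y ^ b⁆ = chi S (i + 2) ⁅h, y⁆ ^ (a * b) := by
  set h0 : S := ⟨h, lcs_le i hh⟩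
  set r0 : S := ⟨r, lcs_le _ hr⟩
  set y0 : S := ⟨y, hy⟩
  have hh0 : h0 ∈ (⊤ : Subgroup S).lowerCentralSeries i := (mem_lcs_iff (a := h0)).1 hh
  have hr0 : r0 ∈ (⊤ : Subgroup S).lowerCentralSeries (i + 1) := (mem_lcs_iff (a := r0)).1 hr
  have hr1 : r0 ∈ (⊤ : Subgroup S).lowerCentralSeries i :=
    (⊤ : Subgroup S).lowerCentralSeries_antitone (Nat.le_succ i) hr0
  have e : layerMap S (i + 2) ⁅h0 ^ a * r0, y0 ^ b⁆ = layerMap S (i + 2) ⁅h0, y0⁆ ^ (a * b) := by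
    rw [layer_comm_mul_left hr1, layer_comm_eq_one hr0, one_mul,
      show layerMap S (i + 2) ⁅h0 ^ a, y0 ^ b⁆ = commHomLeft S i (y0 ^ b) (⟨h0, hh0⟩ ^ a) from rfl, map_zpow]
    show (layerMap S (i + 2) ⁅h0, y0 ^ b⁆) ^ a = _
    rw [show layerMap S (i + 2) ⁅h0, y0 ^ b⁆ = commHom S i ⟨h0, hh0⟩ (y0 ^ b) from rfl, map_zpow, ← zpow_mul,
      mul_comm b a]
    rfl
  rw [← chi_coe, ← chi_coe] at e
  exact e

variable {p : ℕ} [hp : Fact p.Prime] [Finite S] {n : ℕ} (h : IsMax p n S)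
include h

theorem pow_mem_succ {i : ℕ} (hi : 1 ≤ i) (hi' : i + 2 ≤ n) {u : Ω} (hu : u ∈ S.lowerCentralSeries i) :
    u ^ p ∈ S.lowerCentralSeries (i + 1) := by
  set L := S.lowerCentralSeries i
  set M := (S.lowerCentralSeries (i + 1)).subgroupOf L
  haveI hn : M.Normal := ⟨fun m hm g => by
    have h2 : (g : Ω) * (m : Ω) * (g : Ω)⁻¹ ∈ S.lowerCentralSeries (i + 1) := lcs_conj hm (lcs_le i g.2)
    exact h2⟩
  haveI : Finite L := Finite.of_injective _ (Subgroup.inclusion_injective (lcs_le (S := S) i))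
  have hidx : M.index = p := by
    have h1 := M.card_mul_index
    rw [Nat.card_congr (Subgroup.subgroupOfEquivOfLe (lcs_anti (S := S) (Nat.le_succ i))).toEquiv,
      card_lcs h (i := i + 1) (by omega) (by omega), card_lcs h hi (by omega),
      show n - 1 - i = n - 1 - (i + 1) + 1 by omega, pow_succ] at h1
    exact Nat.eq_of_mul_eq_mul_left (pow_pos hp.out.pos _) h1
  have := Subgroup.pow_index_mem M (⟨u, hu⟩ : L)
  rw [hidx] at this
  exact this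

end Cfsg.Agent.FGB.MaxClass.Ambient
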