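import Cfsg.Agent.Lib.FGB.MaxClassThree

/-!
Blackburn's theorem on two-step centralizers: below the top they all coincide, and at the top too
when the group has odd exponent.
-/

set_option autoImplicit false

namespace Cfsg.Agent.FGB.MaxClass

open Subgroup
open scoped commutatorElement

universe u

variable {p : ℕ} [hp : Fact p.Prime] {G : Type u} [Group G]

/-- The derivation rule for a commutator, when the correction terms are central. -/
theorem comm_derive {a b s : G} (h1 : Commute ⁅a, s⁆ ⁅b, s⁆)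
    (h2 : ∀ g : G, Commute ⁅⁅a, s⁆, b⁆ g) (h3 : ∀ g : G, Commute ⁅a, ⁅b, s⁆⁆ g)
    (h4 : Commute ⁅a, b⁆ ⁅a, s⁆) (h5 : Commute ⁅a, b⁆ ⁅b, s⁆) :
    ⁅⁅a, b⁆, s⁆ = ⁅⁅a, s⁆, b⁆ * ⁅a, ⁅b, s⁆⁆ := by
  set a' := ⁅a, s⁆ with ha'
  set b' := ⁅b, s⁆ with hb'
  set c := ⁅a, b⁆ with hc
  set A := ⁅a', b⁆ with hA
  set B := ⁅a, b'⁆ with hB
  have ea : s * a * s⁻¹ = a'⁻¹ * a := by rw [ha', commutatorElement_def]; group
  have eb : s * b * s⁻¹ = b'⁻¹ * b := by rw [hb', commutatorElement_def]; group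
  have e1 : ⁅a'⁻¹, b⁆ = A⁻¹ := by
    rw [show ⁅a'⁻¹, b⁆ = a'⁻¹ * A⁻¹ * a' by rw [hA, commutatorElement_def, commutatorElement_def]; group,
      mul_assoc, ((h2 a').inv_left).eq, ← mul_assoc, inv_mul_cancel, one_mul]
  have e2 : ⁅a, b'⁻¹⁆ = B⁻¹ := by
    rw [show ⁅a, b'⁻¹⁆ = b'⁻¹ * B⁻¹ * b' by rw [hB, commutatorElement_def, commutatorElement_def]; group,
      mul_assoc, ((h3 b').inv_left).eq, ← mul_assoc, inv_mul_cancel, one_mul]
  have e3 : ⁅a'⁻¹, b'⁻¹ * b⁆ = A⁻¹ := by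
    rw [show ⁅a'⁻¹, b'⁻¹ * b⁆ = ⁅a'⁻¹, b'⁻¹⁆ * (b'⁻¹ * ⁅a'⁻¹, b⁆ * b') by
        simp only [commutatorElement_def]; group, e1,
      commutatorElement_eq_one_iff_commute.2 h1.inv_left.inv_right, one_mul,
      mul_assoc, ((h2 b').inv_left).eq, ← mul_assoc, inv_mul_cancel, one_mul]
  have e4 : ⁅a, b'⁻¹ * b⁆ = B⁻¹ * c := by
    rw [show ⁅a, b'⁻¹ * b⁆ = ⁅a, b'⁻¹⁆ * (b'⁻¹ * c * b') by
        rw [hc]; simp only [commutatorElement_def]; group, e2, mul_assoc, h5.eq,
      ← mul_assoc b'⁻¹, inv_mul_cancel, one_mul]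
  have hBc : Commute a' (B⁻¹ * c) := ((h3 a').inv_left.symm).mul_right h4.symm
  have e5 : s * c * s⁻¹ = B⁻¹ * c * A⁻¹ := by
    rw [show s * c * s⁻¹ = ⁅s * a * s⁻¹, s * b * s⁻¹⁆ by
        rw [hc]; simp only [commutatorElement_def]; group, ea, eb,
      show ⁅a'⁻¹ * a, b'⁻¹ * b⁆ = a'⁻¹ * ⁅a, b'⁻¹ * b⁆ * a' * ⁅a'⁻¹, b'⁻¹ * b⁆ by
        simp only [commutatorElement_def]; group, e3, e4, mul_assoc a'⁻¹, ← hBc.eq, ← mul_assoc,
      inv_mul_cancel, one_mul]
  rw [show ⁅c, s⁆ = c * (s * c * s⁻¹)⁻¹ by rw [commutatorElement_def]; group, e5, mul_inv_rev,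
    mul_inv_rev, inv_inv, inv_inv, ← mul_assoc, ← (h2 c).eq, mul_assoc, ← mul_assoc c,
    mul_inv_cancel, one_mul]

variable (G) in
/-- The series with the first two-step centralizer in degree one. -/
def deg : ℕ → Subgroup G
  | 0 => ⊤
  | 1 => twoStep G 1
  | n + 2 => (⊤ : Subgroup G).lowerCentralSeries (n + 1)

theorem lcs_one_le_two (i : ℕ) : (⊤ : Subgroup G).lowerCentralSeries 1 ≤ twoStep G i := by
  intro s hs
  rw [mem_twoStep]
  intro u hu
  exact FGS.PolySeq.fil_comm (G := G) 2 (i + 1) (commutator_mem_commutator hu hs)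

theorem deg_of_two_le {d : ℕ} (hd : 2 ≤ d) : deg G d = (⊤ : Subgroup G).lowerCentralSeries (d - 1) := by
  obtain ⟨e, rfl⟩ : ∃ e, d = e + 2 := ⟨d - 2, by omega⟩
  rfl

theorem deg_le_lcs {d : ℕ} : deg G d ≤ (⊤ : Subgroup G).lowerCentralSeries (d - 1) := by
  rcases d with _ | _ | d
  · exact le_rfl
  · exact le_top
  · exact le_rfl

theorem deg_comm (i j : ℕ) (hi : 1 ≤ i) (hj : 1 ≤ j) (hij : 3 ≤ i + j) :
    ⁅deg G i, deg G j⁆ ≤ deg G (i + j) := by
  refine (commutator_mono deg_le_lcs deg_le_lcs).trans ?_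
  rw [deg_of_two_le (by omega)]
  have := FGS.PolySeq.fil_comm (G := G) j i
  obtain ⟨a, rfl⟩ : ∃ a, i = a + 1 := ⟨i - 1, by omega⟩
  obtain ⟨b, rfl⟩ : ∃ b, j = b + 1 := ⟨j - 1, by omega⟩
  obtain ⟨c, hc⟩ : ∃ c, a + 1 + (b + 1) = c + 1 := ⟨a + b + 1, by omega⟩
  rw [hc] at this ⊢
  exact this

section
variable [Finite G]

theorem IsMax.exists_split {n : ℕ} (h : IsMax p n G) {k : ℕ} (hk : 1 ≤ k) (hk' : k + 3 ≤ n)
    {s : G} (hs : s ∉ twoStep G k) (g : G) : ∃ z : ℤ, g * (s ^ z)⁻¹ ∈ twoStep G k := by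
  obtain ⟨a, ha, ha'⟩ := h.exists_layer_elt hk (by omega)
  have hac := h.step hk (by omega) hs ha ha'
  obtain ⟨z, w, hw, he⟩ := h.exists_zpow_mul (i := k + 1) (by omega) (by omega) (comm_mem_succ ha s) hac
    (comm_mem_succ ha g)
  refine ⟨z, by_contra fun hnb => h.step (i := k) hk (by omega) hnb ha ha' ?_⟩
  rw [← layer_eq_one_iff, layer_comm_mul_right ha]
  have h1 := map_inv (commHom G k ⟨a, ha⟩) (s ^ z)
  have h2 := map_zpow (commHom G k ⟨a, ha⟩) s z
  change layerMap G (k + 2) ⁅a, (s ^ z)⁻¹⁆ = (layerMap G (k + 2) ⁅a, s ^ z⁆)⁻¹ at h1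
  change layerMap G (k + 2) ⁅a, s ^ z⁆ = (layerMap G (k + 2) ⁅a, s⁆) ^ z at h2
  rw [h1, h2, he, map_mul, map_zpow, layer_eq_one_iff.2 hw, mul_one, mul_inv_cancel]

theorem IsMax.exists_one_elt {n : ℕ} (h : IsMax p n G) (hn : 4 ≤ n) :
    ∃ a ∈ twoStep G 1, a ∉ (⊤ : Subgroup G).lowerCentralSeries 1 := by
  by_contra hall
  push Not at hall
  obtain ⟨s, hs⟩ : ∃ s, s ∉ twoStep G 1 := by
    by_contra h0
    push Not at h0
    exact h.twoStep_ne_top (i := 1) (by omega) (eq_top_iff.2 fun g _ => h0 g)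
  set q := layerMap G 1
  have hgen : ∀ y, y ∈ zpowers (q s) := by
    intro y
    obtain ⟨g, rfl⟩ := QuotientGroup.mk'_surjective _ y
    obtain ⟨z, hz⟩ := h.exists_split le_rfl (by omega) hs g
    refine ⟨z, ?_⟩
    have := layer_eq_one_iff.2 (hall _ hz)
    rw [map_mul, map_inv, map_zpow, mul_inv_eq_one] at this
    exact this.symm
  have hcard : Nat.card (G ⧸ (⊤ : Subgroup G).lowerCentralSeries 1) = p ^ 2 :=
    (h.quot (j := 1) le_rfl (by omega)).card
  have hle : orderOf (q s) ∣ p := by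
    refine orderOf_dvd_of_pow_eq_one ?_
    rw [← map_pow, layer_eq_one_iff, Subgroup.top_lowerCentralSeries_one]
    exact h.pow_mem_commutator (by omega) s
  have := Nat.le_of_dvd hp.out.pos hle
  rw [orderOf_eq_card_of_forall_mem_zpowers hgen, hcard] at this
  nlinarith [hp.out.two_le]

/-- The first term of the series is the commutator of the two-step centralizer with the group. -/
theorem IsMax.lcs_one_eq {n : ℕ} (h : IsMax p n G) (hn : 4 ≤ n) :
    (⊤ : Subgroup G).lowerCentralSeries 1 = ⁅twoStep G 1, (⊤ : Subgroup G)⁆ := by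
  haveI : (twoStep G 1).Normal := by
    refine ⟨fun x hx g => ?_⟩
    have h1 : g * x * g⁻¹ = ⁅g, x⁆ * x := by rw [commutatorElement_def]; group
    rw [h1]
    refine mul_mem (lcs_one_le_two 1 ?_) hx
    rw [Subgroup.top_lowerCentralSeries_one, _root_.commutator_def]
    exact commutator_mem_commutator (mem_top _) (mem_top _)
  refine le_antisymm ?_ ?_
  · rw [Subgroup.top_lowerCentralSeries_one, _root_.commutator_def, commutator_le]
    intro x _ y _
    obtain ⟨s, hs⟩ : ∃ s, s ∉ twoStep G 1 := by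
      by_contra h0
      push Not at h0
      exact h.twoStep_ne_top (i := 1) (by omega) (eq_top_iff.2 fun g _ => h0 g)
    obtain ⟨z, hz⟩ := h.exists_split le_rfl (by omega) hs x
    obtain ⟨z', hz'⟩ := h.exists_split le_rfl (by omega) hs y
    set q := QuotientGroup.mk' ⁅twoStep G 1, (⊤ : Subgroup G)⁆
    have hcen : ∀ t ∈ twoStep G 1, ∀ g, Commute (q t) (q g) := fun t ht g => by
      rw [← commutatorElement_eq_one_iff_commute, ← map_commutatorElement]
      exact (QuotientGroup.eq_one_iff _).2 (commutator_mem_commutator ht (mem_top g))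
    refine (QuotientGroup.eq_one_iff _).1 ?_
    show q ⁅x, y⁆ = 1
    rw [map_commutatorElement, commutatorElement_eq_one_iff_commute]
    rw [← inv_mul_cancel_right x (s ^ z), ← inv_mul_cancel_right y (s ^ z'), map_mul q, map_mul q]
    exact (((hcen _ hz _).mul_right (hcen _ hz _))).mul_left
      ((hcen _ hz' _).symm.mul_right (((Commute.refl s).zpow_zpow z z').map q))
  · rw [Subgroup.top_lowerCentralSeries_one, _root_.commutator_def]
    exact commutator_mono le_top le_rfl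

theorem IsMax.deg_succ {n : ℕ} (h : IsMax p n G) (hn : 4 ≤ n) {i : ℕ} (hi : 1 ≤ i) :
    deg G (i + 1) = ⁅deg G i, (⊤ : Subgroup G)⁆ := by
  obtain ⟨a, rfl⟩ : ∃ a, i = a + 1 := ⟨i - 1, by omega⟩
  rcases a with _ | a
  · exact h.lcs_one_eq hn
  · exact Subgroup.lowerCentralSeries_succ _ (a + 1)

theorem IsMax.comm_one_mem {n : ℕ} (h : IsMax p n G) (hn : 4 ≤ n) :
    ∀ x ∈ twoStep G 1, ∀ y ∈ twoStep G 1, ⁅x, y⁆ ∈ (⊤ : Subgroup G).lowerCentralSeries 2 := by
  intro x hx y hy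
  obtain ⟨a, ha, ha'⟩ := h.exists_one_elt hn
  set M := (twoStep G 1).map (layerMap G 1)
  have hM := map_layer_one_card_le h (by omega) (twoStep G 1) (h.twoStep_ne_top (by omega))
  have hMa : layerMap G 1 a ∈ M := mem_map_of_mem _ ha
  have hne : layerMap G 1 a ≠ 1 := fun he => ha' (layer_eq_one_iff.1 he)
  have hpow : (layerMap G 1 a) ^ p = 1 := by
    rw [← map_pow, layer_eq_one_iff, Subgroup.top_lowerCentralSeries_one]
    exact h.pow_mem_commutator (by omega) a
  have hMeq : zpowers (layerMap G 1 a) = M :=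
    Subgroup.eq_of_le_of_card_ge (zpowers_le.2 hMa)
      (by rw [Nat.card_zpowers, orderOf_eq_prime hpow hne]; exact hM)
  have hrep : ∀ z ∈ twoStep G 1, ∃ i : ℤ, ∃ w ∈ (⊤ : Subgroup G).lowerCentralSeries 1, z = a ^ i * w := by
    intro z hz
    obtain ⟨i, hi⟩ := hMeq.ge (mem_map_of_mem (layerMap G 1) hz)
    refine ⟨i, (a ^ i)⁻¹ * z, ?_, by rw [mul_inv_cancel_left]⟩
    rw [← layer_eq_one_iff, map_mul, map_inv, map_zpow]
    exact inv_mul_eq_one.2 hi
  obtain ⟨i, w, hw, rfl⟩ := hrep x hx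
  obtain ⟨j, v, hv, rfl⟩ := hrep y hy
  rw [← layer_eq_one_iff, map_commutatorElement, commutatorElement_eq_one_iff_commute, map_mul, map_mul]
  exact (((Commute.refl a).zpow_zpow i j).map _ |>.mul_right (layer_commute hv _).symm).mul_left
    (layer_commute hw _ |>.mul_right (layer_commute hw _))

/-- The strengthened commutator rule below the first exceptional two-step centralizer. -/
theorem IsMax.deg_comm_succ {n : ℕ} (h : IsMax p n G) (hn : 4 ≤ n) {m : ℕ}
    (hT : ∀ i, 1 ≤ i → i ≤ m → twoStep G 1 ≤ twoStep G i) :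
    ∀ i j, 1 ≤ i → 1 ≤ j → 3 ≤ i + j → i + j ≤ m + 2 → ⁅deg G i, deg G j⁆ ≤ deg G (i + j + 1) := by
  intro i
  induction i with
  | zero => intro j hi; omega
  | succ i ih =>
    intro j _ hj h3 hm
    rcases Nat.eq_zero_or_pos i with rfl | hi
    · rw [commutator_le]
      intro b hb u hu
      rw [deg_of_two_le (d := j) (by omega)] at hu
      rw [← commutatorElement_inv, deg_of_two_le (by omega)]
      refine inv_mem ?_
      have := mem_twoStep.1 (hT (j - 1) (by omega) (by omega) hb) u hu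
      rwa [show j - 1 + 2 = 0 + 1 + j + 1 - 1 by omega] at this
    · rw [h.deg_succ hn hi, deg_of_two_le (d := i + 1 + j + 1) (by omega)]
      refine FGS.PolySeq.three ?_ ?_
      · refine (commutator_mono (K₁ := deg G (j + 1)) ?_ le_rfl).trans ?_
        · rw [commutator_comm, h.deg_succ hn hj]
        · rw [commutator_comm]
          refine (ih (j + 1) hi (by omega) (by omega) (by omega)).trans_eq ?_
          rw [deg_of_two_le (by omega)]
          congr 1; omega
      · refine (commutator_mono (K₁ := deg G (i + j + 1)) ?_ le_rfl).trans ?_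
        · rcases Nat.lt_or_ge (i + j) 3 with h2 | h2
          · have hi1 : i = 1 := by omega
            have hj1 : j = 1 := by omega
            subst hi1 hj1
            rw [commutator_le]
            intro x hx y hy
            show ⁅x, y⁆ ∈ (⊤ : Subgroup G).lowerCentralSeries 2
            exact h.comm_one_mem hn x hx y hy
          · rw [commutator_comm]
            exact ih j hi hj h2 (by omega)
        · rw [← h.deg_succ hn (by omega), deg_of_two_le (by omega)]
          exact le_of_eq (congrArg _ (by omega))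

end

end Cfsg.Agent.FGB.MaxClass
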