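import Mathlib
import Cfsg.Agent.Lib.FGB.MaxClassFiltration
import Cfsg.Agent.Lib.Fusion.Alperin
import Cfsg.Agent.Lib.Fusion.Saturation
import Cfsg.Agent.Lib.Invol.OddPSmall

/-! The second centre in fusion systems over groups of maximal class. -/

set_option autoImplicit false

namespace Cfsg.Agent.FGB.MaxClass

open Subgroup
open Cfsg.FusionSystem (centralizerIn normalizerIn)
open Cfsg.Agent.Fusion

universe u

variable {p : ℕ} [hp : Fact p.Prime]

theorem isMax_of_lcs {Ω : Type u} [Group Ω] {S : Subgroup Ω} {n : ℕ} (hn : Nat.card S = p ^ n) (h2 : 2 ≤ n)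
    (hmax : S.lowerCentralSeries (n - 2) ≠ ⊥) : IsMax p n S := by
  refine ⟨h2, hn, fun h => hmax ?_⟩
  have := Subgroup.map_lowerCentralSeries (⊤ : Subgroup S) S.subtype (n - 2)
  rw [h, Subgroup.map_bot, ← MonoidHom.range_eq_map, Subgroup.range_subtype] at this
  exact this.symm

theorem IsMax.card_upperTwo {G : Type u} [Group G] [Finite G] {n : ℕ} (h : IsMax p n G) (hn : 4 ≤ n) :
    Nat.card (Subgroup.upperCentralSeries G 2) = p ^ 2 ∧ ¬ Subgroup.upperCentralSeries G 2 ≤ center G := by
  haveI := h.isPGroup.isNilpotent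
  obtain ⟨hc, hq, hcl⟩ := center_data h.isPGroup h.card (by omega) h.class_eq
  obtain ⟨hc', -, -⟩ := center_data (h.isPGroup.to_quotient (center G)) hq (by omega) hcl
  have heq := Subgroup.comap_upperCentralSeries_quotient_center (G := G) 1
  rw [Subgroup.upperCentralSeries_one] at heq
  have hm := Basics.card_map_mul_card_inf_ker (QuotientGroup.mk' (center G))
    ((center (G ⧸ center G)).comap (QuotientGroup.mk' (center G)))
  rw [Subgroup.map_comap_eq_self_of_surjective (QuotientGroup.mk'_surjective _), QuotientGroup.ker_mk',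
    inf_eq_right.2 (by
      intro x hx
      rw [mem_comap, QuotientGroup.mk'_apply, (QuotientGroup.eq_one_iff x).2 hx]
      exact one_mem _), hc', hc] at hm
  have h2 : Nat.card (Subgroup.upperCentralSeries G 2) = p ^ 2 := by
    rw [← heq, ← hm, sq]
  refine ⟨h2, fun hle => ?_⟩
  have := card_le_of_le hle
  rw [h2, hc] at this
  exact absurd this (not_le.2 (lt_self_pow₀ hp.out.one_lt (by norm_num)))

theorem second_center_centralizer_essential {Ω : Type u} [Group Ω] {S : Subgroup Ω} [Finite S]
    (hS : IsPGroup p S) {n : ℕ} (hn : Nat.card S = p ^ n) (h4 : 4 ≤ n)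
    (hmax : S.lowerCentralSeries (n - 2) ≠ ⊥) (F : Cfsg.FusionSystem S) (hF : F.IsSaturated p)
    (f : Ω → Ω) (hf : MapTo F ((Subgroup.upperCentralSeries S 2).map S.subtype) f)
    (himg : img f ((Subgroup.upperCentralSeries S 2).map S.subtype) = (Subgroup.upperCentralSeries S 2).map S.subtype)
    (hmove : ∃ z ∈ (center S).map S.subtype, z ∈ (Subgroup.upperCentralSeries S 2).map S.subtype ∧
      f z ∉ (center S).map S.subtype) :
    F.IsEssential p (S ⊓ centralizer (((Subgroup.upperCentralSeries S 2).map S.subtype : Subgroup Ω) : Set Ω)) := by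
  have hM := isMax_of_lcs hn (by omega) hmax
  obtain ⟨hZc, hZne⟩ := hM.card_upperTwo h4
  set U := Subgroup.upperCentralSeries S 2 with hU
  set Z2 := U.map S.subtype with hZ2
  set P := S ⊓ centralizer (Z2 : Set Ω) with hPdef
  set Zc := (center S).map S.subtype with hZcdef
  have hPS : P ≤ S := inf_le_left
  have hmemP : ∀ x : S, (x : Ω) ∈ P ↔ x ∈ centralizer (U : Set S) := by
    intro x
    rw [hPdef, mem_inf, mem_centralizer_iff, mem_centralizer_iff]
    constructor
    · exact fun h u hu => Subtype.ext (h.2 u ⟨u, hu, rfl⟩)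
    · refine fun h => ⟨x.2, ?_⟩
      rintro _ ⟨u, hu, rfl⟩
      exact congrArg Subtype.val (h u hu)
  have hsub : P.subgroupOf S = centralizer (U : Set S) := Subgroup.ext fun x => hmemP x
  haveI hnorm : (centralizer (U : Set S)).Normal := Subgroup.normal_centralizer
  -- the centralizer has index `p`
  have hidx : (centralizer (U : Set S)).index ≤ p := by
    have := Invol.OddPSmall.index_centralizer_le_pow hS 2 U inferInstance hZc
    simpa using this
  have hlt : P < S := by
    refine lt_of_le_of_ne hPS fun he => hZne ?_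
    intro u hu
    rw [mem_center_iff]
    intro x
    have hx : (x : Ω) ∈ P := by rw [he]; exact x.2
    exact (mem_centralizer_iff.1 ((hmemP x).1 hx) u hu).symm
  have hmaxP : ∀ Q : Subgroup Ω, P < Q → Q ≤ S → Q = S := by
    intro Q hPQ hQS
    by_contra hne
    have h1 : centralizer (U : Set S) < Q.subgroupOf S := by
      rw [← hsub]
      refine lt_of_le_of_ne (subgroupOf_mono _ hPQ.le) fun he => hPQ.ne ?_
      rwa [subgroupOf_inj, inf_eq_left.2 hPS, inf_eq_left.2 hQS] at he
    have h2 : Q.subgroupOf S < ⊤ := lt_top_iff_ne_top.2 fun he => hne (le_antisymm hQS (subgroupOf_eq_top.1 he))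
    obtain ⟨a, ha⟩ := IsPGroup.iff_card.1 (hS.to_subgroup (centralizer (U : Set S)))
    obtain ⟨b, hb⟩ := IsPGroup.iff_card.1 (hS.to_subgroup (Q.subgroupOf S))
    have h3 := Basics.card_lt_of_lt h1
    have h4 := Basics.card_lt_of_lt h2
    have h5 := card_mul_index (centralizer (U : Set S))
    rw [ha, hb, Nat.pow_lt_pow_iff_right hp.out.one_lt] at h3
    rw [card_top, hn, hb, Nat.pow_lt_pow_iff_right hp.out.one_lt] at h4
    rw [ha, hn] at h5
    have h6 : p ^ n ≤ p ^ (a + 1) := by
      rw [← h5, pow_succ]; exact Nat.mul_le_mul_left _ hidx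
    rw [Nat.pow_le_pow_iff_right hp.out.one_lt] at h6
    omega
  have hPn : P.subgroupOf S |>.Normal := hsub ▸ hnorm
  have hPfn : F.IsFullyNormalized P := by
    refine ⟨hPS, fun Q hQ => ?_⟩
    have : normalizerIn S P = S := le_antisymm normalizerIn_le
      (le_inf le_rfl ((normal_subgroupOf_iff_le_normalizer hPS).1 hPn))
    rw [this]
    exact card_le_of_le normalizerIn_le
  have hZ2S : Z2 ≤ S := map_subtype_le U
  have hZ2n : (Z2.subgroupOf S).Normal := by
    have : Z2.subgroupOf S = U := comap_map_eq_self_of_injective S.subtype_injective U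
    rw [this]; infer_instance
  have hZ2fn : F.IsFullyNormalized Z2 := by
    refine ⟨hZ2S, fun Q hQ => ?_⟩
    have : normalizerIn S Z2 = S := le_antisymm normalizerIn_le
      (le_inf le_rfl ((normal_subgroupOf_iff_le_normalizer hZ2S).1 hZ2n))
    rw [this]
    exact card_le_of_le normalizerIn_le
  -- the extension
  obtain ⟨g, hg, hgf⟩ := (isReceptive_iff.1 (isReceptive_of_isFullyNormalized hS hF hZ2fn)).2 Z2 f hf himg
  have hPe : P ≤ extSub S hf := centralizerIn_le_extSub hf
  have hgP : MapTo F P g := hg.restrict hPe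
  haveI := finite_of_le hPS
  have hmem : ∀ x ∈ P, g x ∈ P := fun x hx => by
    refine mem_inf.2 ⟨hgP.mem hx, mem_centralizer_iff.2 fun y hy => ?_⟩
    obtain ⟨w, hw, rfl⟩ := (hf.mem_img_iff le_rfl).1 (himg.ge hy)
    rw [← hgf w hw]
    have hwe : w ∈ extSub S hf := le_extSub hf hw
    rw [← hg.map_mul hwe (hPe hx), ← hg.map_mul (hPe hx) hwe, (mem_centralizer_iff.1 hx.2 w hw)]
  have himgP := img_eq_self_of_forall hgP hmem
  refine (extAut_eq_or_isEssential hS hF hlt hPfn).resolve_left fun heq => ?_
  obtain ⟨z, hzc, hz2, hfz⟩ := hmove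
  have hzP : ∀ {w : Ω}, w ∈ Zc → w ∈ P := by
    rintro _ ⟨c, hc, rfl⟩
    exact (hmemP c).2 (mem_centralizer_iff.2 fun u _ => mem_center_iff.1 hc u)
  -- the proper extensions preserve the centre
  let K : Subgroup (MulAut P) :=
    { carrier := {α | ∀ w ∈ Zc, autFun α w ∈ Zc}
      one_mem' := fun w hw => by rw [autFun_one (hzP hw)]; exact hw
      mul_mem' := fun {a b} ha hb w hw => by rw [autFun_mul a b (hzP hw)]; exact ha _ (hb w hw)
      inv_mem' := fun {a} ha w hw => by
        haveI : Finite Zc := finite_of_le (map_subtype_le (center S))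
        have hsurj : Function.Surjective (fun v : Zc => (⟨autFun a v, ha v v.2⟩ : Zc)) :=
          Finite.surjective_of_injective fun u v huv => Subtype.ext (by
            have h1 := congrArg Subtype.val huv
            simp only at h1
            rw [← autFun_inv_autFun a (hzP u.2), h1, autFun_inv_autFun a (hzP v.2)])
        obtain ⟨v, hv⟩ := hsurj ⟨w, hw⟩
        have hv' : autFun a v = w := congrArg Subtype.val hv
        rw [← hv', autFun_inv_autFun a (hzP v.2)]
        exact v.2 }
  have hle : extAut F P ≤ K := by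
    refine (Subgroup.closure_le _).2 ?_
    rintro α ⟨Q, q, hPQ, hq, hqα⟩ w hw
    have hQ := hmaxP Q hPQ hq.le
    subst hQ
    have himgS : img q Q = Q := img_eq_self_of_forall hq fun x hx => hq.mem hx
    rw [← hqα w (hzP hw)]
    obtain ⟨c, hc, rfl⟩ := hw
    refine ⟨⟨q c, hq.mem c.2⟩, mem_center_iff.2 fun y => ?_, rfl⟩
    obtain ⟨x, hx, hxy⟩ := (hq.mem_img_iff le_rfl).1 (himgS.ge y.2)
    apply Subtype.ext
    show (y : Ω) * q c = q c * y
    rw [← hxy, ← hq.map_mul hx c.2, ← hq.map_mul c.2 hx]
    exact congrArg q (congrArg Subtype.val (mem_center_iff.1 hc ⟨x, hx⟩))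
  have hα : autOf hgP himgP ∈ K := hle (heq ▸ autOf_mem hgP himgP)
  have := hα z hzc
  rw [autFun_autOf hgP himgP (hzP hzc), hgf z hz2] at this
  exact hfz this

end Cfsg.Agent.FGB.MaxClass
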