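import Mathlib
import Cfsg.Agent.Lib.FGB.MaxClassPower

/-! Subgroups of a p-group of maximal class modulo their p-th powers. -/

set_option autoImplicit false

namespace Cfsg.Agent.FGB.MaxClass

open Subgroup
open scoped commutatorElement

universe u

variable {p : ℕ} [hp : Fact p.Prime] {G : Type u} [Group G] [Finite G]

theorem IsMax.pow_layer {n : ℕ} (h : IsMax p n G) {i : ℕ} (hi : 1 ≤ i) (hi' : i + p + 1 ≤ n) {a : G}
    (ha : a ∈ (⊤ : Subgroup G).lowerCentralSeries i)
    (ha' : a ∉ (⊤ : Subgroup G).lowerCentralSeries (i + 1)) :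
    a ^ p ∈ (⊤ : Subgroup G).lowerCentralSeries (i + p - 1) ∧
      a ^ p ∉ (⊤ : Subgroup G).lowerCentralSeries (i + p) :=
  ⟨pow_mem_layer (all_props (i + p)).1 h hi (by omega) ha,
    pow_not_mem_layer (all_props (i + p + 1)).2.1 h hi hi' ha ha'⟩

theorem card_inf_layer {n : ℕ} (h : IsMax p n G) (K : Subgroup G) {i : ℕ} (hi : 1 ≤ i) (hi' : i + 1 ≤ n - 1) :
    Nat.card (K ⊓ (⊤ : Subgroup G).lowerCentralSeries i : Subgroup G) ≤
      p * Nat.card (K ⊓ (⊤ : Subgroup G).lowerCentralSeries (i + 1) : Subgroup G) := by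
  have h1 := Basics.card_map_mul_card_inf_ker (layerMap G (i + 1)) (K ⊓ (⊤ : Subgroup G).lowerCentralSeries i)
  rw [QuotientGroup.ker_mk', inf_assoc,
    inf_eq_right.2 ((⊤ : Subgroup G).lowerCentralSeries_antitone (Nat.le_succ i))] at h1
  rw [← h1]
  refine Nat.mul_le_mul_right _ ((Subgroup.card_le_of_le (Subgroup.map_mono inf_le_right)).trans ?_)
  have h2 := Basics.card_map_mul_card_inf_ker (layerMap G (i + 1)) ((⊤ : Subgroup G).lowerCentralSeries i)
  rw [QuotientGroup.ker_mk', inf_eq_right.2 ((⊤ : Subgroup G).lowerCentralSeries_antitone (Nat.le_succ i)),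
    h.lcs_card i hi (by omega), h.lcs_card (i + 1) (by omega) hi',
    show n - 1 - i = 1 + (n - 1 - (i + 1)) by omega, pow_add, pow_one] at h2
  exact (Nat.eq_of_mul_eq_mul_right (pow_pos hp.out.pos _) h2).le

/-- A subgroup of the derived group modulo a subgroup containing its powers. -/
theorem IsMax.card_le_mul {n : ℕ} (h : IsMax p n G) (K P : Subgroup G)
    (hP : ∀ k ∈ K, k ^ p ∈ P) : ∀ d i, i + d = n - 1 → 1 ≤ i →
      Nat.card (K ⊓ (⊤ : Subgroup G).lowerCentralSeries i : Subgroup G) ≤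
        p ^ (p - 1) * Nat.card (P ⊓ (⊤ : Subgroup G).lowerCentralSeries (i + p - 1) : Subgroup G) := by
  have hp2 := hp.out.two_le
  intro d
  induction d with
  | zero =>
    intro i hi _
    rw [h.lcs_bot_of_le (show n - 1 ≤ i by omega), inf_bot_eq, Subgroup.card_bot]
    exact Nat.one_le_iff_ne_zero.2 (Nat.mul_ne_zero (pow_ne_zero _ hp.out.pos.ne') Nat.card_pos.ne')
  | succ d ih =>
    intro i hi hi1
    rcases Nat.lt_or_ge (i + p) n with hlt | hge
    swap
    · refine ((Subgroup.card_le_of_le inf_le_right).trans ?_).trans (Nat.le_mul_of_pos_right _ Nat.card_pos)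
      rw [h.lcs_card i hi1 (by omega)]
      exact Nat.pow_le_pow_right hp.out.pos (by omega)
    have h1 := ih (i + 1) (by omega) (by omega)
    rw [show i + 1 + p - 1 = i + p by omega] at h1
    by_cases hex : ∃ a ∈ K, a ∈ (⊤ : Subgroup G).lowerCentralSeries i ∧
        a ∉ (⊤ : Subgroup G).lowerCentralSeries (i + 1)
    · obtain ⟨a, haK, ha, ha'⟩ := hex
      obtain ⟨hp1, hp3⟩ := h.pow_layer hi1 (by omega) ha ha'
      have hlt' : P ⊓ (⊤ : Subgroup G).lowerCentralSeries (i + p) <
          P ⊓ (⊤ : Subgroup G).lowerCentralSeries (i + p - 1) := by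
        refine lt_of_le_of_ne (inf_le_inf_left _ ((⊤ : Subgroup G).lowerCentralSeries_antitone (by omega)))
          fun he => hp3 (show a ^ p ∈ _ from (mem_inf.1 (he ▸ mem_inf.2 ⟨hP a haK, hp1⟩ :
            a ^ p ∈ P ⊓ (⊤ : Subgroup G).lowerCentralSeries (i + p))).2)
      have h3 := Cfsg.Agent.Basics.card_lt_of_lt hlt'
      obtain ⟨e, he⟩ := IsPGroup.iff_card.1 (h.isPGroup.to_subgroup (P ⊓ (⊤ : Subgroup G).lowerCentralSeries (i + p)))
      obtain ⟨f, hf⟩ := IsPGroup.iff_card.1 (h.isPGroup.to_subgroup (P ⊓ (⊤ : Subgroup G).lowerCentralSeries (i + p - 1)))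
      rw [he, hf, Nat.pow_lt_pow_iff_right hp.out.one_lt] at h3
      refine (card_inf_layer h K hi1 (by omega)).trans ((Nat.mul_le_mul_left p h1).trans ?_)
      rw [he, hf, mul_left_comm, ← pow_succ']
      exact Nat.mul_le_mul_left _ (Nat.pow_le_pow_right hp.out.pos h3)
    · push Not at hex
      refine ((Subgroup.card_le_of_le (le_inf inf_le_left fun x hx =>
        hex x (mem_inf.1 hx).1 (mem_inf.1 hx).2)).trans h1).trans (Nat.mul_le_mul_left _ ?_)
      exact Subgroup.card_le_of_le (inf_le_inf_left _ ((⊤ : Subgroup G).lowerCentralSeries_antitone (by omega)))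

/-- The index of the subgroup generated by the p-th powers is at most `p ^ p`. -/
theorem IsMax.relIndex_le {n : ℕ} (h : IsMax p n G) (H : Subgroup G) :
    (closure {y : G | ∃ x ∈ H, y = x ^ p}).relIndex H ≤ p ^ p := by
  have hp2 := hp.out.two_le
  have hn := h.two_le
  set P := closure {y : G | ∃ x ∈ H, y = x ^ p} with hPdef
  have hPH : P ≤ H := (closure_le _).2 fun _ ⟨x, hx, e⟩ => e ▸ pow_mem hx p
  have hmemP : ∀ x ∈ H, x ^ p ∈ P := fun x hx => subset_closure ⟨x, hx, rfl⟩
  refine Nat.le_of_mul_le_mul_left ?_ (Nat.card_pos (α := P))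
  have hrel : Nat.card P * P.relIndex H = Nat.card H := by
    rw [← relIndex_bot_left, ← relIndex_bot_left, relIndex_mul_relIndex ⊥ P H bot_le hPH]
  rw [hrel]
  rcases Nat.lt_or_ge p n with hpn | hnp
  swap
  · refine (Nat.le_of_dvd Nat.card_pos (H.card_subgroup_dvd_card)).trans ?_
    rw [h.card]
    exact (Nat.pow_le_pow_right hp.out.pos hnp).trans (Nat.le_mul_of_pos_left _ Nat.card_pos)
  set L1 := (⊤ : Subgroup G).lowerCentralSeries 1 with hL1
  by_cases hH : H = ⊤
  · subst hH
    have hle : (⊤ : Subgroup G).lowerCentralSeries p ≤ P := by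
      have hc := h.card_le_mul ⊤ P (fun k hk => hmemP k hk) (n - 2) 1 (by omega) le_rfl
      rw [top_inf_eq, h.lcs_card 1 le_rfl (by omega), show 1 + p - 1 = p by omega,
        show n - 1 - 1 = p - 1 + (n - 1 - p) by omega, pow_add, ← h.lcs_card p (by omega) (by omega)] at hc
      have hc' := Nat.le_of_mul_le_mul_left hc (pow_pos hp.out.pos _)
      exact inf_eq_right.1 (Subgroup.eq_of_le_of_card_ge inf_le_right hc')
    have hne : P ≠ (⊤ : Subgroup G).lowerCentralSeries p := by
      intro he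
      obtain ⟨xq, hxq⟩ := (h.quot (j := p) (by omega) (by omega)).exists_pow_ne_one
      obtain ⟨x, rfl⟩ := QuotientGroup.mk_surjective xq
      exact hxq ((QuotientGroup.eq_one_iff _).2 (he ▸ hmemP x (mem_top x)))
    have h3 := Cfsg.Agent.Basics.card_lt_of_lt (lt_of_le_of_ne hle (Ne.symm hne))
    obtain ⟨e, he⟩ := IsPGroup.iff_card.1 (h.isPGroup.to_subgroup P)
    rw [h.lcs_card p (by omega) (by omega), he, Nat.pow_lt_pow_iff_right hp.out.one_lt] at h3
    rw [he, Subgroup.card_top, h.card, ← pow_add]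
    exact Nat.pow_le_pow_right hp.out.pos (by omega)
  · have h1 := Basics.card_map_mul_card_inf_ker (layerMap G 1) H
    rw [QuotientGroup.ker_mk'] at h1
    have hq : Nat.card (H.map (layerMap G 1)) ≤ p := by
      have hV := (h.quot (j := 1) le_rfl (by omega)).card
      have hne : H.map (layerMap G 1) ≠ ⊤ := by
        intro he
        haveI := h.isPGroup.isNilpotent
        refine hH (frattini_nongenerating (top_le_iff.1 ?_))
        have := congrArg (Subgroup.comap (layerMap G 1)) he
        rw [Subgroup.comap_map_eq, QuotientGroup.ker_mk', Subgroup.comap_top] at this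
        rw [← this]
        refine sup_le_sup_left ?_ _
        rw [Subgroup.top_lowerCentralSeries_one]
        exact Cfsg.Agent.Basics.commutator_le_frattini
      have hlt := Cfsg.Agent.Basics.card_lt_of_lt (lt_top_iff_ne_top.2 hne)
      obtain ⟨e, he⟩ := IsPGroup.iff_card.1
        ((h.isPGroup.to_quotient _).to_subgroup (H.map (layerMap G 1)))
      rw [Subgroup.card_top, hV, he, Nat.pow_lt_pow_iff_right hp.out.one_lt] at hlt
      rw [he]
      exact (Nat.pow_le_pow_right hp.out.pos (show e ≤ 1 by omega)).trans (pow_one p).le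
    have hc := h.card_le_mul H P hmemP (n - 2) 1 (by omega) le_rfl
    rw [← h1]
    calc Nat.card (H.map (layerMap G 1)) * Nat.card (H ⊓ L1 : Subgroup G)
        ≤ p * (p ^ (p - 1) * Nat.card P) :=
          Nat.mul_le_mul hq (hc.trans (Nat.mul_le_mul_left _ (Subgroup.card_le_of_le inf_le_left)))
      _ = Nat.card P * p ^ p := by
          rw [← mul_assoc, ← pow_succ', show p - 1 + 1 = p by omega, mul_comm]

end Cfsg.Agent.FGB.MaxClass
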