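import Mathlib
import Cfsg.Agent.Lib.FGB.MaxClassIndex

/-! Numbers of generators of subgroups of p-groups of maximal class. -/

set_option autoImplicit false

namespace Cfsg.Agent.FGB.MaxClass

open Subgroup

universe u

variable {p : ℕ} [hp : Fact p.Prime] {G : Type u} [Group G] [Finite G]

/-- Burnside's basis theorem, in the form of a bound. -/
theorem exists_generators_of_index (hG : IsPGroup p G) : ∀ (d : ℕ) (N : Subgroup G), N.index ≤ p ^ d →
    ∃ T : Finset G, T.card ≤ d ∧ closure (T : Set G) ⊔ N = ⊤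
  | 0, N, h => ⟨∅, le_rfl, by
      have : N.index = 1 := le_antisymm (by simpa using h) (Nat.pos_of_ne_zero index_ne_zero_of_finite)
      simp [index_eq_one.1 this]⟩
  | d + 1, N, h => by
    classical
    by_cases hN : N = ⊤
    · exact ⟨∅, Nat.zero_le _, by simp [hN]⟩
    obtain ⟨g, -, hg⟩ := SetLike.exists_of_lt (lt_top_iff_ne_top.2 hN)
    have hlt : N < N ⊔ zpowers g := lt_of_le_of_ne le_sup_left fun he => hg (he ▸ mem_sup_right (mem_zpowers g))
    obtain ⟨a, ha⟩ := IsPGroup.iff_card.1 (hG.to_subgroup N)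
    obtain ⟨b, hb⟩ := IsPGroup.iff_card.1 (hG.to_subgroup (N ⊔ zpowers g : Subgroup G))
    have h1 := Basics.card_lt_of_lt hlt
    rw [ha, hb, Nat.pow_lt_pow_iff_right hp.out.one_lt] at h1
    have h2 := card_mul_index N
    have h3 := card_mul_index (N ⊔ zpowers g)
    have h4 : (N ⊔ zpowers g).index ≤ p ^ d := by
      refine Nat.le_of_mul_le_mul_left ?_ (pow_pos hp.out.pos b)
      rw [← hb, h3, ← h2, ha, hb, ← pow_add]
      refine (Nat.mul_le_mul_left _ h).trans ?_
      rw [← pow_add]
      exact Nat.pow_le_pow_right hp.out.pos (by omega)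
    obtain ⟨T, hT, hTs⟩ := exists_generators_of_index hG d _ h4
    refine ⟨insert g T, (Finset.card_insert_le _ _).trans (by omega), ?_⟩
    rw [eq_top_iff, ← hTs]
    refine sup_le ((Subgroup.closure_mono (by simp)).trans le_sup_left) (sup_le le_sup_right ?_)
    exact zpowers_le.2 (mem_sup_left (subset_closure (by simp)))

/-- A subgroup with small index over its powers is generated by few elements. -/
theorem exists_generators_of_relIndex (hG : IsPGroup p G) (H : Subgroup G) {d : ℕ}
    (h : (closure {y : G | ∃ x ∈ H, y = x ^ p}).relIndex H ≤ p ^ d) :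
    ∃ T : Finset G, T.card ≤ d ∧ closure (T : Set G) = H := by
  classical
  haveI := (hG.to_subgroup H).isNilpotent
  have hle : (closure {y : G | ∃ x ∈ H, y = x ^ p}).subgroupOf H ≤ frattini H := by
    intro y hy
    have h1 : closure {y : G | ∃ x ∈ H, y = x ^ p} ≤ (frattini H).map H.subtype := by
      rw [closure_le]
      rintro _ ⟨x, hx, rfl⟩
      exact ⟨(⟨x, hx⟩ : H) ^ p, Basics.pow_mem_frattini (hG.to_subgroup H) _, rfl⟩
    obtain ⟨z, hz, hzy⟩ := h1 (mem_subgroupOf.1 hy)
    exact Subtype.ext hzy ▸ hz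
  obtain ⟨T, hT, hTs⟩ := exists_generators_of_index (hG.to_subgroup H) d (frattini H)
    ((Nat.le_of_dvd (Nat.pos_of_ne_zero index_ne_zero_of_finite) (index_dvd_of_le hle)).trans h)
  refine ⟨T.image H.subtype, Finset.card_image_le.trans hT, ?_⟩
  rw [Finset.coe_image, ← MonoidHom.map_closure, frattini_nongenerating hTs, ← MonoidHom.range_eq_map,
    range_subtype]

theorem IsMax.exists_generators {n : ℕ} (h : IsMax p n G) (H : Subgroup G) :
    ∃ T : Finset G, T.card ≤ p ∧ closure (T : Set G) = H :=
  exists_generators_of_relIndex h.isPGroup H (h.relIndex_le H)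

end Cfsg.Agent.FGB.MaxClass
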