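import Mathlib
import Cfsg.Agent.Lib.FGB.MaxClassIndex
import Cfsg.Agent.Lib.FGB.MaxClassGenerators

/-! 3-groups of maximal class: every subgroup is generated by two elements. -/

set_option autoImplicit false

namespace Cfsg.Agent.FGB.MaxClass

open Subgroup
open scoped commutatorElement

universe u

variable {p : ℕ} [hp : Fact p.Prime] {G : Type u} [Group G] [Finite G]

theorem IsMax.exists_layer_elt {n : ℕ} (h : IsMax p n G) {k : ℕ} (hk : 1 ≤ k) (hk' : k + 2 ≤ n) :
    ∃ a ∈ (⊤ : Subgroup G).lowerCentralSeries k, a ∉ (⊤ : Subgroup G).lowerCentralSeries (k + 1) := by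
  by_contra hall
  push Not at hall
  have h1 := Subgroup.card_le_of_le (show (⊤ : Subgroup G).lowerCentralSeries k ≤
    (⊤ : Subgroup G).lowerCentralSeries (k + 1) from hall)
  rw [h.lcs_card k hk (by omega), h.lcs_card (k + 1) (by omega) (by omega),
    Nat.pow_le_pow_iff_right hp.out.one_lt] at h1
  omega

/-- The two-step centralizers repeat with period `p - 1`. -/
theorem IsMax.twoStep_le_shift {n : ℕ} (h : IsMax p n G) {k : ℕ} (hk : 1 ≤ k) (hk' : k + (p - 1) + 3 ≤ n) :
    twoStep G k ≤ twoStep G (k + (p - 1)) := by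
  have hp2 := hp.out.two_le
  obtain ⟨a, ha, ha'⟩ := h.exists_layer_elt hk (by omega)
  obtain ⟨hap, hap'⟩ := h.pow_layer hk (by omega) ha ha'
  rw [show k + p - 1 = k + (p - 1) by omega] at hap
  rw [show k + p = k + (p - 1) + 1 by omega] at hap'
  intro b hb
  have hq := h.quot (j := k + (p - 1) + 2) (by omega) (by omega)
  set π := layerMap G (k + (p - 1) + 2)
  have hx1 : π a ^ p ∈ (⊤ : Subgroup (G ⧸ _)).lowerCentralSeries (k + (p - 1) + 2 + 1 - 3) := by
    rw [← map_pow, show k + (p - 1) + 2 + 1 - 3 = k + (p - 1) by omega]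
    exact (mem_layer_iff (by omega)).2 hap
  have hx2 : π a ^ p ∉ (⊤ : Subgroup (G ⧸ _)).lowerCentralSeries (k + (p - 1) + 2 + 1 - 2) := by
    rw [← map_pow, show k + (p - 1) + 2 + 1 - 2 = k + (p - 1) + 1 by omega]
    exact fun hh => hap' ((mem_layer_iff (by omega)).1 hh)
  have hTb := hq.deep_class (by omega) hx1 hx2
  have hc : ⁅π b, π a⁆ ∈ (⊤ : Subgroup (G ⧸ _)).lowerCentralSeries (k + (p - 1) + 2 + 1 - p) := by
    rw [← map_commutatorElement, show k + (p - 1) + 2 + 1 - p = k + 2 by omega, ← commutatorElement_inv]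
    exact (mem_layer_iff (by omega)).2 (inv_mem (mem_twoStep.1 hb a ha))
  have hcp := (all_props _).1 _ hq (by omega) _ hc
  have hcT : ⁅π b, π a⁆ ∈ zpowers (π a) ⊔
      (⊤ : Subgroup (G ⧸ _)).lowerCentralSeries (k + (p - 1) + 2 + 1 - 1 - p) :=
    mem_sup_right ((⊤ : Subgroup (G ⧸ _)).lowerCentralSeries_antitone (by omega) hc)
  have h1 := regular_mul hq.isPGroup hTb hcT (mem_sup_left (mem_zpowers (π a))) hcp
  rw [commutatorElement_def, inv_mul_cancel_right, conj_pow] at h1
  have h2 : Commute (π (a ^ p)) (π b) := by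
    rw [map_pow]
    exact (mul_inv_eq_iff_eq_mul.1 h1).symm
  rw [← commutatorElement_eq_one_iff_commute, ← map_commutatorElement, layer_eq_one_iff] at h2
  by_contra hnb
  exact h.step (by omega) (by omega) hnb hap hap' h2

/-- A two-step centralizer containing another one coincides with it. -/
theorem IsMax.not_mem_twoStep_of_le {n : ℕ} (h : IsMax p n G) {k i : ℕ} (hk : 1 ≤ k) (hk' : k + 3 ≤ n)
    (hi : i + 3 ≤ n) (hle : twoStep G k ≤ twoStep G i) {s : G} (hs : s ∉ twoStep G k) : s ∉ twoStep G i := by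
  intro hsi
  apply h.twoStep_ne_top hi
  obtain ⟨a, ha, ha'⟩ := h.exists_layer_elt hk (by omega)
  have hac := h.step hk (by omega) hs ha ha'
  rw [eq_top_iff]
  intro g _
  obtain ⟨z, hz⟩ : ∃ z : ℤ, g * (s ^ z)⁻¹ ∈ twoStep G k := by
    obtain ⟨z, w, hw, he⟩ := h.exists_zpow_mul (i := k + 1) (by omega) (by omega) (comm_mem_succ ha s) hac
      (comm_mem_succ ha g)
    refine ⟨z, by_contra fun hnb => h.step (i := k) hk (by omega) hnb ha ha' ?_⟩
    rw [← layer_eq_one_iff, layer_comm_mul_right ha]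
    have h1 := map_inv (commHom G k ⟨a, ha⟩) (s ^ z)
    have h2 := map_zpow (commHom G k ⟨a, ha⟩) s z
    change layerMap G (k + 2) ⁅a, (s ^ z)⁻¹⁆ = (layerMap G (k + 2) ⁅a, s ^ z⁆)⁻¹ at h1
    change layerMap G (k + 2) ⁅a, s ^ z⁆ = (layerMap G (k + 2) ⁅a, s⁆) ^ z at h2
    rw [h1, h2, he, map_mul, map_zpow, layer_eq_one_iff.2 hw, mul_one, mul_inv_cancel]
  have := mul_mem (hle hz) (zpow_mem hsi z)
  rwa [inv_mul_cancel_right] at this

theorem IsMax.twoStep_one_le_two {n : ℕ} (h : IsMax p n G) (hn : 5 ≤ n) : twoStep G 1 ≤ twoStep G 2 := by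
  let L : ℕ → Subgroup G := fun i => (⊤ : Subgroup G).lowerCentralSeries i
  haveI : (L 4).Normal := inferInstanceAs ((⊤ : Subgroup G).lowerCentralSeries 4).Normal
  have h12 : ∀ u ∈ L 1, ∀ v ∈ L 2, ⁅u, v⁆ ∈ L 4 := fun u hu v hv =>
    FGS.PolySeq.fil_comm (G := G) 3 2 (commutator_mem_commutator hu hv)
  have h11 : ⁅L 1, L 1⁆ ≤ L 4 := by
    rw [commutator_le]
    intro u hu v hv
    obtain ⟨a, ha, ha'⟩ := h.exists_layer_elt (k := 1) le_rfl (by omega)
    obtain ⟨z, w, hw, rfl⟩ := h.exists_zpow_mul (i := 1) le_rfl (by omega) ha ha' hu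
    obtain ⟨z', w', hw', rfl⟩ := h.exists_zpow_mul (i := 1) le_rfl (by omega) ha ha' hv
    rw [← QuotientGroup.eq_one_iff, ← QuotientGroup.mk'_apply, map_commutatorElement,
      commutatorElement_eq_one_iff_commute, map_mul, map_mul]
    have key : ∀ x ∈ L 1, ∀ y ∈ L 2, Commute (QuotientGroup.mk' (L 4) x) (QuotientGroup.mk' (L 4) y) :=
      fun x hx y hy => by
        rw [← commutatorElement_eq_one_iff_commute, ← map_commutatorElement, QuotientGroup.mk'_apply,
          QuotientGroup.eq_one_iff]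
        exact h12 x hx y hy
    refine (Commute.mul_right ?_ (key _ (zpow_mem ha z) _ hw')).mul_left (Commute.mul_right ?_ ?_)
    · exact ((Commute.refl a).zpow_zpow z z').map _
    · exact (key _ (zpow_mem ha z') _ hw).symm
    · exact key _ ((⊤ : Subgroup G).lowerCentralSeries_antitone (show 1 ≤ 2 by omega) hw) _ hw'
  have hmain : ⁅L 2, twoStep G 1⁆ ≤ L 4 := by
    rw [show L 2 = ⁅L 1, (⊤ : Subgroup G)⁆ from Subgroup.lowerCentralSeries_succ _ 1]
    refine FGS.PolySeq.three ?_ ?_
    · refine (commutator_mono ?_ le_rfl).trans h11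
      show _ ≤ (⊤ : Subgroup G).lowerCentralSeries 1
      rw [Subgroup.top_lowerCentralSeries_one, _root_.commutator_def]
      exact commutator_mono le_top le_top
    · have h1 : ⁅twoStep G 1, L 1⁆ ≤ L 3 := by
        rw [commutator_le]
        intro b hb u hu
        rw [← commutatorElement_inv]
        exact inv_mem (mem_twoStep.1 hb u hu)
      refine (commutator_mono h1 le_rfl).trans ?_
      show _ ≤ (⊤ : Subgroup G).lowerCentralSeries 4
      rw [Subgroup.lowerCentralSeries_succ _ 3]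
  exact fun b hb => mem_twoStep.2 fun u hu => hmain (commutator_mem_commutator hu hb)

/-- A chain bound: every layer of `K` produces a deeper layer of `D`. -/
theorem IsMax.card_le_chain {n : ℕ} (h : IsMax p n G) (K D : Subgroup G) (r : ℕ)
    (hKD : ∀ i, 1 ≤ i → i + r + 2 ≤ n → ∀ a ∈ K, a ∈ (⊤ : Subgroup G).lowerCentralSeries i →
      a ∉ (⊤ : Subgroup G).lowerCentralSeries (i + 1) → ∃ d ∈ D,
        d ∈ (⊤ : Subgroup G).lowerCentralSeries (i + r) ∧ d ∉ (⊤ : Subgroup G).lowerCentralSeries (i + r + 1)) :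
    ∀ d i, i + d = n - 1 → 1 ≤ i →
      Nat.card (K ⊓ (⊤ : Subgroup G).lowerCentralSeries i : Subgroup G) ≤
        p ^ r * Nat.card (D ⊓ (⊤ : Subgroup G).lowerCentralSeries (i + r) : Subgroup G) := by
  intro d
  induction d with
  | zero =>
    intro i hi _
    rw [h.lcs_bot_of_le (show n - 1 ≤ i by omega), inf_bot_eq, Subgroup.card_bot]
    exact Nat.one_le_iff_ne_zero.2 (Nat.mul_ne_zero (pow_ne_zero _ hp.out.pos.ne') Nat.card_pos.ne')
  | succ d ih =>
    intro i hi hi1
    rcases Nat.lt_or_ge (i + r + 1) n with hlt | hge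
    swap
    · refine ((Subgroup.card_le_of_le inf_le_right).trans ?_).trans (Nat.le_mul_of_pos_right _ Nat.card_pos)
      rw [h.lcs_card i hi1 (by omega)]
      exact Nat.pow_le_pow_right hp.out.pos (by omega)
    have h1 := ih (i + 1) (by omega) (by omega)
    rw [show i + 1 + r = i + r + 1 by omega] at h1
    by_cases hex : ∃ a ∈ K, a ∈ (⊤ : Subgroup G).lowerCentralSeries i ∧
        a ∉ (⊤ : Subgroup G).lowerCentralSeries (i + 1)
    · obtain ⟨a, haK, ha, ha'⟩ := hex
      obtain ⟨x, hxD, hx, hx'⟩ := hKD i hi1 (by omega) a haK ha ha'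
      have hlt' : D ⊓ (⊤ : Subgroup G).lowerCentralSeries (i + r + 1) <
          D ⊓ (⊤ : Subgroup G).lowerCentralSeries (i + r) := by
        refine lt_of_le_of_ne (inf_le_inf_left _ ((⊤ : Subgroup G).lowerCentralSeries_antitone (Nat.le_succ _)))
          fun he => hx' (mem_inf.1 (he ▸ mem_inf.2 ⟨hxD, hx⟩ :
            x ∈ D ⊓ (⊤ : Subgroup G).lowerCentralSeries (i + r + 1))).2
      have h3 := Cfsg.Agent.Basics.card_lt_of_lt hlt'
      obtain ⟨e, he⟩ := IsPGroup.iff_card.1 (h.isPGroup.to_subgroup (D ⊓ (⊤ : Subgroup G).lowerCentralSeries (i + r + 1)))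
      obtain ⟨f, hf⟩ := IsPGroup.iff_card.1 (h.isPGroup.to_subgroup (D ⊓ (⊤ : Subgroup G).lowerCentralSeries (i + r)))
      rw [he, hf, Nat.pow_lt_pow_iff_right hp.out.one_lt] at h3
      refine (card_inf_layer h K hi1 (by omega)).trans ((Nat.mul_le_mul_left p h1).trans ?_)
      rw [he, hf, mul_left_comm, ← pow_succ']
      exact Nat.mul_le_mul_left _ (Nat.pow_le_pow_right hp.out.pos h3)
    · push Not at hex
      refine ((Subgroup.card_le_of_le (le_inf inf_le_left fun x hx =>
        hex x (mem_inf.1 hx).1 (mem_inf.1 hx).2)).trans h1).trans (Nat.mul_le_mul_left _ ?_)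
      exact Subgroup.card_le_of_le (inf_le_inf_left _ ((⊤ : Subgroup G).lowerCentralSeries_antitone (Nat.le_succ _)))

theorem map_layer_one_card_le {n : ℕ} (h : IsMax p n G) (hn : 3 ≤ n) (H : Subgroup G) (hH : H ≠ ⊤) :
    Nat.card (H.map (layerMap G 1)) ≤ p := by
  have hV := (h.quot (j := 1) le_rfl (by omega)).card
  have hne : H.map (layerMap G 1) ≠ ⊤ := by
    intro he
    haveI := h.isPGroup.isNilpotent
    refine hH (frattini_nongenerating (top_le_iff.1 ?_))
    have := congrArg (Subgroup.comap (layerMap G 1)) he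
    rw [Subgroup.comap_map_eq, QuotientGroup.ker_mk', Subgroup.comap_top] at this
    rw [← this]
    refine sup_le_sup_left ?_ _
    rw [Subgroup.top_lowerCentralSeries_one]
    exact Cfsg.Agent.Basics.commutator_le_frattini
  have hlt := Cfsg.Agent.Basics.card_lt_of_lt (lt_top_iff_ne_top.2 hne)
  obtain ⟨e, he⟩ := IsPGroup.iff_card.1 ((h.isPGroup.to_quotient _).to_subgroup (H.map (layerMap G 1)))
  rw [Subgroup.card_top, hV, he, Nat.pow_lt_pow_iff_right hp.out.one_lt] at hlt
  rw [he]
  exact (Nat.pow_le_pow_right hp.out.pos (show e ≤ 1 by omega)).trans (pow_one p).le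

section Three

variable {G : Type u} [Group G] [Finite G] [Fact (Nat.Prime 3)]

theorem three_twoStep {n : ℕ} (h : IsMax 3 n G) (hn : 5 ≤ n) {s : G} (hs : s ∉ twoStep G 1) :
    ∀ i, 1 ≤ i → i + 3 ≤ n → s ∉ twoStep G i := by
  intro i
  induction i using Nat.strong_induction_on with
  | _ i ih =>
    intro hi1 hi
    rcases Nat.lt_or_ge i 3 with h3 | h3
    · interval_cases i
      · exact hs
      · exact h.not_mem_twoStep_of_le le_rfl (by omega) (by omega) (h.twoStep_one_le_two hn) hs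
    · have hle := h.twoStep_le_shift (k := i - 2) (by omega) (by omega)
      rw [show i - 2 + (3 - 1) = i by omega] at hle
      exact h.not_mem_twoStep_of_le (by omega) (by omega) hi hle (ih (i - 2) (by omega) (by omega) (by omega))

/-- An element of the two-step centralizer outside the derived group has deep cube exactly in layer two. -/
theorem three_pow_twoStep {n : ℕ} (h : IsMax 3 n G) (hn : 5 ≤ n) {x : G} (hx : x ∈ twoStep G 1)
    (hx1 : x ∉ (⊤ : Subgroup G).lowerCentralSeries 1) :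
    x ^ 3 ∈ (⊤ : Subgroup G).lowerCentralSeries 2 ∧ x ^ 3 ∉ (⊤ : Subgroup G).lowerCentralSeries 3 := by
  have h2 : x ^ 3 ∈ (⊤ : Subgroup G).lowerCentralSeries 2 := by
    have hq := h.quot (j := 3) (by omega) (by omega)
    have h3 := hq.pow_central ((all_props _).1) (layerMap G 3 x)
    rw [← map_pow] at h3
    exact (mem_layer_iff (by omega)).1 h3
  refine ⟨h2, fun hbad => hx1 ?_⟩
  let L : ℕ → Subgroup G := fun i => (⊤ : Subgroup G).lowerCentralSeries i
  have hq := h.quot (j := 4) (by omega) (by omega)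
  set π := layerMap G 4 with hπ
  have hTb : (⊤ : Subgroup ((zpowers x ⊔ L 1).map π : Subgroup (G ⧸ L 4))).lowerCentralSeries (3 - 1) = ⊥ := by
    refine lcs_bot_of_map ?_
    rw [show 3 - 1 = 0 + 1 + 1 from rfl, Subgroup.lowerCentralSeries_succ, map_commutator, commutator_le]
    intro u hu v hv
    obtain ⟨v', -, rfl⟩ := hv
    have hu' : u ∈ (L 3).map π := by
      rw [Subgroup.lowerCentralSeries_succ, Subgroup.lowerCentralSeries_zero, map_commutator,
        ← MonoidHom.range_eq_map, range_subtype, ← map_commutator] at hu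
      obtain ⟨w, hw, rfl⟩ := hu
      refine mem_map_of_mem π ((commutator_le.2 ?_) hw)
      intro c hc d hd
      rw [← SetLike.mem_coe, Subgroup.mul_normal, Set.mem_mul] at hc hd
      obtain ⟨c1, ⟨z, rfl⟩, c2, hc2, rfl⟩ := hc
      obtain ⟨d1, ⟨z', rfl⟩, d2, hd2, rfl⟩ := hd
      rw [← layer_eq_one_iff, map_commutatorElement, commutatorElement_eq_one_iff_commute, map_mul, map_mul]
      have hxu : ∀ u ∈ L 1, Commute (layerMap G 3 x) (layerMap G 3 u) := fun u hu => by
        have hc := mem_twoStep.1 hx u hu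
        rw [← layer_eq_one_iff, map_commutatorElement, commutatorElement_eq_one_iff_commute] at hc
        exact hc.symm
      have huu : Commute (layerMap G 3 c2) (layerMap G 3 d2) := by
        rw [← commutatorElement_eq_one_iff_commute, ← map_commutatorElement, layer_eq_one_iff]
        exact FGS.PolySeq.fil_comm (G := G) 2 2 (commutator_mem_commutator hc2 hd2)
      refine (Commute.mul_right ?_ ?_).mul_left (Commute.mul_right ?_ huu)
      · exact ((Commute.refl x).zpow_zpow z z').map _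
      · rw [map_zpow]; exact (hxu d2 hd2).zpow_left z
      · rw [map_zpow]; exact (hxu c2 hc2).symm.zpow_right z'
    obtain ⟨w, hw, rfl⟩ := hu'
    rw [mem_bot, commutatorElement_eq_one_iff_commute]
    obtain ⟨v0, hv0⟩ := QuotientGroup.mk_surjective (v' : G ⧸ L 4)
    rw [coe_subtype, ← hv0]
    exact layer_commute hw v0
  have hcen : ∀ g : G, ⁅g, x⁆ ∈ L 2 := by
    intro g
    have hc1 : ⁅g, x⁆ ∈ L 1 := comm_mem_succ (i := 0) (mem_top g) x
    have hT1 : π ⁅g, x⁆ ∈ (zpowers x ⊔ L 1).map π := mem_map_of_mem π (mem_sup_right hc1)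
    have hT2 : π x ∈ (zpowers x ⊔ L 1).map π := mem_map_of_mem π (mem_sup_left (mem_zpowers x))
    by_contra hc2
    obtain ⟨hc3, hc4⟩ := h.pow_layer (i := 1) le_rfl (by omega) hc1 hc2
    have heq : (π (⁅g, x⁆ * x)) ^ 3 = π x ^ 3 := by
      rw [← map_pow, ← map_pow, commutatorElement_def, inv_mul_cancel_right, conj_pow, map_mul, map_mul,
        map_inv]
      have := layer_commute (i := 3) hbad g
      rw [← this.eq, mul_inv_cancel_right]
    rw [map_mul] at heq
    have h5 := (regular_iff hq.isPGroup hTb (mul_mem hT1 hT2) hT2).1 heq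
    rw [mul_inv_cancel_right, ← map_pow, layer_eq_one_iff] at h5
    exact hc4 h5
  have hq2 := h.quot (j := 2) (by omega) (by omega)
  haveI := hq2.isPGroup.isNilpotent
  have hz : layerMap G 2 x ∈ center (G ⧸ L 2) := mem_center_iff.2 fun y => by
    obtain ⟨g, rfl⟩ := QuotientGroup.mk_surjective y
    have h6 := hcen g
    rw [← layer_eq_one_iff, map_commutatorElement, commutatorElement_eq_one_iff_commute] at h6
    exact h6.eq
  have heq : (⊤ : Subgroup (G ⧸ L 2)).lowerCentralSeries (2 + 1 - 2) = center (G ⧸ L 2) :=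
    Subgroup.eq_of_le_of_card_ge hq2.le_center
      (by rw [(center_data hq2.isPGroup hq2.card le_rfl hq2.class_eq).1, hq2.lcs_card 1 le_rfl (by omega)]
          norm_num)
  rw [← heq] at hz
  exact (mem_layer_iff (show 1 ≤ 2 by omega)).1 hz

/-- In a 3-group of maximal class of order at least `3 ^ 5` every subgroup is 2-generated. -/
theorem three_two_generated {n : ℕ} (h : IsMax 3 n G) (hn : 5 ≤ n) (H : Subgroup G) :
    ∃ T : Finset G, T.card ≤ 2 ∧ closure (T : Set G) = H := by
  classical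
  set P := closure {y : G | ∃ x ∈ H, y = x ^ 3} with hPdef
  have hPH : P ≤ H := (closure_le _).2 fun _ ⟨x, hx, e⟩ => e ▸ pow_mem hx 3
  have hmemP : ∀ x ∈ H, x ^ 3 ∈ P := fun x hx => subset_closure ⟨x, hx, rfl⟩
  set D := P ⊔ ⁅H, H⁆ with hDdef
  have hDH : D ≤ H := sup_le hPH (Subgroup.commutator_le_self H)
  suffices hb : Nat.card H ≤ 3 ^ 2 * Nat.card D by
    haveI := (h.isPGroup.to_subgroup H).isNilpotent
    have hle : D.subgroupOf H ≤ frattini H := by
      have h1 : D ≤ (frattini H).map H.subtype := by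
        refine sup_le ((closure_le _).2 ?_) ?_
        · rintro _ ⟨x, hx, rfl⟩
          exact ⟨(⟨x, hx⟩ : H) ^ 3, Basics.pow_mem_frattini (h.isPGroup.to_subgroup H) _, rfl⟩
        · refine le_trans ?_ (map_mono (Basics.commutator_le_frattini (G := H)))
          rw [_root_.commutator_def, map_commutator, ← MonoidHom.range_eq_map, range_subtype]
      intro y hy
      obtain ⟨z, hz, hzy⟩ := h1 (mem_subgroupOf.1 hy)
      exact Subtype.ext hzy ▸ hz
    have hidx : (frattini H).index ≤ 3 ^ 2 := by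
      refine (Nat.le_of_dvd (Nat.pos_of_ne_zero index_ne_zero_of_finite) (index_dvd_of_le hle)).trans ?_
      refine Nat.le_of_mul_le_mul_left ?_ (Nat.card_pos (α := D.subgroupOf H))
      rw [card_mul_index, Nat.card_congr (subgroupOfEquivOfLe hDH).toEquiv, mul_comm]
      exact hb
    obtain ⟨T, hT, hTs⟩ := exists_generators_of_index (h.isPGroup.to_subgroup H) 2 (frattini H) hidx
    refine ⟨T.image H.subtype, Finset.card_image_le.trans hT, ?_⟩
    rw [Finset.coe_image, ← MonoidHom.map_closure, frattini_nongenerating hTs, ← MonoidHom.range_eq_map,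
      range_subtype]
  set L1 := (⊤ : Subgroup G).lowerCentralSeries 1 with hL1
  have hsplit := Basics.card_map_mul_card_inf_ker (layerMap G 1) H
  rw [QuotientGroup.ker_mk'] at hsplit
  by_cases hH : H = ⊤
  · subst hH
    have h1 : L1 ≤ D := by
      rw [hL1, Subgroup.top_lowerCentralSeries_one, _root_.commutator_def]
      exact le_sup_right
    have h2 := Subgroup.card_le_of_le h1
    rw [hL1, h.lcs_card 1 le_rfl (by omega)] at h2
    rw [Subgroup.card_top, h.card, show n = 2 + (n - 1 - 1) by omega, pow_add]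
    exact Nat.mul_le_mul_left _ h2
  have hq := map_layer_one_card_le h (by omega) H hH
  have hKP : Nat.card (H ⊓ L1 : Subgroup G) ≤ 3 ^ (3 - 1) * Nat.card (P ⊓ (⊤ : Subgroup G).lowerCentralSeries 3 : Subgroup G) :=
    h.card_le_mul H P hmemP (n - 2) 1 (by omega) le_rfl
  by_cases hHL : H ≤ L1
  · rw [inf_eq_left.2 hHL] at hKP
    exact hKP.trans (Nat.mul_le_mul_left _ (card_le_of_le (inf_le_left.trans le_sup_left)))
  obtain ⟨x, hxH, hx1⟩ := SetLike.not_le_iff_exists.1 hHL
  rw [← hsplit]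
  by_cases hxC : x ∈ twoStep G 1
  · obtain ⟨hp1, hp3⟩ := three_pow_twoStep h hn hxC hx1
    have hlt : P ⊓ (⊤ : Subgroup G).lowerCentralSeries 3 < P := lt_of_le_of_ne inf_le_left fun he =>
      hp3 (mem_inf.1 (he.symm ▸ hmemP x hxH : x ^ 3 ∈ P ⊓ (⊤ : Subgroup G).lowerCentralSeries 3)).2
    have h3 := Cfsg.Agent.Basics.card_lt_of_lt hlt
    obtain ⟨e, he⟩ := IsPGroup.iff_card.1 (h.isPGroup.to_subgroup (P ⊓ (⊤ : Subgroup G).lowerCentralSeries 3))
    obtain ⟨f, hf⟩ := IsPGroup.iff_card.1 (h.isPGroup.to_subgroup P)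
    rw [he, hf, Nat.pow_lt_pow_iff_right (by norm_num)] at h3
    calc _ ≤ 3 * (3 ^ (3 - 1) * 3 ^ e) := Nat.mul_le_mul hq (he ▸ hKP)
      _ = 3 ^ 2 * 3 ^ (e + 1) := by rw [pow_succ]; ring
      _ ≤ 3 ^ 2 * Nat.card P := Nat.mul_le_mul_left _ (hf ▸ Nat.pow_le_pow_right (by norm_num) h3)
      _ ≤ _ := Nat.mul_le_mul_left _ (card_le_of_le le_sup_left)
  · have hun := three_twoStep h hn hxC
    have hK := h.card_le_chain H D 1 (fun i hi hi' a haH ha ha' =>
      ⟨⁅a, x⁆, mem_sup_right (commutator_mem_commutator haH hxH), comm_mem_succ ha x,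
        h.step hi (by omega) (hun i hi (by omega)) ha ha'⟩) (n - 2) 1 (by omega) le_rfl
    calc _ ≤ 3 * (3 ^ 1 * Nat.card D) := Nat.mul_le_mul hq (hK.trans (Nat.mul_le_mul_left _ (card_le_of_le inf_le_left)))
      _ = _ := by ring

end Three

end Cfsg.Agent.FGB.MaxClass
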