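/-
Normal cyclic subgroups of given order in a noncyclic p-group, p odd.
-/
import Mathlib
import Cfsg.Agent.Lib.PGroup23.NormalSq

set_option autoImplicit false
set_option linter.all false

namespace Cfsg.Agent.FGB

open Subgroup

universe u

variable {G : Type u} [Group G]

theorem mul_pow_of_central_commutator {x e c : G} (hxe : e * x = x * e * c) (hcx : Commute c x) (hce : Commute c e) :
    ∀ n : ℕ, (x * e) ^ n = x ^ n * e ^ n * c ^ n.choose 2 := by
  have hcx' : ∀ (i j : ℕ), Commute (c ^ i) (x ^ j) := fun i j => (hcx.pow_pow i j)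
  have hce' : ∀ (i j : ℕ), Commute (c ^ i) (e ^ j) := fun i j => (hce.pow_pow i j)
  have hmove : ∀ k : ℕ, e ^ k * x = x * e ^ k * c ^ k := by
    intro k
    induction k with
    | zero => simp
    | succ k ih =>
      calc e ^ (k + 1) * x = e * (e ^ k * x) := by rw [pow_succ', mul_assoc]
        _ = (e * x) * e ^ k * c ^ k := by rw [ih]; group
        _ = x * e * (c * e ^ k) * c ^ k := by rw [hxe]; group
        _ = x * e * (e ^ k * c) * c ^ k := by rw [(hce.pow_right k).eq]
        _ = x * e ^ (k + 1) * c ^ (k + 1) := by rw [pow_succ' e, pow_succ' c]; group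
  intro n
  induction n with
  | zero => simp
  | succ n ih =>
    calc (x * e) ^ (n + 1) = (x ^ n * e ^ n * c ^ n.choose 2) * (x * e) := by rw [pow_succ, ih]
      _ = x ^ n * e ^ n * ((c ^ n.choose 2) * x) * e := by group
      _ = x ^ n * e ^ n * (x * c ^ n.choose 2) * e := by rw [(hcx.pow_left _).eq]
      _ = x ^ n * (e ^ n * x) * (c ^ n.choose 2 * e) := by group
      _ = x ^ n * (x * e ^ n * c ^ n) * (e * c ^ n.choose 2) := by rw [hmove, (hce.pow_left _).eq]
      _ = x ^ (n + 1) * e ^ n * (c ^ n * e) * c ^ n.choose 2 := by rw [pow_succ]; group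
      _ = x ^ (n + 1) * e ^ n * (e * c ^ n) * c ^ n.choose 2 := by rw [(hce.pow_left _).eq]
      _ = _ := by
        rw [Nat.choose_succ_succ' n 1, Nat.choose_one_right, pow_add, pow_succ e]
        group

variable [Finite G] {p : ℕ} [hp : Fact p.Prime]

/-- Data for the translation orbit of a normal cyclic subgroup. -/
structure TransData (p : ℕ) (x z e : G) : Prop where
  pow : (x * e) ^ p = x ^ p
  cpow : Commute (x ^ p) e
  conj : ∀ g : G, g * e * g⁻¹ * e⁻¹ ∈ zpowers z

theorem normal_translate {s : ℕ} (hs : 2 ≤ s) (hG : IsPGroup p G) {x z e : G}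
    (hx : orderOf x = p ^ s) (hn : (zpowers x).Normal) (hz : ∀ g, Commute g z)
    (hd : TransData p x z e) (hze : ∀ g : G, g * e * g⁻¹ ≠ e → z ∈ zpowers (x ^ p)) :
    orderOf (x * e) = p ^ s ∧ (zpowers (x * e)).Normal := by
  have hxp : orderOf (x ^ p) = p ^ (s - 1) := by
    rw [orderOf_pow' _ hp.out.ne_zero, hx]
    rw [Nat.gcd_eq_right (dvd_pow_self p (by omega))]
    exact Nat.div_eq_of_eq_mul_left hp.out.pos (by rw [← pow_succ, Nat.sub_add_cancel (by omega)])
  constructor
  · have h1 : (x * e) ^ p ^ s = 1 := by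
      rw [show p ^ s = p * p ^ (s - 1) by rw [← pow_succ', Nat.sub_add_cancel (by omega)], pow_mul, hd.pow, ← hxp]
      exact pow_orderOf_eq_one _
    obtain ⟨j, hj, hje⟩ := (Nat.dvd_prime_pow hp.out).mp (orderOf_dvd_of_pow_eq_one h1)
    rw [hje]
    congr 1
    by_contra hne
    have h2 : (x ^ p) ^ p ^ (s - 2) = 1 := by
      rw [← hd.pow, ← pow_mul, ← pow_succ', ← orderOf_dvd_iff_pow_eq_one, hje]
      exact pow_dvd_pow p (by omega)
    rw [← orderOf_dvd_iff_pow_eq_one, hxp, Nat.pow_dvd_pow_iff_le_right hp.out.one_lt] at h2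
    omega
  · refine ⟨fun y hy g => ?_⟩
    suffices h : g * (x * e) * g⁻¹ ∈ zpowers (x * e) by
      obtain ⟨i, rfl⟩ := hy
      show g * (x * e) ^ i * g⁻¹ ∈ _
      rw [← conj_zpow]
      exact zpow_mem h i
    obtain ⟨i, hi⟩ := hn.conj_mem x (mem_zpowers x) g
    have hi' : x ^ i = g * x * g⁻¹ := hi
    -- `i ≡ 1 (mod p)`
    have himod : ((i : ZMod p)) = 1 := by
      obtain ⟨k, hk⟩ := IsPGroup.iff_orderOf.mp hG g
      have hit : ∀ j : ℕ, g ^ j * x * (g ^ j)⁻¹ = x ^ (i ^ j) := by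
        intro j
        induction j with
        | zero => simp
        | succ j ihj =>
          calc g ^ (j + 1) * x * (g ^ (j + 1))⁻¹ = g ^ j * (g * x * g⁻¹) * (g ^ j)⁻¹ := by rw [pow_succ]; group
            _ = (g ^ j * x * (g ^ j)⁻¹) ^ i := by rw [← hi', conj_zpow]
            _ = x ^ i ^ (j + 1) := by rw [ihj, ← zpow_mul, pow_succ]
      have h1 := hit (p ^ k)
      rw [← hk, pow_orderOf_eq_one, one_mul, inv_one, mul_one, hk] at h1
      have h2 : (i ^ p ^ k) ≡ 1 [ZMOD (orderOf x : ℕ)] := zpow_eq_zpow_iff_modEq.mp (by rw [← h1, zpow_one])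
      rw [hx] at h2
      have h3 : (i ^ p ^ k) ≡ 1 [ZMOD (p : ℕ)] := h2.of_dvd (by exact_mod_cast dvd_pow_self p (by omega : s ≠ 0))
      rw [← ZMod.intCast_eq_intCast_iff, Int.cast_pow, Int.cast_one, ZMod.pow_card_pow] at h3
      exact h3
    obtain ⟨t, ht⟩ : (p : ℤ) ∣ i - 1 := by
      rw [← ZMod.intCast_zmod_eq_zero_iff_dvd, Int.cast_sub, Int.cast_one, himod, sub_self]
    obtain ⟨a, ha⟩ := hd.conj g
    have ha' : z ^ a = g * e * g⁻¹ * e⁻¹ := ha
    have hzmem : z ^ a ∈ zpowers (x * e) := by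
      by_cases hge : g * e * g⁻¹ = e
      · rw [ha', hge, mul_inv_cancel]; exact one_mem _
      · refine zpow_mem ?_ a
        have h1 := hze g hge
        rw [← hd.pow] at h1
        exact zpowers_le.mpr (pow_mem (mem_zpowers _) p) h1
    have hcx : Commute ((x ^ p) ^ t) e := hd.cpow.zpow_left t
    have e1 : g * (x * e) * g⁻¹ = x * e * ((x * e) ^ p) ^ t * z ^ a := by
      rw [hd.pow]
      calc g * (x * e) * g⁻¹ = (g * x * g⁻¹) * (g * e * g⁻¹ * e⁻¹) * e := by group
        _ = x ^ i * (z ^ a * e) := by rw [ha', ← hi']; group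
        _ = x ^ i * (e * z ^ a) := by rw [((hz e).zpow_right a).eq]
        _ = x * ((x ^ p) ^ t * e) * z ^ a := by
          rw [show i = 1 + (p : ℤ) * t by omega, _root_.zpow_add, zpow_one, zpow_mul, zpow_natCast]
          group
        _ = _ := by rw [hcx.eq, mul_assoc x e]
    rw [e1]
    exact mul_mem (mul_mem (mem_zpowers _) (zpow_mem (pow_mem (mem_zpowers _) p) t)) hzmem

theorem dvd_card_normal_cyclic (hp2 : p ≠ 2) (hG : IsPGroup p G) (hnc : ¬ IsCyclic G) {s : ℕ} (hs : 2 ≤ s) :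
    p ∣ Nat.card {C : Subgroup G // C.Normal ∧ IsCyclic C ∧ Nat.card C = p ^ s} := by
  classical
  haveI : Fintype (Subgroup G) := Fintype.ofFinite _
  obtain ⟨E, hEn, hE2, hEp, hEc⟩ : ∃ E : Subgroup G, E.Normal ∧ Nat.card E = p ^ 2 ∧ (∀ a ∈ E, a ^ p = 1) ∧
      (∀ a ∈ E, ∀ b ∈ E, a * b = b * a) := by
    obtain ⟨E, h1, h2, h3⟩ := PGroup23.exists_normal_elementary_sq hp2 hG hnc
    exact ⟨E, h1, h2, h3.2, fun a ha b hb => congrArg Subtype.val (h3.1.is_comm.comm (⟨a, ha⟩ : E) ⟨b, hb⟩)⟩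
  -- a central element and a second one in `E`
  obtain ⟨z, hzE, hzC, hzp⟩ : ∃ z ∈ E, (∀ g, Commute g z) ∧ orderOf z = p := by
    haveI : Nontrivial E := by
      rw [← Finite.one_lt_card_iff_nontrivial, hE2]; exact Nat.one_lt_pow two_ne_zero hp.out.one_lt
    obtain ⟨z, hzE, hzC, hz1⟩ : ∃ z ∈ E, z ∈ center G ∧ z ≠ 1 := by
      haveI := hEn
      have hfix : p ∣ Nat.card (MulAction.fixedPoints (ConjAct G) E) := by
        have hQ : IsPGroup p (ConjAct G) := hG.of_equiv ConjAct.toConjAct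
        have h2 := hQ.card_modEq_card_fixedPoints E
        rw [Nat.ModEq, hE2, Nat.pow_mod, Nat.mod_self, zero_pow two_ne_zero, Nat.zero_mod] at h2
        exact Nat.dvd_of_mod_eq_zero h2.symm
      haveI : Nontrivial (MulAction.fixedPoints (ConjAct G) E) := by
        haveI : Nonempty (MulAction.fixedPoints (ConjAct G) E) :=
          ⟨⟨1, fun g => Subtype.ext (by rw [ConjAct.Subgroup.val_conj_smul]; simp [ConjAct.smul_def])⟩⟩
        rw [← Finite.one_lt_card_iff_nontrivial]
        exact hp.out.one_lt.trans_le (Nat.le_of_dvd Nat.card_pos hfix)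
      obtain ⟨⟨w, hw⟩, hw1⟩ := exists_ne (⟨1, fun g => Subtype.ext (by rw [ConjAct.Subgroup.val_conj_smul]; simp [ConjAct.smul_def])⟩ :
        MulAction.fixedPoints (ConjAct G) E)
      refine ⟨w, w.2, mem_center_iff.mpr fun g => ?_, fun h => hw1 (Subtype.ext (Subtype.ext h))⟩
      have h3 := congrArg Subtype.val (hw (ConjAct.toConjAct g))
      rw [ConjAct.Subgroup.val_conj_smul, ConjAct.toConjAct_smul] at h3
      exact mul_inv_eq_iff_eq_mul.mp h3
    exact ⟨z, hzE, fun g => mem_center_iff.mp hzC g, orderOf_eq_prime (hEp z hzE) hz1⟩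
  obtain ⟨e0, he0E, he0z⟩ : ∃ e0 ∈ E, e0 ∉ zpowers z := by
    refine SetLike.not_le_iff_exists.mp fun hle => ?_
    have := Nat.le_of_dvd Nat.card_pos (card_dvd_of_le hle)
    rw [hE2, Nat.card_zpowers, hzp] at this
    have h2 : p * 2 ≤ p ^ 2 := by rw [pow_two]; exact Nat.mul_le_mul_left p hp.out.two_le
    have := hp.out.pos
    omega
  have hzn : (zpowers z).Normal := ⟨fun y hy g => by
    obtain ⟨i, rfl⟩ := hy
    show g * z ^ i * g⁻¹ ∈ _
    rw [((hzC g).zpow_right i).eq, mul_inv_cancel_right]; exact zpow_mem (mem_zpowers z) i⟩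
  have hE_gen : ∀ a ∈ E, ∃ i j : ℤ, a = e0 ^ i * z ^ j := by
    have hsup : zpowers z ⊔ zpowers e0 = E := by
      refine eq_of_le_of_card_ge (sup_le (zpowers_le.mpr hzE) (zpowers_le.mpr he0E)) ?_
      obtain ⟨m, hm⟩ := (hG.to_subgroup (zpowers z ⊔ zpowers e0)).exists_card_eq
      rw [hE2, hm]
      refine Nat.pow_le_pow_right hp.out.pos ?_
      by_contra hlt
      refine he0z ((eq_of_le_of_card_ge (le_sup_left : zpowers z ≤ zpowers z ⊔ zpowers e0) ?_).ge (mem_sup_right (mem_zpowers e0)))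
      rw [hm, Nat.card_zpowers, hzp]
      exact (Nat.pow_le_pow_right hp.out.pos (by omega : m ≤ 1)).trans (pow_one p).le
    intro a ha
    rw [← hsup] at ha
    haveI := hzn
    obtain ⟨_, ⟨j, rfl⟩, _, ⟨i, rfl⟩, rfl⟩ := mem_sup_of_normal_left.mp ha
    exact ⟨i, j, ((hzC (e0 ^ i)).zpow_right j).eq.symm⟩
  have hEcomm : ∀ g, g * e0 * g⁻¹ * e0⁻¹ ∈ zpowers z := by
    intro g
    obtain ⟨i, j, hij⟩ := hE_gen _ (hEn.conj_mem e0 he0E g)
    have him : ((i : ZMod p)) = 1 := by
      obtain ⟨k, hk⟩ := IsPGroup.iff_orderOf.mp hG g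
      have hit : ∀ m : ℕ, g ^ m * e0 * (g ^ m)⁻¹ * (e0 ^ (i ^ m))⁻¹ ∈ zpowers z := by
        intro m
        induction m with
        | zero => simp
        | succ m ihm =>
          obtain ⟨c, hc⟩ := ihm
          have hc' : g ^ m * e0 * (g ^ m)⁻¹ = z ^ c * e0 ^ (i ^ m) := by
            rw [show z ^ c = _ from hc]; group
          have e1 : g ^ (m + 1) * e0 * (g ^ (m + 1))⁻¹ = z ^ c * (e0 ^ i * z ^ j) ^ (i ^ m) := by
            calc g ^ (m + 1) * e0 * (g ^ (m + 1))⁻¹ = g * (g ^ m * e0 * (g ^ m)⁻¹) * g⁻¹ := by rw [pow_succ']; group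
              _ = (g * z ^ c * g⁻¹) * (g * e0 * g⁻¹) ^ (i ^ m) := by rw [hc', conj_zpow]; group
              _ = _ := by rw [((hzC g).zpow_right c).eq, mul_inv_cancel_right, hij]
          rw [e1, ((hzC (e0 ^ i)).zpow_right j).mul_zpow, ← zpow_mul, ← pow_succ', ← zpow_mul]
          rw [show z ^ c * (e0 ^ i ^ (m + 1) * z ^ (j * i ^ m)) * (e0 ^ i ^ (m + 1))⁻¹
              = z ^ c * ((e0 ^ i ^ (m + 1) * z ^ (j * i ^ m)) * (e0 ^ i ^ (m + 1))⁻¹) by group]
          rw [((hzC (e0 ^ i ^ (m + 1))).zpow_right _).eq, mul_inv_cancel_right]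
          exact mul_mem (zpow_mem (mem_zpowers z) c) (zpow_mem (mem_zpowers z) _)
      have h1 := hit (p ^ k)
      rw [← hk, pow_orderOf_eq_one, one_mul, inv_one, mul_one, hk] at h1
      by_contra hne
      apply he0z
      have h2 : e0 ^ (1 - i ^ p ^ k) ∈ zpowers z := by rwa [_root_.zpow_sub, zpow_one]
      have h4 : ((1 - i ^ p ^ k : ℤ) : ZMod p) ≠ 0 := by
        rw [Int.cast_sub, Int.cast_one, Int.cast_pow, ZMod.pow_card_pow]
        exact sub_ne_zero.mpr (Ne.symm hne)
      rw [Ne, ZMod.intCast_zmod_eq_zero_iff_dvd] at h4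
      obtain ⟨a, b, hab⟩ := ((Nat.prime_iff_prime_int.mp hp.out).irreducible.coprime_iff_not_dvd.mpr h4)
      have : e0 = (e0 ^ (1 - i ^ p ^ k)) ^ b := by
        rw [← zpow_mul]
        conv_lhs => rw [← zpow_one e0, ← hab]
        rw [_root_.zpow_add, mul_comm a, zpow_mul e0 (p : ℤ), zpow_natCast, hEp e0 he0E, one_zpow, one_mul, mul_comm b]
      rw [this]
      exact zpow_mem h2 b
    obtain ⟨t, ht⟩ : (p : ℤ) ∣ i - 1 := by
      rw [← ZMod.intCast_zmod_eq_zero_iff_dvd, Int.cast_sub, Int.cast_one, him, sub_self]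
    have h5 : e0 ^ i = e0 := by
      rw [show i = 1 + (p : ℤ) * t by omega, _root_.zpow_add, zpow_one, zpow_mul, zpow_natCast, hEp e0 he0E, one_zpow, mul_one]
    rw [hij, h5, ((hzC e0).zpow_right j).eq, mul_inv_cancel_right]
    exact zpow_mem (mem_zpowers z) j
  -- the classes
  let S := {C : Subgroup G // C.Normal ∧ IsCyclic C ∧ Nat.card C = p ^ s}
  let T : Subgroup G → Subgroup G := fun C => if z ∈ C then E else zpowers z
  let F : S → Subgroup G := fun C => C.1 ⊔ T C.1
  rw [← Nat.card_congr (Equiv.sigmaFiberEquiv F), Nat.card_sigma]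
  refine Finset.dvd_sum fun D _ => ?_
  by_cases hD : ∃ C, F C = D
  swap
  · haveI : IsEmpty {C : S // F C = D} := ⟨fun C => hD ⟨C.1, C.2⟩⟩
    rw [Nat.card_of_isEmpty]; exact dvd_zero _
  obtain ⟨⟨C, hCn, hCc, hCs⟩, rfl⟩ := hD
  obtain ⟨x, rfl⟩ := (Subgroup.isCyclic_iff_exists_zpowers_eq_top C).mp hCc
  rw [Nat.card_zpowers] at hCs
  haveI := hCn
  haveI : (T (zpowers x)).Normal := by
    show (if z ∈ zpowers x then E else zpowers z).Normal
    split_ifs; exacts [hEn, hzn]
  have hxp : orderOf (x ^ p) = p ^ (s - 1) := by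
    rw [orderOf_pow' _ hp.out.ne_zero, hCs, Nat.gcd_eq_right (dvd_pow_self p (by omega))]
    exact Nat.div_eq_of_eq_mul_left hp.out.pos (by rw [← pow_succ, Nat.sub_add_cancel (by omega)])
  have hzmemxp : z ∈ zpowers x → z ∈ zpowers (x ^ p) := by
    rintro ⟨i, hi⟩
    have hi' : x ^ i = z := hi
    have hd : (p : ℤ) ∣ i := by
      have h1 : x ^ (i * p) = 1 := by rw [zpow_mul, hi', zpow_natCast, hEp z hzE]
      rw [← orderOf_dvd_iff_zpow_eq_one, hCs] at h1
      have h2 : (p : ℤ) * p ∣ i * p := dvd_trans (by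
        rw [← pow_two]; push_cast; exact pow_dvd_pow _ hs) h1
      exact (mul_dvd_mul_iff_right (by exact_mod_cast hp.out.ne_zero)).mp h2
    obtain ⟨t, rfl⟩ := hd
    exact ⟨t, by show (x ^ p) ^ t = z; rw [← hi', zpow_mul, zpow_natCast]⟩
  -- the translating element
  obtain ⟨e, heT, hTgen, hd, hze, heC⟩ : ∃ e : G, e ∈ T (zpowers x) ∧
      (∀ t ∈ T (zpowers x), ∃ a : ℤ, ∃ w : G, (w = 1 ∨ z ∈ zpowers (x ^ p)) ∧ w ∈ zpowers z ∧ t = e ^ a * w) ∧
      (∀ a : ℕ, TransData p x z (e ^ a)) ∧ (∀ (a : ℕ) (g : G), g * e ^ a * g⁻¹ ≠ e ^ a → z ∈ zpowers (x ^ p)) ∧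
      (orderOf e = p ∧ e ∉ zpowers x) := by
    by_cases hz : z ∈ zpowers x
    · have hT : T (zpowers x) = E := if_pos hz
      have hex : e0 ∉ zpowers x := by
        rintro ⟨i, hi⟩
        have hi' : x ^ i = e0 := hi
        apply he0z
        set w := x ^ p ^ (s - 1) with hw
        have hwo : orderOf w = p := by
          rw [hw, orderOf_pow' _ (pow_ne_zero _ hp.out.ne_zero), hCs, Nat.gcd_eq_right (pow_dvd_pow p (by omega)),
            Nat.pow_div (by omega) hp.out.pos, show s - (s - 1) = 1 by omega, pow_one]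
        have hin : ∀ u ∈ zpowers x, u ^ p = 1 → u ∈ zpowers w := by
          rintro _ ⟨j, rfl⟩ hu
          have hu' : x ^ (j * p) = 1 := by rw [zpow_mul, zpow_natCast]; exact hu
          rw [← orderOf_dvd_iff_zpow_eq_one, hCs] at hu'
          have h4 : ((p ^ (s - 1) : ℕ) : ℤ) * p ∣ j * p := dvd_trans (by
            rw [← Nat.cast_mul, ← pow_succ, Nat.sub_add_cancel (by omega : 1 ≤ s)]) hu'
          obtain ⟨t, rfl⟩ := (mul_dvd_mul_iff_right (by exact_mod_cast hp.out.ne_zero : (p : ℤ) ≠ 0)).mp h4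
          exact ⟨t, by show w ^ t = x ^ (((p ^ (s - 1) : ℕ) : ℤ) * t); rw [zpow_mul, zpow_natCast]⟩
        have h5 : zpowers z = zpowers w := eq_of_le_of_card_ge (zpowers_le.mpr (hin z hz (hEp z hzE)))
          (by rw [Nat.card_zpowers, Nat.card_zpowers, hwo, hzp])
        rw [h5]
        exact hin e0 ⟨i, hi⟩ (hEp e0 he0E)
      refine ⟨e0, hT ▸ he0E, fun t ht => ?_, fun a => ?_, fun a g _ => hzmemxp hz,
        orderOf_eq_prime (hEp e0 he0E) (fun h => he0z (h ▸ one_mem _)), hex⟩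
      · rw [hT] at ht
        obtain ⟨i, j, rfl⟩ := hE_gen t ht
        exact ⟨i, z ^ j, Or.inr (hzmemxp hz), zpow_mem (mem_zpowers z) j, rfl⟩
      · -- the commutator of `e0 ^ a` and `x` is central
        have hcm : ∀ g, g * e0 ^ a * g⁻¹ * (e0 ^ a)⁻¹ ∈ zpowers z := by
          intro g
          obtain ⟨c, hc⟩ := hEcomm g
          have : g * e0 * g⁻¹ = z ^ c * e0 := by rw [show z ^ c = _ from hc]; group
          rw [← conj_pow, this, ((hzC e0).zpow_right c).symm.mul_pow, mul_inv_cancel_right]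
          exact pow_mem (zpow_mem (mem_zpowers z) c) a
        obtain ⟨c, hc⟩ := hcm x⁻¹
        have hc' : z ^ c = x⁻¹ * e0 ^ a * x * (e0 ^ a)⁻¹ := by rw [show z ^ c = _ from hc, inv_inv]
        have hrel : e0 ^ a * x = x * e0 ^ a * z ^ c := by
          calc e0 ^ a * x = x * (x⁻¹ * e0 ^ a * x * (e0 ^ a)⁻¹ * e0 ^ a) := by group
            _ = x * (e0 ^ a * z ^ c) := by rw [← hc', ((hzC (e0 ^ a)).zpow_right c).eq]
            _ = x * e0 ^ a * z ^ c := by rw [mul_assoc]
        have hchoose : p ∣ p.choose 2 := hp.out.dvd_choose_self two_ne_zero (lt_of_le_of_ne hp.out.two_le (Ne.symm hp2))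
        refine ⟨?_, ?_, hcm⟩
        · rw [mul_pow_of_central_commutator hrel ((hzC x).zpow_right c).symm ((hzC (e0 ^ a)).zpow_right c).symm,
            hEp _ (pow_mem he0E a), mul_one]
          obtain ⟨q, hq⟩ := hchoose
          rw [hq, pow_mul, ← zpow_natCast (z ^ c) p, ← zpow_mul, mul_comm c, zpow_mul, zpow_natCast, hEp z hzE, one_zpow, one_pow, mul_one]
        · have hk : ∀ k : ℕ, e0 ^ a * x ^ k = x ^ k * e0 ^ a * (z ^ c) ^ k := by
            intro k
            induction k with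
            | zero => simp
            | succ k ihk =>
              calc e0 ^ a * x ^ (k + 1) = (e0 ^ a * x ^ k) * x := by rw [pow_succ, mul_assoc]
                _ = x ^ k * e0 ^ a * ((z ^ c) ^ k * x) := by rw [ihk]; group
                _ = x ^ k * e0 ^ a * (x * (z ^ c) ^ k) := by rw [(((hzC x).zpow_right c).pow_right k).eq]
                _ = x ^ k * (e0 ^ a * x) * (z ^ c) ^ k := by group
                _ = _ := by rw [hrel, pow_succ x, pow_succ' (z ^ c)]; group
          have := hk p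
          rw [← zpow_natCast (z ^ c) p, ← zpow_mul, mul_comm c, zpow_mul, zpow_natCast, hEp z hzE, one_zpow, mul_one] at this
          exact this.symm
    · have hT : T (zpowers x) = zpowers z := if_neg hz
      refine ⟨z, hT ▸ mem_zpowers z, fun t ht => ?_, fun a => ?_, fun a g hg => absurd ?_ hg, hzp, hz⟩
      · rw [hT] at ht
        obtain ⟨i, rfl⟩ := ht
        exact ⟨i, 1, Or.inl rfl, one_mem _, (mul_one _).symm⟩
      · refine ⟨?_, ((hzC (x ^ p)).pow_right a), fun g => ?_⟩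
        · rw [((hzC x).pow_right a).mul_pow, ← pow_mul, mul_comm a, pow_mul, hEp z hzE, one_pow, mul_one]
        · rw [((hzC g).pow_right a).eq, mul_inv_cancel_right, mul_inv_cancel]; exact one_mem _
      · rw [((hzC g).pow_right a).eq, mul_inv_cancel_right]
  obtain ⟨heo, hex⟩ := heC
  have htr : ∀ a : ℕ, orderOf (x * e ^ a) = p ^ s ∧ (zpowers (x * e ^ a)).Normal := fun a =>
    normal_translate hs hG hCs hCn hzC (hd a) (hze a)
  have hzsame : ∀ a : ℕ, z ∈ zpowers (x * e ^ a) ↔ z ∈ zpowers x := by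
    intro a
    constructor
    · intro hz
      by_contra hz'
      have hT : T (zpowers x) = zpowers z := if_neg hz'
      obtain ⟨i, hi⟩ : e ^ a ∈ zpowers z := hT ▸ pow_mem heT a
      have hi' : z ^ i = e ^ a := hi
      obtain ⟨j, hj⟩ := hz
      have hj' : (x * z ^ i) ^ j = z := by rw [hi']; exact hj
      apply hz'
      rw [((hzC x).zpow_right i).mul_zpow, ← zpow_mul] at hj'
      have h1 : z ^ (1 - i * j) ∈ zpowers x := ⟨j, by
        show x ^ j = z ^ (1 - i * j)
        rw [_root_.zpow_sub, zpow_one, eq_mul_inv_iff_mul_eq]; exact hj'⟩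
      by_cases hm : (p : ℤ) ∣ 1 - i * j
      · -- then `x ^ j = 1`, so `x ^ (i * j) = 1`
        exfalso
        obtain ⟨t, ht⟩ := hm
        have h2 : x ^ j = 1 := by
          have : x ^ j = z ^ (1 - i * j) := by rw [_root_.zpow_sub, zpow_one, eq_mul_inv_iff_mul_eq]; exact hj'
          rw [this, ht, zpow_mul, zpow_natCast, hEp z hzE, one_zpow]
        rw [← orderOf_dvd_iff_zpow_eq_one, hCs] at h2
        have h3 : (p : ℤ) ∣ i * j := dvd_mul_of_dvd_right (dvd_trans (by push_cast; exact dvd_pow_self _ (by omega)) h2) i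
        have h4 : (p : ℤ) ∣ 1 := by
          have := dvd_add (show (p : ℤ) ∣ 1 - i * j from ⟨t, ht⟩) h3
          rwa [sub_add_cancel] at this
        exact hp.out.not_dvd_one (by exact_mod_cast h4)
      · obtain ⟨u, v, huv⟩ := ((Nat.prime_iff_prime_int.mp hp.out).irreducible.coprime_iff_not_dvd.mpr hm)
        have h5 : z = (z ^ (1 - i * j)) ^ v := by
          rw [← zpow_mul]
          conv_lhs => rw [← zpow_one z, ← huv]
          rw [_root_.zpow_add, mul_comm u, zpow_mul z (p : ℤ), zpow_natCast, hEp z hzE, one_zpow, one_mul, mul_comm v]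
        rw [h5]; exact zpow_mem h1 v
    · intro hz
      have h1 := hzmemxp hz
      rw [← (hd a).pow] at h1
      exact zpowers_le.mpr (pow_mem (mem_zpowers _) p) h1
  have hTeq : ∀ a : ℕ, T (zpowers (x * e ^ a)) = T (zpowers x) := fun a => by
    show (if _ then _ else _) = if _ then _ else _
    rw [if_congr (hzsame a) rfl rfl]
  have hjoin : ∀ a : ℕ, zpowers (x * e ^ a) ⊔ T (zpowers (x * e ^ a)) = zpowers x ⊔ T (zpowers x) := by
    intro a
    rw [hTeq a]
    refine le_antisymm (sup_le (zpowers_le.mpr (mul_mem (mem_sup_left (mem_zpowers x)) (mem_sup_right (pow_mem heT a)))) le_sup_right)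
      (sup_le (zpowers_le.mpr ?_) le_sup_right)
    have := mul_mem (mem_sup_left (mem_zpowers (x * e ^ a)) : x * e ^ a ∈ zpowers (x * e ^ a) ⊔ T (zpowers x))
      (mem_sup_right (inv_mem (pow_mem heT a)))
    rwa [mul_inv_cancel_right] at this
  have hcycS : ∀ a : ℕ, ((zpowers (x * e ^ a)).Normal ∧ IsCyclic (zpowers (x * e ^ a)) ∧ Nat.card (zpowers (x * e ^ a)) = p ^ s) :=
    fun a => ⟨(htr a).2, inferInstance, by rw [Nat.card_zpowers, (htr a).1]⟩
  refine dvd_of_eq ?_
  conv_lhs => rw [← Nat.card_fin p]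
  refine Nat.card_congr (Equiv.ofBijective (fun a : Fin p => ⟨⟨zpowers (x * e ^ (a : ℕ)), hcycS a⟩, hjoin a⟩) ⟨?_, ?_⟩)
  · intro a b hab
    have h1 : zpowers (x * e ^ (a : ℕ)) = zpowers (x * e ^ (b : ℕ)) := congrArg (fun C => C.1.1) hab
    have h2 : (x * e ^ (a : ℕ))⁻¹ * (x * e ^ (b : ℕ)) ∈ zpowers (x * e ^ (a : ℕ)) :=
      mul_mem (inv_mem (mem_zpowers _)) (h1 ▸ mem_zpowers _)
    rw [show (x * e ^ (a : ℕ))⁻¹ * (x * e ^ (b : ℕ)) = e ^ ((b : ℤ) - (a : ℤ)) by
      rw [_root_.zpow_sub, zpow_natCast, zpow_natCast,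
        show e ^ (b : ℕ) * (e ^ (a : ℕ))⁻¹ = (e ^ (a : ℕ))⁻¹ * e ^ (b : ℕ) from ((Commute.pow_pow_self e _ _).inv_right).eq]
      group] at h2
    by_contra hne
    apply hex
    have hnd : ¬ (p : ℤ) ∣ (b : ℤ) - (a : ℤ) := by
      intro hdv
      apply hne
      apply Fin.ext
      have ha := a.2
      have hb := b.2
      have := Int.eq_zero_of_abs_lt_dvd hdv (by rw [abs_lt]; omega)
      omega
    obtain ⟨u, v, huv⟩ := ((Nat.prime_iff_prime_int.mp hp.out).irreducible.coprime_iff_not_dvd.mpr hnd)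
    have heo' : e ^ p = 1 := heo ▸ pow_orderOf_eq_one e
    have h3 : e ∈ zpowers (x * e ^ (a : ℕ)) := by
      have h5 : e = (e ^ ((b : ℤ) - a)) ^ v := by
        rw [← zpow_mul]
        conv_lhs => rw [← zpow_one e, ← huv]
        rw [_root_.zpow_add, mul_comm u, zpow_mul e (p : ℤ), zpow_natCast, heo', one_zpow, one_mul, mul_comm v]
      have h6 := zpow_mem h2 v
      rwa [← h5] at h6
    have h4 : x ∈ zpowers (x * e ^ (a : ℕ)) := by
      have := mul_mem (mem_zpowers (x * e ^ (a : ℕ))) (inv_mem (pow_mem h3 a))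
      rwa [mul_inv_cancel_right] at this
    have h5 : zpowers x = zpowers (x * e ^ (a : ℕ)) :=
      eq_of_le_of_card_ge (zpowers_le.mpr h4) (by rw [Nat.card_zpowers, Nat.card_zpowers, (htr a).1, hCs])
    rw [h5]; exact h3
  · rintro ⟨⟨C', hC'n, hC'c, hC's⟩, hC'D⟩
    obtain ⟨y, rfl⟩ := (Subgroup.isCyclic_iff_exists_zpowers_eq_top C').mp hC'c
    have hC'D' : zpowers y ⊔ T (zpowers y) = zpowers x ⊔ T (zpowers x) := hC'D
    rw [Nat.card_zpowers] at hC's
    haveI := hC'n
    have hTT : T (zpowers y) = T (zpowers x) := by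
      by_cases hz : z ∈ zpowers x
      · by_cases hz' : z ∈ zpowers y
        · show (if _ then _ else _) = if _ then _ else _
          rw [if_pos hz', if_pos hz]
        · exfalso
          have h1 : T (zpowers y) = zpowers z := if_neg hz'
          have h2 : T (zpowers x) = E := if_pos hz
          rw [h1, h2] at hC'D'
          haveI := hzn
          -- `e0` lies in `⟨y⟩ × ⟨z⟩` with order `p`
          obtain ⟨_, ⟨i, rfl⟩, _, ⟨j, rfl⟩, hij⟩ := mem_sup_of_normal_left.mp (hC'D'.ge (mem_sup_right he0E))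
          have hxmem : x ∈ zpowers y ⊔ zpowers z := hC'D'.ge (mem_sup_left (mem_zpowers x))
          obtain ⟨_, ⟨k, rfl⟩, _, ⟨l, rfl⟩, hkl⟩ := mem_sup_of_normal_left.mp hxmem
          have hkl' : y ^ k * z ^ l = x := hkl
          apply hz'
          have hxp' : x ^ p ∈ zpowers y := by
            rw [← hkl', ((hzC (y ^ k)).zpow_right l).mul_pow, ← zpow_natCast (z ^ l) p, ← zpow_mul, mul_comm l, zpow_mul,
              zpow_natCast, hEp z hzE, one_zpow, mul_one]
            exact pow_mem (zpow_mem (mem_zpowers y) k) p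
          exact zpowers_le.mpr hxp' (hzmemxp hz)
      · by_cases hz' : z ∈ zpowers y
        · exfalso
          have h1 : T (zpowers y) = E := if_pos hz'
          have h2 : T (zpowers x) = zpowers z := if_neg hz
          rw [h1, h2] at hC'D'
          haveI := hzn
          obtain ⟨_, ⟨k, rfl⟩, _, ⟨l, rfl⟩, hkl⟩ := mem_sup_of_normal_left.mp (hC'D'.le (mem_sup_left (mem_zpowers y)))
          have hkl' : x ^ k * z ^ l = y := hkl
          apply hz
          have hyp : y ^ p ∈ zpowers x := by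
            rw [← hkl', ((hzC (x ^ k)).zpow_right l).mul_pow, ← zpow_natCast (z ^ l) p, ← zpow_mul, mul_comm l, zpow_mul,
              zpow_natCast, hEp z hzE, one_zpow, mul_one]
            exact pow_mem (zpow_mem (mem_zpowers x) k) p
          obtain ⟨i, hi⟩ := hz'
          have hi' : y ^ i = z := hi
          have hd' : (p : ℤ) ∣ i := by
            have h3 : y ^ (i * p) = 1 := by rw [zpow_mul, hi', zpow_natCast, hEp z hzE]
            rw [← orderOf_dvd_iff_zpow_eq_one, hC's] at h3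
            have h4 : (p : ℤ) * p ∣ i * p := dvd_trans (by rw [← pow_two]; push_cast; exact pow_dvd_pow _ hs) h3
            exact (mul_dvd_mul_iff_right (by exact_mod_cast hp.out.ne_zero)).mp h4
          obtain ⟨t, rfl⟩ := hd'
          rw [← hi', zpow_mul, zpow_natCast]
          exact zpow_mem hyp t
        · show (if _ then _ else _) = if _ then _ else _
          rw [if_neg hz', if_neg hz]
    obtain ⟨_, ⟨k, rfl⟩, t, ht, hkt⟩ := mem_sup_of_normal_left.mp (hC'D'.le (mem_sup_left (mem_zpowers y)))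
    have hkt' : x ^ k * t = y := hkt
    -- express a generator as `x * t'`
    set π := QuotientGroup.mk' (T (zpowers x)) with hπ
    have hpx : π x ∈ zpowers (π y) := by
      have h1 : x ∈ zpowers y ⊔ T (zpowers x) := by
        rw [← hTT]; exact hC'D'.ge (mem_sup_left (mem_zpowers x))
      obtain ⟨_, ⟨j, rfl⟩, u, hu, hju⟩ := mem_sup_of_normal_left.mp h1
      refine ⟨j, ?_⟩
      show π y ^ j = π x
      refine Eq.trans ?_ (congrArg π hju)
      rw [map_mul, ← map_zpow, show π u = 1 from (QuotientGroup.eq_one_iff u).mpr hu, mul_one]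
    obtain ⟨j, hj⟩ := hpx
    have hj' : π y ^ j = π x := hj
    rw [← map_zpow] at hj'
    have hu' := QuotientGroup.eq.mp hj'.symm
    have hu : x⁻¹ * y ^ j ∈ T (zpowers x) := hu'
    obtain ⟨c, w, hw, hwz, hcw⟩ := hTgen _ hu
    obtain ⟨a, ha⟩ : ∃ a : Fin p, e ^ (a : ℕ) = e ^ c := by
      refine ⟨⟨(c % p).toNat, ?_⟩, ?_⟩
      · have := Int.emod_lt_of_pos c (show (0 : ℤ) < p by exact_mod_cast hp.out.pos)
        have := Int.emod_nonneg c (show (p : ℤ) ≠ 0 by exact_mod_cast hp.out.ne_zero)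
        omega
      · show e ^ (c % p).toNat = e ^ c
        rw [← zpow_natCast, Int.toNat_of_nonneg (Int.emod_nonneg c (by exact_mod_cast hp.out.ne_zero)), ← heo, zpow_mod_orderOf]
    refine ⟨a, Subtype.ext (Subtype.ext ?_)⟩
    show zpowers (x * e ^ (a : ℕ)) = zpowers y
    have hyj : y ^ j = x * e ^ (a : ℕ) * w := by
      rw [ha, mul_assoc, ← hcw, mul_inv_cancel_left]
    have hwm : w ∈ zpowers (x * e ^ (a : ℕ)) := by
      rcases hw with rfl | hzp'
      · exact one_mem _
      · refine zpowers_le.mpr ?_ hwz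
        exact (hzsame a).mpr (zpowers_le.mpr (pow_mem (mem_zpowers x) p) hzp')
    have hwy : w ∈ zpowers y := by
      rcases hw with rfl | hzp'
      · exact one_mem _
      · refine zpowers_le.mpr ?_ hwz
        have hzx : z ∈ zpowers x := zpowers_le.mpr (pow_mem (mem_zpowers x) p) hzp'
        by_contra hz'
        have h1 : T (zpowers y) = zpowers z := if_neg hz'
        have h2 : T (zpowers x) = E := if_pos hzx
        rw [hTT, h2] at h1
        exact he0z (h1 ▸ he0E)
    have hle : zpowers (x * e ^ (a : ℕ)) ≤ zpowers y := by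
      rw [zpowers_le]
      have h3 := mul_mem (zpow_mem (mem_zpowers y) j) (inv_mem hwy)
      rw [hyj, mul_inv_cancel_right] at h3
      exact h3
    exact eq_of_le_of_card_ge hle (by rw [Nat.card_zpowers, Nat.card_zpowers, (htr a).1, hC's])

end Cfsg.Agent.FGB
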