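import Cfsg.Agent.Lib.FGB.MixedQStruct
import Cfsg.Agent.Lib.CT.Orthogonality
import Cfsg.Agent.Lib.CT.Misc

/-!
# Small `q`-groups and mixed subgroups: abelian involution centralizers are impossible
-/

namespace Cfsg.Agent.FGB.MixedQ

open scoped Pointwise

variable {G : Type*} [Group G] [Finite G]

namespace Ctx

variable {p a : ℕ} (C : Ctx G p a) (hAb : ∀ t : G, IsInv t → ¬ NonAb p t)

include C

/-- An even proper subgroup containing a Sylow `p`-subgroup as the set of its `p`-elements. -/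
theorem decomp_sylow {M : Subgroup G} (hM : M ≠ ⊤) {P : Sylow p G} (hPM : (P : Subgroup G) ≤ M)
    (hall : ∀ x ∈ M, PEl p x → x ∈ P) {r : G} (hr : IsInv r) (hrM : r ∈ M) :
    ∃ S ≤ M, IsPGroup 2 S ∧ r ∈ S ∧ ∀ x ∈ M, ∃ v ∈ P, ∃ w ∈ S, v * w = x := by
  haveI := Fact.mk C.hp
  haveI := Fact.mk Nat.prime_two
  have hz : IsPGroup 2 (Subgroup.zpowers r) :=
    isPGroup_zpowers ⟨1, by rw [hr.orderOf_eq, pow_one]⟩
  obtain ⟨T, hT⟩ := (hz.of_equiv
    (Subgroup.subgroupOfEquivOfLe (Subgroup.zpowers_le.2 hrM)).symm).exists_le_sylow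
  have hS : IsPGroup 2 ((T : Subgroup M).map M.subtype) := T.isPGroup'.map _
  refine ⟨_, Subgroup.map_subtype_le (T : Subgroup M), hS,
    ⟨⟨r, hrM⟩, hT (Subgroup.mem_subgroupOf.2 (Subgroup.mem_zpowers r)), rfl⟩, ?_⟩
  obtain ⟨i, hi⟩ := P.isPGroup'.exists_card_eq
  obtain ⟨j, hj⟩ := hS.exists_card_eq
  refine exists_mul_of_card hPM (Subgroup.map_subtype_le _) ?_
    (Nat.le_of_dvd (Nat.mul_pos Nat.card_pos Nat.card_pos) ?_)
  · rw [hi, hj]
    exact Nat.Coprime.pow i j ((Nat.coprime_primes C.hp Nat.prime_two).2 C.hp2)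
  refine (Nat.dvd_iff_prime_pow_dvd_dvd _ _).2 fun q k hq hqk => ?_
  rcases Nat.eq_zero_or_pos k with rfl | hk
  · simp
  rcases C.two M hM (hr.two_dvd hrM) q hq ((dvd_pow_self q hk.ne').trans hqk) with rfl | rfl
  · refine Dvd.dvd.mul_right ?_ _
    rw [P.card_eq_multiplicity]
    exact Nat.pow_dvd_pow q ((hq.pow_dvd_iff_le_factorization Nat.card_pos.ne').1
      (hqk.trans (Subgroup.card_subgroup_dvd_card M)))
  · refine Dvd.dvd.mul_left ?_ _
    rw [Subgroup.card_map_of_injective M.subtype_injective, T.card_eq_multiplicity]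
    exact Nat.pow_dvd_pow 2 ((hq.pow_dvd_iff_le_factorization Nat.card_pos.ne').1 hqk)

include hAb

theorem cent_comm {t : G} (ht : IsInv t) {x y : G} (hx : Commute x t) (hy : Commute y t) :
    Commute x y := by
  haveI := Fact.mk C.hp
  obtain ⟨Q, -, htQ, hQ, hQc⟩ := C.exists_full_pair ht ht (Commute.refl t)
  obtain ⟨O, hOp, hO⟩ := C.exists_O ht
  have hQt : ∀ w ∈ Q, Commute w t := fun w hw => (C.elem Q hQ w hw).2 t htQ
  have hdec := C.decomp (M := Subgroup.centralizer ({t} : Set G)) (N := O)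
    (C.centralizer_ne_top ht.1) (fun z hz => mem_centralizer_singleton'.2 ((hO z).1 hz).2) hOp
    (fun z hz hzp => (hO z).2 ⟨hzp, mem_centralizer_singleton'.1 hz⟩)
    (fun z hz => mem_centralizer_singleton'.2 (hQt z hz)) hQ hQc
  have hOQ : ∀ v ∈ O, ∀ w ∈ Q, Commute v w := by
    intro v hv w hw
    by_cases hw1 : w = 1
    · exact hw1 ▸ Commute.one_right v
    by_contra hne
    exact hAb t ht ⟨v, w, ((hO v).1 hv).1, ((hO v).1 hv).2, ⟨hw1, (C.elem Q hQ w hw).1⟩, hQt w hw,
      hne⟩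
  obtain ⟨v, hv, w, hw, rfl⟩ := hdec x (mem_centralizer_singleton'.2 hx)
  obtain ⟨v', hv', w', hw', rfl⟩ := hdec y (mem_centralizer_singleton'.2 hy)
  exact ((C.commute_of_pGroup hOp hv hv').mul_right (hOQ v hv w' hw')).mul_left
    ((hOQ v' hv' w hw).symm.mul_right ((C.elem Q hQ w hw).2 w' hw'))

/-- Elements inverted by an involution. -/
theorem inverted {t z : G} (ht : IsInv t) (he : t * z * t⁻¹ = z⁻¹) (hz : z * z ≠ 1) :
    PEl p z ∧ ∀ s : G, IsInv s → ¬ Commute z s := by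
  have hb : Subgroup.zpowers z ≠ ⊥ := by
    rw [Ne, Subgroup.zpowers_eq_bot]
    rintro rfl
    exact hz (one_mul 1)
  have hM := C.normalizer_ne_top hb (C.zpowers_ne_top z)
  set M := Subgroup.normalizer (Subgroup.zpowers z : Set G)
  have htM : t ∈ M := mem_normalizer_of_conj_subset fun x hx => by
    obtain ⟨i, rfl⟩ := Subgroup.mem_zpowers_iff.1 hx
    rw [← MulAut.conj_apply, map_zpow, MulAut.conj_apply, he]
    exact zpow_mem (inv_mem (Subgroup.mem_zpowers z)) i
  have hno : ∀ s : G, IsInv s → ¬ Commute z s := by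
    intro s hs hzs
    have hsM : s ∈ M := mem_normalizer_of_conj_subset fun x hx => by
      obtain ⟨i, rfl⟩ := Subgroup.mem_zpowers_iff.1 hx
      rw [← (hzs.zpow_left i).eq, mul_inv_cancel_right]
      exact zpow_mem (Subgroup.mem_zpowers z) i
    obtain ⟨m, hm, hc⟩ := C.exists_conj_commute hs ht hsM htM
    obtain ⟨i, hi⟩ := Subgroup.mem_zpowers_iff.1
      (conj_mem_of_normalizer (inv_mem hm) (Subgroup.mem_zpowers z))
    have h1 : Commute z (m * s * m⁻¹) := by
      have h2 := commute_conj (hi ▸ (hzs.zpow_left i)) m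
      have e : m * (m⁻¹ * z * m⁻¹⁻¹) * m⁻¹ = z := by group
      rwa [e] at h2
    have h3 : Commute t z := C.cent_comm hAb (hs.conj m) hc h1
    rw [h3.eq, mul_inv_cancel_right] at he
    exact hz (mul_eq_one_iff_eq_inv.2 he)
  refine ⟨C.pEl_of_odd hM (ht.two_dvd htM)
    (Subgroup.le_normalizer (Subgroup.mem_zpowers z)) fun h2 => ?_, hno⟩
  have hc : orderOf (z ^ (orderOf z / 2)) = 2 := orderOf_pow_orderOf_div (orderOf_pos z).ne' h2
  exact hno _ ⟨fun h => by rw [h, orderOf_one] at hc; omega,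
    by rw [← sq]; exact orderOf_dvd_iff_pow_eq_one.1 hc.dvd⟩ ((Commute.refl z).pow_right _)

set_option maxHeartbeats 800000 in
theorem ab_false : False := by
  haveI := Fact.mk C.hp
  haveI := Fact.mk Nat.prime_two
  obtain ⟨t, ht⟩ := C.exists_inv
  -- a non-commuting involution
  obtain ⟨s₀, hs₀, hs₀t⟩ : ∃ s, IsInv s ∧ ¬ Commute s t := by
    by_contra hcon
    push Not at hcon
    have hall : ∀ x y : G, IsInv x → IsInv y → Commute x y := by
      intro x y hx hy
      obtain ⟨g, hg⟩ := C.exists_conj hy ht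
      have h1 := commute_conj (hg ▸ hcon _ (hx.conj g)) g⁻¹
      simpa [mul_assoc] using h1
    have hset : ({x : G | IsInv x} : Set G) ⊆ Subgroup.center G := by
      intro x hx
      set H := Subgroup.centralizer ({y : G | IsInv y} : Set G)
      have hH : H.Normal := ⟨fun h hh g => Subgroup.mem_centralizer_iff.2 fun y hy => by
        have h1 : Commute (g⁻¹ * y * g⁻¹⁻¹) h :=
          Subgroup.mem_centralizer_iff.1 hh _ (IsInv.conj hy g⁻¹)
        have := commute_conj h1 g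
        simp only [inv_inv, mul_assoc, mul_inv_cancel_left, mul_inv_cancel, mul_one] at this
        simpa [mul_assoc] using this.eq⟩
      rcases C.simple H hH with h | h
      · exact absurd (Subgroup.mem_bot.1 (h ▸ Subgroup.mem_centralizer_iff.2
          fun y hy => (hall y x hy hx).eq)) hx.1
      · refine Subgroup.mem_center_iff.2 fun g => ?_
        exact (Subgroup.mem_centralizer_iff.1 (h ▸ Subgroup.mem_top g : g ∈ H) x hx).symm
    exact ht.1 (Subgroup.mem_bot.1 (C.center_eq_bot ▸ hset ht))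
  -- the basic element and its Sylow subgroup
  have hinvts : ∀ s : G, IsInv s → t * (t * s) * t⁻¹ = (t * s)⁻¹ := fun s hs => by
    rw [← mul_assoc, ht.2, one_mul, mul_inv_rev, hs.inv_eq]
  have hcomm : ∀ s : G, IsInv s → t * s * (t * s) = 1 → Commute s t := fun s hs h => by
    have h2 : t * s = (t * s)⁻¹ := eq_inv_of_mul_eq_one_left h
    rw [mul_inv_rev, hs.inv_eq, ht.inv_eq] at h2
    exact h2.symm
  set z := t * s₀
  have hz2 : z * z ≠ 1 := fun h => hs₀t (hcomm s₀ hs₀ h)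
  have hzi : t * z * t⁻¹ = z⁻¹ := hinvts s₀ hs₀
  have hz1 : z ≠ 1 := fun h => hz2 (by rw [h, mul_one])
  -- centralizers of inverted elements are Sylow subgroups
  have hcentSyl : ∀ (u r : G), IsInv r → r * u * r⁻¹ = u⁻¹ → u * u ≠ 1 → ∀ P : Sylow p G, u ∈ P →
      ∀ x, Commute x u → x ∈ P := by
    intro u r hr he hu P huP x hx
    obtain ⟨hup, hno⟩ := C.inverted hAb hr he hu
    have hu1 : u ≠ 1 := fun h => hu (by rw [h, mul_one])
    have hb : Subgroup.zpowers u ≠ ⊥ := by rwa [Ne, Subgroup.zpowers_eq_bot]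
    have hM := C.normalizer_ne_top hb (C.zpowers_ne_top u)
    have hrM : r ∈ Subgroup.normalizer (Subgroup.zpowers u : Set G) :=
      mem_normalizer_of_conj_subset fun y hy => by
        obtain ⟨i, rfl⟩ := Subgroup.mem_zpowers_iff.1 hy
        rw [← MulAut.conj_apply, map_zpow, MulAut.conj_apply, he]
        exact zpow_mem (inv_mem (Subgroup.mem_zpowers u)) i
    have hall : ∀ y, Commute y u → PEl p y := by
      intro y hy
      refine C.pEl_of_odd hM (hr.two_dvd hrM) (mem_normalizer_of_conj_subset fun w hw => ?_)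
        fun h2 => ?_
      · obtain ⟨i, rfl⟩ := Subgroup.mem_zpowers_iff.1 hw
        rw [(hy.zpow_right i).eq, mul_inv_cancel_right]
        exact zpow_mem (Subgroup.mem_zpowers u) i
      · have hc : orderOf (y ^ (orderOf y / 2)) = 2 :=
          orderOf_pow_orderOf_div (orderOf_pos y).ne' h2
        exact hno _ ⟨fun h => by rw [h, orderOf_one] at hc; omega,
          by rw [← sq]; exact orderOf_dvd_iff_pow_eq_one.1 hc.dvd⟩ (hy.symm.pow_right _)
    have hC : IsPGroup p (Subgroup.centralizer ({u} : Set G)) :=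
      IsPGroup.iff_orderOf.2 fun y => by
        obtain ⟨k, hk⟩ := hall y (mem_centralizer_singleton'.1 y.2)
        exact ⟨k, by rw [← Subgroup.orderOf_coe]; exact hk⟩
    exact (P.is_maximal' hC fun y hy => mem_centralizer_singleton'.2
      (C.commute_of_pGroup P.isPGroup' hy huP)).le (mem_centralizer_singleton'.2 hx)
  obtain ⟨hzp, -⟩ := C.inverted hAb ht hzi hz2
  obtain ⟨P, hP⟩ := (isPGroup_zpowers hzp).exists_le_sylow
  have hzP : z ∈ P := hP (Subgroup.mem_zpowers z)
  have hab : ∀ x ∈ P, ∀ y ∈ P, Commute x y := fun x hx y hy =>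
    C.commute_of_pGroup P.isPGroup' hx hy
  have hPz := hcentSyl z t ht hzi hz2 P hzP
  have htN : t ∈ Subgroup.normalizer ((P : Subgroup G) : Set G) := by
    refine mem_normalizer_of_conj_subset fun x hx => hPz _ ?_
    have h1 := commute_conj (hab x hx z hzP) t
    rw [hzi] at h1
    exact Commute.inv_right_iff.1 h1
  have hPb : (P : Subgroup G) ≠ ⊥ := fun h => hz1 (Subgroup.mem_bot.1 (h ▸ hzP))
  have hNtop := C.normalizer_ne_top hPb (C.p_ne_top P.isPGroup')
  have hfree : ∀ r, IsInv r → r ∈ Subgroup.normalizer ((P : Subgroup G) : Set G) → ∀ x ∈ P,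
      Commute x r → x = 1 := by
    intro r hr hrN x hx hxr
    obtain ⟨S, -, hS, hrS, hdec⟩ := C.decomp_sylow hNtop Subgroup.le_normalizer
      (fun y hy hyp => C.pEl_sylow hyp hy) hr hrN
    refine transfer_center P (C.abSyl P) C.hperf hx fun n hn => ?_
    obtain ⟨v, hv, w, hw, rfl⟩ := hdec n hn
    exact (hab v hv x hx).mul_left (C.cent_comm hAb hr ((C.elem S hS w hw).2 r hrS) hxr)
  have hinv : ∀ r, IsInv r → r ∈ Subgroup.normalizer ((P : Subgroup G) : Set G) → ∀ x ∈ P,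
      r * x * r⁻¹ = x⁻¹ := by
    intro r hr hrN x hx
    have hx' := conj_mem_of_normalizer hrN hx
    refine eq_inv_of_mul_eq_one_right (hfree r hr hrN _ (mul_mem hx hx') ?_)
    have h1 : Commute x (r * x * r⁻¹) := hab x hx _ hx'
    show x * (r * x * r⁻¹) * r = r * (x * (r * x * r⁻¹))
    calc x * (r * x * r⁻¹) * r = x * (r * x * r⁻¹) * r⁻¹ := by rw [hr.inv_eq]
      _ = (r * x * r⁻¹) * x * r⁻¹ := by rw [h1.eq]
      _ = r * (x * (r * x * r⁻¹)) := by rw [hr.inv_eq]; group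
  have hN : ∀ n ∈ Subgroup.normalizer ((P : Subgroup G) : Set G),
      n ∈ P ∨ ∃ v ∈ P, v * t = n := by
    intro n hn
    obtain ⟨S, hSM, hS, htS, hdec⟩ := C.decomp_sylow hNtop Subgroup.le_normalizer
      (fun y hy hyp => C.pEl_sylow hyp hy) ht htN
    obtain ⟨v, hv, w, hw, rfl⟩ := hdec n hn
    by_cases hw1 : w = 1
    · exact Or.inl (by rw [hw1, mul_one]; exact hv)
    refine Or.inr ⟨v, hv, ?_⟩
    have hwi : IsInv w := ⟨hw1, (C.elem S hS w hw).1⟩
    have hc : Commute (t * w) z := by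
      have e : t * w * z * (t * w)⁻¹ = z := by
        calc t * w * z * (t * w)⁻¹ = t * (w * z * w⁻¹) * t⁻¹ := by group
          _ = (t * z * t⁻¹)⁻¹ := by rw [hinv w hwi (hSM hw) z hzP]; group
          _ = z := by rw [hzi, inv_inv]
      exact mul_inv_eq_iff_eq_mul.1 e
    have h1 := C.pEl_two_eq (pEl_of_mem P.isPGroup' (hPz _ hc)) hS (mul_mem htS hw)
    rw [eq_inv_of_mul_eq_one_left h1, hwi.inv_eq]
  -- `p`-elements commute with no involution
  have hnoc : ∀ x : G, PEl p x → x ≠ 1 → ∀ s, IsInv s → ¬ Commute x s := by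
    intro x hx hx1 s hs hxs
    obtain ⟨T, hT⟩ := (isPGroup_zpowers hx).exists_le_sylow
    obtain ⟨g, hg⟩ := MulAction.exists_smul_eq G P T
    have hxT : x ∈ ((g • P : Sylow p G) : Subgroup G) := by
      rw [hg]; exact hT (Subgroup.mem_zpowers x)
    rw [Sylow.coe_subgroup_smul] at hxT
    obtain ⟨v, hv, rfl⟩ := hxT
    have hv1 : v ≠ 1 := fun h => hx1 (by rw [h]; exact map_one _)
    refine (C.inverted hAb ht (hinv t ht htN v hv) fun h => hv1
      (C.pEl_inv_eq (pEl_of_mem P.isPGroup' hv) h)).2 _ (hs.conj g⁻¹) ?_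
    have h1 := commute_conj hxs g⁻¹
    simpa [mul_assoc] using h1
  obtain ⟨Q, -, htQ, hQ, hQc⟩ := C.exists_full_pair ht ht (Commute.refl t)
  have hQt : ∀ w ∈ Q, Commute w t := fun w hw => (C.elem Q hQ w hw).2 t htQ
  have hCQ : ∀ x, Commute x t → x ∈ Q := by
    intro x hx
    obtain ⟨O, hOp, hO⟩ := C.exists_O ht
    obtain ⟨v, hv, w, hw, rfl⟩ := C.decomp (M := Subgroup.centralizer ({t} : Set G)) (N := O)
      (C.centralizer_ne_top ht.1) (fun y hy => mem_centralizer_singleton'.2 ((hO y).1 hy).2) hOp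
      (fun y hy hyp => (hO y).2 ⟨hyp, mem_centralizer_singleton'.1 hy⟩)
      (fun y hy => mem_centralizer_singleton'.2 (hQt y hy)) hQ hQc x
      (mem_centralizer_singleton'.2 hx)
    have hv1 : v = 1 := by
      by_contra hv1
      exact hnoc v ((hO v).1 hv).1 hv1 t ht ((hO v).1 hv).2
    rw [hv1, one_mul]
    exact hw
  -- the elements inverted by `t`
  let R := {u : G // t * u * t⁻¹ = u⁻¹ ∧ u * u ≠ 1}
  let Pd := {v : (P : Subgroup G) // (v : G) ≠ 1}
  have hPd : ∀ v : Pd, (v.1 : G) * v.1 ≠ 1 := fun v h =>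
    v.2 (C.pEl_inv_eq (pEl_of_mem P.isPGroup' v.1.2) h)
  have hQi : ∀ q ∈ Q, q⁻¹ = q := fun q hq => inv_eq_of_mul_eq_one_left (C.elem Q hQ q hq).1
  have hmap : ∀ (q : Q) (v : Pd), t * ((q : G) * v.1 * (q : G)⁻¹) * t⁻¹ =
      ((q : G) * v.1 * (q : G)⁻¹)⁻¹ ∧
      ((q : G) * v.1 * (q : G)⁻¹) * ((q : G) * v.1 * (q : G)⁻¹) ≠ 1 := by
    intro q v
    refine ⟨?_, fun h => hPd v ?_⟩
    · calc t * ((q : G) * v.1 * (q : G)⁻¹) * t⁻¹
          = (t * q) * v.1 * (t * q)⁻¹ := by group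
        _ = (q * t) * v.1 * (q * t)⁻¹ := by rw [(hQt q q.2).eq]
        _ = q * (t * v.1 * t⁻¹) * (q : G)⁻¹ := by group
        _ = _ := by rw [hinv t ht htN _ v.1.2]; group
    · calc (v.1 : G) * v.1
          = (q : G)⁻¹ * ((q * v.1 * (q : G)⁻¹) * (q * v.1 * (q : G)⁻¹)) * q := by group
        _ = 1 := by rw [h]; group
  let Φ : Q × Pd → R := fun x => ⟨(x.1 : G) * x.2.1 * (x.1 : G)⁻¹, hmap x.1 x.2⟩
  have hsurj : Function.Surjective Φ := by
    rintro ⟨u, hu, hu2⟩
    obtain ⟨hup, -⟩ := C.inverted hAb ht hu hu2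
    obtain ⟨T, hT⟩ := (isPGroup_zpowers hup).exists_le_sylow
    have huT : u ∈ T := hT (Subgroup.mem_zpowers u)
    have hTu := hcentSyl u t ht hu hu2 T huT
    have htT : t ∈ Subgroup.normalizer ((T : Subgroup G) : Set G) := by
      refine mem_normalizer_of_conj_subset fun x hx => hTu _ ?_
      have h1 := commute_conj (C.commute_of_pGroup T.isPGroup' hx huT) t
      rw [hu] at h1
      exact Commute.inv_right_iff.1 h1
    obtain ⟨g, hg⟩ := MulAction.exists_smul_eq G P T
    have hgT : ∀ x, x ∈ P ↔ g * x * g⁻¹ ∈ T := fun x => by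
      have e : (T : Subgroup G) = MulAut.conj g • (P : Subgroup G) := by
        rw [← hg]; rfl
      show x ∈ (P : Subgroup G) ↔ g * x * g⁻¹ ∈ (T : Subgroup G)
      rw [e]
      exact (Subgroup.smul_mem_pointwise_smul_iff (a := MulAut.conj g) (x := x)).symm
    have hr : g⁻¹ * t * g⁻¹⁻¹ ∈ Subgroup.normalizer ((P : Subgroup G) : Set G) := by
      refine mem_normalizer_of_conj_subset fun x hx => (hgT _).2 ?_
      have := conj_mem_of_normalizer htT ((hgT x).1 hx)
      show _ ∈ (T : Subgroup G)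
      simpa [mul_assoc] using this
    obtain ⟨v, hv, hvt⟩ := (hN _ hr).resolve_left fun h =>
      (ht.conj g⁻¹).1 (C.pEl_inv_eq (pEl_of_mem P.isPGroup' h) (ht.conj g⁻¹).2)
    obtain ⟨k, hk⟩ := pEl_of_mem P.isPGroup' hv
    have hodd : Odd (orderOf v) := by rw [hk]; exact (C.hp.odd_of_ne_two C.hp2).pow
    obtain ⟨l, hl⟩ := hodd
    set w := v ^ (l + 1) with hw
    have hwP : w ∈ P := pow_mem hv _
    have hww : w * w = v := by
      rw [hw, ← pow_add, show l + 1 + (l + 1) = orderOf v + 1 by omega, pow_succ,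
        pow_orderOf_eq_one, one_mul]
    have htw : t * w = w⁻¹ * t := by
      rw [← hinv t ht htN w hwP]; group
    have hq : g * w ∈ Q := by
      refine hCQ _ ?_
      have h1 : (g * w)⁻¹ * t * (g * w) = t := by
        calc (g * w)⁻¹ * t * (g * w) = w⁻¹ * (g⁻¹ * t * g⁻¹⁻¹) * w := by group
          _ = w⁻¹ * (w * w) * (t * w) := by rw [← hvt, ← hww]; group
          _ = w * (w⁻¹ * t) := by rw [htw]; group
          _ = t := by group
      show g * w * t = t * (g * w)
      conv_lhs => rw [← h1]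
      group
    have hvP : (g * w)⁻¹ * u * (g * w) ∈ P := by
      have h1 : g⁻¹ * u * g ∈ P := (hgT _).2 (by simpa [mul_assoc] using huT)
      have h2 : w⁻¹ * (g⁻¹ * u * g) * w ∈ P := mul_mem (mul_mem (inv_mem hwP) h1) hwP
      simpa [mul_assoc] using h2
    refine ⟨(⟨_, hq⟩, ⟨⟨_, hvP⟩, fun h => hu2 ?_⟩), Subtype.ext ?_⟩
    · have h' : (g * w)⁻¹ * u * (g * w) = 1 := h
      have : u = 1 := by
        calc u = (g * w) * ((g * w)⁻¹ * u * (g * w)) * (g * w)⁻¹ := by group
          _ = 1 := by rw [h']; group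
      rw [this, mul_one]
    · show g * w * ((g * w)⁻¹ * u * (g * w)) * (g * w)⁻¹ = u
      group
  have hfib : ∀ (q q' : Q) (v v' : Pd), Φ (q, v) = Φ (q', v') →
      (q' = q ∨ (q' : G) = q * t) := by
    intro q q' v v' h
    have h' : (q : G) * v.1 * (q : G)⁻¹ = q' * v'.1 * (q' : G)⁻¹ := congrArg Subtype.val h
    set r := (q' : G)⁻¹ * q with hr
    have hrQ : r ∈ Q := mul_mem (inv_mem q'.2) q.2
    have hrv : r * v.1 * r⁻¹ = v'.1 := by
      calc r * v.1 * r⁻¹ = (q' : G)⁻¹ * (q * v.1 * (q : G)⁻¹) * q' := by rw [hr]; group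
        _ = v'.1 := by rw [h']; group
    have hPv' := hcentSyl (v'.1 : G) t ht (hinv t ht htN _ v'.1.2) (hPd v') P v'.1.2
    have hrN : r ∈ Subgroup.normalizer ((P : Subgroup G) : Set G) := by
      refine mem_normalizer_of_conj_subset fun x hx => hPv' _ ?_
      rw [← hrv]
      exact commute_conj (hab x hx _ v.1.2) r
    rcases hN r hrN with hrP | ⟨x, hx, he⟩
    · left
      have := C.pEl_two_eq (pEl_of_mem P.isPGroup' hrP) hQ hrQ
      exact Subtype.ext (inv_mul_eq_one.1 this)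
    · right
      have hxQ : x ∈ Q := by
        rw [eq_mul_inv_of_mul_eq he]; exact mul_mem hrQ (inv_mem htQ)
      rw [C.pEl_two_eq (pEl_of_mem P.isPGroup' hx) hQ hxQ, one_mul] at he
      calc (q' : G) = q * r⁻¹ := by rw [hr]; group
        _ = q * t := by rw [← he, ht.inv_eq]
  choose sec hsec using hsurj
  let tQ : Q := ⟨t, htQ⟩
  let tw : Pd → Pd := fun v => ⟨(v.1)⁻¹, fun h => v.2 (inv_eq_one.1 h)⟩
  let Ψ : R × Bool → Q × Pd := fun x =>
    if x.2 then ((sec x.1).1 * tQ, tw (sec x.1).2) else sec x.1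
  have hΦtw : ∀ (q : Q) (v : Pd), Φ (q * tQ, tw v) = Φ (q, v) := by
    intro q v
    refine Subtype.ext ?_
    show (q : G) * t * (v.1 : G)⁻¹ * ((q : G) * t)⁻¹ = q * v.1 * (q : G)⁻¹
    calc (q : G) * t * (v.1 : G)⁻¹ * ((q : G) * t)⁻¹
        = q * (t * v.1 * t⁻¹)⁻¹ * (q : G)⁻¹ := by group
      _ = _ := by rw [hinv t ht htN _ v.1.2, inv_inv]
  have hΦΨ : ∀ x, Φ (Ψ x) = x.1 := by
    rintro ⟨u, b⟩
    cases b
    · exact hsec u
    · exact (hΦtw _ _).trans (hsec u)
  have hΨ : Function.Bijective Ψ := by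
    refine ⟨?_, ?_⟩
    · rintro ⟨u, b⟩ ⟨u', b'⟩ h
      obtain rfl : u = u' := by
        have := congrArg Φ h
        rwa [hΦΨ, hΦΨ] at this
      have hne : (sec u).1 * tQ ≠ (sec u).1 := fun e =>
        ht.1 (congrArg Subtype.val (mul_eq_left.1 e))
      cases b <;> cases b'
      · rfl
      · exact absurd (congrArg Prod.fst h).symm hne
      · exact absurd (congrArg Prod.fst h) hne
      · rfl
    · rintro ⟨q, v⟩
      have hu := hsec (Φ (q, v))
      rcases hfib _ q _ v hu with h | h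
      · refine ⟨(Φ (q, v), false), Prod.ext h.symm ?_⟩
        show (sec (Φ (q, v))).2 = v
        have h' := congrArg Subtype.val hu
        refine Subtype.ext (Subtype.ext ?_)
        have h'' : ((sec (Φ (q, v))).1 : G) * ((sec (Φ (q, v))).2.1 : G) *
            ((sec (Φ (q, v))).1 : G)⁻¹ = (q : G) * v.1 * (q : G)⁻¹ := h'
        rw [← h] at h''
        exact mul_left_cancel (mul_right_cancel h'')
      · refine ⟨(Φ (q, v), true), Prod.ext (Subtype.ext h.symm) ?_⟩
        show tw (sec (Φ (q, v))).2 = v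
        have h' : Φ ((sec (Φ (q, v))).1 * tQ, tw (sec (Φ (q, v))).2) = Φ (q, v) :=
          (hΦtw _ _).trans hu
        have e : (sec (Φ (q, v))).1 * tQ = q := Subtype.ext h.symm
        rw [e] at h'
        refine Subtype.ext (Subtype.ext ?_)
        exact mul_left_cancel (mul_right_cancel (congrArg Subtype.val h'))
  set m := Nat.card (P : Subgroup G)
  have hcardPd : Nat.card Pd = m - 1 := by
    have e : Nat.card Pd = (((P : Subgroup G) : Set G) \ {1}).ncard := by
      rw [← Nat.card_coe_set_eq]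
      exact Nat.card_congr ⟨fun v => ⟨v.1.1, v.1.2, v.2⟩, fun v => ⟨⟨v.1, v.2.1⟩, v.2.2⟩,
        fun v => rfl, fun v => rfl⟩
    rw [e, Set.ncard_sdiff_singleton_of_mem (one_mem (P : Subgroup G)), ← Nat.card_coe_set_eq]
    rfl
  have h2R : Nat.card R * 2 = 2 ^ a * (m - 1) := by
    rw [← hQc, ← hcardPd, ← Nat.card_prod, ← Nat.card_eq_of_bijective Ψ hΨ, Nat.card_prod]
    simp
  -- counting
  have hn : Nat.card {x : G // IsConj t x} = 2 ^ a - 1 + Nat.card R := by
    have e1 : Nat.card {x : G // IsConj t x} = ({x : G | IsInv x}).ncard := by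
      rw [← Nat.card_coe_set_eq]
      refine Nat.card_congr (Equiv.subtypeEquivRight fun x => ⟨fun h => ?_, fun h => ?_⟩)
      · obtain ⟨g, rfl⟩ := isConj_iff.1 h
        exact ht.conj g
      · exact isConj_iff.2 (C.exists_conj ht h)
    have e2 : ({x : G | IsInv x}) = ((Q : Set G) \ {1}) ∪
        (fun u => t * u) '' {u : G | t * u * t⁻¹ = u⁻¹ ∧ u * u ≠ 1} := by
      ext s
      constructor
      · intro hs
        by_cases hst : Commute s t
        · exact Or.inl ⟨hCQ s hst, hs.1⟩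
        · exact Or.inr ⟨t * s, ⟨hinvts s hs, fun h => hst (hcomm s hs h)⟩,
            show t * (t * s) = s by rw [← mul_assoc, ht.2, one_mul]⟩
      · rintro (⟨hs, hs1⟩ | ⟨u, ⟨hu, hu2⟩, rfl⟩)
        · exact ⟨hs1, (C.elem Q hQ s hs).1⟩
        · refine ⟨fun e => hu2 ?_, ?_⟩
          · rw [show u = t by rw [← ht.inv_eq]; exact eq_inv_of_mul_eq_one_right e, ht.2]
          · show t * u * (t * u) = 1
            rw [← mul_assoc, show t * u * t = t * u * t⁻¹ by rw [ht.inv_eq], hu, inv_mul_cancel]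
    have e3 : Disjoint ((Q : Set G) \ {1})
        ((fun u => t * u) '' {u : G | t * u * t⁻¹ = u⁻¹ ∧ u * u ≠ 1}) := by
      rw [Set.disjoint_left]
      rintro s ⟨hs, -⟩ ⟨u, ⟨-, hu2⟩, rfl⟩
      refine hu2 ((C.elem Q hQ u ?_).1)
      have : t⁻¹ * (t * u) ∈ Q := mul_mem (inv_mem htQ) hs
      rwa [inv_mul_cancel_left] at this
    rw [e1, e2, Set.ncard_union_eq e3 (Set.toFinite _) (Set.toFinite _),
      Set.ncard_image_of_injective _ (mul_right_injective t),
      Set.ncard_sdiff_singleton_of_mem (one_mem Q), ← Nat.card_coe_set_eq,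
      ← Nat.card_coe_set_eq]
    show Nat.card Q - 1 + Nat.card R = _
    rw [hQc]
  haveI := Fintype.ofFinite G
  have hcl := CT.card_conj_class_mul_centralizer t
  have hC : Nat.card (Subgroup.centralizer ({t} : Set G)) = 2 ^ a := by
    rw [← hQc]
    suffices h : Subgroup.centralizer ({t} : Set G) = Q by rw [h]
    exact le_antisymm (fun x hx => hCQ x (mem_centralizer_singleton'.1 hx))
      fun x hx => mem_centralizer_singleton'.2 (hQt x hx)
  rw [hC] at hcl
  have hpn : p ∣ Nat.card {x : G // IsConj t x} := by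
    refine ((C.hp.coprime_iff_not_dvd.2 fun h => ?_).pow_right a).dvd_of_dvd_mul_right
      (hcl ▸ C.hpG)
    exact C.hp2 ((Nat.prime_dvd_prime_iff_eq C.hp Nat.prime_two).1 h)
  have hpm : p ∣ m := by
    obtain ⟨i, hi⟩ := P.isPGroup'.exists_card_eq
    rw [show m = p ^ i from hi]
    refine dvd_pow_self p fun h => hPb (Subgroup.eq_bot_of_card_eq _ ?_)
    rw [hi, h, pow_zero]
  have hm0 : 0 < m := Nat.card_pos
  have h1 : 2 * Nat.card {x : G // IsConj t x} + (p + 1) = 2 * p + (p + 1) * m := by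
    rw [hn, ← C.hpa, Nat.add_sub_cancel, Nat.mul_add, mul_comm 2 (Nat.card R), h2R, ← C.hpa]
    obtain ⟨m', hm'⟩ : ∃ m', m = m' + 1 := ⟨m - 1, by omega⟩
    rw [hm', Nat.add_sub_cancel]
    ring
  have h2 : p ∣ 2 * Nat.card {x : G // IsConj t x} + p + 1 := by
    rw [add_assoc, h1]
    exact dvd_add (dvd_mul_left p 2) (dvd_mul_of_dvd_right hpm _)
  exact C.hp.not_dvd_one ((Nat.dvd_add_right (dvd_add (dvd_mul_of_dvd_right hpn 2) dvd_rfl)).1 h2)

end Ctx

end Cfsg.Agent.FGB.MixedQ
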