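import Cfsg.Agent.Lib.FGB.MixedQNonAb
import Cfsg.Agent.Lib.FGB.MixedQAb

/-!
# Two-prime conclusion from a large prime dividing the mixed subgroups
-/

namespace Cfsg.Agent.FGB.MixedQ

universe u

/-- The main theorem, by induction on the order. -/
theorem main : ∀ (n : ℕ) (G : Type u) [Group G] [Finite G], Nat.card G ≤ n → ∀ (p q : ℕ),
    p.Prime → q.Prime → p ≠ q → p ≠ 2 → p ∣ Nat.card G → q ∣ Nat.card G →
    (∀ H : Subgroup G, H ≠ ⊤ → ¬ IsPGroup q H → q ∣ Nat.card H → p ∣ Nat.card H) →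
    (q ^ (Nat.card G).factorization q - 1 < p ∨
      (p = q ^ (Nat.card G).factorization q - 1 ∧
        ∀ P : Sylow p G, IsMulCommutative (P : Subgroup G))) →
    ∀ r : ℕ, r.Prime → r ∣ Nat.card G → r = p ∨ r = q := by
  intro n
  induction n with
  | zero =>
    intro G _ _ hn
    exact absurd hn (Nat.not_le.2 Nat.card_pos)
  | succ n IH =>
  intro G _ _ hn p q hp hq hpq hp2 hpG hqG hmix hlarge r hr hrG
  by_contra hcon
  push Not at hcon
  obtain ⟨hrp, hrq⟩ := hcon
  haveI := Fact.mk hp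
  haveI := Fact.mk hq
  set a := (Nat.card G).factorization q with ha
  have hUle : ∀ U : Subgroup G, IsPGroup q U → Nat.card U ≤ q ^ a := by
    intro U hU
    obtain ⟨S, hS⟩ := hU.exists_le_sylow
    rw [ha, ← S.card_eq_multiplicity]
    exact Subgroup.card_le_of_le hS
  -- without actions of `p`-elements there is a normal `q`-complement
  have hfrob : ¬ ∀ g : G, PEl p g → ∀ U : Subgroup G, IsPGroup q U →
      g ∈ Subgroup.normalizer (U : Set G) → ∀ u ∈ U, g * u * g⁻¹ = u := by
    intro hno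
    obtain ⟨S⟩ : Nonempty (Sylow q G) := Sylow.nonempty
    obtain ⟨N, hNn, hNc⟩ := (Cfsg.Agent.S0071.result S).2 (by
      intro D hD g hg hcop x hx
      by_cases hD1 : D = ⊥
      · obtain rfl : x = 1 := Subgroup.mem_bot.1 (hD1 ▸ hx)
        simp
      have hgp : PEl p g := by
        refine ⟨(orderOf g).primeFactorsList.length,
          Nat.eq_prime_pow_of_unique_prime_dvd (orderOf_pos g).ne' fun {l} hl hld => ?_⟩
        by_contra hlp
        have hlq : l ≠ q := fun h => Nat.not_coprime_of_dvd_of_dvd hl.one_lt hld h.dvd hcop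
        exact no_normalize hmix hp hq hpG hl hlq hlp hpq (a := q) (b := l) (Or.inl ⟨rfl, rfl⟩)
          (S.isPGroup'.to_le hD) hD1 hg hld
      exact (mul_inv_eq_iff_eq_mul.1 (hno g hgp D (S.isPGroup'.to_le hD) hg x hx)).symm)
    haveI := hNn
    have hqN : ¬ q ∣ Nat.card N := hNc.index_eq_card ▸ S.not_dvd_index
    have hrN := normal_no_third hmix hp hq hpG hqG hr hrq hrp hpq N hqN
    obtain ⟨k, hk⟩ := S.isPGroup'.exists_card_eq
    rw [← hNc.card_mul_card, hk] at hrG
    rcases (Nat.Prime.dvd_mul hr).1 hrG with h | h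
    exacts [hrN h, hrq ((Nat.prime_dvd_prime_iff_eq hr hq).1 (hr.dvd_of_dvd_pow h))]
  push Not at hfrob
  obtain ⟨g, hg, U, hU, hgN, u, hu, hne⟩ := hfrob
  have hu1 : u ≠ 1 := fun h => hne (by rw [h]; simp)
  have horb : p ≤ Nat.card U - 1 := by
    have h1 := (orbit_card hg hne).trans (Set.ncard_le_ncard
      (orbit_subset hgN hu {1} (fun s hs => by rw [Set.mem_singleton_iff.1 hs]; simp)
        (fun e => hu1 (Set.mem_singleton_iff.1 e))) (Set.toFinite _))
    rw [Set.ncard_sdiff_singleton_of_mem U.one_mem, ← Nat.card_coe_set_eq] at h1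
    exact h1
  rcases hlarge with hlt | ⟨heq, hab⟩
  · have := hUle U hU
    omega
  have hple := hp.two_le
  have hpa : p + 1 = q ^ a := by omega
  have hq2 : q = 2 := by
    by_contra h
    have h1 : Odd (q ^ a) := (hq.odd_of_ne_two h).pow
    rw [← hpa] at h1
    exact Nat.not_even_iff_odd.2 h1 (hp.odd_of_ne_two hp2).add_one
  subst hq2
  have hUc : Nat.card U = 2 ^ a := by
    have := hUle U hU
    omega
  obtain ⟨hUe, hUab, hUtr⟩ := pow_prime_eq_one hU hg hgN hu hne (by rw [hUc, hpa])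
  have hconjU : ∀ V : Subgroup G, IsPGroup 2 V → ∃ c : G, ∀ x ∈ V, c * x * c⁻¹ ∈ U := by
    intro V hV
    obtain ⟨c, -, hc⟩ := Ctx.exists_conj_mem (M := ⊤) le_top hU
      (fun W _ hW hle => (Subgroup.eq_of_le_of_card_ge hle (hUc ▸ hUle W hW)).symm) le_top hV
    exact ⟨c, hc⟩
  have helem : ∀ V : Subgroup G, IsPGroup 2 V → ∀ x ∈ V, x * x = 1 ∧ ∀ y ∈ V, Commute x y := by
    intro V hV x hx
    obtain ⟨c, hc⟩ := hconjU V hV
    constructor
    · have h1 : c * x * c⁻¹ * (c * x * c⁻¹) = 1 := by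
        by_cases h : c * x * c⁻¹ = 1
        · rw [h, one_mul]
        · rw [← sq]; exact hUe _ (hc x hx) h
      calc x * x = c⁻¹ * (c * x * c⁻¹ * (c * x * c⁻¹)) * c := by group
        _ = 1 := by rw [h1]; group
    · intro y hy
      have h1 := commute_conj (hUab _ (hc x hx) _ (hc y hy)) c⁻¹
      simpa [mul_assoc] using h1
  have htrans : ∀ V : Subgroup G, IsPGroup 2 V → Nat.card V = 2 ^ a → ∀ x ∈ V, ∀ y ∈ V, x ≠ 1 →
      y ≠ 1 → ∃ h : G, PEl p h ∧ h ∈ Subgroup.normalizer (V : Set G) ∧ h * x * h⁻¹ = y := by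
    intro V hV hVc x hx y hy hx1 hy1
    obtain ⟨c, hc⟩ := hconjU V hV
    obtain ⟨i, hi⟩ := hUtr _ (hc x hx) (fun h => hx1 (by simpa using h))
    obtain ⟨j, hj⟩ := hUtr _ (hc y hy) (fun h => hy1 (by simpa using h))
    have hmem : ∀ w ∈ U, c⁻¹ * w * c⁻¹⁻¹ ∈ V := by
      intro w hw
      have hmap : V.map (MulAut.conj c).toMonoidHom = U := by
        refine Subgroup.eq_of_le_of_card_ge ?_ (by
          rw [Subgroup.card_map_of_injective (MulAut.conj c).injective, hVc, hUc])
        rintro _ ⟨z, hz, rfl⟩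
        exact hc z hz
      obtain ⟨z, hz, rfl⟩ := hmap.ge hw
      simpa [mul_assoc] using hz
    set k := g ^ j * (g ^ i)⁻¹ with hk
    have hkp : PEl p k := by
      have h1 : k ∈ Subgroup.zpowers g :=
        mul_mem (pow_mem (Subgroup.mem_zpowers g) j) (inv_mem (pow_mem (Subgroup.mem_zpowers g) i))
      exact pEl_of_mem (isPGroup_zpowers hg) h1
    have hkN : k ∈ Subgroup.normalizer (U : Set G) :=
      mul_mem (pow_mem hgN j) (inv_mem (pow_mem hgN i))
    refine ⟨c⁻¹ * k * c⁻¹⁻¹, pEl_conj hkp _, mem_normalizer_of_conj_subset fun z hz => ?_, ?_⟩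
    · have := hmem _ (conj_mem_of_normalizer hkN (hc z hz))
      simpa [mul_assoc] using this
    · have h1 : k * (c * x * c⁻¹) * k⁻¹ = c * y * c⁻¹ := by
        rw [← hi, ← hj, hk]; group
      calc c⁻¹ * k * c⁻¹⁻¹ * x * (c⁻¹ * k * c⁻¹⁻¹)⁻¹
          = c⁻¹ * (k * (c * x * c⁻¹) * k⁻¹) * c := by group
        _ = y := by rw [h1]; group
  -- proper subgroups of even order
  have htwo : ∀ H : Subgroup G, H ≠ ⊤ → 2 ∣ Nat.card H → ∀ l : ℕ, l.Prime → l ∣ Nat.card H →
      l = p ∨ l = 2 := by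
    intro H hH h2H l hl hlH
    by_cases hH2 : IsPGroup 2 H
    · obtain ⟨k, hk⟩ := hH2.exists_card_eq
      exact Or.inr ((Nat.prime_dvd_prime_iff_eq hl Nat.prime_two).1
        (hl.dvd_of_dvd_pow (hk ▸ hlH)))
    have hlt : Nat.card H < Nat.card G :=
      lt_of_le_of_ne (Nat.le_of_dvd Nat.card_pos (Subgroup.card_subgroup_dvd_card H))
        fun h => hH (Subgroup.eq_top_of_card_eq H h)
    refine IH H (by omega) p 2 hp Nat.prime_two hpq hp2 (hmix H hH hH2 h2H) h2H ?_ ?_ l hl hlH
    · intro K hK hK2 h2K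
      have e := Subgroup.card_map_of_injective (K := K) H.subtype_injective
      rw [← e] at h2K ⊢
      refine hmix _ (fun h => hH (top_le_iff.1 (h ▸ Subgroup.map_subtype_le K))) (fun h => hK2 ?_) h2K
      exact h.of_equiv (K.equivMapOfInjective _ H.subtype_injective).symm
    · have hle : (Nat.card H).factorization 2 ≤ a :=
        (Nat.factorization_le_iff_dvd Nat.card_pos.ne' Nat.card_pos.ne').2
          (Subgroup.card_subgroup_dvd_card H) 2
      rcases lt_or_eq_of_le hle with h | h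
      · left
        have h1 : 2 ^ ((Nat.card H).factorization 2 + 1) ≤ 2 ^ a :=
          Nat.pow_le_pow_right (by norm_num) h
        rw [pow_succ] at h1
        omega
      · refine Or.inr ⟨by rw [h]; exact heq, fun P => ?_⟩
        obtain ⟨P', hP'⟩ := (P.isPGroup'.map H.subtype).exists_le_sylow
        refine ⟨⟨fun x y => Subtype.ext (Subtype.ext ?_)⟩⟩
        show ((x : H) : G) * ((y : H) : G) = ((y : H) : G) * ((x : H) : G)
        exact congrArg Subtype.val ((hab P').is_comm.comm ⟨_, hP' ⟨x.1, x.2, rfl⟩⟩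
          ⟨_, hP' ⟨y.1, y.2, rfl⟩⟩)
  -- no proper normal subgroup of even order
  have heven : ∀ N : Subgroup G, N.Normal → N ≠ ⊤ → ¬ 2 ∣ Nat.card N := by
    intro N hNn hNt h2N
    haveI := hNn
    obtain ⟨R⟩ : Nonempty (Sylow 2 N) := Sylow.nonempty
    set R' := (R : Subgroup N).map N.subtype with hR'
    have hdvd : Nat.card G ∣ Nat.card N * Nat.card (Subgroup.normalizer (R' : Set G)) := by
      have := card_sup_dvd (U := N) (K := Subgroup.normalizer (R' : Set G))
        (by rw [Subgroup.normalizer_eq_top (H := N)]; exact le_top)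
      rwa [sup_comm, hR', Sylow.normalizer_sup_eq_top R,
        Nat.card_congr Subgroup.topEquiv.toEquiv] at this
    have hrN : ¬ r ∣ Nat.card N := fun h => (htwo N hNt h2N r hr h).elim hrp hrq
    haveI := Fact.mk hr
    obtain ⟨⟨x, hx⟩, hxo⟩ := exists_prime_orderOf_dvd_card'
      (G := Subgroup.normalizer (R' : Set G)) r
      (((Nat.Prime.dvd_mul hr).1 (hrG.trans hdvd)).resolve_left hrN)
    rw [Subgroup.orderOf_mk] at hxo
    refine no_normalize hmix hp hq hpG hr hrq hrp hpq (a := 2) (b := r) (Or.inl ⟨rfl, rfl⟩)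
      (R.isPGroup'.map _) (fun h => ?_) hx hxo.symm.dvd
    have h1 : 2 ∣ Nat.card ((R : Subgroup N).map N.subtype) := by
      rw [Subgroup.card_map_of_injective (Subgroup.subtype_injective _)]
      exact R.dvd_card_of_dvd_card h2N
    rw [h, Subgroup.card_bot] at h1
    omega
  -- perfectness and simplicity
  have hcm : g * u * g⁻¹ * u⁻¹ ≠ 1 := fun h => hne (mul_inv_eq_one.1 h)
  have hcU : g * u * g⁻¹ * u⁻¹ ∈ U := mul_mem (conj_mem_of_normalizer hgN hu) (inv_mem hu)
  have hperf : commutator G = ⊤ := by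
    by_contra h
    have hmem : g * u * g⁻¹ * u⁻¹ ∈ commutator G :=
      Subgroup.commutator_mem_commutator (Subgroup.mem_top g) (Subgroup.mem_top u)
    refine heven _ inferInstance h ?_
    have ho : orderOf (g * u * g⁻¹ * u⁻¹) = 2 :=
      orderOf_eq_prime (hUe _ hcU hcm) hcm
    rw [← ho, ← Subgroup.orderOf_mk _ hmem]
    exact orderOf_dvd_natCard _
  have hpgr : ∀ N : Subgroup G, N.Normal → N ≠ ⊤ → IsPGroup p N := by
    intro N hNn hNt
    haveI := hNn
    refine IsPGroup.of_card (n := (Nat.card N).primeFactorsList.length) ?_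
    refine Nat.eq_prime_pow_of_unique_prime_dvd Nat.card_pos.ne' fun {l} hl hld => ?_
    by_contra hlp
    have hl2 : l ≠ 2 := fun h => heven N hNn hNt (h ▸ hld)
    exact normal_no_third hmix hp hq hpG hqG hl hl2 hlp hpq N (heven N hNn hNt) hld
  have hsimple : ∀ N : Subgroup G, N.Normal → N = ⊥ ∨ N = ⊤ := by
    intro N hNn
    by_contra hN
    push Not at hN
    haveI := hNn
    have hNp := hpgr N hNn hN.2
    obtain ⟨P, hP⟩ := hNp.exists_le_sylow
    have hPN : ∀ x ∈ P, ∀ y ∈ N, Commute x y := fun x hx y hy =>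
      congrArg Subtype.val ((hab P).is_comm.comm ⟨x, hx⟩ ⟨y, hP hy⟩)
    by_cases hC : Subgroup.centralizer (N : Set G) = ⊤
    · obtain ⟨v, hv, hv1⟩ := (Subgroup.bot_or_exists_ne_one N).resolve_left hN.1
      refine hv1 (transfer_center P (hab P) hperf (hP hv) fun x _ => ?_)
      exact (Subgroup.mem_centralizer_iff.1 (hC ▸ Subgroup.mem_top x :
        x ∈ Subgroup.centralizer (N : Set G)) v hv).symm
    have hCp := hpgr _ inferInstance hC
    have hPC : (P : Subgroup G) ≤ Subgroup.centralizer (N : Set G) := fun x hx =>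
      Subgroup.mem_centralizer_iff.2 fun y hy => (hPN x hx y hy).symm.eq
    have hPn : (P : Subgroup G).Normal := by
      rw [← P.is_maximal' hCp hPC]
      infer_instance
    haveI := hPn
    have hgP : g ∈ (P : Subgroup G) := by
      have h1 := P.is_maximal' (isPGroup_sup P.isPGroup' (isPGroup_zpowers hg)
        (by rw [Subgroup.normalizer_eq_top (H := (P : Subgroup G))]; exact le_top)) le_sup_left
      exact h1.le (Subgroup.mem_sup_right (Subgroup.mem_zpowers g))
    have hcP : g * u * g⁻¹ * u⁻¹ ∈ (P : Subgroup G) := by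
      have := mul_mem hgP (hPn.conj_mem _ (inv_mem hgP) u)
      simpa only [mul_assoc] using this
    obtain ⟨k, hk⟩ := pEl_of_mem P.isPGroup' hcP
    have h2 : orderOf (g * u * g⁻¹ * u⁻¹) = 2 := orderOf_eq_prime (hUe _ hcU hcm) hcm
    rw [h2] at hk
    exact hpq ((Nat.prime_dvd_prime_iff_eq Nat.prime_two hp).1
      (Nat.prime_two.dvd_of_dvd_pow hk.dvd)).symm
  have C : Ctx G p a :=
    { hp := hp, hp2 := hp2, hpa := hpa, hdvd := Nat.ordProj_dvd _ _,
      hndvd := fun h => by
        have := (Nat.prime_two.pow_dvd_iff_le_factorization Nat.card_pos.ne').1 h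
        omega
      hpG := hpG, simple := hsimple, hperf := hperf, abSyl := hab, two := htwo, elem := helem,
      trans := htrans }
  by_cases hNA : ∃ t : G, IsInv t ∧ NonAb p t
  · obtain ⟨t, ht, hn⟩ := hNA
    exact C.nonAb_false ht hn
  · exact C.ab_false fun t ht hn => hNA ⟨t, ht, hn⟩

end Cfsg.Agent.FGB.MixedQ
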