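import Cfsg.Agent.Lib.FGB.Basic
import Cfsg.Agent.S0071

/-!
# Small `q`-groups and mixed subgroups: basic lemmas
-/

namespace Cfsg.Agent.FGB.MixedQ

variable {G : Type*} [Group G]

/-- Order a power of `p`. -/
def PEl (p : ℕ) (g : G) : Prop := ∃ k : ℕ, orderOf g = p ^ k

theorem card_sup_dvd [Finite G] {U K : Subgroup G} (h : K ≤ Subgroup.normalizer (U : Set G)) :
    Nat.card ↥(U ⊔ K) ∣ Nat.card U * Nat.card K := by
  set N := Subgroup.normalizer (U : Set G)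
  have hU : U ≤ N := Subgroup.le_normalizer
  haveI : (U.subgroupOf N).Normal := Subgroup.normal_in_normalizer
  rw [← Nat.card_congr (Subgroup.subgroupOfEquivOfLe (sup_le hU h)).toEquiv,
    ← Nat.card_congr (Subgroup.subgroupOfEquivOfLe hU).toEquiv,
    ← Nat.card_congr (Subgroup.subgroupOfEquivOfLe h).toEquiv, Subgroup.subgroupOf_sup hU h]
  set A := U.subgroupOf N
  set B := K.subgroupOf N
  rw [← Subgroup.relIndex_bot_left (H := A ⊔ B), sup_comm A B,
    ← Subgroup.relIndex_mul_relIndex _ _ _ bot_le (le_sup_right : A ≤ B ⊔ A),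
    Subgroup.relIndex_bot_left, Subgroup.relIndex_sup_right]
  exact mul_dvd_mul_left _ (Subgroup.relIndex_dvd_card _ _)

theorem pEl_of_mem [Finite G] {p : ℕ} [Fact p.Prime] {H : Subgroup G} (hH : IsPGroup p H) {g : G}
    (hg : g ∈ H) : PEl p g := by
  obtain ⟨k, hk⟩ := (IsPGroup.iff_orderOf.1 hH) ⟨g, hg⟩
  exact ⟨k, by rw [← Subgroup.orderOf_mk g hg]; exact hk⟩

theorem pEl_conj {p : ℕ} {g : G} (h : PEl p g) (x : G) : PEl p (x * g * x⁻¹) := by
  obtain ⟨k, hk⟩ := h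
  exact ⟨k, by rw [← MulAut.conj_apply, MulEquiv.orderOf_eq, hk]⟩

theorem isPGroup_zpowers [Finite G] {p : ℕ} [Fact p.Prime] {g : G} (h : PEl p g) :
    IsPGroup p (Subgroup.zpowers g) := by
  obtain ⟨k, hk⟩ := h
  exact IsPGroup.of_card (n := k) (by rw [Nat.card_zpowers, hk])

theorem commute_conj {a b : G} (h : Commute a b) (c : G) :
    Commute (c * a * c⁻¹) (c * b * c⁻¹) := by
  show c * a * c⁻¹ * (c * b * c⁻¹) = c * b * c⁻¹ * (c * a * c⁻¹)
  have h' : a * b = b * a := h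
  calc c * a * c⁻¹ * (c * b * c⁻¹) = c * (a * b) * c⁻¹ := by group
    _ = c * (b * a) * c⁻¹ := by rw [h']
    _ = _ := by group

theorem conj_mem_of_normalizer {U : Subgroup G} {g : G} (hg : g ∈ Subgroup.normalizer (U : Set G))
    {u : G} (hu : u ∈ U) : g * u * g⁻¹ ∈ U :=
  (Subgroup.mem_normalizer_iff.1 hg u).1 hu

/-- Orbits of a `p`-element on a normalized subgroup. -/
theorem orbit_card [Finite G] {p : ℕ} [hp : Fact p.Prime] {g : G} (hg : PEl p g) {u : G}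
    (hu : g * u * g⁻¹ ≠ u) : p ≤ (Set.range fun i : ℕ => g ^ i * u * (g ^ i)⁻¹).ncard := by
  letI : MulAction (Subgroup.zpowers g) G :=
    MulAction.compHom G ((MulAut.conj).comp (Subgroup.zpowers g).subtype)
  have hsub : MulAction.orbit (Subgroup.zpowers g) u = Set.range fun i : ℕ => g ^ i * u * (g ^ i)⁻¹ := by
    ext x
    constructor
    · rintro ⟨⟨c, hc⟩, rfl⟩
      obtain ⟨i, rfl⟩ := (isOfFinOrder_of_finite g).mem_powers_iff_mem_zpowers.2 hc
      exact ⟨i, rfl⟩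
    · rintro ⟨i, rfl⟩
      exact ⟨⟨g ^ i, Subgroup.pow_mem _ (Subgroup.mem_zpowers g) i⟩, rfl⟩
  obtain ⟨j, hj⟩ := (isPGroup_zpowers hg).card_orbit u
  rw [← hsub, ← Nat.card_coe_set_eq, hj]
  rcases Nat.eq_zero_or_pos j with rfl | hj0
  · rw [pow_zero, Nat.card_coe_set_eq, Set.ncard_eq_one] at hj
    obtain ⟨c, hc⟩ := hj
    rw [hsub] at hc
    have h1 : g ^ 1 * u * (g ^ 1)⁻¹ = c := Set.mem_singleton_iff.1 (hc ▸ Set.mem_range_self 1)
    have h0 : g ^ 0 * u * (g ^ 0)⁻¹ = c := Set.mem_singleton_iff.1 (hc ▸ Set.mem_range_self 0)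
    rw [pow_one] at h1
    exact absurd (h1.trans (by simpa using h0.symm)) hu
  · exact Nat.le_self_pow hj0.ne' p

theorem orbit_subset {U : Subgroup G} {g : G} (hg : g ∈ Subgroup.normalizer (U : Set G)) {u : G}
    (hu : u ∈ U) (S : Set G) (hS : ∀ s ∈ S, g * s * g⁻¹ = s) (huS : u ∉ S) :
    (Set.range fun i : ℕ => g ^ i * u * (g ^ i)⁻¹) ⊆ (U : Set G) \ S := by
  rintro x ⟨i, rfl⟩
  refine ⟨conj_mem_of_normalizer (Subgroup.pow_mem _ hg i) hu, fun hxS => huS ?_⟩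
  have : g ^ i * (g ^ i * u * (g ^ i)⁻¹) * (g ^ i)⁻¹ = g ^ i * u * (g ^ i)⁻¹ :=
    mul_inv_eq_iff_eq_mul.2 ((show Commute g _ from mul_inv_eq_iff_eq_mul.1 (hS _ hxS)).pow_left i).eq
  rw [mul_left_inj, mul_right_inj] at this
  exact this ▸ hxS

/-- A `p`-element fixing all of `S` centralizes `U` when fewer than `p` other elements exist. -/
theorem centralizes_small [Finite G] {p : ℕ} [Fact p.Prime] {U : Subgroup G} {g : G} (hg : PEl p g)
    (hN : g ∈ Subgroup.normalizer (U : Set G)) (S : Set G) (hS : ∀ s ∈ S, g * s * g⁻¹ = s)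
    (hcard : ((U : Set G) \ S).ncard < p) {u : G} (hu : u ∈ U) : g * u * g⁻¹ = u := by
  by_contra hne
  have huS : u ∉ S := fun h => hne (hS u h)
  have h1 := (orbit_card hg hne).trans
    (Set.ncard_le_ncard (orbit_subset hN hu S hS huS) (Set.toFinite _))
  omega

/-- The data of the equality case. -/
theorem pow_prime_eq_one [Finite G] {p q : ℕ} [Fact p.Prime] [hq : Fact q.Prime] {U : Subgroup G}
    (hU : IsPGroup q U) {g : G} (hg : PEl p g) (hN : g ∈ Subgroup.normalizer (U : Set G))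
    {u : G} (hu : u ∈ U) (hne : g * u * g⁻¹ ≠ u) (hcard : Nat.card U ≤ p + 1) :
    (∀ v ∈ U, v ≠ 1 → v ^ q = 1) ∧ (∀ v ∈ U, ∀ w ∈ U, Commute v w) ∧
      ∀ v ∈ U, v ≠ 1 → ∃ i : ℕ, g ^ i * u * (g ^ i)⁻¹ = v := by
  have hu1 : u ∉ ({1} : Set G) := fun h => hne (by rw [Set.mem_singleton_iff.1 h]; simp)
  have heq : (Set.range fun i : ℕ => g ^ i * u * (g ^ i)⁻¹) = (U : Set G) \ {1} := by
    refine Set.eq_of_subset_of_ncard_le (orbit_subset hN hu {1} (fun s hs => by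
      rw [Set.mem_singleton_iff.1 hs]; simp) hu1) ?_ (Set.toFinite _)
    rw [Set.ncard_sdiff_singleton_of_mem U.one_mem, ← Nat.card_coe_set_eq]
    have := orbit_card hg hne
    show Nat.card U - 1 ≤ _
    omega
  have htr : ∀ v ∈ U, v ≠ 1 → ∃ i : ℕ, g ^ i * u * (g ^ i)⁻¹ = v := fun v hv hv1 =>
    (heq ▸ (⟨hv, hv1⟩ : v ∈ (U : Set G) \ {1}) : v ∈ Set.range _)
  haveI : Nontrivial U := ⟨⟨⟨u, hu⟩, 1, fun h => hu1 (congrArg Subtype.val h)⟩⟩
  haveI := hU.center_nontrivial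
  obtain ⟨⟨z, hz⟩, hz1⟩ := exists_ne (1 : Subgroup.center U)
  have hz1' : (z : G) ≠ 1 := fun h => hz1 (Subtype.ext (Subtype.ext h))
  refine ⟨fun v hv hv1 => ?_, fun v hv w hw => ?_, htr⟩
  · obtain ⟨k, hk⟩ : q ∣ Nat.card U := by
      obtain ⟨n, hn⟩ := hU.exists_card_eq
      refine hn ▸ dvd_pow_self q fun h0 => ?_
      rw [h0, pow_zero] at hn
      exact (Finite.one_lt_card (α := U)).ne' hn
    obtain ⟨⟨w, hw⟩, hwo⟩ := exists_prime_orderOf_dvd_card' q ⟨k, hk⟩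
    rw [Subgroup.orderOf_mk] at hwo
    have hw1 : w ≠ 1 := fun h => hq.out.ne_one (hwo.symm.trans (h ▸ orderOf_one))
    obtain ⟨i, hi⟩ := htr v hv hv1
    obtain ⟨j, hj⟩ := htr w hw hw1
    rw [← hwo, ← hj, ← hi, ← MulAut.conj_apply, ← MulAut.conj_apply, MulEquiv.orderOf_eq,
      ← MulEquiv.orderOf_eq (MulAut.conj (g ^ i)) u, pow_orderOf_eq_one]
  · by_cases hv1 : v = 1
    · rw [hv1]; exact Commute.one_left w
    obtain ⟨i, hi⟩ := htr v hv hv1
    obtain ⟨j, hj⟩ := htr z z.2 hz1'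
    have huz : ∀ x ∈ U, Commute u x := by
      intro x hx
      have h1 : Commute (z : G) (g ^ j * x * (g ^ j)⁻¹) :=
        (congrArg Subtype.val (Subgroup.mem_center_iff.1 hz
          ⟨_, conj_mem_of_normalizer (Subgroup.pow_mem _ hN j) hx⟩)).symm
      rw [← hj] at h1
      have h2 := commute_conj h1 (g ^ j)⁻¹
      simpa [mul_assoc] using h2
    have h3 := commute_conj (huz ((g ^ i)⁻¹ * w * g ^ i) (by
      simpa using conj_mem_of_normalizer
        (Subgroup.inv_mem _ (Subgroup.pow_mem _ hN i)) hw)) (g ^ i)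
    rw [← hi]
    simpa [mul_assoc] using h3

section Hyp

variable [Finite G] {p q : ℕ}
  (hmix : ∀ H : Subgroup G, H ≠ ⊤ → ¬ IsPGroup q H → q ∣ Nat.card H → p ∣ Nat.card H)

include hmix in
/-- No third prime and `q` occur in a `p'`-subgroup. -/
theorem no_mixed (hq : q.Prime) (hpG : p ∣ Nat.card G) {r : ℕ} (hr : r.Prime) (hrq : r ≠ q)
    {H : Subgroup G} (hqH : q ∣ Nat.card H) (hrH : r ∣ Nat.card H) (hpH : ¬ p ∣ Nat.card H) :
    False := by
  haveI := Fact.mk hq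
  haveI := Fact.mk hr
  refine hpH (hmix H (fun h => hpH ?_) (fun h => ?_) hqH)
  · rw [h, Nat.card_congr Subgroup.topEquiv.toEquiv]; exact hpG
  · obtain ⟨k, hk⟩ := h.exists_card_eq
    exact hrq ((Nat.prime_dvd_prime_iff_eq hr hq).1 (hr.dvd_of_dvd_pow (hk ▸ hrH)))

include hmix in
/-- An element normalizing a nontrivial `a`-group has no `b`-part, for `{a, b} = {q, r}`. -/
theorem no_normalize (hp : p.Prime) (hq : q.Prime) (hpG : p ∣ Nat.card G) {r : ℕ} (hr : r.Prime)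
    (hrq : r ≠ q) (hrp : r ≠ p) (hpq : p ≠ q) {a b : ℕ} [Fact a.Prime]
    (hab : (a = q ∧ b = r) ∨ (a = r ∧ b = q)) {U : Subgroup G} (hU : IsPGroup a U) (hU1 : U ≠ ⊥)
    {g : G} (hg : g ∈ Subgroup.normalizer (U : Set G)) (hbg : b ∣ orderOf g) : False := by
  set g' := g ^ (orderOf g / b)
  have hb0 : 0 < b := by
    rcases hab with ⟨-, rfl⟩ | ⟨-, rfl⟩
    · exact hr.pos
    · exact hq.pos
  have hg' : orderOf g' = b := orderOf_pow_orderOf_div (orderOf_pos g).ne' hbg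
  have hK : Subgroup.zpowers g' ≤ Subgroup.normalizer (U : Set G) :=
    Subgroup.zpowers_le.2 (Subgroup.pow_mem _ hg _)
  obtain ⟨k, hk⟩ := hU.exists_card_eq
  have hk0 : k ≠ 0 := by
    rintro rfl
    exact hU1 (Subgroup.eq_bot_of_card_eq U (by simpa using hk))
  have hdvd := card_sup_dvd hK
  rw [hk, Nat.card_zpowers, hg'] at hdvd
  have ha : a ∣ Nat.card ↥(U ⊔ Subgroup.zpowers g') :=
    (hk ▸ dvd_pow_self a hk0).trans (Subgroup.card_dvd_of_le le_sup_left)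
  have hb : b ∣ Nat.card ↥(U ⊔ Subgroup.zpowers g') :=
    (show b ∣ Nat.card (Subgroup.zpowers g') by rw [Nat.card_zpowers, hg']).trans
      (Subgroup.card_dvd_of_le le_sup_right)
  have hpa : ¬ p ∣ a ^ k * b := by
    intro h
    rcases hab with ⟨rfl, rfl⟩ | ⟨rfl, rfl⟩
    · rcases (Nat.Prime.dvd_mul hp).1 h with h1 | h1
      · exact hpq ((Nat.prime_dvd_prime_iff_eq hp hq).1 (hp.dvd_of_dvd_pow h1))
      · exact hrp ((Nat.prime_dvd_prime_iff_eq hp hr).1 h1).symm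
    · rcases (Nat.Prime.dvd_mul hp).1 h with h1 | h1
      · exact hrp ((Nat.prime_dvd_prime_iff_eq hp hr).1 (hp.dvd_of_dvd_pow h1)).symm
      · exact hpq ((Nat.prime_dvd_prime_iff_eq hp hq).1 h1)
  rcases hab with ⟨rfl, rfl⟩ | ⟨rfl, rfl⟩
  · exact no_mixed hmix hq hpG hr hrq ha hb fun h => hpa (h.trans hdvd)
  · exact no_mixed hmix hq hpG hr hrq hb ha fun h => hpa (h.trans hdvd)

include hmix in
/-- A normal subgroup whose Frattini normalizer keeps `q` contains no third prime. -/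
theorem normal_no_third (hp : p.Prime) (hq : q.Prime) (hpG : p ∣ Nat.card G)
    (hqG : q ∣ Nat.card G) {r : ℕ} (hr : r.Prime) (hrq : r ≠ q) (hrp : r ≠ p) (hpq : p ≠ q)
    (N : Subgroup G) [N.Normal] (hqN : ¬ q ∣ Nat.card N) : ¬ r ∣ Nat.card N := by
  intro hrN
  haveI := Fact.mk hr
  haveI := Fact.mk hq
  obtain ⟨R⟩ : Nonempty (Sylow r N) := Sylow.nonempty
  set R' := (R : Subgroup N).map N.subtype with hR'
  have htop := Sylow.normalizer_sup_eq_top R
  have hdvd : Nat.card G ∣ Nat.card N * Nat.card (Subgroup.normalizer (R' : Set G)) := by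
    have := card_sup_dvd (U := N) (K := Subgroup.normalizer (R' : Set G))
      (by rw [Subgroup.normalizer_eq_top (H := N)]; exact le_top)
    rwa [sup_comm, hR', htop, Nat.card_congr Subgroup.topEquiv.toEquiv] at this
  obtain ⟨⟨x, hx⟩, hxo⟩ := exists_prime_orderOf_dvd_card' (G := Subgroup.normalizer (R' : Set G)) q
    (((Nat.Prime.dvd_mul hq).1 (hqG.trans hdvd)).resolve_left hqN)
  rw [Subgroup.orderOf_mk] at hxo
  refine no_normalize hmix hp hq hpG hr hrq hrp hpq (a := r) (b := q) (Or.inr ⟨rfl, rfl⟩)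
    (R.isPGroup'.map _) (fun h => ?_) hx hxo.symm.dvd
  have h1 : r ∣ Nat.card R' := by
    show r ∣ Nat.card ((R : Subgroup N).map N.subtype)
    rw [Subgroup.card_map_of_injective (Subgroup.subtype_injective _)]
    exact R.dvd_card_of_dvd_card hrN
  rw [show R' = ⊥ from h, Subgroup.card_bot] at h1
  exact hr.not_dvd_one h1

end Hyp

end Cfsg.Agent.FGB.MixedQ
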