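import Cfsg.Agent.Lib.FGB.MixedQTools

/-!
# Small `q`-groups and mixed subgroups: the extremal simple configuration
-/

namespace Cfsg.Agent.FGB.MixedQ

variable {G : Type*} [Group G]

/-- A nontrivial element squaring to the identity. -/
def IsInv (x : G) : Prop := x ≠ 1 ∧ x * x = 1

theorem IsInv.conj {x : G} (h : IsInv x) (g : G) : IsInv (g * x * g⁻¹) := by
  refine ⟨fun e => h.1 (by simpa using e), ?_⟩
  calc g * x * g⁻¹ * (g * x * g⁻¹) = g * (x * x) * g⁻¹ := by group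
    _ = 1 := by rw [h.2]; group

theorem IsInv.orderOf_eq {x : G} (h : IsInv x) : orderOf x = 2 :=
  orderOf_eq_prime (by rw [sq]; exact h.2) h.1

theorem IsInv.inv_eq {x : G} (h : IsInv x) : x⁻¹ = x := inv_eq_of_mul_eq_one_left h.2

theorem IsInv.two_dvd [Finite G] {x : G} (h : IsInv x) {M : Subgroup G} (hx : x ∈ M) :
    2 ∣ Nat.card M := by
  rw [← h.orderOf_eq, ← Subgroup.orderOf_mk x hx]
  exact orderOf_dvd_natCard _

/-- All `p`-elements of `M` lie in one `p`-subgroup. -/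
def Closed (p : ℕ) (M : Subgroup G) : Prop :=
  ∃ N : Subgroup G, N ≤ M ∧ IsPGroup p N ∧ ∀ x ∈ M, PEl p x → x ∈ N

theorem mem_centralizer_singleton' {x t : G} :
    x ∈ Subgroup.centralizer ({t} : Set G) ↔ Commute x t := by
  rw [Subgroup.mem_centralizer_singleton_iff]
  exact Iff.rfl

/-- The extremal configuration. -/
structure Ctx (G : Type*) [Group G] (p a : ℕ) : Prop where
  hp : p.Prime
  hp2 : p ≠ 2
  hpa : p + 1 = 2 ^ a
  hdvd : 2 ^ a ∣ Nat.card G
  hndvd : ¬ 2 ^ (a + 1) ∣ Nat.card G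
  hpG : p ∣ Nat.card G
  simple : ∀ N : Subgroup G, N.Normal → N = ⊥ ∨ N = ⊤
  hperf : commutator G = ⊤
  abSyl : ∀ P : Sylow p G, IsMulCommutative (P : Subgroup G)
  two : ∀ H : Subgroup G, H ≠ ⊤ → 2 ∣ Nat.card H → ∀ r : ℕ, r.Prime → r ∣ Nat.card H →
    r = p ∨ r = 2
  elem : ∀ U : Subgroup G, IsPGroup 2 U → ∀ x ∈ U, x * x = 1 ∧ ∀ y ∈ U, Commute x y
  trans : ∀ U : Subgroup G, IsPGroup 2 U → Nat.card U = 2 ^ a → ∀ x ∈ U, ∀ y ∈ U, x ≠ 1 → y ≠ 1 →
    ∃ g : G, PEl p g ∧ g ∈ Subgroup.normalizer (U : Set G) ∧ g * x * g⁻¹ = y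

namespace Ctx

variable [Finite G] {p a : ℕ} (C : Ctx G p a)

include C

theorem two_le_a : 2 ≤ a := by
  have h3 : 3 ≤ p := by
    have := C.hp.two_le
    have := C.hp2
    omega
  by_contra h
  have : 2 ^ a ≤ 2 ^ 1 := Nat.pow_le_pow_right (by norm_num) (by omega)
  have := C.hpa
  omega

theorem center_eq_bot : Subgroup.center G = ⊥ := by
  refine (C.simple _ inferInstance).resolve_right fun h => ?_
  have hc : commutator G = ⊥ := by
    rw [commutator_def, Subgroup.commutator_eq_bot_iff_le_centralizer]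
    intro x _ y _
    exact (Subgroup.mem_center_iff.1 (h ▸ Subgroup.mem_top x : x ∈ Subgroup.center G) y)
  have h1 : Nat.card G = 1 := by
    rw [← Subgroup.card_top (G := G), ← C.hperf, hc, Subgroup.card_bot]
  exact C.hp.not_dvd_one (h1 ▸ C.hpG)

theorem centralizer_ne_top {x : G} (hx : x ≠ 1) : Subgroup.centralizer ({x} : Set G) ≠ ⊤ := by
  intro h
  refine hx (Subgroup.mem_bot.1 (C.center_eq_bot ▸ Subgroup.mem_center_iff.2 fun y => ?_))
  exact (Subgroup.mem_centralizer_singleton_iff.1 (h ▸ Subgroup.mem_top y))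

theorem normalizer_ne_top {H : Subgroup G} (hb : H ≠ ⊥) (ht : H ≠ ⊤) :
    Subgroup.normalizer (H : Set G) ≠ ⊤ := by
  intro h
  rcases C.simple H (Subgroup.normalizer_eq_top_iff.1 h) with h' | h'
  exacts [hb h', ht h']

theorem ne_top_of_isPGroup {q : ℕ} {r : ℕ} (hq : q.Prime) (hr : r.Prime) (hne : r ≠ q)
    (hrG : r ∣ Nat.card G) {H : Subgroup G} (hH : IsPGroup q H) : H ≠ ⊤ := by
  intro h
  haveI := Fact.mk hq
  obtain ⟨k, hk⟩ := hH.exists_card_eq
  rw [h, Subgroup.card_top] at hk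
  exact hne ((Nat.prime_dvd_prime_iff_eq hr hq).1 (hr.dvd_of_dvd_pow (hk ▸ hrG)))

theorem p_ne_top {H : Subgroup G} (hH : IsPGroup p H) : H ≠ ⊤ :=
  C.ne_top_of_isPGroup C.hp Nat.prime_two C.hp2.symm
    ((dvd_pow_self 2 (by have := C.two_le_a; omega)).trans C.hdvd) hH

theorem zpowers_ne_top (x : G) : Subgroup.zpowers x ≠ ⊤ := by
  intro h
  have hc : Subgroup.center G = ⊤ := by
    refine eq_top_iff.2 fun y _ => Subgroup.mem_center_iff.2 fun z => ?_
    obtain ⟨i, rfl⟩ := Subgroup.mem_zpowers_iff.1 (h ▸ Subgroup.mem_top y)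
    obtain ⟨j, rfl⟩ := Subgroup.mem_zpowers_iff.1 (h ▸ Subgroup.mem_top z)
    exact ((Commute.refl x).zpow_zpow j i).eq
  rw [C.center_eq_bot] at hc
  have h1 : Nat.card G = 1 := by rw [← Subgroup.card_top (G := G), ← hc, Subgroup.card_bot]
  exact C.hp.not_dvd_one (h1 ▸ C.hpG)

theorem card_sylow (S : Sylow 2 G) : Nat.card (S : Subgroup G) = 2 ^ a := by
  haveI := Fact.mk Nat.prime_two
  rw [S.card_eq_multiplicity]
  congr 1
  have h1 := (Nat.prime_two.pow_dvd_iff_le_factorization Nat.card_pos.ne').1 C.hdvd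
  have h2 : ¬ a + 1 ≤ (Nat.card G).factorization 2 := fun h =>
    C.hndvd ((Nat.prime_two.pow_dvd_iff_le_factorization Nat.card_pos.ne').2 h)
  omega

theorem card_le {U : Subgroup G} (hU : IsPGroup 2 U) : Nat.card U ≤ 2 ^ a := by
  haveI := Fact.mk Nat.prime_two
  obtain ⟨S, hS⟩ := hU.exists_le_sylow
  rw [← C.card_sylow S]
  exact Subgroup.card_le_of_le hS

theorem exists_full {U : Subgroup G} (hU : IsPGroup 2 U) :
    ∃ Q : Subgroup G, U ≤ Q ∧ IsPGroup 2 Q ∧ Nat.card Q = 2 ^ a := by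
  haveI := Fact.mk Nat.prime_two
  obtain ⟨S, hS⟩ := hU.exists_le_sylow
  exact ⟨S, hS, S.isPGroup', C.card_sylow S⟩

theorem exists_full_pair {s t : G} (hs : IsInv s) (ht : IsInv t) (h : Commute s t) :
    ∃ Q : Subgroup G, s ∈ Q ∧ t ∈ Q ∧ IsPGroup 2 Q ∧ Nat.card Q = 2 ^ a := by
  haveI := Fact.mk Nat.prime_two
  have hz : ∀ x : G, IsInv x → IsPGroup 2 (Subgroup.zpowers x) := fun x hx =>
    isPGroup_zpowers ⟨1, by rw [hx.orderOf_eq, pow_one]⟩
  obtain ⟨Q, hQ, hQp, hQc⟩ := C.exists_full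
    (isPGroup_sup (hz s hs) (hz t ht) (zpowers_le_normalizer_zpowers h))
  exact ⟨Q, hQ (Subgroup.mem_sup_left (Subgroup.mem_zpowers s)),
    hQ (Subgroup.mem_sup_right (Subgroup.mem_zpowers t)), hQp, hQc⟩

theorem exists_inv : ∃ t : G, IsInv t := by
  haveI := Fact.mk Nat.prime_two
  obtain ⟨t, ht⟩ := exists_prime_orderOf_dvd_card' (G := G) 2
    ((dvd_pow_self 2 (by have := C.two_le_a; omega)).trans C.hdvd)
  refine ⟨t, fun h => ?_, ?_⟩
  · rw [h, orderOf_one] at ht; omega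
  · rw [← sq, ← ht, pow_orderOf_eq_one]

theorem pEl_of_odd {M : Subgroup G} (hM : M ≠ ⊤) (h2 : 2 ∣ Nat.card M) {x : G} (hx : x ∈ M)
    (hodd : ¬ 2 ∣ orderOf x) : PEl p x := by
  refine ⟨(orderOf x).primeFactorsList.length,
    Nat.eq_prime_pow_of_unique_prime_dvd (orderOf_pos x).ne' fun {r} hr hrd => ?_⟩
  refine (C.two M hM h2 r hr (hrd.trans ?_)).resolve_right fun h => hodd (h ▸ hrd)
  rw [← Subgroup.orderOf_mk x hx]
  exact orderOf_dvd_natCard _

omit [Finite G] in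
theorem pEl_inv_eq {x : G} (hx : PEl p x) (hx2 : x * x = 1) : x = 1 := by
  obtain ⟨k, hk⟩ := hx
  have h2 : orderOf x ∣ 2 := orderOf_dvd_of_pow_eq_one (by rw [sq]; exact hx2)
  refine orderOf_eq_one_iff.1 (Nat.eq_one_of_dvd_coprimes ?_ dvd_rfl h2)
  rw [hk]
  exact Nat.Coprime.pow_left k ((Nat.coprime_primes C.hp Nat.prime_two).2 C.hp2)

theorem pEl_two_eq {x : G} (hx : PEl p x) {U : Subgroup G} (hU : IsPGroup 2 U) (hxU : x ∈ U) :
    x = 1 :=
  C.pEl_inv_eq hx (C.elem U hU x hxU).1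

/-- A `p`-element fixing an involution of a normalized 2-group centralizes the 2-group. -/
theorem commute_two {g t : G} (hg : PEl p g) (ht : IsInv t) (hgt : Commute g t) {U : Subgroup G}
    (hU : IsPGroup 2 U) (htU : t ∈ U) (hN : g ∈ Subgroup.normalizer (U : Set G)) {u : G}
    (hu : u ∈ U) : g * u * g⁻¹ = u := by
  haveI := Fact.mk C.hp
  refine centralizes_small hg hN {1, t} (fun s hs => ?_) ?_ hu
  · rcases hs with rfl | rfl
    · simp
    · rw [hgt.eq, mul_inv_cancel_right]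
  · have hsub : ({1, t} : Set G) ⊆ (U : Set G) := by
      rintro x (rfl | rfl)
      exacts [U.one_mem, htU]
    rw [Set.ncard_sdiff hsub (Set.toFinite _), Set.ncard_pair ht.1.symm, ← Nat.card_coe_set_eq]
    have := C.card_le hU
    have := C.hpa
    have := C.hp.two_le
    show Nat.card U - 2 < p
    omega

/-- Without actions on 2-subgroups the `p`-elements form a group. -/
theorem closed_of_no_action {M : Subgroup G} (hM : M ≠ ⊤) (h2 : 2 ∣ Nat.card M)
    (hno : ∀ g ∈ M, PEl p g → ∀ U ≤ M, IsPGroup 2 U → g ∈ Subgroup.normalizer (U : Set G) →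
      ∀ u ∈ U, g * u * g⁻¹ = u) : Closed p M := by
  haveI := Fact.mk Nat.prime_two
  haveI := Fact.mk C.hp
  obtain ⟨S⟩ : Nonempty (Sylow 2 M) := Sylow.nonempty
  have hfrob : ∀ D : Subgroup M, D ≤ (S : Subgroup M) → ∀ g ∈ Subgroup.normalizer (D : Set M),
      Nat.Coprime (orderOf g) 2 → g ∈ Subgroup.centralizer (D : Set M) := by
    intro D hD g hg hcop
    have hgp : PEl p (g : G) := C.pEl_of_odd hM h2 g.2 (fun h => by
      rw [Subgroup.orderOf_coe] at h
      exact Nat.not_coprime_of_dvd_of_dvd (by norm_num) h dvd_rfl hcop)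
    have hgN : (g : G) ∈ Subgroup.normalizer ((D.map M.subtype : Subgroup G) : Set G) :=
      Subgroup.le_normalizer_map M.subtype ⟨g, hg, rfl⟩
    intro x hx
    have := hno g g.2 hgp _ (Subgroup.map_subtype_le D) ((S.isPGroup'.to_le hD).map _) hgN
      (M.subtype x) ⟨x, hx, rfl⟩
    refine Subtype.ext ?_
    show (x : G) * g = g * x
    exact (mul_inv_eq_iff_eq_mul.1 this).symm
  obtain ⟨N, hNn, hNc⟩ := (Cfsg.Agent.S0071.result S).2 hfrob
  haveI := hNn
  have hNi : (S : Subgroup M).index = Nat.card N := hNc.index_eq_card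
  have hNdvd : Nat.card N ∣ Nat.card M := Subgroup.card_subgroup_dvd_card N
  have hNodd : ¬ 2 ∣ Nat.card N := hNi ▸ S.not_dvd_index
  have hNp : IsPGroup p N := by
    refine IsPGroup.of_card (n := (Nat.card N).primeFactorsList.length) ?_
    exact Nat.eq_prime_pow_of_unique_prime_dvd Nat.card_pos.ne' fun {r} hr hrd =>
      (C.two M hM h2 r hr (hrd.trans hNdvd)).resolve_right fun h => hNodd (h ▸ hrd)
  refine ⟨N.map M.subtype, Subgroup.map_subtype_le N, hNp.map _, fun x hx hxp => ?_⟩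
  refine ⟨⟨x, hx⟩, ?_, rfl⟩
  rw [SetLike.mem_coe, ← QuotientGroup.eq_one_iff, ← orderOf_eq_one_iff]
  obtain ⟨k, hk⟩ := hxp
  have h1 : orderOf (QuotientGroup.mk ⟨x, hx⟩ : M ⧸ N) ∣ p ^ k := by
    rw [← hk, ← Subgroup.orderOf_mk x hx]
    exact orderOf_map_dvd (QuotientGroup.mk' N) _
  have h2' : orderOf (QuotientGroup.mk ⟨x, hx⟩ : M ⧸ N) ∣ Nat.card (S : Subgroup M) := by
    refine (orderOf_dvd_natCard _).trans ?_
    rw [← Subgroup.index_eq_card, hNc.symm.index_eq_card]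
  obtain ⟨j, hj⟩ := S.isPGroup'.exists_card_eq
  refine Nat.eq_one_of_dvd_coprimes ?_ h1 (hj ▸ h2')
  exact Nat.Coprime.pow k j ((Nat.coprime_primes C.hp Nat.prime_two).2 C.hp2)

/-- The data of an action on a 2-subgroup. -/
theorem closed_or_action {M : Subgroup G} (hM : M ≠ ⊤) (h2 : 2 ∣ Nat.card M) :
    Closed p M ∨ ∃ U ≤ M, IsPGroup 2 U ∧ Nat.card U = 2 ^ a ∧ ∃ g ∈ M, PEl p g ∧
      g ∈ Subgroup.normalizer (U : Set G) ∧ ∃ u ∈ U, g * u * g⁻¹ ≠ u ∧
        ∀ v ∈ U, v ≠ 1 → ∃ i : ℕ, g ^ i * u * (g ^ i)⁻¹ = v := by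
  by_cases h : ∀ g ∈ M, PEl p g → ∀ U ≤ M, IsPGroup 2 U → g ∈ Subgroup.normalizer (U : Set G) →
      ∀ u ∈ U, g * u * g⁻¹ = u
  · exact Or.inl (C.closed_of_no_action hM h2 h)
  push Not at h
  obtain ⟨g, hgM, hg, U, hUM, hU, hgN, u, hu, hne⟩ := h
  haveI := Fact.mk C.hp
  haveI := Fact.mk Nat.prime_two
  have hle : Nat.card U ≤ p + 1 := C.hpa ▸ C.card_le hU
  have h1 := (orbit_card hg hne).trans (Set.ncard_le_ncard
    (orbit_subset hgN hu {1} (fun s hs => by rw [Set.mem_singleton_iff.1 hs]; simp)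
      (fun e => hne (by rw [Set.mem_singleton_iff.1 e]; simp))) (Set.toFinite _))
  rw [Set.ncard_sdiff_singleton_of_mem U.one_mem, ← Nat.card_coe_set_eq] at h1
  have hUc : Nat.card U = 2 ^ a := by
    have := C.card_le hU
    have := C.hpa
    have h1' : p ≤ Nat.card U - 1 := h1
    have := C.hp.two_le
    omega
  exact Or.inr ⟨U, hUM, hU, hUc, g, hgM, hg, hgN, u, hu, hne,
    (pow_prime_eq_one hU hg hgN hu hne hle).2.2⟩

omit C in
/-- An involution of `M` is conjugate in `M` to one commuting with another one. -/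
theorem exists_conj_mem {M : Subgroup G} {U : Subgroup G} (hUM : U ≤ M) (hU : IsPGroup 2 U)
    (hmax : ∀ V : Subgroup G, V ≤ M → IsPGroup 2 V → U ≤ V → V = U) {D : Subgroup G} (hDM : D ≤ M)
    (hD : IsPGroup 2 D) : ∃ m ∈ M, ∀ x ∈ D, m * x * m⁻¹ ∈ U := by
  haveI := Fact.mk Nat.prime_two
  obtain ⟨S, hS⟩ := (hU.of_equiv (Subgroup.subgroupOfEquivOfLe hUM).symm).exists_le_sylow
  obtain ⟨T, hT⟩ := (hD.of_equiv (Subgroup.subgroupOfEquivOfLe hDM).symm).exists_le_sylow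
  obtain ⟨m, hm⟩ := MulAction.exists_smul_eq M T S
  have hSU : (S : Subgroup M).map M.subtype = U := by
    refine hmax _ (Subgroup.map_subtype_le _) (S.isPGroup'.map _) fun x hx => ?_
    exact ⟨⟨x, hUM hx⟩, hS (Subgroup.mem_subgroupOf.2 hx), rfl⟩
  refine ⟨m, m.2, fun x hx => hSU ▸ ⟨m * ⟨x, hDM hx⟩ * m⁻¹, ?_, rfl⟩⟩
  rw [← hm, Sylow.coe_subgroup_smul]
  exact Subgroup.smul_mem_pointwise_smul _ (MulAut.conj m) _ (hT (Subgroup.mem_subgroupOf.2 hx))

/-- Sylow 2-subgroups of subgroups. -/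
theorem exists_conj_full {M U : Subgroup G} (hUM : U ≤ M) (hU : IsPGroup 2 U)
    (hUc : Nat.card U = 2 ^ a) {D : Subgroup G} (hDM : D ≤ M) (hD : IsPGroup 2 D) :
    ∃ m ∈ M, ∀ x ∈ D, m * x * m⁻¹ ∈ U :=
  exists_conj_mem hUM hU (fun _ _ hV hle => (Subgroup.eq_of_le_of_card_ge hle
    (hUc ▸ C.card_le hV)).symm) hDM hD

/-- An involution of `M` commutes with a conjugate in `M` of any other. -/
theorem exists_conj_commute {M : Subgroup G} {s t : G} (hs : IsInv s) (ht : IsInv t) (hsM : s ∈ M)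
    (htM : t ∈ M) : ∃ m ∈ M, Commute t (m * s * m⁻¹) := by
  haveI := Fact.mk Nat.prime_two
  have hz : ∀ x : G, IsInv x → IsPGroup 2 (Subgroup.zpowers x) := fun x hx =>
    isPGroup_zpowers ⟨1, by rw [hx.orderOf_eq, pow_one]⟩
  obtain ⟨T, hT⟩ := ((hz t ht).of_equiv
    (Subgroup.subgroupOfEquivOfLe (Subgroup.zpowers_le.2 htM)).symm).exists_le_sylow
  have hmax : ∀ V : Subgroup G, V ≤ M → IsPGroup 2 V → (T : Subgroup M).map M.subtype ≤ V →
      V = (T : Subgroup M).map M.subtype := by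
    intro V hVM hV hle
    rw [← T.is_maximal' (hV.of_equiv (Subgroup.subgroupOfEquivOfLe hVM).symm)
      (fun x hx => Subgroup.mem_subgroupOf.2 (hle ⟨x, hx, rfl⟩)), Subgroup.map_subgroupOf_eq_of_le hVM]
  obtain ⟨m, hm, hmem⟩ := exists_conj_mem (Subgroup.map_subtype_le (T : Subgroup M))
    (T.isPGroup'.map _) hmax (Subgroup.zpowers_le.2 hsM) (hz s hs)
  exact ⟨m, hm, (C.elem _ (T.isPGroup'.map _) t ⟨⟨t, htM⟩,
    hT (Subgroup.mem_subgroupOf.2 (Subgroup.mem_zpowers t)), rfl⟩).2 _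
    (hmem s (Subgroup.mem_zpowers s))⟩

/-- The shape of an even proper subgroup with all its `p`-elements in a group `N`. -/
theorem decomp {M N Q : Subgroup G} (hM : M ≠ ⊤) (hNM : N ≤ M) (hN : IsPGroup p N)
    (hall : ∀ x ∈ M, PEl p x → x ∈ N) (hQM : Q ≤ M) (hQ : IsPGroup 2 Q)
    (hQc : Nat.card Q = 2 ^ a) : ∀ x ∈ M, ∃ v ∈ N, ∃ w ∈ Q, v * w = x := by
  haveI := Fact.mk C.hp
  haveI := Fact.mk Nat.prime_two
  obtain ⟨i, hi⟩ := hN.exists_card_eq
  refine exists_mul_of_card hNM hQM ?_ (Nat.le_of_dvd (Nat.mul_pos Nat.card_pos Nat.card_pos) ?_)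
  · rw [hi, hQc]
    exact Nat.Coprime.pow i a ((Nat.coprime_primes C.hp Nat.prime_two).2 C.hp2)
  have h2 : 2 ∣ Nat.card M :=
    (hQc ▸ dvd_pow_self 2 (by have := C.two_le_a; omega)).trans (Subgroup.card_dvd_of_le hQM)
  refine (Nat.dvd_iff_prime_pow_dvd_dvd _ _).2 fun r k hr hrk => ?_
  rcases Nat.eq_zero_or_pos k with rfl | hk
  · simp
  rcases C.two M hM h2 r hr ((dvd_pow_self r hk.ne').trans hrk) with rfl | rfl
  · refine Dvd.dvd.mul_right ?_ _
    obtain ⟨P, hPc⟩ := Sylow.exists_subgroup_card_pow_prime r hrk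
    have hP : IsPGroup r P := IsPGroup.of_card hPc
    rw [← hPc, ← Subgroup.card_map_of_injective M.subtype_injective]
    refine Subgroup.card_dvd_of_le ?_
    rintro _ ⟨y, hy, rfl⟩
    exact hall y y.2 (pEl_of_mem (hP.map M.subtype) ⟨y, hy, rfl⟩)
  · refine Dvd.dvd.mul_left ?_ _
    rw [hQc]
    refine Nat.pow_dvd_pow 2 ?_
    by_contra h
    exact C.hndvd ((Nat.pow_dvd_pow 2 (by omega)).trans
      (hrk.trans (Subgroup.card_subgroup_dvd_card M)))

/-- The `p`-elements commuting with an involution form a group. -/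
theorem exists_O {t : G} (ht : IsInv t) :
    ∃ O : Subgroup G, IsPGroup p O ∧ ∀ x, x ∈ O ↔ PEl p x ∧ Commute x t := by
  haveI := Fact.mk C.hp
  have h2 := ht.two_dvd (M := Subgroup.centralizer ({t} : Set G))
    (mem_centralizer_singleton'.2 (Commute.refl t))
  rcases C.closed_or_action (C.centralizer_ne_top ht.1) h2 with
    ⟨O, hOM, hOp, hall⟩ | ⟨U, hUM, hU, hUc, g, hgM, hg, hgN, u, hu, hne, -⟩
  · exact ⟨O, hOp, fun x => ⟨fun hx => ⟨pEl_of_mem hOp hx, mem_centralizer_singleton'.1 (hOM hx)⟩,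
      fun h => hall x (mem_centralizer_singleton'.2 h.2) h.1⟩⟩
  · exfalso
    haveI := Fact.mk Nat.prime_two
    have htU : t ∈ U := by
      have hz : IsPGroup 2 (Subgroup.zpowers t) :=
        isPGroup_zpowers ⟨1, by rw [ht.orderOf_eq, pow_one]⟩
      have hsup := isPGroup_sup hU hz (Subgroup.zpowers_le.2 (Subgroup.mem_normalizer_iff.2
        fun x => ⟨fun hx => by
          rwa [← (mem_centralizer_singleton'.1 (hUM hx)).eq, mul_inv_cancel_right], fun hx => ?_⟩))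
      · exact (Subgroup.eq_of_le_of_card_ge le_sup_left (hUc ▸ C.card_le hsup)).ge
          (Subgroup.mem_sup_right (Subgroup.mem_zpowers t))
      · have h := (mem_centralizer_singleton'.1 (hUM hx)).eq
        have hx' : t * x * t⁻¹ = x := by
          have h' : t * x * t⁻¹ * t = t * (t * x * t⁻¹) := h
          have h'' : t * (t * x * t⁻¹) = t * x := by rw [← h']; group
          exact mul_left_cancel h''
        rwa [hx'] at hx
    exact hne (C.commute_two hg ht (mem_centralizer_singleton'.1 hgM) hU htU hgN hu)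

theorem commute_of_pGroup {O : Subgroup G} (hO : IsPGroup p O) {x y : G} (hx : x ∈ O)
    (hy : y ∈ O) : Commute x y := by
  haveI := Fact.mk C.hp
  obtain ⟨P, hP⟩ := hO.exists_le_sylow
  exact congrArg Subtype.val ((C.abSyl P).is_comm.comm ⟨x, hP hx⟩ ⟨y, hP hy⟩)

theorem commute_pEl {t x y : G} (ht : IsInv t) (hx : PEl p x) (hy : PEl p y) (hxt : Commute x t)
    (hyt : Commute y t) : Commute x y := by
  obtain ⟨O, hO, hOiff⟩ := C.exists_O ht
  exact C.commute_of_pGroup hO ((hOiff x).2 ⟨hx, hxt⟩) ((hOiff y).2 ⟨hy, hyt⟩)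

/-- All involutions are conjugate. -/
theorem exists_conj {s t : G} (hs : IsInv s) (ht : IsInv t) : ∃ g : G, g * s * g⁻¹ = t := by
  haveI := Fact.mk Nat.prime_two
  have hz : ∀ x : G, IsInv x → IsPGroup 2 (Subgroup.zpowers x) := fun x hx =>
    isPGroup_zpowers ⟨1, by rw [hx.orderOf_eq, pow_one]⟩
  obtain ⟨Q, hQ, hQp, hQc⟩ := C.exists_full (hz t ht)
  obtain ⟨m, -, hm⟩ := C.exists_conj_full (M := ⊤) le_top hQp hQc le_top (hz s hs)
  obtain ⟨g, -, -, hg⟩ := C.trans Q hQp hQc _ (hm s (Subgroup.mem_zpowers s)) t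
    (hQ (Subgroup.mem_zpowers t)) (hs.conj m).1 ht.1
  exact ⟨g * m, by rw [← hg]; group⟩

theorem pEl_sylow {P : Sylow p G} {x : G} (hx : PEl p x)
    (hN : x ∈ Subgroup.normalizer ((P : Subgroup G) : Set G)) : x ∈ P := by
  haveI := Fact.mk C.hp
  have h := P.is_maximal' (isPGroup_sup P.isPGroup' (isPGroup_zpowers hx)
    (Subgroup.zpowers_le.2 hN)) le_sup_left
  exact h.le (Subgroup.mem_sup_right (Subgroup.mem_zpowers x))

end Ctx

end Cfsg.Agent.FGB.MixedQ
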