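import Cfsg.Agent.Lib.FGB.MixedQStruct
import Cfsg.Agent.Lib.Blocks.Klein
import Cfsg.Agent.Lib.Blocks.KleinOrder
import Cfsg.Agent.Lib.Blocks.Knorr

/-!
# Small `q`-groups and mixed subgroups: the non-abelian case is impossible
-/

namespace Cfsg.Agent.FGB.MixedQ

variable {G : Type*} [Group G] [Finite G]

namespace Ctx

variable {p a : ℕ} (C : Ctx G p a)

include C

set_option maxHeartbeats 1600000 in
theorem nonAb_false {t₀ : G} (ht₀ : IsInv t₀) (h₀ : NonAb p t₀) : False := by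
  haveI := Fact.mk C.hp
  haveI := Fact.mk Nat.prime_two
  have key := fun (t : {x : G // IsInv x}) => (C.struct t.2 (C.nonAb_all ht₀ h₀ t.2)).2
  choose P Q htQ hQ hQc hOP hPt hinv hCPQ hPne hdec hNt using key
  have ha : a = 2 := (C.struct ht₀ h₀).1
  set m := p ^ (Nat.card G).factorization p
  have hm : ∀ t, Nat.card (P t : Subgroup G) = m := fun t => Sylow.card_eq_multiplicity _
  -- involutions in a centralizer
  have hcases : ∀ (t : {x : G // IsInv x}) (s : G), IsInv s → Commute s t → s ≠ t →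
      ∀ v ∈ P t, s * v * s⁻¹ = v⁻¹ := by
    intro t s hs hst hne u hu
    obtain ⟨v, hv, w, hw, rfl⟩ := hdec t s hst
    by_cases hw1 : w = 1
    · refine absurd (C.pEl_inv_eq (pEl_of_mem (P t).isPGroup' hv) ?_) (by simpa [hw1] using hs.1)
      simpa [hw1] using hs.2
    by_cases hwt : w = t
    · subst hwt
      exfalso
      have hc : Commute v t := hPt t v hv
      have h2 : v * v = 1 := by
        have h := hs.2
        rwa [← mul_assoc, mul_assoc v, ← hc.eq, mul_assoc v, mul_assoc v, t.2.2, mul_one] at h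
      exact hne (by rw [C.pEl_inv_eq (pEl_of_mem (P t).isPGroup' hv) h2, one_mul])
    · have hab : Commute v u⁻¹ :=
        C.commute_of_pGroup (P t).isPGroup' hv (inv_mem hu)
      calc v * w * u * (v * w)⁻¹ = v * (w * u * w⁻¹) * v⁻¹ := by group
        _ = u⁻¹ := by rw [hinv t w hw hw1 hwt u hu, hab.eq, mul_inv_cancel_right]
  have hself : ∀ u : G, PEl p u → ∀ s : G, IsInv s → s * u * s⁻¹ = u⁻¹ → Commute u s → u = 1 := by
    intro u hu s _ he hc
    rw [← hc.eq, mul_inv_cancel_right] at he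
    exact C.pEl_inv_eq hu (mul_eq_one_iff_eq_inv.2 he)
  -- a nontrivial `p`-element commutes with exactly one involution
  have huniq : ∀ u : G, PEl p u → u ≠ 1 → ∀ s t : G, IsInv s → IsInv t → Commute u s →
      Commute u t → s = t := by
    intro u hu hu1 s t hs ht hus hut
    by_contra hne
    have htC : t ∈ Subgroup.centralizer ({u} : Set G) := mem_centralizer_singleton'.2 hut.symm
    have huP : u ∈ P ⟨t, ht⟩ := hOP ⟨t, ht⟩ u hu hut
    rcases C.closed_or_action (C.centralizer_ne_top hu1) (ht.two_dvd htC) with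
      ⟨N, -, hNp, hall⟩ | ⟨U, hUM, hU, hUc, -⟩
    · have hPN : N = (P ⟨t, ht⟩ : Subgroup G) := (P ⟨t, ht⟩).is_maximal' hNp fun y hy =>
        hall y (mem_centralizer_singleton'.2 (C.commute_of_pGroup (P ⟨t, ht⟩).isPGroup' hy huP))
          (pEl_of_mem (P ⟨t, ht⟩).isPGroup' hy)
      have hsN : s ∈ Subgroup.normalizer ((P ⟨t, ht⟩ : Subgroup G) : Set G) := by
        refine mem_normalizer_of_conj_subset fun y hy => hPN ▸ hall _ ?_
          (pEl_conj (pEl_of_mem (P ⟨t, ht⟩).isPGroup' hy) s)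
        have h1 := commute_conj (C.commute_of_pGroup (P ⟨t, ht⟩).isPGroup' hy huP) s
        rw [← hus.eq, mul_inv_cancel_right] at h1
        exact mem_centralizer_singleton'.2 h1
      exact hu1 (hself u hu s hs (hcases ⟨t, ht⟩ s hs (hNt _ s hsN) hne u huP) hus)
    · have hex : ∀ r ∈ U, ∃ w ∈ U, w ≠ 1 ∧ w ≠ r := by
        intro r hr
        by_contra hc
        push Not at hc
        have h1 := Set.ncard_le_ncard (fun x hx => by
          by_cases hx1 : x = 1
          · exact Or.inl hx1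
          · exact Or.inr (hc x hx hx1) : (U : Set G) ⊆ ({1, r} : Set G)) (Set.toFinite _)
        have h2 := Set.ncard_insert_le (1 : G) {r}
        rw [Set.ncard_singleton] at h2
        rw [← Nat.card_coe_set_eq] at h1
        have h3 : Nat.card U ≤ 2 := h1.trans h2
        rw [hUc, ha] at h3
        norm_num at h3
      obtain ⟨c, hc, hct⟩ := C.exists_conj_full hUM hU hUc (Subgroup.zpowers_le.2 htC)
        (isPGroup_zpowers ⟨1, by rw [ht.orderOf_eq, pow_one]⟩)
      have hr := hct t (Subgroup.mem_zpowers t)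
      obtain ⟨w, hw, hw1, hwr⟩ := hex _ hr
      have hwi : IsInv w := ⟨hw1, (C.elem U hU w hw).1⟩
      have hri := ht.conj c
      have hur : Commute u (c * t * c⁻¹) := (mem_centralizer_singleton'.1 (hUM hr)).symm
      exact hu1 (hself u hu w hwi (hcases ⟨_, hri⟩ w hwi ((C.elem U hU w hw).2 _ hr) hwr u
        (hOP ⟨_, hri⟩ u hu hur)) (mem_centralizer_singleton'.1 (hUM hw)).symm)
  have hexi : ∀ u : G, PEl p u → ∃ t, IsInv t ∧ Commute u t := by
    intro u hu
    obtain ⟨S, hS⟩ := (isPGroup_zpowers hu).exists_le_sylow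
    obtain ⟨g, hg⟩ := MulAction.exists_smul_eq G (P ⟨t₀, ht₀⟩) S
    have huS : u ∈ ((g • P ⟨t₀, ht₀⟩ : Sylow p G) : Subgroup G) := by
      rw [hg]; exact hS (Subgroup.mem_zpowers u)
    rw [Sylow.coe_subgroup_smul] at huS
    obtain ⟨v, hv, rfl⟩ := huS
    exact ⟨g * t₀ * g⁻¹, ht₀.conj g, commute_conj (hPt ⟨t₀, ht₀⟩ v hv) g⟩
  have hsq : ∀ t z : G, IsInv t → t * z * t⁻¹ = z⁻¹ → z * z ≠ 1 → PEl p (z * z) := by
    intro t z ht he hz
    have hb : Subgroup.zpowers z ≠ ⊥ := by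
      rw [Ne, Subgroup.zpowers_eq_bot]
      rintro rfl
      exact hz (one_mul 1)
    have hM := C.normalizer_ne_top hb (C.zpowers_ne_top z)
    have htM : t ∈ Subgroup.normalizer (Subgroup.zpowers z : Set G) := by
      refine mem_normalizer_of_conj_subset fun x hx => ?_
      obtain ⟨i, rfl⟩ := Subgroup.mem_zpowers_iff.1 hx
      rw [← MulAut.conj_apply, map_zpow, MulAut.conj_apply, he]
      exact zpow_mem (inv_mem (Subgroup.mem_zpowers z)) i
    refine C.pEl_of_odd hM (ht.two_dvd htM)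
      (Subgroup.le_normalizer (mul_mem (Subgroup.mem_zpowers z) (Subgroup.mem_zpowers z))) fun h => ?_
    rw [← sq, orderOf_pow] at h
    have h4 : 4 ∣ orderOf z := by
      rcases Nat.even_or_odd (orderOf z) with ⟨k, hk⟩ | hodd
      · have hg : Nat.gcd (orderOf z) 2 = 2 := Nat.gcd_eq_right ⟨k, by omega⟩
        rw [hg] at h
        omega
      · rw [Nat.Coprime.gcd_eq_one (Nat.coprime_two_right.2 hodd), Nat.div_one] at h
        exact absurd h hodd.not_two_dvd_nat
    set c := z ^ (orderOf z / 4)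
    have hc : orderOf c = 4 := orderOf_pow_orderOf_div (orderOf_pos z).ne' h4
    have h2 := (C.elem _ (isPGroup_zpowers (p := 2) ⟨2, by rw [hc]; norm_num⟩) c
      (Subgroup.mem_zpowers c)).1
    have := orderOf_dvd_of_pow_eq_one (show c ^ 2 = 1 by rw [sq]; exact h2)
    rw [hc] at this
    norm_num at this
  -- counting involutions
  obtain ⟨t, ht⟩ : ∃ t : G, IsInv t := ⟨t₀, ht₀⟩
  let B := {x : G // IsInv x ∧ Commute x t ∧ x ≠ t}
  let PB : B → Subgroup G := fun b => (P ⟨b.1, b.2.1⟩ : Subgroup G)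
  have hPB : ∀ (b : B) (v : G), v ∈ PB b →
      PEl p v ∧ Commute v b.1 ∧ t * v * t⁻¹ = v⁻¹ := fun b v hv =>
    ⟨pEl_of_mem (P ⟨b.1, b.2.1⟩).isPGroup' hv, hPt _ v hv,
      hcases ⟨b.1, b.2.1⟩ t ht b.2.2.1.symm b.2.2.2.symm v hv⟩
  have hQtwo : ∀ t' : {x : G // IsInv x}, Nat.card (Q t') = 4 := fun t' => by
    rw [hQc, ha]; norm_num
  have hC4 : Nat.card (Subgroup.centralizer ({t} : Set G)) = m * 4 := by
    have hle : (P ⟨t, ht⟩ : Subgroup G) ≤ Subgroup.centralizer ({t} : Set G) := fun v hv =>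
      mem_centralizer_singleton'.2 (hPt _ v hv)
    have hle' : Q ⟨t, ht⟩ ≤ Subgroup.centralizer ({t} : Set G) := fun w hw =>
      mem_centralizer_singleton'.2 ((C.elem _ (hQ _) w hw).2 t (htQ _))
    rw [← hm ⟨t, ht⟩, ← hQtwo ⟨t, ht⟩, ← Nat.card_prod]
    refine (Nat.card_eq_of_bijective
      (fun x : (P ⟨t, ht⟩ : Subgroup G) × Q ⟨t, ht⟩ =>
        (⟨x.1 * x.2, mul_mem (hle x.1.2) (hle' x.2.2)⟩ :
          Subgroup.centralizer ({t} : Set G))) ⟨?_, ?_⟩).symm
    · rintro ⟨v, w⟩ ⟨v', w'⟩ h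
      have h' : (v : G) * w = v' * w' := congrArg Subtype.val h
      refine Subgroup.mul_injective_of_disjoint ?_ (a₁ := (v, w)) (a₂ := (v', w')) h'
      exact IsPGroup.disjoint_of_coprime (P ⟨t, ht⟩).isPGroup' (hQ _)
        ((Nat.coprime_primes C.hp Nat.prime_two).2 C.hp2)
    · rintro ⟨x, hx⟩
      obtain ⟨v, hv, w, hw, e⟩ := hdec ⟨t, ht⟩ x (mem_centralizer_singleton'.1 hx)
      exact ⟨(⟨v, hv⟩, ⟨w, hw⟩), Subtype.ext e⟩
  have hBcard : Nat.card B = 2 * m := by
    let W := {w : Q ⟨t, ht⟩ // (w : G) ≠ 1 ∧ (w : G) ≠ t}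
    have hW : Nat.card W = 2 := by
      have e : Nat.card W = (((Q ⟨t, ht⟩ : Subgroup G) : Set G) \ {1, t}).ncard := by
        rw [← Nat.card_coe_set_eq]
        exact Nat.card_congr ⟨fun w => ⟨w.1.1, w.1.2, fun h => h.elim w.2.1 w.2.2⟩,
          fun w => ⟨⟨w.1, w.2.1⟩, fun h => w.2.2 (Or.inl h), fun h => w.2.2 (Or.inr h)⟩,
          fun w => rfl, fun w => rfl⟩
      have hsub : ({1, t} : Set G) ⊆ ((Q ⟨t, ht⟩ : Subgroup G) : Set G) := by
        rintro x (rfl | rfl)
        exacts [one_mem _, htQ ⟨x, ht⟩]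
      rw [e, Set.ncard_sdiff hsub (Set.toFinite _), Set.ncard_pair ht.1.symm,
        ← Nat.card_coe_set_eq]
      show Nat.card (Q ⟨t, ht⟩) - 2 = 2
      rw [hQtwo]
    rw [← hW, ← hm ⟨t, ht⟩, mul_comm, ← Nat.card_prod]
    have hval : ∀ (v : (P ⟨t, ht⟩ : Subgroup G)) (w : W), IsInv ((v : G) * w.1.1) ∧
        Commute ((v : G) * w.1.1) t ∧ (v : G) * w.1.1 ≠ t := by
      intro v w
      have hw2 := (C.elem _ (hQ _) w.1.1 w.1.2)
      have hiv := hinv ⟨t, ht⟩ w.1.1 w.1.2 w.2.1 w.2.2 v v.2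
      have hc : Commute ((v : G) * w.1.1) t := (hPt _ v v.2).mul_left (hw2.2 t (htQ _))
      have hne : ∀ r ∈ Q ⟨t, ht⟩, r ≠ w.1.1 → (v : G) * w.1.1 ≠ r := by
        intro r hr hrw e
        have hv' : (v : G) = r * (w.1.1)⁻¹ := eq_mul_inv_of_mul_eq e
        have := C.pEl_two_eq (pEl_of_mem (P ⟨t, ht⟩).isPGroup' v.2) (hQ _)
          (hv' ▸ mul_mem hr (inv_mem w.1.2))
        rw [this, one_mul] at e
        exact hrw e.symm
      refine ⟨⟨hne 1 (one_mem _) (Ne.symm w.2.1), ?_⟩, hc, hne t (htQ _) (Ne.symm w.2.2)⟩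
      calc (v : G) * w.1.1 * (v * w.1.1) = v * (w.1.1 * v * (w.1.1)⁻¹) * (w.1.1 * w.1.1) := by group
        _ = 1 := by rw [hiv, hw2.1, mul_one, mul_inv_cancel]
    refine (Nat.card_eq_of_bijective (fun x : (P ⟨t, ht⟩ : Subgroup G) × W =>
      (⟨(x.1 : G) * x.2.1.1, hval x.1 x.2⟩ : B)) ⟨?_, ?_⟩).symm
    · rintro ⟨v, w⟩ ⟨v', w'⟩ h
      have h' : (v : G) * w.1.1 = v' * w'.1.1 := congrArg Subtype.val h
      have h2 := Subgroup.mul_injective_of_disjoint
        (IsPGroup.disjoint_of_coprime (P ⟨t, ht⟩).isPGroup' (hQ ⟨t, ht⟩)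
          ((Nat.coprime_primes C.hp Nat.prime_two).2 C.hp2)) (a₁ := (v, w.1)) (a₂ := (v', w'.1)) h'
      exact Prod.ext (congrArg Prod.fst h2 :) (Subtype.ext (congrArg Prod.snd h2 :))
    · rintro ⟨s, hs, hst, hne⟩
      obtain ⟨v, hv, w, hw, e⟩ := hdec ⟨t, ht⟩ s hst
      have hw1 : w ≠ 1 := by
        rintro rfl
        rw [mul_one] at e
        exact hs.1 (C.pEl_inv_eq (e ▸ pEl_of_mem (P ⟨t, ht⟩).isPGroup' hv) hs.2)
      have hwt : w ≠ t := by
        rintro rfl
        have hvt : v = s * w := by rw [← e, mul_assoc, ht.2, mul_one]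
        have h2 : v * v = 1 := by
          rw [hvt]
          calc s * w * (s * w) = s * (w * s) * w := by group
            _ = s * (s * w) * w := by rw [hst.eq]
            _ = 1 := by rw [← mul_assoc, hs.2, one_mul, ht.2]
        rw [C.pEl_inv_eq (pEl_of_mem (P ⟨w, ht⟩).isPGroup' hv) h2, one_mul] at e
        exact hne e.symm
      exact ⟨(⟨v, hv⟩, ⟨⟨w, hw⟩, hw1, hwt⟩), Subtype.ext e⟩
  have hn : Nat.card {x : G // IsInv x ∧ x ≠ t} = 2 * m * m + 2 * m * (m - 1) := by
    have hinvw : ∀ w : G, t * w * t⁻¹ = w⁻¹ → t * w ≠ 1 → IsInv (t * w) := fun w he h1 =>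
      ⟨h1, by rw [← mul_assoc, show t * w * t = t * w * t⁻¹ by rw [ht.inv_eq], he, inv_mul_cancel]⟩
    have hA : ∀ (b : B) (v : PB b), IsInv (t * (b.1 * v)) ∧ t * (b.1 * v) ≠ t := by
      intro b v
      obtain ⟨hvp, hvb, hvt⟩ := hPB b v v.2
      have hbv : b.1 * (v : G) ≠ 1 := fun e => by
        have hp' : PEl p b.1 := by
          rw [eq_inv_of_mul_eq_one_left e]
          exact pEl_of_mem (P ⟨b.1, b.2.1⟩).isPGroup' (inv_mem v.2)
        exact b.2.1.1 (C.pEl_inv_eq hp' b.2.1.2)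
      refine ⟨hinvw _ ?_ fun e => ?_, fun e => hbv (mul_eq_left.1 e)⟩
      · calc t * (b.1 * v) * t⁻¹ = (t * b.1 * t⁻¹) * (t * v * t⁻¹) := by group
          _ = b.1 * (v : G)⁻¹ := by rw [b.2.2.1.symm.eq, mul_inv_cancel_right, hvt]
          _ = (b.1 * v)⁻¹ := by
            rw [mul_inv_rev, b.2.1.inv_eq]
            exact hvb.inv_left.eq.symm
      · have he : b.1 * (v : G) = t := by
          rw [← mul_right_inj t, e, ht.2]
        have hv2 : (v : G) * v = 1 := by
          have h1 : (v : G) = b.1 * t :=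
            calc (v : G) = b.1 * (b.1 * v) := by rw [← mul_assoc, b.2.1.2, one_mul]
              _ = b.1 * t := by rw [he]
          rw [h1]
          calc b.1 * t * (b.1 * t) = b.1 * (t * b.1) * t := by group
            _ = b.1 * (b.1 * t) * t := by rw [b.2.2.1.eq]
            _ = 1 := by rw [← mul_assoc, b.2.1.2, one_mul, ht.2]
        rw [C.pEl_inv_eq hvp hv2, mul_one] at he
        exact b.2.2.2 he
    have hB' : ∀ (b : B) (v : {v : PB b // (v : G) ≠ 1}), IsInv (t * v.1) ∧ t * (v.1 : G) ≠ t := by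
      intro b v
      obtain ⟨hvp, -, hvt⟩ := hPB b v.1 v.1.2
      refine ⟨hinvw _ hvt fun e => ?_, fun e => v.2 (mul_eq_left.1 e)⟩
      have h1 : (v.1 : G) = t := by
        rw [← ht.inv_eq]; exact eq_inv_of_mul_eq_one_right e
      exact ht.1 (C.pEl_inv_eq (h1 ▸ hvp) ht.2)
    let Φ : (Σ b : B, PB b) ⊕ (Σ b : B, {v : PB b // (v : G) ≠ 1}) → {x : G // IsInv x ∧ x ≠ t} :=
      Sum.elim (fun x => ⟨t * (x.1.1 * x.2), hA x.1 x.2⟩) (fun x => ⟨t * x.2.1, hB' x.1 x.2⟩)
    have hsq2 : ∀ (b : B) (v : PB b), b.1 * v * (b.1 * v) = (v : G) * v := by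
      intro b v
      calc b.1 * v * (b.1 * v) = b.1 * ((v : G) * b.1) * v := by group
        _ = b.1 * (b.1 * v) * v := by rw [(hPB b v v.2).2.1.eq]
        _ = (v : G) * v := by rw [← mul_assoc b.1 b.1, b.2.1.2, one_mul]
    have hbeq : ∀ (b b' : B) (v : PB b) (v' : PB b'), (v : G) * v = (v' : G) * v' →
        (v' : G) ≠ 1 → b = b' := by
      intro b b' v v' he hv'
      obtain ⟨hvp, hvb, -⟩ := hPB b v v.2
      obtain ⟨hvp', hvb', -⟩ := hPB b' v' v'.2
      refine Subtype.ext (huniq ((v' : G) * v') ?_ (fun h => hv' (C.pEl_inv_eq hvp' h)) _ _ b.2.1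
        b'.2.1 ?_ (hvb'.mul_left hvb'))
      · exact pEl_of_mem (P ⟨b'.1, b'.2.1⟩).isPGroup' (mul_mem v'.2 v'.2)
      · rw [← he]; exact hvb.mul_left hvb
    have hΦ : Function.Bijective Φ := by
      refine ⟨?_, ?_⟩
      · rintro (⟨b, v⟩ | ⟨b, v⟩) (⟨b', v'⟩ | ⟨b', v'⟩) h
        · have h1 : b.1 * (v : G) = b'.1 * v' := mul_left_cancel (congrArg Subtype.val h)
          have h2 : (v : G) * v = (v' : G) * v' := by rw [← hsq2, h1, hsq2]
          by_cases hv' : (v' : G) = 1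
          · have hv : (v : G) = 1 :=
              C.pEl_inv_eq (hPB b v v.2).1 (by rw [h2, hv', one_mul])
            rw [hv, hv', mul_one, mul_one] at h1
            obtain rfl : b = b' := Subtype.ext h1
            rw [show v = v' from Subtype.ext (hv.trans hv'.symm)]
          · obtain rfl := hbeq b b' v v' h2 hv'
            rw [show v = v' from Subtype.ext (mul_left_cancel h1)]
        · exfalso
          have h1 : b.1 * (v : G) = v'.1 := mul_left_cancel (congrArg Subtype.val h)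
          have h2 : (v : G) * v = (v'.1 : G) * v'.1 := by rw [← hsq2, h1]
          obtain rfl := hbeq b b' v v'.1 h2 v'.2
          have hbP : b.1 ∈ PB b := by
            rw [eq_mul_inv_of_mul_eq h1]
            exact mul_mem v'.1.2 (inv_mem v.2)
          exact b.2.1.1 (C.pEl_inv_eq (hPB b _ hbP).1 b.2.1.2)
        · exfalso
          have h1 : (v.1 : G) = b'.1 * v' := mul_left_cancel (congrArg Subtype.val h)
          have h2 : (v' : G) * v' = (v.1 : G) * v.1 := by rw [← hsq2, h1]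
          obtain rfl := hbeq b' b v' v.1 h2 v.2
          have hbP : b'.1 ∈ PB b' := by
            rw [eq_mul_inv_of_mul_eq h1.symm]
            exact mul_mem v.1.2 (inv_mem v'.2)
          exact b'.2.1.1 (C.pEl_inv_eq (hPB b' _ hbP).1 b'.2.1.2)
        · have h1 : (v.1 : G) = v'.1 := mul_left_cancel (congrArg Subtype.val h)
          obtain rfl := hbeq b b' v.1 v'.1 (by rw [h1]) v'.2
          rw [show v = v' from Subtype.ext (Subtype.ext h1)]
      · rintro ⟨s, hs, hst⟩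
        set z := t * s with hz
        have hzs : s = t * z := by rw [hz, ← mul_assoc, ht.2, one_mul]
        have hzi : t * z * t⁻¹ = z⁻¹ := by
          rw [hz, mul_inv_rev, hs.inv_eq, ← mul_assoc t t, ht.2, one_mul]
        by_cases hzz : z * z = 1
        · have hzt : Commute z t := by
            have : t * z * t⁻¹ = z := by rw [hzi, inv_eq_of_mul_eq_one_left hzz]
            exact (mul_inv_eq_iff_eq_mul.1 this).symm
          have hzinv : IsInv z := ⟨fun e => hst (by rw [hzs, e, mul_one]), hzz⟩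
          have hzne : z ≠ t := fun e => hs.1 (by rw [hzs, e, ht.2])
          exact ⟨Sum.inl ⟨⟨z, hzinv, hzt, hzne⟩, ⟨1, one_mem _⟩⟩, Subtype.ext (by simp [Φ, hzs])⟩
        · have hu := hsq t z ht hzi hzz
          obtain ⟨r, hr, hur⟩ := hexi _ hu
          have hzr : Commute z r := by
            have h1 := commute_conj hur z
            have e : z * (z * z) * z⁻¹ = z * z := by group
            rw [e] at h1
            have := huniq _ hu hzz _ _ (hr.conj z) hr h1 hur
            exact mul_inv_eq_iff_eq_mul.1 this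
          have htu : t * (z * z) * t⁻¹ = (z * z)⁻¹ := by
            calc t * (z * z) * t⁻¹ = (t * z * t⁻¹) * (t * z * t⁻¹) := by group
              _ = (z * z)⁻¹ := by rw [hzi]; group
          have hrt : Commute r t := by
            have h1 := commute_conj hur t
            rw [htu] at h1
            have := huniq _ hu hzz _ _ (hr.conj t) hr (Commute.inv_left_iff.1 h1) hur
            exact (mul_inv_eq_iff_eq_mul.1 this).symm
          have hrne : r ≠ t := by
            rintro rfl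
            exact hzz (hself _ hu r hr htu hur)
          obtain ⟨v, hv, w, hw, e⟩ := hdec ⟨r, hr⟩ z hzr
          by_cases hw1 : w = 1
          · rw [hw1, mul_one] at e
            exact ⟨Sum.inr ⟨⟨r, hr, hrt, hrne⟩, ⟨⟨v, hv⟩, fun h => hzz (by
              rw [← e, show v = 1 from h, one_mul])⟩⟩,
              Subtype.ext (by simp [Φ, hzs, e])⟩
          by_cases hwr : w = r
          · refine ⟨Sum.inl ⟨⟨r, hr, hrt, hrne⟩, ⟨v, hv⟩⟩, Subtype.ext ?_⟩
            subst hwr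
            simp only [Φ, Sum.elim_inl, hzs, ← e]
            rw [(hPt ⟨w, hr⟩ v hv).eq]
          · exfalso
            apply hzz
            rw [← e]
            calc v * w * (v * w) = v * (w * v * w⁻¹) * (w * w) := by group
              _ = 1 := by
                rw [hinv ⟨r, hr⟩ w hw hw1 hwr v hv, (C.elem _ (hQ _) w hw).1, mul_one,
                  mul_inv_cancel]
    have hPm : ∀ b : B, Nat.card (PB b) = m := fun b => hm _
    have hPm' : ∀ b : B, Nat.card {v : PB b // (v : G) ≠ 1} = m - 1 := fun b => by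
      have e : Nat.card {v : PB b // (v : G) ≠ 1} = ((PB b : Set G) \ {1}).ncard := by
        rw [← Nat.card_coe_set_eq]
        exact Nat.card_congr ⟨fun v => ⟨v.1.1, v.1.2, v.2⟩, fun v => ⟨⟨v.1, v.2.1⟩, v.2.2⟩,
          fun v => rfl, fun v => rfl⟩
      rw [e, Set.ncard_sdiff_singleton_of_mem (one_mem (PB b)), ← Nat.card_coe_set_eq, ← hPm b]
      rfl
    haveI : Fintype B := Fintype.ofFinite B
    rw [← Nat.card_eq_of_bijective Φ hΦ, Nat.card_sum, Nat.card_sigma, Nat.card_sigma]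
    simp only [hPm, hPm', Finset.sum_const, Finset.card_univ, smul_eq_mul, ← Nat.card_eq_fintype_card,
      hBcard]
  have hncl : Nat.card {x : G // IsConj t x} = 1 + (2 * m * m + 2 * m * (m - 1)) := by
    have e1 : Nat.card {x : G // IsConj t x} = ({x : G | IsInv x}).ncard := by
      rw [← Nat.card_coe_set_eq]
      refine Nat.card_congr (Equiv.subtypeEquivRight fun x => ⟨fun h => ?_, fun h => ?_⟩)
      · obtain ⟨g, rfl⟩ := isConj_iff.1 h
        exact ht.conj g
      · exact isConj_iff.2 (C.exists_conj ht h)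
    have e2 : ({x : G | IsInv x} \ {t}).ncard = 2 * m * m + 2 * m * (m - 1) := by
      rw [← hn, ← Nat.card_coe_set_eq]
      rfl
    rw [e1, ← Set.ncard_sdiff_singleton_add_one (show t ∈ {x : G | IsInv x} from ht), e2]
    omega
  -- characters of the principal block
  obtain ⟨M, hM⟩ := Blocks.exists_isPModular (p := 2) Nat.prime_two
  obtain ⟨S, hS⟩ := (hQ ⟨t, ht⟩).exists_le_sylow
  have hSQ : (S : Subgroup G) = Q ⟨t, ht⟩ := (Subgroup.eq_of_le_of_card_ge hS
    (by rw [hQc]; exact C.card_le S.isPGroup')).symm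
  have hK : IsKleinFour (S : Subgroup G) := by
    rw [hSQ]
    refine ⟨hQtwo _, ?_⟩
    haveI : Nontrivial (Q ⟨t, ht⟩) := Finite.one_lt_card_iff_nontrivial.1 (by rw [hQtwo]; norm_num)
    refine (Monoid.exponent_eq_prime_iff Nat.prime_two).2 fun x hx => ?_
    exact orderOf_eq_prime (Subtype.ext (by
      rw [SubmonoidClass.coe_pow, sq]; exact (C.elem _ (hQ _) x x.2).1)) hx
  have hone : ∀ s s' : G, orderOf s = 2 → orderOf s' = 2 → IsConj s s' := by
    intro s s' hs hs'
    have hi : ∀ x : G, orderOf x = 2 → IsInv x := fun x hx => ⟨fun h => by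
      rw [h, orderOf_one] at hx; omega, by rw [← sq, ← hx, pow_orderOf_eq_one]⟩
    exact isConj_iff.2 (C.exists_conj (hi s hs) (hi s' hs'))
  haveI := hM.2.1.isPrime
  obtain ⟨ζ₂, ζ₃, ζ₄, ε, hε, h2, h3, h23, h24, h34, hblock, hval, -⟩ :=
    Blocks.klein_four_block hM S hK hone
  obtain ⟨hv2, hv3, hv4⟩ := hval t ht.orderOf_eq
  have h4 : (ζ₄ : G → ℂ) ≠ fun _ => 1 := fun h => by
    rw [h] at hv4
    norm_num at hv4
  obtain ⟨N₁, k, hN₁, hk, -, hkey, -⟩ := Blocks.klein_order_key hM S hK hone (J := t)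
    (show t ∈ (S : Subgroup G) by rw [hSQ]; exact htQ ⟨t, ht⟩) ht.orderOf_eq ζ₂ ζ₃ ζ₄ 1 ε (-1) hblock ⟨h2, h3, h4, h23, h24, h34⟩
    ⟨Or.inl rfl, hε, Or.inr rfl⟩ ⟨by simpa using hv2, hv3, by simpa using hv4⟩
  have hCQ : Nat.card (Subgroup.centralizer ((S : Subgroup G) : Set G)) = 4 := by
    rw [← hQtwo ⟨t, ht⟩, hSQ]
    suffices h : Subgroup.centralizer (Q ⟨t, ht⟩ : Set G) = Q ⟨t, ht⟩ by rw [h]
    refine le_antisymm (fun x hx => ?_) fun x hx y hy => ((C.elem _ (hQ _) y hy).2 x hx).eq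
    have hxt : Commute x t := (Subgroup.mem_centralizer_iff.1 hx t (htQ _)).symm
    obtain ⟨v, hv, w, hw, rfl⟩ := hdec ⟨t, ht⟩ x hxt
    have hv1 : v = 1 := by
      refine hCPQ _ v hv fun y hy => ?_
      have h1 : Commute y (v * w) := Subgroup.mem_centralizer_iff.1 hx y hy
      simpa using h1.mul_right (Commute.inv_right ((C.elem _ (hQ _) y hy).2 w hw))
    rw [hv1, one_mul]
    exact hw
  have hm0 : 0 < m := Nat.pos_of_ne_zero (pow_ne_zero _ C.hp.ne_zero)
  rw [hCQ, hC4] at hN₁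
  have hN : N₁ = m := Nat.eq_of_mul_eq_mul_right (by norm_num) hN₁
  haveI := Fintype.ofFinite G
  have hcl := CT.card_conj_class_mul_centralizer t
  rw [hC4] at hcl hk
  have hkn : k = 1 + (2 * m * m + 2 * m * (m - 1)) := by
    rw [← hncl]
    exact Nat.eq_of_mul_eq_mul_right (by positivity) (hk.trans hcl.symm)
  have hdeg : ∀ χ : IrrCharacter G, (χ : G → ℂ) ≠ (fun _ => 1) →
      2 ≤ charDegree (χ : G → ℂ) := by
    intro χ hχ
    have hpos : 0 < charDegree (χ : G → ℂ) := CT.deg_pos χ.2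
    by_contra hlt
    have h1 : charDegree (χ : G → ℂ) = 1 := by omega
    obtain ⟨lam, hlam⟩ := CT.exists_hom_of_degree_one (CT.isCharacter_of_isIrr χ.2) (by
      rw [CT.deg_eq (CT.isCharacter_of_isIrr χ.2)]
      exact_mod_cast h1)
    refine hχ (hlam.trans (funext fun g => ?_))
    have hg : g ∈ lam.ker := Abelianization.commutator_subset_ker lam (C.hperf ▸ Subgroup.mem_top g)
    rw [MonoidHom.mem_ker.1 hg]
    rfl
  have hd2 : (2 : ℚ) ≤ (charDegree (ζ₂ : G → ℂ) : ℚ) := by exact_mod_cast hdeg _ h2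
  have hd3 : (2 : ℚ) ≤ (charDegree (ζ₃ : G → ℂ) : ℚ) := by exact_mod_cast hdeg _ h3
  have hd4 : (2 : ℚ) ≤ (charDegree (ζ₄ : G → ℂ) : ℚ) := by exact_mod_cast hdeg _ h4
  have hb2 : ((1 : ℤ) : ℚ) / (charDegree (ζ₂ : G → ℂ) : ℚ) ≤ 1 / 2 := by
    rw [div_le_iff₀ (by linarith)]; push_cast; linarith
  have hb3 : ((ε : ℤ) : ℚ) / (charDegree (ζ₃ : G → ℂ) : ℚ) ≤ 1 / 2 := by
    rw [div_le_iff₀ (by linarith)]
    rcases hε with rfl | rfl <;> push_cast <;> linarith
  have hb4 : ((-1 : ℤ) : ℚ) / (charDegree (ζ₄ : G → ℂ) : ℚ) ≤ 0 := by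
    rw [div_le_iff₀ (by linarith)]; push_cast; linarith
  have hkq : (k : ℚ) = 4 * (m : ℚ) ^ 2 - 2 * m + 1 := by
    have hm1 : ((m - 1 : ℕ) : ℚ) = (m : ℚ) - 1 := by rw [Nat.cast_sub hm0]; norm_num
    rw [hkn]
    push_cast [hm1]
    ring
  rw [hN] at hkey
  have hk0 : (0 : ℚ) ≤ k := Nat.cast_nonneg k
  have hle : (k : ℚ) * (1 + ((1 : ℤ) : ℚ) / (charDegree (ζ₂ : G → ℂ) : ℚ) +
      ((ε : ℤ) : ℚ) / (charDegree (ζ₃ : G → ℂ) : ℚ) +
      ((-1 : ℤ) : ℚ) / (charDegree (ζ₄ : G → ℂ) : ℚ)) ≤ (k : ℚ) * 2 :=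
    mul_le_mul_of_nonneg_left (by linarith) hk0
  have hm1' : (1 : ℚ) ≤ m := by exact_mod_cast hm0
  rw [hkey, hkq] at hle
  linarith

end Ctx

end Cfsg.Agent.FGB.MixedQ
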