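import Cfsg.Agent.Lib.FGB.MixedQCtx

/-!
# Small `q`-groups and mixed subgroups: non-abelian involution centralizers
-/

namespace Cfsg.Agent.FGB.MixedQ

variable {G : Type*} [Group G]

/-- Some involution centralizer is not abelian at `t`. -/
def NonAb (p : ℕ) (t : G) : Prop :=
  ∃ o s : G, PEl p o ∧ Commute o t ∧ IsInv s ∧ Commute s t ∧ ¬ Commute o s

theorem NonAb.conj {p : ℕ} {t : G} (h : NonAb p t) (g : G) : NonAb p (g * t * g⁻¹) := by
  obtain ⟨o, s, ho, hot, hs, hst, hne⟩ := h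
  refine ⟨g * o * g⁻¹, g * s * g⁻¹, pEl_conj ho g, commute_conj hot g, hs.conj g,
    commute_conj hst g, fun h => hne ?_⟩
  simpa [mul_assoc] using commute_conj h g⁻¹

theorem mem_normalizer_of_conj_subset [Finite G] {H : Subgroup G} {g : G}
    (h : ∀ x ∈ H, g * x * g⁻¹ ∈ H) : g ∈ Subgroup.normalizer (H : Set G) := by
  have hmap : H.map (MulAut.conj g).toMonoidHom = H := by
    refine Subgroup.eq_of_le_of_card_ge ?_
      (Subgroup.card_map_of_injective (MulAut.conj g).injective).ge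
    rintro _ ⟨x, hx, rfl⟩
    exact h x hx
  refine Subgroup.mem_normalizer_iff.2 fun x => ⟨h x, fun hx => ?_⟩
  obtain ⟨y, hy, he⟩ := hmap.ge hx
  have : y = x := (MulAut.conj g).injective he
  exact this ▸ hy

variable [Finite G] {p a : ℕ}

namespace Ctx

variable (C : Ctx G p a)

include C

theorem nonAb_all {t₀ : G} (ht₀ : IsInv t₀) (h : NonAb p t₀) {t : G} (ht : IsInv t) : NonAb p t := by
  obtain ⟨g, rfl⟩ := C.exists_conj ht₀ ht
  exact h.conj g

/-- The shape of a non-abelian involution centralizer. -/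
theorem struct {t : G} (ht : IsInv t) (h : NonAb p t) :
    a = 2 ∧ ∃ (P : Sylow p G) (Q : Subgroup G), t ∈ Q ∧ IsPGroup 2 Q ∧ Nat.card Q = 2 ^ a ∧
      (∀ x, PEl p x → Commute x t → x ∈ P) ∧ (∀ v ∈ P, Commute v t) ∧
      (∀ w ∈ Q, w ≠ 1 → w ≠ t → ∀ v ∈ P, w * v * w⁻¹ = v⁻¹) ∧
      (∀ v ∈ P, (∀ w ∈ Q, Commute w v) → v = 1) ∧ (∃ v ∈ P, v ≠ 1) ∧
      (∀ x, Commute x t → ∃ v ∈ P, ∃ w ∈ Q, v * w = x) ∧
      ∀ n ∈ Subgroup.normalizer ((P : Subgroup G) : Set G), Commute n t := by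
  haveI := Fact.mk C.hp
  haveI := Fact.mk Nat.prime_two
  obtain ⟨o, s, ho, hot, hs, hst, hne⟩ := h
  obtain ⟨Q, hsQ, htQ, hQ, hQc⟩ := C.exists_full_pair hs ht hst
  have hQt : ∀ w ∈ Q, Commute w t := fun w hw => (C.elem Q hQ w hw).2 t htQ
  have hQinv : ∀ w ∈ Q, w ≠ 1 → IsInv w := fun w hw hw1 => ⟨hw1, (C.elem Q hQ w hw).1⟩
  obtain ⟨O, hOp, hO⟩ := C.exists_O ht
  have hoO : o ∈ O := (hO o).2 ⟨ho, hot⟩
  have ho1 : o ≠ 1 := fun h => hne (h ▸ Commute.one_left s)
  have hOb : O ≠ ⊥ := fun h => ho1 (Subgroup.mem_bot.1 (h ▸ hoO))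
  have hMtop := C.normalizer_ne_top hOb (C.p_ne_top hOp)
  set M := Subgroup.normalizer (O : Set G) with hM
  have hCM : ∀ c, Commute c t → c ∈ M := fun c hc => mem_normalizer_of_conj_subset fun x hx => by
    refine (hO _).2 ⟨pEl_conj ((hO x).1 hx).1 c, ?_⟩
    have := commute_conj ((hO x).1 hx).2 c
    rwa [hc.eq, mul_inv_cancel_right] at this
  have hQM : Q ≤ M := fun w hw => hCM w (hQt w hw)
  -- the `p`-elements of `M` form a Sylow subgroup
  obtain ⟨P, hP⟩ := hOp.exists_le_sylow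
  have hPO : ∀ x ∈ P, ∀ y ∈ O, Commute x y := fun x hx y hy =>
    C.commute_of_pGroup P.isPGroup' hx (hP hy)
  have hPM : (P : Subgroup G) ≤ M := fun x hx => mem_normalizer_of_conj_subset fun y hy => by
    rwa [(hPO x hx y hy).eq, mul_inv_cancel_right]
  have hPall : ∀ x ∈ M, PEl p x → x ∈ P := by
    rcases C.closed_or_action hMtop (ht.two_dvd (hQM htQ)) with
      ⟨N, -, hNp, hall⟩ | ⟨U, hUM, hU, hUc, g, hgM, -, -, u, -, -, htr⟩
    · have hPN : (P : Subgroup G) ≤ N := fun x hx => hall x (hPM hx) (pEl_of_mem P.isPGroup' hx)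
      intro x hx hxp
      have h1 := hall x hx hxp
      rwa [P.is_maximal' hNp hPN] at h1
    · exfalso
      obtain ⟨m, hm, hmQ⟩ := C.exists_conj_full hUM hU hUc hQM hQ
      have hconj : ∀ c ∈ M, ∀ v : G, (∀ y ∈ O, Commute v y) →
          ∀ y ∈ O, Commute (c * v * c⁻¹) y := by
        intro c hc v hv y hy
        have := commute_conj (hv _ (conj_mem_of_normalizer (inv_mem hc) hy)) c
        simpa [mul_assoc] using this
      have hu0 : ∀ y ∈ O, Commute (m * t * m⁻¹) y :=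
        hconj m hm t fun y hy => ((hO y).1 hy).2.symm
      obtain ⟨j, hj⟩ := htr _ (hmQ t htQ) (ht.conj m).1
      have hu : ∀ y ∈ O, Commute u y := by
        have := hconj _ (inv_mem (pow_mem hgM j)) _ hu0
        rw [← hj] at this
        simpa [mul_assoc] using this
      have hU : ∀ v ∈ U, v ≠ 1 → ∀ y ∈ O, Commute v y := by
        intro v hv hv1
        obtain ⟨i, rfl⟩ := htr v hv hv1
        exact hconj _ (pow_mem hgM i) u hu
      have hsU : ∀ y ∈ O, Commute s y := by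
        have := hconj _ (inv_mem hm) _ (hU _ (hmQ s hsQ) (hs.conj m).1)
        simpa [mul_assoc] using this
      exact hne (hsU o hoO).symm
  have hQP : ∀ w ∈ Q, ∀ v ∈ P, w * v * w⁻¹ ∈ P := fun w hw v hv =>
    hPall _ (mul_mem (mul_mem (hQM hw) (hPM hv)) (inv_mem (hQM hw)))
      (pEl_conj (pEl_of_mem P.isPGroup' hv) w)
  have hQN : Q ≤ Subgroup.normalizer ((P : Subgroup G) : Set G) := fun w hw =>
    mem_normalizer_of_conj_subset (hQP w hw)
  have hPb : (P : Subgroup G) ≠ ⊥ := fun h => ho1 (Subgroup.mem_bot.1 (h ▸ hP hoO))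
  have hNtop := C.normalizer_ne_top hPb (C.p_ne_top P.isPGroup')
  have hNdec := C.decomp hNtop Subgroup.le_normalizer P.isPGroup'
    (fun x hx hxp => C.pEl_sylow hxp hx) hQN hQ hQc
  have hab : ∀ x ∈ P, ∀ y ∈ P, Commute x y := fun x hx y hy =>
    C.commute_of_pGroup P.isPGroup' hx hy
  have hCPQ : ∀ v ∈ P, (∀ w ∈ Q, Commute w v) → v = 1 := by
    intro v hv hw
    refine transfer_center P (C.abSyl P) C.hperf hv fun n hn => ?_
    obtain ⟨v', hv', w, hwQ, rfl⟩ := hNdec n hn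
    exact (hab v' hv' v hv).mul_left (hw w hwQ)
  -- an involution of `Q` centralizing a nontrivial element of `P`
  have KL : ∀ t' ∈ Q, t' ≠ 1 → ∀ v ∈ P, v ≠ 1 → Commute v t' →
      ∀ x, PEl p x → Commute x t' → x ∈ P := by
    intro t' ht'Q ht'1 v hv hv1 hvt x hx hxt
    have ht' := hQinv t' ht'Q ht'1
    have hvC : ∀ y ∈ P, y ∈ Subgroup.centralizer ({v} : Set G) := fun y hy =>
      mem_centralizer_singleton'.2 (hab y hy v hv)
    have ht'C : t' ∈ Subgroup.centralizer ({v} : Set G) := mem_centralizer_singleton'.2 hvt.symm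
    rcases C.closed_or_action (C.centralizer_ne_top hv1) (ht'.two_dvd ht'C) with
      ⟨N, -, hNp, hall⟩ | ⟨U, hUM, hU, hUc, -⟩
    · have h1 := hall x (mem_centralizer_singleton'.2
        (C.commute_pEl ht' hx (pEl_of_mem P.isPGroup' hv) hxt hvt)) hx
      rwa [P.is_maximal' hNp fun y hy => hall y (hvC y hy) (pEl_of_mem P.isPGroup' hy)] at h1
    · exfalso
      have hz : IsPGroup 2 (Subgroup.zpowers t') :=
        isPGroup_zpowers ⟨1, by rw [ht'.orderOf_eq, pow_one]⟩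
      obtain ⟨m, hm, hmz⟩ := C.exists_conj_full hUM hU hUc (Subgroup.zpowers_le.2 ht'C) hz
      have hmt := hmz t' (Subgroup.mem_zpowers t')
      set U' := U.map (MulAut.conj m⁻¹).toMonoidHom with hU'
      have hU'p : IsPGroup 2 U' := hU.map _
      have hU'c : Nat.card U' = 2 ^ a := by
        rw [hU', Subgroup.card_map_of_injective (MulAut.conj m⁻¹).injective, hUc]
      have ht'U : t' ∈ U' := ⟨_, hmt, by simp [mul_assoc]⟩
      have hU'v : ∀ y ∈ U', Commute y v := by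
        rintro _ ⟨y, hy, rfl⟩
        have := commute_conj (mem_centralizer_singleton'.1 (hUM hy)) m⁻¹
        rw [((mem_centralizer_singleton'.1 hm).inv_left).eq, mul_inv_cancel_right] at this
        exact this
      obtain ⟨O', hO'p, hO'⟩ := C.exists_O ht'
      have hC' := C.centralizer_ne_top ht'.1
      have hQC' : Q ≤ Subgroup.centralizer ({t'} : Set G) := fun w hw =>
        mem_centralizer_singleton'.2 ((C.elem Q hQ w hw).2 t' ht'Q)
      have hU'C' : U' ≤ Subgroup.centralizer ({t'} : Set G) := fun w hw =>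
        mem_centralizer_singleton'.2 ((C.elem U' hU'p w hw).2 t' ht'U)
      obtain ⟨c, hc, hcQ⟩ := C.exists_conj_full hU'C' hU'p hU'c hQC' hQ
      obtain ⟨o', ho', w, hwQ, rfl⟩ := C.decomp hC'
        (fun y hy => mem_centralizer_singleton'.2 ((hO' y).1 hy).2) hO'p
        (fun y hy hyp => (hO' y).2 ⟨hyp, mem_centralizer_singleton'.1 hy⟩) hQC' hQ hQc c hc
      have hov : Commute o' v :=
        C.commute_pEl ht' ((hO' o').1 ho').1 (pEl_of_mem P.isPGroup' hv) ((hO' o').1 ho').2 hvt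
      have hw2 : w * w = 1 := (C.elem Q hQ w hwQ).1
      have hz1 : w * v * w⁻¹ = 1 := by
        refine hCPQ _ (hQP w hwQ v hv) fun y hy => ?_
        have h1 := commute_conj (hU'v _ (hcQ y hy)) (o' * w)⁻¹
        have e1 : (o' * w)⁻¹ * (o' * w * y * (o' * w)⁻¹) * ((o' * w)⁻¹)⁻¹ = y := by group
        have e2 : (o' * w)⁻¹ * v * ((o' * w)⁻¹)⁻¹ = w * v * w⁻¹ := by
          calc (o' * w)⁻¹ * v * ((o' * w)⁻¹)⁻¹ = w⁻¹ * (o'⁻¹ * (v * o')) * w := by group
            _ = w⁻¹ * v * w := by rw [← hov.eq, inv_mul_cancel_left]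
            _ = w * v * w⁻¹ := by rw [inv_eq_of_mul_eq_one_left hw2]
        rwa [e1, e2] at h1
      exact hv1 (conj_eq_one_iff.1 hz1)
  have hOP : ∀ x, PEl p x → Commute x t → x ∈ P := fun x hx hxt => hP ((hO x).2 ⟨hx, hxt⟩)
  -- other involutions of `Q` invert `P`
  have hfree : ∀ t' ∈ Q, t' ≠ 1 → t' ≠ t → ∀ v ∈ P, Commute v t' → v = 1 := by
    intro t' ht'Q ht'1 ht't v hv hvt
    by_contra hv1
    obtain ⟨g, hg, hgN, hgt⟩ := C.trans Q hQ hQc t htQ t' ht'Q ht.1 ht'1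
    have hginv : ∀ x ∈ P, g⁻¹ * x * g⁻¹⁻¹ ∈ P := by
      intro x hx
      refine hPall _ (mem_normalizer_of_conj_subset fun y hy => ?_)
        (pEl_conj (pEl_of_mem P.isPGroup' hx) g⁻¹)
      have hy' : g * y * g⁻¹ ∈ P := by
        refine KL t' ht'Q ht'1 v hv hv1 hvt _ (pEl_conj (pEl_of_mem hOp hy) g) ?_
        rw [← hgt]
        exact commute_conj ((hO y).1 hy).2 g
      have h1 := commute_conj (hab x hx _ hy') g⁻¹
      have e : g⁻¹ * (g * y * g⁻¹) * g⁻¹⁻¹ = y := by group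
      rw [e] at h1
      rwa [h1.eq, mul_inv_cancel_right]
    have hgP : g ∈ P := C.pEl_sylow hg
      (by simpa using inv_mem (mem_normalizer_of_conj_subset hginv))
    have h1 : g * t * g⁻¹ * t⁻¹ ∈ Q := mul_mem (conj_mem_of_normalizer hgN htQ) (inv_mem htQ)
    have h2 : g * t * g⁻¹ * t⁻¹ ∈ P := by
      have h3 : g * (t * g⁻¹ * t⁻¹) ∈ P := mul_mem hgP (hQP t htQ _ (inv_mem hgP))
      simpa only [mul_assoc] using h3
    have h4 := C.pEl_two_eq (pEl_of_mem P.isPGroup' h2) hQ h1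
    rw [hgt, mul_inv_eq_one] at h4
    exact ht't h4
  have hinv : ∀ w ∈ Q, w ≠ 1 → w ≠ t → ∀ v ∈ P, w * v * w⁻¹ = v⁻¹ := by
    intro w hw hw1 hwt v hv
    have hwi := (hQinv w hw hw1).inv_eq
    refine eq_inv_of_mul_eq_one_right (hfree w hw hw1 hwt _ (mul_mem hv (hQP w hw v hv)) ?_)
    have h1 : Commute v (w * v * w⁻¹) := hab v hv _ (hQP w hw v hv)
    show v * (w * v * w⁻¹) * w = w * (v * (w * v * w⁻¹))
    have hww : w * w = 1 := (C.elem Q hQ w hw).1
    calc v * (w * v * w⁻¹) * w = v * (w * v) := by group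
      _ = v * (w * v * w⁻¹) * w⁻¹ := by rw [hwi]; simp only [mul_assoc, hww, mul_one]
      _ = (w * v * w⁻¹) * v * w⁻¹ := by rw [h1.eq]
      _ = w * (v * (w * v * w⁻¹)) := by rw [hwi]; group
  -- `Q` is a four-group
  have ha : a = 2 := by
    by_contra hane
    have h2a := C.two_le_a
    have h8 : 2 ^ 3 ≤ 2 ^ a := Nat.pow_le_pow_right (by norm_num) (by omega)
    have hcard : ((Q : Set G)).ncard = 2 ^ a := by rw [← hQc, ← Nat.card_coe_set_eq]; rfl
    have hex : ∀ T : Finset G, T.card ≤ 4 → ∃ w ∈ Q, w ∉ T := by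
      intro T hT
      by_contra hc
      push Not at hc
      have h1 := Set.ncard_le_ncard (fun x hx => hc x hx : (Q : Set G) ⊆ (T : Set G)) T.finite_toSet
      rw [Set.ncard_coe_finset, hcard] at h1
      omega
    classical
    obtain ⟨w, hw, hwT⟩ := hex {1, t} (Finset.card_le_two.trans (by norm_num))
    simp only [Finset.mem_insert, Finset.mem_singleton, not_or] at hwT
    obtain ⟨r, hr, hrT⟩ := hex {1, t, w, w * t} Finset.card_le_four
    simp only [Finset.mem_insert, Finset.mem_singleton, not_or] at hrT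
    have hwr1 : w * r ≠ 1 := fun e => hrT.2.2.1
      ((eq_inv_of_mul_eq_one_right e).trans (hQinv w hw hwT.1).inv_eq)
    have hwrt : w * r ≠ t := fun e => hrT.2.2.2 (by
      rw [← e, ← mul_assoc, (C.elem Q hQ w hw).1, one_mul])
    have e1 := hinv _ (mul_mem hw hr) hwr1 hwrt o (hP hoO)
    have e2 : w * r * o * (w * r)⁻¹ = o := by
      calc w * r * o * (w * r)⁻¹ = w * (r * o * r⁻¹) * w⁻¹ := by group
        _ = w * o⁻¹ * w⁻¹ := by rw [hinv r hr hrT.1 hrT.2.1 o (hP hoO)]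
        _ = (w * o * w⁻¹)⁻¹ := by group
        _ = o := by rw [hinv w hw hwT.1 hwT.2 o (hP hoO), inv_inv]
    refine ho1 (C.pEl_inv_eq ho ?_)
    exact mul_eq_one_iff_eq_inv.2 (e2.symm.trans e1)
  have hPt : ∀ v ∈ P, Commute v t := by
    intro v hv
    classical
    obtain ⟨w, hw, hwT⟩ : ∃ w ∈ Q, w ≠ 1 ∧ w ≠ t := by
      by_contra hc
      push Not at hc
      have h1 := Set.ncard_le_ncard (fun x hx => by
        by_cases hx1 : x = 1
        · exact Or.inl hx1
        · exact Or.inr (hc x hx hx1) : (Q : Set G) ⊆ ({1, t} : Set G)) (Set.toFinite _)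
      rw [Set.ncard_pair ht.1.symm, ← Nat.card_coe_set_eq] at h1
      have h2 : Nat.card Q ≤ 2 := h1
      rw [hQc, ha] at h2
      norm_num at h2
    have hwi := hQinv w hw hwT.1
    have hwt1 : w * t ≠ 1 := fun e => hwT.2
      ((eq_inv_of_mul_eq_one_left e).trans ht.inv_eq)
    have hwtt : w * t ≠ t := fun e => hwT.1 (mul_eq_right.1 e)
    have e : t * v * t⁻¹ = v := by
      calc t * v * t⁻¹ = w * (w * t * v * (w * t)⁻¹) * w⁻¹ := by
            rw [hwi.inv_eq]; simp only [mul_inv_rev, hwi.inv_eq, ← mul_assoc, hwi.2, one_mul]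
            simp only [mul_assoc, hwi.2, mul_one]
        _ = w * v⁻¹ * w⁻¹ := by rw [hinv _ (mul_mem hw htQ) hwt1 hwtt v hv]
        _ = (w * v * w⁻¹)⁻¹ := by group
        _ = v := by rw [hinv w hw hwT.1 hwT.2 v hv, inv_inv]
    exact (mul_inv_eq_iff_eq_mul.1 e).symm
  have hCdec : ∀ x, Commute x t → ∃ v ∈ P, ∃ w ∈ Q, v * w = x := by
    intro x hx
    obtain ⟨v, hv, w, hw, e⟩ := C.decomp (M := Subgroup.centralizer ({t} : Set G)) (N := O)
      (C.centralizer_ne_top ht.1) (fun y hy => mem_centralizer_singleton'.2 ((hO y).1 hy).2) hOp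
      (fun y hy hyp => (hO y).2 ⟨hyp, mem_centralizer_singleton'.1 hy⟩)
      (fun y hy => mem_centralizer_singleton'.2 (hQt y hy)) hQ hQc x
      (mem_centralizer_singleton'.2 hx)
    exact ⟨v, hP hv, w, hw, e⟩
  refine ⟨ha, P, Q, htQ, hQ, hQc, hOP, hPt, hinv, hCPQ, ⟨o, hP hoO, ho1⟩, hCdec, fun n hn => ?_⟩
  obtain ⟨v, hv, w, hw, rfl⟩ := hNdec n hn
  exact (hPt v hv).mul_left (hQt w hw)

end Ctx

end Cfsg.Agent.FGB.MixedQ
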