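import Cfsg.Agent.Lib.FGB.MixedQBasic

/-!
# Small `q`-groups and mixed subgroups: transfer, products of two groups
-/

namespace Cfsg.Agent.FGB.MixedQ

variable {G : Type*} [Group G]

/-- In a perfect group an element of an abelian Sylow subgroup centralizing its normalizer is trivial. -/
theorem transfer_center [Finite G] {p : ℕ} [hp : Fact p.Prime] (P : Sylow p G)
    (hab : IsMulCommutative (P : Subgroup G)) (hperf : commutator G = ⊤) {v : G} (hv : v ∈ P)
    (hN : ∀ n ∈ Subgroup.normalizer ((P : Subgroup G) : Set G), Commute n v) : v = 1 := by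
  letI : CommGroup (P : Subgroup G) :=
    { (inferInstance : Group (P : Subgroup G)) with mul_comm := hab.is_comm.comm }
  haveI := hab
  have key : ∀ (k : ℕ) (g₀ : G), g₀⁻¹ * v ^ k * g₀ ∈ (P : Subgroup G) →
      g₀⁻¹ * v ^ k * g₀ = v ^ k := by
    intro k g₀ hk
    obtain ⟨n, hn, he⟩ := Sylow.conj_eq_normalizer_conj_of_mem P (v ^ k) g₀
      (pow_mem hv k) hk
    rw [he, mul_assoc, ← ((hN n hn).pow_right k).eq, inv_mul_cancel_left]
  set T : G →* (P : Subgroup G) :=
    MonoidHom.transfer (MonoidHom.id (P : Subgroup G)) with hT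
  have htriv : T v = 1 := by
    have hk : commutator G ≤ T.ker := Abelianization.commutator_subset_ker T
    exact MonoidHom.mem_ker.1 (hk (hperf ▸ Subgroup.mem_top v))
  rw [hT, MonoidHom.transfer_eq_pow _ v key] at htriv
  have h1 : v ^ (P : Subgroup G).index = 1 := congrArg Subtype.val htriv
  obtain ⟨i, hi⟩ := pEl_of_mem P.isPGroup' hv
  have hcop : (orderOf v).Coprime (P : Subgroup G).index := by
    rw [hi]
    exact Nat.Coprime.pow_left i ((hp.out.coprime_iff_not_dvd).2 P.not_dvd_index)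
  exact orderOf_eq_one_iff.1 (Nat.eq_one_of_dvd_coprimes hcop dvd_rfl (orderOf_dvd_of_pow_eq_one h1))

theorem isPGroup_sup [Finite G] {q : ℕ} [hq : Fact q.Prime] {U K : Subgroup G} (hU : IsPGroup q U)
    (hK : IsPGroup q K) (h : K ≤ Subgroup.normalizer (U : Set G)) : IsPGroup q ↥(U ⊔ K) := by
  obtain ⟨i, hi⟩ := hU.exists_card_eq
  obtain ⟨j, hj⟩ := hK.exists_card_eq
  have := card_sup_dvd h
  rw [hi, hj, ← pow_add] at this
  obtain ⟨k, -, hk⟩ := (Nat.dvd_prime_pow hq.out).1 this
  exact IsPGroup.of_card hk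

theorem zpowers_le_normalizer_zpowers {s t : G} (h : Commute s t) :
    Subgroup.zpowers t ≤ Subgroup.normalizer (Subgroup.zpowers s : Set G) := by
  rw [Subgroup.zpowers_le, Subgroup.mem_normalizer_iff]
  intro x
  constructor
  · intro hx
    obtain ⟨i, rfl⟩ := Subgroup.mem_zpowers_iff.1 hx
    rw [← (h.zpow_left i).eq, mul_inv_cancel_right]
    exact zpow_mem (Subgroup.mem_zpowers s) i
  · intro hx
    obtain ⟨i, hi⟩ := Subgroup.mem_zpowers_iff.1 hx
    have : x = t⁻¹ * s ^ i * t := by rw [hi]; group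
    rw [this, mul_assoc, (h.zpow_left i).eq, inv_mul_cancel_left]
    exact zpow_mem (Subgroup.mem_zpowers s) i

/-- Every element of a group is a product from two subgroups of coprime orders whose orders
multiply to at least the group order. -/
theorem exists_mul_of_card [Finite G] {M N Q : Subgroup G} (hN : N ≤ M) (hQ : Q ≤ M)
    (hcop : (Nat.card N).Coprime (Nat.card Q)) (hM : Nat.card M ≤ Nat.card N * Nat.card Q) :
    ∀ x ∈ M, ∃ v ∈ N, ∃ w ∈ Q, v * w = x := by
  let f : N × Q → M := fun x => ⟨x.1 * x.2, mul_mem (hN x.1.2) (hQ x.2.2)⟩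
  have hf : Function.Injective f := by
    rintro ⟨v, w⟩ ⟨v', w'⟩ h
    have h' : (v : G) * w = v' * w' := congrArg Subtype.val h
    exact Subgroup.mul_injective_of_disjoint
      (disjoint_iff.2 (Subgroup.inf_eq_bot_of_coprime hcop)) (a₁ := (v, w)) (a₂ := (v', w')) h'
  intro x hx
  obtain ⟨⟨v, w⟩, hvw⟩ := ((Function.Injective.bijective_of_nat_card_le hf
    (by rwa [Nat.card_prod])).2 ⟨x, hx⟩)
  exact ⟨v, v.2, w, w.2, congrArg Subtype.val hvw⟩

end Cfsg.Agent.FGB.MixedQ
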