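import Cfsg.Prelude.Def_Transfer
import Cfsg.Agent.Lib.Tech.DStar

/-!
# Two-groups without normal elementary abelian subgroups of order eight and odd automorphisms

An elementary proof that such a group, generated by commutators with a group of automorphisms of
odd order, has centre equal to derived group, both elementary of order at most four.
-/

set_option autoImplicit false
set_option linter.unusedSectionVars false
set_option linter.unusedVariables false

namespace Cfsg.Agent.NoSCNOdd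

open Subgroup
open scoped commutatorElement Classical

universe u

variable {X : Type u} [Group X] [Finite X]

/-- Pairwise commuting subgroup. -/
def Comm (M : Subgroup X) : Prop := ∀ a ∈ M, ∀ b ∈ M, a * b = b * a

/-- Invariance under a group of automorphisms. -/
def AInv (A : Subgroup (MulAut X)) (M : Subgroup X) : Prop := ∀ φ ∈ A, ∀ m ∈ M, φ m ∈ M

/-- The elements of square one of a commutative subgroup. -/
def omega (M : Subgroup X) (hM : Comm M) : Subgroup X where
  carrier := {a | a ∈ M ∧ a * a = 1}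
  one_mem' := ⟨M.one_mem, one_mul 1⟩
  mul_mem' := by
    rintro a b ⟨ha, ha'⟩ ⟨hb, hb'⟩
    refine ⟨M.mul_mem ha hb, ?_⟩
    calc a * b * (a * b) = a * (b * a) * b := by group
      _ = a * (a * b) * b := by rw [hM a ha b hb]
      _ = (a * a) * (b * b) := by group
      _ = 1 := by rw [ha', hb', one_mul]
  inv_mem' := by
    rintro a ⟨ha, ha'⟩
    exact ⟨M.inv_mem ha, by rw [← mul_inv_rev, ha', inv_one]⟩

/-- The hypotheses. -/
structure Hyp (A : Subgroup (MulAut X)) : Prop where
  pg : IsPGroup 2 X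
  nonab : ¬ ∀ a b : X, a * b = b * a
  small : ∀ (M : Subgroup X), M.Normal → ∀ hM : Comm M, Nat.card (omega M hM) ≤ 4
  odd : Odd (Nat.card A)
  gen : closure {g : X | ∃ φ ∈ A, ∃ x : X, g = x⁻¹ * φ x} = ⊤

theorem two_mul_card_le {H K : Subgroup X} (h : H < K) : 2 * Nat.card H ≤ Nat.card K := by
  obtain ⟨c, hc⟩ := card_dvd_of_le h.le
  have hH : 0 < Nat.card H := Nat.card_pos
  have hK : 0 < Nat.card K := Nat.card_pos
  have hne : c ≠ 1 := by
    rintro rfl
    exact h.ne (eq_of_le_of_card_ge h.le (by rw [hc, mul_one]))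
  have hc0 : c ≠ 0 := by rintro rfl; simp at hc; omega
  rw [hc, mul_comm]
  exact Nat.mul_le_mul le_rfl (by omega)

theorem comm_closure {S : Set X} (h : ∀ a ∈ S, ∀ b ∈ S, a * b = b * a) : Comm (closure S) := by
  have h1 : closure S ≤ centralizer S :=
    (closure_le _).mpr fun a ha => mem_centralizer_iff.mpr fun b hb => h b hb a ha
  intro a ha b hb
  have h2 : closure S ≤ centralizer ({a} : Set X) :=
    (closure_le _).mpr fun c hc => mem_centralizer_singleton_iff.mpr
      (mem_centralizer_iff.mp (h1 ha) c hc)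
  exact (mem_centralizer_singleton_iff.mp (h2 hb)).symm

theorem comm_center : Comm (center X) := fun a ha b _ => (mem_center_iff.mp ha b).symm

theorem center_ainv (A : Subgroup (MulAut X)) : AInv A (center X) := by
  intro φ _ m hm
  refine mem_center_iff.mpr fun g => ?_
  obtain ⟨g, rfl⟩ := φ.surjective g
  rw [← map_mul, mem_center_iff.mp hm g, map_mul]

/-- Right commutation with a fixed element, when the values are central. -/
def commHom (b : X) (h : ∀ a : X, ⁅a, b⁆ ∈ center X) : X →* ↥(center X) :=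
  MonoidHom.mk' (fun a => ⟨⁅a, b⁆, h a⟩) fun x y => Subtype.ext (by
    show ⁅x * y, b⁆ = ⁅x, b⁆ * ⁅y, b⁆
    calc ⁅x * y, b⁆ = x * ⁅y, b⁆ * x⁻¹ * ⁅x, b⁆ := by simp only [commutatorElement_def]; group
      _ = ⁅y, b⁆ * ⁅x, b⁆ := by rw [mem_center_iff.mp (h y) x, mul_inv_cancel_right]
      _ = ⁅x, b⁆ * ⁅y, b⁆ := (mem_center_iff.mp (h y) _).symm)

theorem cmul_left (h : ∀ a b : X, ⁅a, b⁆ ∈ center X) (x y b : X) :
    ⁅x * y, b⁆ = ⁅x, b⁆ * ⁅y, b⁆ :=
  congrArg Subtype.val ((commHom b fun a => h a b).map_mul x y)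

theorem cpow_left (h : ∀ a b : X, ⁅a, b⁆ ∈ center X) (x b : X) (n : ℕ) :
    ⁅x ^ n, b⁆ = ⁅x, b⁆ ^ n :=
  congrArg Subtype.val ((commHom b fun a => h a b).map_pow x n)

theorem cpow_right (h : ∀ a b : X, ⁅a, b⁆ ∈ center X) (x b : X) (n : ℕ) :
    ⁅x, b ^ n⁆ = ⁅x, b⁆ ^ n := by
  rw [← commutatorElement_inv (b ^ n) x, cpow_left h, ← inv_pow, commutatorElement_inv]

theorem cmul_right (h : ∀ a b : X, ⁅a, b⁆ ∈ center X) (x y b : X) :
    ⁅b, x * y⁆ = ⁅b, x⁆ * ⁅b, y⁆ := by
  rw [← commutatorElement_inv (x * y) b, cmul_left h, mul_inv_rev, commutatorElement_inv,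
    commutatorElement_inv]
  exact mem_center_iff.mp (h b x) _

namespace Hyp

variable {A : Subgroup (MulAut X)}

theorem hom_trivial (H : Hyp A) {K : Type*} [Group K] (f : X →* K)
    (hf : ∀ φ ∈ A, ∀ x, f (φ x) = f x) (x : X) : f x = 1 := by
  have h : (⊤ : Subgroup X) ≤ f.ker := by
    rw [← H.gen, closure_le]
    rintro g ⟨φ, hφ, y, rfl⟩
    simp [MonoidHom.mem_ker, hf φ hφ]
  exact MonoidHom.mem_ker.mp (h (mem_top x))

theorem odd_orderOf (H : Hyp A) {φ : MulAut X} (hφ : φ ∈ A) : Odd (orderOf φ) :=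
  H.odd.of_dvd_nat (Subgroup.orderOf_dvd_natCard A hφ)

theorem swap_fixed (H : Hyp A) {φ : MulAut X} (hφ : φ ∈ A) {a : X} (h : φ (φ a) = a) :
    φ a = a := by
  obtain ⟨k, hk⟩ := H.odd_orderOf hφ
  have h2 : ∀ n : ℕ, (φ ^ (2 * n)) a = a := by
    intro n
    induction n with
    | zero => simp
    | succ n ih =>
      rw [show 2 * (n + 1) = 2 * n + 2 by ring, pow_add, MulAut.mul_apply,
        show (φ ^ 2) a = a by rw [sq, MulAut.mul_apply, h], ih]
  have h3 : (φ ^ (2 * k + 1)) a = a := by rw [← hk, pow_orderOf_eq_one]; rfl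
  rwa [pow_succ', MulAut.mul_apply, h2] at h3

theorem eq_one_of_odd (H : Hyp A) {n : ℕ} (hn : Odd n) {a : X} (h : a ^ n = 1) : a = 1 := by
  obtain ⟨k, hk⟩ := H.pg a
  have hd := orderOf_dvd_of_pow_eq_one h
  obtain ⟨i, -, hi⟩ := (Nat.dvd_prime_pow Nat.prime_two).mp (orderOf_dvd_of_pow_eq_one hk)
  rw [hi] at hd
  rcases i with _ | i
  · exact orderOf_eq_one_iff.mp (by rw [hi, pow_zero])
  · exact absurd (dvd_trans (dvd_pow_self 2 (Nat.succ_ne_zero i)) hd)
      (fun h2 => (Nat.not_even_iff_odd.mpr hn) (even_iff_two_dvd.mpr h2))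

/-- An automorphism group of odd order fixing all involutions of an abelian group fixes it. -/
theorem fix_of_fix_omega (H : Hyp A) {M : Subgroup X} (hM : Comm M) (hMA : AInv A M)
    {φ : MulAut X} (hφ : φ ∈ A) (h : ∀ e ∈ M, e * e = 1 → φ e = e) :
    ∀ m ∈ M, φ m = m := by
  have key : ∀ n : ℕ, ∀ m ∈ M, m ^ 2 ^ n = 1 → φ m = m := by
    intro n
    induction n with
    | zero => intro m _ hm; simp at hm; simp [hm]
    | succ n ih =>
      intro m hm hn
      have h1 : φ (m ^ 2) = m ^ 2 :=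
        ih _ (M.pow_mem hm 2) (by rw [← pow_mul, ← pow_succ']; exact hn)
      set d := m⁻¹ * φ m with hd
      have hdM : d ∈ M := M.mul_mem (M.inv_mem hm) (hMA φ hφ m hm)
      have hd2 : d * d = 1 := by
        have hc : Commute m⁻¹ (φ m) := hM _ (M.inv_mem hm) _ (hMA φ hφ m hm)
        rw [hd, ← sq, hc.mul_pow, ← map_pow, h1, inv_pow, inv_mul_cancel]
      have hdf : φ d = d := h d hdM hd2
      have hstep : ∀ j : ℕ, (φ ^ j) m = m * d ^ j := by
        intro j
        induction j with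
        | zero => simp
        | succ j ihj =>
          rw [pow_succ', MulAut.mul_apply, ihj, map_mul, map_pow, hdf,
            show φ m = m * d by rw [hd, mul_inv_cancel_left], pow_succ', mul_assoc]
      have h3 := hstep (orderOf φ)
      rw [pow_orderOf_eq_one, MulAut.one_apply, eq_comm, mul_eq_left] at h3
      have := H.eq_one_of_odd (H.odd_orderOf hφ) h3
      rw [hd, inv_mul_eq_one] at this
      exact this.symm
  intro m hm
  obtain ⟨n, hn⟩ := H.pg m
  exact key n m hm hn

/-- A moved involution of a normal abelian invariant subgroup gives a regular triple. -/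
theorem triple (H : Hyp A) {W : Subgroup X} (hWn : W.Normal) (hW : Comm W) (hWA : AInv A W)
    {φ : MulAut X} (hφ : φ ∈ A) {e : X} (he : e ∈ omega W hW) (hne : φ e ≠ e) :
    e ≠ 1 ∧ φ (φ (φ e)) = e ∧ e * φ e = φ (φ e) ∧
      (∀ a ∈ omega W hW, a = 1 ∨ a = e ∨ a = φ e ∨ a = φ (φ e)) ∧
      (∀ a ∈ omega W hW, φ a = a → a = 1) ∧ Nat.card (omega W hW) = 4 := by
  set E := omega W hW
  have hmem : ∀ a ∈ E, φ a ∈ E := fun a ha =>
    ⟨hWA φ hφ a ha.1, by rw [← map_mul, ha.2, map_one]⟩
  have he1 : e ≠ 1 := fun h => hne (by rw [h, map_one])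
  have h2 : φ (φ e) ≠ e := fun h => hne (H.swap_fixed hφ h)
  have hfe : φ e ≠ 1 := fun h => he1 (φ.injective (h.trans (map_one φ).symm))
  have hffe : φ (φ e) ≠ 1 := fun h => hfe (φ.injective (h.trans (map_one φ).symm))
  have h12 : φ (φ e) ≠ φ e := fun h => hne (φ.injective h)
  let S : Finset X := {1, e, φ e, φ (φ e)}
  have hS : S.card = 4 := by
    simp [S, he1, hfe, hffe, hne, h2, h12, Ne.symm he1, Ne.symm hfe, Ne.symm hffe, Ne.symm hne,
      Ne.symm h2, Ne.symm h12]
  have hSE : ∀ a ∈ S, a ∈ E := by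
    intro a ha
    simp [S] at ha
    rcases ha with rfl | rfl | rfl | rfl
    exacts [E.one_mem, he, hmem _ he, hmem _ (hmem _ he)]
  haveI := Fintype.ofFinite X
  have hcard : Nat.card E ≤ 4 := H.small W hWn hW
  have hEF : Nat.card E = (Finset.univ.filter fun a : X => a ∈ E).card := by
    rw [Nat.card_eq_fintype_card, Fintype.card_subtype]
  have heq : S = Finset.univ.filter fun a : X => a ∈ E :=
    Finset.eq_of_subset_of_card_le (fun a ha => by simp [hSE a ha]) (by rw [← hEF, hS]; exact hcard)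
  have hall : ∀ a ∈ E, a = 1 ∨ a = e ∨ a = φ e ∨ a = φ (φ e) := fun a ha => by
    have : a ∈ S := by rw [heq]; simp [ha]
    simpa [S] using this
  have hmul : e * φ e = φ (φ e) := by
    rcases hall _ (E.mul_mem he (hmem _ he)) with h | h | h | h
    · exact absurd (mul_left_cancel (h.trans he.2.symm)) hne
    · exact absurd (mul_eq_left.mp h) hfe
    · exact absurd (mul_eq_right.mp h) he1
    · exact h
  have h3 : φ (φ (φ e)) = e := by
    rcases hall _ (hmem _ (hmem _ (hmem _ he))) with h | h | h | h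
    · exact absurd (φ.injective (h.trans (map_one φ).symm)) hffe
    · exact h
    · exact absurd (φ.injective h) h2
    · exact absurd (φ.injective h) h12
  refine ⟨he1, h3, hmul, hall, fun a ha hfix => ?_, by rw [hEF, ← heq, hS]⟩
  rcases hall a ha with rfl | rfl | rfl | rfl
  · rfl
  · exact absurd hfix hne
  · exact absurd hfix h12
  · rw [h3] at hfix; exact absurd hfix.symm h2

end Hyp

/-- A symmetric alternating pairing on at most four cosets takes at most one nontrivial value. -/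
theorem one_value {K : Subgroup X} [K.Normal] (hK : Nat.card (X ⧸ K) ≤ 4) (c : X → X → X)
    (hadd : ∀ x y z, c (x * y) z = c x z * c y z) (hsymm : ∀ x y, c x y = c y x)
    (hself : ∀ x, c x x = 1) (hker : ∀ k ∈ K, ∀ z, c k z = 1) {u v : X} (huv : c u v ≠ 1)
    (x y : X) : c x y = 1 ∨ c x y = c u v := by
  haveI := Fintype.ofFinite (X ⧸ K)
  have hcong : ∀ a b : X, (a : X ⧸ K) = (b : X ⧸ K) → ∀ z, c b z = c a z := fun a b h z => by
    have := hker _ (QuotientGroup.eq.mp h) z
    rw [show b = a * (a⁻¹ * b) by group, hadd, this, mul_one]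
  have h1z : ∀ z, c 1 z = 1 := fun z => hker 1 K.one_mem z
  have huvv : c (u * v) v = c u v := by rw [hadd, hself, mul_one]
  have a1 : ((1 : X) : X ⧸ K) ≠ u := fun h => huv (by rw [hcong _ _ h, h1z])
  have a2 : ((1 : X) : X ⧸ K) ≠ v := fun h => huv (by rw [hsymm, hcong _ _ h, h1z])
  have a3 : ((1 : X) : X ⧸ K) ≠ (u * v : X) := fun h => huv (by rw [← huvv, hcong _ _ h, h1z])
  have a4 : (u : X ⧸ K) ≠ v := fun h => huv (by rw [hsymm, hcong _ _ h, hself])
  have a5 : (u : X ⧸ K) ≠ (u * v : X) := fun h => a2 (by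
    simp only [QuotientGroup.mk_mul] at h ⊢
    rw [left_eq_mul] at h
    rw [h, QuotientGroup.mk_one])
  have a6 : (v : X ⧸ K) ≠ (u * v : X) := fun h => a1 (by
    simp only [QuotientGroup.mk_mul] at h ⊢
    rw [right_eq_mul] at h
    rw [h, QuotientGroup.mk_one])
  let S : Finset (X ⧸ K) := {((1 : X) : X ⧸ K), (u : X ⧸ K), (v : X ⧸ K), ((u * v : X) : X ⧸ K)}
  have hcard : S.card = 4 := by
    simp only [S]
    rw [Finset.card_insert_of_notMem (by simp [-QuotientGroup.mk_mul, -QuotientGroup.mk_one, a1, a2, a3]),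
      Finset.card_insert_of_notMem (by simp [-QuotientGroup.mk_mul, a4, a5]), Finset.card_pair a6]
  have hS : S = Finset.univ :=
    Finset.eq_univ_of_card _ (le_antisymm (Finset.card_le_univ _)
      (by rw [hcard, ← Nat.card_eq_fintype_card]; exact hK))
  have rep : ∀ a : X, ∃ r, (r = 1 ∨ r = u ∨ r = v ∨ r = u * v) ∧ ∀ z, c a z = c r z := fun a => by
    have hx : (a : X ⧸ K) ∈ S := hS ▸ Finset.mem_univ _
    simp only [S, Finset.mem_insert, Finset.mem_singleton] at hx
    rcases hx with h | h | h | h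
    exacts [⟨_, Or.inl rfl, hcong _ _ h.symm⟩, ⟨_, Or.inr (Or.inl rfl), hcong _ _ h.symm⟩,
      ⟨_, Or.inr (Or.inr (Or.inl rfl)), hcong _ _ h.symm⟩,
      ⟨_, Or.inr (Or.inr (Or.inr rfl)), hcong _ _ h.symm⟩]
  obtain ⟨r, hr, hxr⟩ := rep x
  obtain ⟨s, hs, hys⟩ := rep y
  rw [hxr, hsymm, hys, hsymm]
  have huu : c u (u * v) = c u v := by rw [hsymm, hadd, hself, one_mul, hsymm]
  have hvv : c v (u * v) = c u v := by rw [hsymm, huvv]
  have hz1 : ∀ z, c z 1 = 1 := fun z => by rw [hsymm, h1z]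
  rcases hr with hr | hr | hr | hr <;> rcases hs with hs | hs | hs | hs <;> rw [hr, hs] <;>
    simp [h1z, hz1, hself, huvv, huu, hvv, hsymm v u, hsymm (u * v) u, hsymm (u * v) v]

end Cfsg.Agent.NoSCNOdd
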