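import Cfsg.Agent.Lib.FGB.NoSCNOdd

/-!
# Class two
-/

set_option autoImplicit false
set_option linter.style.haveILetI false
set_option linter.unusedSectionVars false
set_option linter.unusedVariables false

namespace Cfsg.Agent.NoSCNOdd

open Subgroup
open scoped commutatorElement Classical

universe u

variable {X : Type u} [Group X] [Finite X] {A : Subgroup (MulAut X)}

theorem normal_of_commutators {M : Subgroup X} (h : ∀ a b : X, ⁅a, b⁆ ∈ M) : M.Normal :=
  ⟨fun m hm g => by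
    rw [show g * m * g⁻¹ = ⁅g, m⁆ * m by rw [commutatorElement_def]; group]
    exact M.mul_mem (h g m) hm⟩

theorem conj_comm {W : Subgroup X} (hWn : W.Normal) (x : X) {w : X} (hw : w ∈ W) : ⁅x, w⁆ ∈ W :=
  W.mul_mem (hWn.conj_mem w hw x) (W.inv_mem hw)

theorem bracket_mul {W : Subgroup X} (hWn : W.Normal) (hW : Comm W) (x : X) {a b : X}
    (ha : a ∈ W) (hb : b ∈ W) : ⁅x, a * b⁆ = ⁅x, a⁆ * ⁅x, b⁆ := by
  have h : a * ⁅x, b⁆ = ⁅x, b⁆ * a := hW a ha _ (conj_comm hWn x hb)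
  calc ⁅x, a * b⁆ = ⁅x, a⁆ * (a * ⁅x, b⁆ * a⁻¹) := by simp only [commutatorElement_def]; group
    _ = ⁅x, a⁆ * ⁅x, b⁆ := by rw [h, mul_inv_cancel_right]

theorem bracket_pow {W : Subgroup X} (hWn : W.Normal) (hW : Comm W) (x : X) {a : X}
    (ha : a ∈ W) (n : ℕ) : ⁅x, a ^ n⁆ = ⁅x, a⁆ ^ n := by
  induction n with
  | zero => simp
  | succ n ih => rw [pow_succ, bracket_mul hWn hW x (W.pow_mem ha n) ha, ih, pow_succ]

theorem bracket_mul_left (x y w : X) : ⁅x * y, w⁆ = ⁅x, ⁅y, w⁆⁆ * ⁅y, w⁆ * ⁅x, w⁆ := by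
  simp only [commutatorElement_def]; group

namespace Hyp

/-- Commutators central and of square one: the case in which invariant normal abelian subgroups
are central. -/
theorem classTwo_central (H : Hyp A)
    (hc : ∀ M : Subgroup X, M.Normal → Comm M → AInv A M → M ≤ center X) :
    ∀ a b : X, ⁅a, b⁆ ∈ center X ∧ ⁅a, b⁆ * ⁅a, b⁆ = 1 := by
  have h1 : ∀ a b : X, ⁅a, b⁆ ∈ center X := by
    by_contra hne
    push Not at hne
    obtain ⟨a₀, b₀, hab⟩ := hne
    set q := QuotientGroup.mk' (center X) with hq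
    have hN : ((_root_.commutator X).map q).Normal :=
      Normal.map inferInstance q (QuotientGroup.mk'_surjective _)
    have hcom : ∀ a b : X, ⁅a, b⁆ ∈ _root_.commutator X := fun a b =>
      commutator_mem_commutator (mem_top a) (mem_top b)
    obtain ⟨c, hc', hcc, hc1⟩ := OddLocal.exists_mem_center_ne_one_of_normal
      (H.pg.to_quotient (center X)) ((_root_.commutator X).map q) (by
        rw [Ne, Subgroup.map_eq_bot_iff, hq, QuotientGroup.ker_mk']
        exact fun h => hab (h (hcom _ _)))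
    obtain ⟨m, hm, rfl⟩ := hc'
    set M := _root_.commutator X ⊓ (center (X ⧸ center X)).comap q with hM
    have hbr : ∀ u ∈ M, ∀ x : X, ⁅x, u⁆ ∈ center X := by
      intro u hu x
      rw [← QuotientGroup.eq_one_iff]
      show q ⁅x, u⁆ = 1
      rw [map_commutatorElement, commutatorElement_eq_one_iff_mul_comm]
      exact mem_center_iff.mp (mem_comap.mp hu.2) (q x)
    have hMc : Comm M := by
      intro u hu v hv
      have hk : _root_.commutator X ≤ (commHom v (hbr v hv)).ker := by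
        rw [_root_.commutator, commutator_le]
        intro a _ b _
        rw [MonoidHom.mem_ker, map_commutatorElement, commutatorElement_eq_one_iff_mul_comm]
        exact Subtype.ext (mem_center_iff.mp ((commHom v (hbr v hv)) b).2 _)
      exact commutatorElement_eq_one_iff_mul_comm.mp
        (congrArg Subtype.val (MonoidHom.mem_ker.mp (hk hu.1)))
    have hMA : AInv A M := by
      intro φ hφ u hu
      refine ⟨?_, mem_comap.mpr (mem_center_iff.mpr fun g => ?_)⟩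
      · have : (_root_.commutator X).map (φ : X ≃* X).toMonoidHom ≤ _root_.commutator X := by
          rw [_root_.commutator, map_commutator]
          exact commutator_mono le_top le_top
        exact this ⟨u, hu.1, rfl⟩
      · obtain ⟨x, rfl⟩ := QuotientGroup.mk'_surjective (center X) g
        obtain ⟨x, rfl⟩ := φ.surjective x
        rw [← commutatorElement_eq_one_iff_mul_comm, ← map_commutatorElement,
          QuotientGroup.mk'_apply, QuotientGroup.eq_one_iff, ← map_commutatorElement]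
        exact center_ainv A φ hφ _ (hbr u hu x)
    exact hc1 ((QuotientGroup.eq_one_iff m).mpr
      (hc M inferInstance hMc hMA ⟨hm, mem_comap.mpr hcc⟩))
  refine fun a b => ⟨h1 a b, ?_⟩
  have hex : ∃ n : ℕ, ∀ a b : X, ⁅a, b⁆ ^ 2 ^ n = 1 := by
    obtain ⟨n, hn⟩ := IsPGroup.iff_card.mp H.pg
    exact ⟨n, fun a b => by rw [← hn]; exact pow_card_eq_one'⟩
  have hn := Nat.find_spec hex
  by_cases h2 : Nat.find hex ≤ 1
  · rw [← sq, ← pow_one 2]
    have h3 := hn a b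
    rcases Nat.le_one_iff_eq_zero_or_eq_one.mp h2 with h | h <;> rw [h] at h3
    · rw [pow_zero, pow_one] at h3; simp [h3]
    · exact h3
  exfalso
  obtain ⟨m, hm⟩ : ∃ m, Nat.find hex = m + 2 := ⟨Nat.find hex - 2, by omega⟩
  set k := 2 ^ (m + 1) with hk
  set M := closure (Set.range fun x : X => x ^ k) with hMdef
  have hMc : Comm M := comm_closure (by
    rintro _ ⟨x, rfl⟩ _ ⟨y, rfl⟩
    rw [← commutatorElement_eq_one_iff_mul_comm, cpow_left h1, cpow_right h1, ← pow_mul, hk,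
      show 2 ^ (m + 1) * 2 ^ (m + 1) = 2 ^ Nat.find hex * 2 ^ m by rw [hm]; ring, pow_mul, hn x y,
      one_pow])
  have hMn : M.Normal := by
    refine ⟨fun u hu g => ?_⟩
    have : M.map (MulAut.conj g).toMonoidHom ≤ M := by
      rw [hMdef, MonoidHom.map_closure]
      refine closure_mono ?_
      rintro _ ⟨_, ⟨x, rfl⟩, rfl⟩
      exact ⟨(MulAut.conj g).toMonoidHom x, (map_pow _ _ _).symm⟩
    exact this ⟨u, hu, rfl⟩
  have hMA : AInv A M := by
    intro φ hφ u hu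
    have : M.map (φ : X ≃* X).toMonoidHom ≤ M := by
      rw [hMdef, MonoidHom.map_closure]
      refine closure_mono ?_
      rintro _ ⟨_, ⟨x, rfl⟩, rfl⟩
      exact ⟨φ x, (map_pow _ _ _).symm⟩
    exact this ⟨u, hu, rfl⟩
  have hzero : ∀ a b : X, ⁅a, b⁆ ^ 2 ^ (m + 1) = 1 := fun a b => by
    rw [← hk, ← cpow_left h1, commutatorElement_eq_one_iff_mul_comm]
    exact (mem_center_iff.mp (hc M hMn hMc hMA (subset_closure ⟨a, rfl⟩)) b).symm
  exact Nat.find_min hex (by omega : m + 1 < Nat.find hex) hzero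

set_option maxHeartbeats 2000000 in
/-- Commutators central and of square one: the case of a noncentral invariant normal abelian
subgroup. -/
theorem classTwo_noncentral (H : Hyp A) {W : Subgroup X} (hWn : W.Normal) (hW : Comm W)
    (hWA : AInv A W) (hnc : ¬ W ≤ center X)
    (hmax : ∀ M : Subgroup X, M.Normal → Comm M → AInv A M → W ≤ M → M ≤ W) :
    ∀ a b : X, ⁅a, b⁆ ∈ center X ∧ ⁅a, b⁆ * ⁅a, b⁆ = 1 := by
  haveI := hWn
  set E := omega W hW with hE
  -- an automorphism moving an involution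
  obtain ⟨θ, hθ, e₀, he₀, hne₀⟩ : ∃ θ ∈ A, ∃ e ∈ E, θ e ≠ e := by
    by_contra hh
    push Not at hh
    refine hnc fun w hw => mem_center_iff.mpr fun g => ?_
    have hfix : ∀ φ ∈ A, ∀ m ∈ W, φ m = m := fun φ hφ =>
      H.fix_of_fix_omega hW hWA hφ fun e he he2 => hh φ hφ e ⟨he, he2⟩
    have htop : (⊤ : Subgroup X) ≤ centralizer ({w} : Set X) := by
      rw [← H.gen, closure_le]
      rintro _ ⟨φ, hφ, x, rfl⟩
      rw [SetLike.mem_coe, mem_centralizer_singleton_iff]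
      have h1 : φ x * w * (φ x)⁻¹ = x * w * x⁻¹ := by
        conv_lhs => rw [← hfix φ hφ w hw]
        rw [← map_inv, ← map_mul, ← map_mul]
        exact hfix φ hφ _ (hWn.conj_mem w hw x)
      calc x⁻¹ * φ x * w = x⁻¹ * (φ x * w * (φ x)⁻¹) * φ x := by group
        _ = x⁻¹ * (x * w * x⁻¹) * φ x := by rw [h1]
        _ = w * (x⁻¹ * φ x) := by group
    exact mem_centralizer_singleton_iff.mp (htop (mem_top g))
  obtain ⟨he1, h3, -, hall, hfpf, hcard⟩ := H.triple hWn hW hWA hθ he₀ hne₀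
  have hEθ : ∀ e ∈ E, θ e ∈ E := fun e he =>
    ⟨hWA θ hθ e he.1, by rw [← map_mul, he.2, map_one]⟩
  have hθ3 : ∀ e ∈ E, θ (θ (θ e)) = e := by
    intro e he
    rcases hall e he with rfl | rfl | rfl | rfl
    · simp
    · exact h3
    · rw [h3]
    · rw [h3]
  have hsum : ∀ e ∈ E, e * θ e = θ (θ e) := by
    intro e he
    by_cases hfe : θ e = e
    · rw [hfpf e he hfe]; simp
    · exact (H.triple hWn hW hWA hθ he hfe).2.2.1
  have hcommE : ∀ a ∈ E, ∀ b ∈ E, a * b = b * a := fun a ha b hb => hW a ha.1 b hb.1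
  have hrep : ∀ φ ∈ A, (∀ e ∈ E, φ e = e) ∨ (∀ e ∈ E, φ e = θ e) ∨
      (∀ e ∈ E, φ e = θ (θ e)) := by
    intro φ hφ
    have hφE : ∀ e ∈ E, φ e ∈ E := fun e he =>
      ⟨hWA φ hφ e he.1, by rw [← map_mul, he.2, map_one]⟩
    have key : ∀ ψ ∈ A, ψ e₀ = e₀ → ∀ e ∈ E, ψ e = e := by
      intro ψ hψ hfix e he
      by_contra hne
      exact he1 ((H.triple hWn hW hWA hψ he hne).2.2.2.2.1 e₀ he₀ hfix)
    rcases hall _ (hφE e₀ he₀) with h | h | h | h
    · exact absurd (φ.injective (h.trans (map_one φ).symm)) he1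
    · exact Or.inl (key φ hφ h)
    · refine Or.inr (Or.inl fun e he => ?_)
      have := key (θ * (θ * φ)) (A.mul_mem hθ (A.mul_mem hθ hφ))
        (by rw [MulAut.mul_apply, MulAut.mul_apply, h, h3]) e he
      rw [MulAut.mul_apply, MulAut.mul_apply] at this
      have h4 := congrArg θ this
      rwa [hθ3 _ (hφE e he)] at h4
    · refine Or.inr (Or.inr fun e he => ?_)
      have := key (θ * φ) (A.mul_mem hθ hφ) (by rw [MulAut.mul_apply, h, h3]) e he
      rw [MulAut.mul_apply] at this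
      have h4 : θ (θ (θ (φ e))) = θ (θ e) := congrArg (fun z => θ (θ z)) this
      rwa [hθ3 _ (hφE e he)] at h4
  have hEn : E.Normal := ⟨fun e he g => ⟨hWn.conj_mem e he.1 g, by
    rw [show g * e * g⁻¹ * (g * e * g⁻¹) = g * (e * e) * g⁻¹ by group, he.2]; group⟩⟩
  have hEZ : E ≤ center X := by
    haveI := hEn
    obtain ⟨z, hzE, hzZ, hz1⟩ := OddLocal.exists_mem_center_ne_one_of_normal H.pg E
      (fun h => he1 (by rw [h] at he₀; exact mem_bot.mp he₀))
    have hθz : θ z ≠ z := fun h => hz1 (hfpf z hzE h)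
    intro e he
    rcases (H.triple hWn hW hWA hθ hzE hθz).2.2.2.1 e he with rfl | rfl | rfl | rfl
    exacts [one_mem _, hzZ, center_ainv A θ hθ _ hzZ,
      center_ainv A θ hθ _ (center_ainv A θ hθ _ hzZ)]
  have hEc : ∀ e ∈ E, ∀ x : X, ⁅x, e⁆ = 1 := fun e he x =>
    commutatorElement_eq_one_iff_mul_comm.mpr (mem_center_iff.mp (hEZ he) x)
  -- exponent
  have hex : ∃ n : ℕ, ∀ w ∈ W, w ^ 2 ^ n = 1 := by
    obtain ⟨n, hn⟩ := IsPGroup.iff_card.mp H.pg
    exact ⟨n, fun w _ => by rw [← hn]; exact pow_card_eq_one'⟩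
  obtain ⟨r, hr⟩ : ∃ r, r = Nat.find hex := ⟨_, rfl⟩
  have hexp : ∀ w ∈ W, w ^ 2 ^ r = 1 := hr ▸ Nat.find_spec hex
  have hr2 : 2 ≤ r := by
    by_contra hlt
    refine hnc fun w hw => hEZ ⟨hw, ?_⟩
    have h := hexp w hw
    rcases (by omega : r = 0 ∨ r = 1) with h' | h' <;> rw [h'] at h
    · rw [pow_zero, pow_one] at h; simp [h]
    · rw [pow_one, sq] at h; exact h
  obtain ⟨t, ht⟩ : ∃ t, r = t + 2 := ⟨r - 2, by omega⟩
  have htopE : ∀ w ∈ W, w ^ 2 ^ (t + 1) ∈ E := fun w hw => ⟨W.pow_mem hw _, by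
    rw [← pow_add, ← two_mul, ← pow_succ', ← ht]; exact hexp w hw⟩
  have hWabel : IsMulCommutative W := ⟨⟨fun a b => Subtype.ext (hW _ a.2 _ b.2)⟩⟩
  have hsurj : ∀ e ∈ E, ∃ v ∈ W, v ^ 2 ^ (t + 1) = e := by
    obtain ⟨w₁, hw₁, hne⟩ : ∃ w ∈ W, w ^ 2 ^ (t + 1) ≠ 1 := by
      by_contra hh
      push Not at hh
      exact Nat.find_min hex (by omega : t + 1 < Nat.find hex) hh
    have hfix : θ (w₁ ^ 2 ^ (t + 1)) ≠ w₁ ^ 2 ^ (t + 1) := fun h =>
      hne (hfpf _ (htopE _ hw₁) h)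
    intro e he
    rcases (H.triple hWn hW hWA hθ (htopE _ hw₁) hfix).2.2.2.1 e he with rfl | rfl | rfl | rfl
    exacts [⟨1, W.one_mem, one_pow _⟩, ⟨w₁, hw₁, rfl⟩, ⟨θ w₁, hWA θ hθ _ hw₁, (map_pow θ _ _).symm⟩,
      ⟨θ (θ w₁), hWA θ hθ _ (hWA θ hθ _ hw₁), by rw [map_pow, map_pow]⟩]
  have hsq : ∀ w ∈ W, w ^ 2 ^ (t + 1) = 1 → ∃ v ∈ W, v * v = w := by
    letI : CommGroup ↥W :=
      { (inferInstance : Group ↥W) with mul_comm := fun a b => Subtype.ext (hW _ a.2 _ b.2) }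
    let top : ↥W →* ↥W := powMonoidHom (2 ^ (t + 1))
    let s : ↥W →* ↥W := powMonoidHom 2
    have hle : s.range ≤ top.ker := by
      rintro _ ⟨a, rfl⟩
      rw [MonoidHom.mem_ker]
      refine Subtype.ext ?_
      show ((a : X) ^ 2) ^ 2 ^ (t + 1) = 1
      rw [← pow_mul, ← pow_succ', ← ht]; exact hexp _ a.2
    have hk : Nat.card s.ker = 4 := by
      rw [← hcard]
      exact Nat.card_congr
        { toFun := fun a => ⟨(a.1 : X), a.1.2, (sq _).symm.trans (congrArg Subtype.val a.2)⟩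
          invFun := fun e => ⟨⟨(e : X), e.2.1⟩, Subtype.ext ((sq _).trans e.2.2)⟩
          left_inv := fun _ => rfl
          right_inv := fun _ => rfl }
    have htr : Nat.card top.range = 4 := by
      rw [← hcard]
      refine Nat.card_congr (Equiv.ofBijective
        (fun a => (⟨((a : ↥W) : X), by obtain ⟨_, b, rfl⟩ := a; exact htopE _ b.2⟩ : ↥E))
        ⟨fun a b hab => Subtype.ext (Subtype.ext (congrArg (fun z : ↥E => (z : X)) hab)), fun e => ?_⟩)
      obtain ⟨v, hv, hve⟩ := hsurj e e.2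
      exact ⟨⟨⟨(e : X), e.2.1⟩, ⟨v, hv⟩, Subtype.ext hve⟩, rfl⟩
    have heq : s.range = top.ker := by
      refine eq_of_le_of_card_ge hle (le_of_eq ?_)
      have a1 := s.ker.card_mul_index
      rw [Subgroup.index_ker, hk] at a1
      have a2 := top.ker.card_mul_index
      rw [Subgroup.index_ker, htr] at a2
      omega
    intro w hw h
    have hmem : (⟨w, hw⟩ : ↥W) ∈ s.range := by
      rw [heq, MonoidHom.mem_ker]; exact Subtype.ext h
    obtain ⟨v, hv⟩ := hmem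
    exact ⟨v, v.2, (sq _).symm.trans (congrArg Subtype.val hv)⟩
  have hnoinv : ∀ s : X, s * s = 1 → (∀ x : X, ⁅x, s⁆ ∈ E) → s ∈ E := by
    intro s hs hx
    by_contra hns
    set M := closure ((E : Set X) ∪ {s}) with hM
    have hEM : ∀ e ∈ E, e ∈ M := fun e he => subset_closure (Or.inl he)
    have hsM : s ∈ M := subset_closure (Or.inr rfl)
    have hMc : Comm M := comm_closure (by
      rintro a (ha | rfl) b (hb | rfl)
      · exact hcommE a ha b hb
      · exact (mem_center_iff.mp (hEZ ha) _).symm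
      · exact mem_center_iff.mp (hEZ hb) _
      · rfl)
    have hMn : M.Normal := by
      refine ⟨fun m hm g => ?_⟩
      have : M.map (MulAut.conj g).toMonoidHom ≤ M := by
        rw [hM, MonoidHom.map_closure, closure_le]
        rintro _ ⟨a, ha, rfl⟩
        show g * a * g⁻¹ ∈ M
        rw [show g * a * g⁻¹ = ⁅g, a⁆ * a by rw [commutatorElement_def]; group]
        rcases ha with ha | rfl
        · rw [hEc a ha g, one_mul]; exact hEM a ha
        · exact M.mul_mem (hEM _ (hx g)) hsM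
      exact this ⟨m, hm, rfl⟩
    have hlt : E < omega M hMc :=
      lt_of_le_of_ne (fun e he => ⟨hEM e he, he.2⟩) fun h => hns (h ▸ ⟨hsM, hs⟩)
    have h1 := two_mul_card_le hlt
    have h2 := H.small M hMn hMc
    rw [hcard] at h1
    omega
  -- self-centralisation
  have hself : centralizer (W : Set X) ≤ W := by
    by_contra hnot
    set q := QuotientGroup.mk' W with hq
    set C := centralizer (W : Set X) with hC
    have hNn : (C.map q).Normal := Normal.map inferInstance q (QuotientGroup.mk'_surjective _)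
    obtain ⟨c, hc', hcc, hc1⟩ := OddLocal.exists_mem_center_ne_one_of_normal (H.pg.to_quotient W)
      (C.map q) (by rw [Ne, Subgroup.map_eq_bot_iff, hq, QuotientGroup.ker_mk']; exact hnot)
    have hexU : ∃ u : X, u ∈ C ∧ u ∉ W ∧ (∀ x : X, ⁅x, u⁆ ∈ W) ∧ u * u ∈ W := by
      obtain ⟨k, hk⟩ := (H.pg.to_quotient W) c
      have hexn : ∃ n : ℕ, c ^ 2 ^ n = 1 := ⟨k, hk⟩
      have hn0 : Nat.find hexn ≠ 0 := fun h => hc1 (by simpa [h] using Nat.find_spec hexn)
      obtain ⟨n, hn⟩ := Nat.exists_eq_succ_of_ne_zero hn0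
      have hne : c ^ 2 ^ n ≠ 1 := Nat.find_min hexn (by omega)
      obtain ⟨u, hu, hue⟩ := (C.map q).pow_mem hc' (2 ^ n)
      refine ⟨u, hu, fun h => hne (hue ▸ (QuotientGroup.eq_one_iff u).mpr h), fun x => ?_, ?_⟩
      · rw [← QuotientGroup.eq_one_iff]
        show q ⁅x, u⁆ = 1
        rw [map_commutatorElement, commutatorElement_eq_one_iff_mul_comm, hue]
        exact mem_center_iff.mp ((center (X ⧸ W)).pow_mem hcc _) _
      · rw [← QuotientGroup.eq_one_iff]
        show q (u * u) = 1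
        rw [map_mul, hue, ← pow_add, ← two_mul, ← pow_succ']
        have := Nat.find_spec hexn
        rwa [hn] at this
    set S : Set X := {u | u ∈ C ∧ (∀ x : X, ⁅x, u⁆ ∈ W) ∧ u * u ∈ W} with hS
    obtain ⟨u₁, hu₁C, hu₁W, hu₁x, hu₁s⟩ := hexU
    have hWS : ∀ w ∈ W, w ∈ S := fun w hw =>
      ⟨mem_centralizer_iff.mpr fun v hv => hW v hv w hw, fun x => conj_comm hWn x hw, W.mul_mem hw hw⟩
    have hbr : ∀ u ∈ S, ∀ v ∈ S, ⁅u, v⁆ ∈ E := by
      rintro u ⟨huC, hux, hus⟩ v ⟨hvC, hvx, hvs⟩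
      refine ⟨hvx u, ?_⟩
      have hc : u * ⁅u, v⁆ = ⁅u, v⁆ * u := ((mem_centralizer_iff.mp huC) _ (hvx u)).symm
      have h : ⁅u * u, v⁆ = 1 :=
        commutatorElement_eq_one_iff_mul_comm.mpr ((mem_centralizer_iff.mp hvC) _ hus)
      rw [bracket_mul_left, commutatorElement_eq_one_iff_mul_comm.mpr hc, one_mul] at h
      exact h
    have hmulS : ∀ u ∈ S, ∀ v ∈ S, u * v ∈ S := by
      rintro u ⟨huC, hux, hus⟩ v ⟨hvC, hvx, hvs⟩
      refine ⟨C.mul_mem huC hvC, fun x => ?_, ?_⟩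
      · rw [show ⁅x, u * v⁆ = ⁅x, u⁆ * (u * ⁅x, v⁆ * u⁻¹) by simp only [commutatorElement_def]; group]
        exact W.mul_mem (hux x) (hWn.conj_mem _ (hvx x) u)
      · have he := hbr v ⟨hvC, hvx, hvs⟩ u ⟨huC, hux, hus⟩
        rw [show u * v * (u * v) = u * (⁅v, u⁆ * u) * (v * v) by
          simp only [commutatorElement_def]; group]
        rw [← mem_center_iff.mp (hEZ he) u,
          show u * (u * ⁅v, u⁆) * (v * v) = (u * u) * ⁅v, u⁆ * (v * v) by group]
        refine W.mul_mem (W.mul_mem hus he.1) hvs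
    let U : Subgroup X :=
      { carrier := S
        one_mem' := hWS 1 W.one_mem
        mul_mem' := fun {a b} ha hb => hmulS a ha b hb
        inv_mem' := fun {a} ha => by
          obtain ⟨haC, hax, has⟩ := ha
          refine ⟨C.inv_mem haC, fun x => ?_, ?_⟩
          · rw [show ⁅x, a⁻¹⁆ = a⁻¹ * (⁅x, a⁆)⁻¹ * a⁻¹⁻¹ by simp only [commutatorElement_def]; group]
            exact hWn.conj_mem _ (W.inv_mem (hax x)) a⁻¹
          · rw [← mul_inv_rev]; exact W.inv_mem has }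
    have hUn : U.Normal := ⟨fun u hu g => by
      rw [show g * u * g⁻¹ = ⁅g, u⁆ * u by rw [commutatorElement_def]; group]
      exact U.mul_mem (hWS _ (hu.2.1 g)) hu⟩
    have hUA : AInv A U := by
      intro φ hφ u hu
      refine ⟨mem_centralizer_iff.mpr fun w hw => ?_, fun x => ?_, ?_⟩
      · have hw' : φ.symm w ∈ W := by
          have : (φ⁻¹ : MulAut X) w ∈ W := hWA φ⁻¹ (A.inv_mem hφ) w hw
          exact this
        have h := congrArg φ (mem_centralizer_iff.mp hu.1 _ hw')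
        rwa [map_mul, map_mul, MulEquiv.apply_symm_apply] at h
      · obtain ⟨x, rfl⟩ := φ.surjective x
        rw [← map_commutatorElement]; exact hWA φ hφ _ (hu.2.1 x)
      · rw [← map_mul]; exact hWA φ hφ _ hu.2.2
    have hUc : Comm U := by
      by_contra hnc'
      obtain ⟨u, hu, v, hv, huv⟩ : ∃ u ∈ U, ∃ v ∈ U, ⁅u, v⁆ ≠ 1 := by
        by_contra hh
        push Not at hh
        exact hnc' fun a ha b hb => commutatorElement_eq_one_iff_mul_comm.mp (hh a ha b hb)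
      -- cosets of `W` in `U` are separated by squares
      have hinj : ∀ a ∈ U, (a * a) ^ 2 ^ (t + 1) = 1 → a ∈ W := by
        intro a ha h
        obtain ⟨w, hw, hww⟩ := hsq _ ha.2.2 h
        have hcomm : w * a = a * w := (mem_centralizer_iff.mp ha.1) w hw
        have hs : a * w⁻¹ * (a * w⁻¹) = 1 := by
          have e2 : Commute w⁻¹ a := (show Commute w a from hcomm).inv_left
          calc a * w⁻¹ * (a * w⁻¹) = a * (w⁻¹ * a) * w⁻¹ := by group
            _ = a * (a * w⁻¹) * w⁻¹ := by rw [e2.eq]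
            _ = (a * a) * (w * w)⁻¹ := by group
            _ = 1 := by rw [hww, mul_inv_cancel]
        have hsU : a * w⁻¹ ∈ U := U.mul_mem ha (hWS _ (W.inv_mem hw))
        have hin : a * w⁻¹ ∈ E := hnoinv _ hs fun x => ⟨hsU.2.1 x, by
          have hc : ⁅x, a * w⁻¹⁆ * (a * w⁻¹) = (a * w⁻¹) * ⁅x, a * w⁻¹⁆ :=
            (mem_centralizer_iff.mp hsU.1) _ (hsU.2.1 x)
          set s := a * w⁻¹
          have : x * s * x⁻¹ = ⁅x, s⁆ * s := by rw [commutatorElement_def]; group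
          have h2 : (⁅x, s⁆ * s) * (⁅x, s⁆ * s) = 1 := by
            rw [← this, show x * s * x⁻¹ * (x * s * x⁻¹) = x * (s * s) * x⁻¹ by group, hs]; group
          calc ⁅x, s⁆ * ⁅x, s⁆ = ⁅x, s⁆ * (⁅x, s⁆ * (s * s)) := by rw [hs, mul_one]
            _ = ⁅x, s⁆ * (s * ⁅x, s⁆ * s) := by rw [← hc, mul_assoc ⁅x, s⁆ s s]
            _ = (⁅x, s⁆ * s) * (⁅x, s⁆ * s) := by group
            _ = 1 := h2⟩
        have := W.mul_mem hin.1 hw
        rwa [inv_mul_cancel_right] at this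
      have hone : ∀ x ∈ U, ∀ y ∈ U, ⁅x, y⁆ = 1 ∨ ⁅x, y⁆ = ⁅u, v⁆ := by
        intro x hx y hy
        set K := W.subgroupOf U with hKdef
        have hK : Nat.card (↥U ⧸ K) ≤ 4 := by
          let ψ : ↥U →* ↥E := MonoidHom.mk'
            (fun a => ⟨((a : X) * a) ^ 2 ^ (t + 1), htopE _ a.2.2.2⟩) fun a b => Subtype.ext (by
              show ((a : X) * b * (a * b)) ^ 2 ^ (t + 1) =
                ((a : X) * a) ^ 2 ^ (t + 1) * ((b : X) * b) ^ 2 ^ (t + 1)
              have he := hbr _ b.2 _ a.2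
              have e1 : (a : X) * b * (a * b) = (a * a) * ⁅(b : X), (a : X)⁆ * (b * b) := by
                rw [show (a : X) * b * (a * b) = a * (⁅(b : X), (a : X)⁆ * a) * (b * b) by
                  simp only [commutatorElement_def]; group, ← mem_center_iff.mp (hEZ he) (a : X)]
                group
              have c1 : Commute ((a : X) * a * ⁅(b : X), (a : X)⁆) ((b : X) * b) :=
                hW _ (W.mul_mem a.2.2.2 he.1) _ b.2.2.2
              have c2 : Commute ((a : X) * a) ⁅(b : X), (a : X)⁆ := hW _ a.2.2.2 _ he.1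
              have he2 : ⁅(b : X), (a : X)⁆ ^ 2 ^ (t + 1) = 1 := by
                rw [pow_succ', pow_mul, sq, he.2, one_pow]
              rw [e1, c1.mul_pow, c2.mul_pow, he2, mul_one])
          have hker : ψ.ker ≤ K := fun a ha => hinj a a.2 (congrArg Subtype.val ha)
          calc Nat.card (↥U ⧸ K) = K.index := rfl
            _ ≤ ψ.ker.index := Nat.le_of_dvd (Nat.pos_of_ne_zero index_ne_zero_of_finite)
                (index_dvd_of_le hker)
            _ = Nat.card ψ.range := Subgroup.index_ker ψ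
            _ ≤ Nat.card E := card_le_card_group _
            _ = 4 := hcard
        have := one_value (X := ↥U) hK (fun a b => (⟨⁅(a : X), (b : X)⁆, hWS _ (hbr _ a.2 _ b.2).1⟩ : ↥U))
          (fun a b c => Subtype.ext (by
            show ⁅(a : X) * b, (c : X)⁆ = ⁅(a : X), (c : X)⁆ * ⁅(b : X), (c : X)⁆
            rw [bracket_mul_left, hEc _ (hbr _ b.2 _ c.2), one_mul]
            exact hcommE _ (hbr _ b.2 _ c.2) _ (hbr _ a.2 _ c.2)))
          (fun a b => Subtype.ext (by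
            show ⁅(a : X), (b : X)⁆ = ⁅(b : X), (a : X)⁆
            rw [← commutatorElement_inv (a : X) (b : X)]
            exact eq_inv_of_mul_eq_one_left (hbr _ a.2 _ b.2).2))
          (fun a => Subtype.ext (commutatorElement_self _))
          (fun k hk z => Subtype.ext (commutatorElement_eq_one_iff_mul_comm.mpr
            ((mem_centralizer_iff.mp z.2.1) _ hk)))
          (u := ⟨u, hu⟩) (v := ⟨v, hv⟩) (fun h => huv (congrArg Subtype.val h)) ⟨x, hx⟩ ⟨y, hy⟩
        rcases this with h | h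
        exacts [Or.inl (congrArg Subtype.val h), Or.inr (congrArg Subtype.val h)]
      rcases hone _ (hUA θ hθ u hu) _ (hUA θ hθ v hv) with h | h <;>
        rw [← map_commutatorElement] at h
      · exact huv (θ.injective (h.trans (map_one θ).symm))
      · exact huv (hfpf _ (hbr u hu v hv) h)
    exact hu₁W (hmax U hUn hUc hUA (fun w hw => hWS w hw) ⟨hu₁C, hu₁x, hu₁s⟩)
  have hcentW : ∀ x : X, (∀ w ∈ W, ⁅x, w⁆ = 1) → x ∈ W := fun x h =>
    hself (mem_centralizer_iff.mpr fun w hw => (commutatorElement_eq_one_iff_mul_comm.mp (h w hw)).symm)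
  -- the action of `X` on `W`
  have half : ∀ (x : X) (w : X), w ∈ W → ∀ i : ℕ, w ^ 2 ^ (i + 1) = 1 → ⁅x, w⁆ ^ 2 ^ i = 1 := by
    intro x w hw i h
    rw [← bracket_pow hWn hW x hw]
    exact hEc _ ⟨W.pow_mem hw _, by rw [← pow_add, ← two_mul, ← pow_succ']; exact h⟩ x
  let Lv : ℕ → X → Prop := fun j x => ∀ w ∈ W, ⁅x, w⁆ ^ 2 ^ (j + 1) = 1
  let D : ℕ → X → X → X := fun j x w => ⁅x, w⁆ ^ 2 ^ j
  have hDE : ∀ j x, Lv j x → ∀ w ∈ W, D j x w ∈ E := fun j x hx w hw =>
    ⟨W.pow_mem (conj_comm hWn x hw) _, by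
      show ⁅x, w⁆ ^ 2 ^ j * ⁅x, w⁆ ^ 2 ^ j = 1
      rw [← pow_add, ← two_mul, ← pow_succ']; exact hx w hw⟩
  have hDmul : ∀ j x, ∀ a ∈ W, ∀ b ∈ W, D j x (a * b) = D j x a * D j x b := by
    intro j x a ha b hb
    show ⁅x, a * b⁆ ^ 2 ^ j = _
    rw [bracket_mul hWn hW x ha hb]
    exact (show Commute _ _ from hW _ (conj_comm hWn x ha) _ (conj_comm hWn x hb)).mul_pow _
  have hDker : ∀ j x, Lv j x → ∀ w ∈ W, w ^ 2 ^ (t + 1) = 1 → D j x w = 1 := by
    intro j x hx w hw h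
    obtain ⟨v, hv, rfl⟩ := hsq w hw h
    show ⁅x, v * v⁆ ^ 2 ^ j = 1
    rw [bracket_mul hWn hW x hv hv, ← sq, ← pow_mul, ← pow_succ']
    exact hx v hv
  have hDtop : ∀ j x, Lv j x → ∀ a ∈ W, ∀ b ∈ W, a ^ 2 ^ (t + 1) = b ^ 2 ^ (t + 1) →
      D j x a = D j x b := by
    intro j x hx a ha b hb h
    have h1 : D j x (a * b⁻¹) = 1 := hDker j x hx _ (W.mul_mem ha (W.inv_mem hb)) (by
      rw [(show Commute a b⁻¹ from hW _ ha _ (W.inv_mem hb)).mul_pow, h, inv_pow, mul_inv_cancel])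
    have h2 := hDmul j x (a * b⁻¹) (W.mul_mem ha (W.inv_mem hb)) b hb
    rw [inv_mul_cancel_right, h1, one_mul] at h2
    exact h2
  have hDadd : ∀ j x y, Lv j x → Lv j y → ∀ w ∈ W, D j (x * y) w = D j x w * D j y w := by
    intro j x y hx hy w hw
    have hd := conj_comm hWn y hw
    have hd1 : ⁅x, ⁅y, w⁆⁆ ^ 2 ^ j = 1 := half x _ hd j (hy w hw)
    show ⁅x * y, w⁆ ^ 2 ^ j = ⁅x, w⁆ ^ 2 ^ j * ⁅y, w⁆ ^ 2 ^ j
    rw [bracket_mul_left,
      (show Commute _ _ from hW _ (W.mul_mem (conj_comm hWn x hd) hd) _ (conj_comm hWn x hw)).mul_pow,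
      (show Commute _ _ from hW _ (conj_comm hWn x hd) _ hd).mul_pow, hd1, one_mul]
    exact hW _ (W.pow_mem hd _) _ (W.pow_mem (conj_comm hWn x hw) _)
  have hDmap : ∀ j x, ∀ φ : MulAut X, ∀ w, D j (φ x) (φ w) = φ (D j x w) := fun j x φ w => by
    show ⁅φ x, φ w⁆ ^ 2 ^ j = φ (⁅x, w⁆ ^ 2 ^ j)
    rw [map_pow, map_commutatorElement]
  have hθW : ∀ w ∈ W, θ w ∈ W := hWA θ hθ
  have hDθ3 : ∀ j x, Lv j x → ∀ w ∈ W, D j x (θ (θ (θ w))) = D j x w := fun j x hx w hw =>
    hDtop j x hx _ (hθW _ (hθW _ (hθW _ hw))) _ hw (by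
      rw [← map_pow, ← map_pow, ← map_pow, hθ3 _ (htopE w hw)])
  -- first level
  have hall0 : ∀ x : X, Lv t x := fun x w hw => half x w hw (t + 1) (ht ▸ hexp w hw)
  have hexk : ∃ j : ℕ, ∀ x, Lv j x := ⟨t, hall0⟩
  obtain ⟨k, hkdef⟩ : ∃ k, k = Nat.find hexk := ⟨_, rfl⟩
  have hkall : ∀ x, Lv k x := hkdef ▸ Nat.find_spec hexk
  have hkt : k ≤ t := hkdef ▸ Nat.find_le hall0
  obtain ⟨x₀, w₀, hw₀, hD0⟩ : ∃ x, ∃ w ∈ W, D k x w ≠ 1 := by
    by_contra hh
    push Not at hh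
    rcases k with _ | k
    · refine hnc fun w hw => mem_center_iff.mpr fun g => ?_
      have h := hh g w hw
      simp only [D, pow_zero, pow_one] at h
      exact commutatorElement_eq_one_iff_mul_comm.mp h
    · exact Nat.find_min hexk (by omega : k < Nat.find hexk) fun x w hw => hh x w hw
  have hanti : ∀ x, ∀ w ∈ W, D k x (θ w) = θ (θ (D k x w)) := by
    intro x
    let f : ↥W → X → X := fun w y =>
      D k y w * θ (D k y (θ (θ w))) * θ (θ (D k y (θ w)))
    have hfE : ∀ y, ∀ w : ↥W, f w y ∈ E := fun y w =>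
      E.mul_mem (E.mul_mem (hDE k y (hkall y) _ w.2) (hEθ _ (hDE k y (hkall y) _ (hθW _ (hθW _ w.2)))))
        (hEθ _ (hEθ _ (hDE k y (hkall y) _ (hθW _ w.2))))
    have hSmul : ∀ w : ↥W, ∀ y z, (⟨f w (y * z), hfE _ _⟩ : ↥E) = ⟨f w y, hfE _ _⟩ * ⟨f w z, hfE _ _⟩ := by
      intro w y z
      letI : CommGroup ↥E :=
        { (inferInstance : Group ↥E) with mul_comm := fun a b => Subtype.ext (hcommE _ a.2 _ b.2) }
      have m1 : ∀ v ∈ W, D k (y * z) v = D k y v * D k z v :=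
        fun v hv => hDadd k y z (hkall y) (hkall z) v hv
      have a1 := hDE k y (hkall y) _ w.2
      have a2 := hEθ _ (hDE k y (hkall y) _ (hθW _ (hθW _ w.2)))
      have a3 := hEθ _ (hEθ _ (hDE k y (hkall y) _ (hθW _ w.2)))
      have b1 := hDE k z (hkall z) _ w.2
      have b2 := hEθ _ (hDE k z (hkall z) _ (hθW _ (hθW _ w.2)))
      have b3 := hEθ _ (hEθ _ (hDE k z (hkall z) _ (hθW _ w.2)))
      have gen : ∀ a b c d e f : ↥E, a * b * (c * d) * (e * f) = a * c * e * (b * d * f) := by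
        intro a b c d e f
        rw [mul_mul_mul_comm a b c d, mul_mul_mul_comm (a * c) (b * d) e f]
      have key : (⟨_, a1⟩ : ↥E) * ⟨_, b1⟩ * (⟨_, a2⟩ * ⟨_, b2⟩) * (⟨_, a3⟩ * ⟨_, b3⟩) =
          ⟨_, a1⟩ * ⟨_, a2⟩ * ⟨_, a3⟩ * (⟨_, b1⟩ * ⟨_, b2⟩ * ⟨_, b3⟩) := gen _ _ _ _ _ _
      refine Subtype.ext ?_
      show f w (y * z) = f w y * f w z
      simp only [f, m1 _ w.2, m1 _ (hθW _ w.2), m1 _ (hθW _ (hθW _ w.2)), map_mul]
      exact congrArg Subtype.val key
    have hinv : ∀ w : ↥W, ∀ φ ∈ A, ∀ y, f w (φ y) = f w y := by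
      intro w φ hφ y
      set D' := D k y with hD'
      have hψW : ∀ v ∈ W, φ⁻¹ v ∈ W := hWA φ⁻¹ (A.inv_mem hφ)
      have hy : ∀ v ∈ W, D k (φ y) v = φ (D' (φ⁻¹ v)) := fun v hv => by
        have h := hDmap k y φ (φ⁻¹ v)
        rwa [MulAut.apply_inv_self] at h
      have hφE : ∀ e ∈ E, φ⁻¹ e ∈ E := fun e he =>
        ⟨hψW e he.1, by rw [← map_mul, he.2, map_one]⟩
      have hv : ∀ v ∈ W, (φ⁻¹ v) ^ 2 ^ (t + 1) = φ⁻¹ (v ^ 2 ^ (t + 1)) := fun v hv => (map_pow _ _ _).symm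
      have hmemD : ∀ v ∈ W, D' v ∈ E := hDE k y (hkall y)
      have hT : ∀ a ∈ W, ∀ b ∈ W, a ^ 2 ^ (t + 1) = b ^ 2 ^ (t + 1) → D' a = D' b := hDtop k y (hkall y)
      have h3D : ∀ v ∈ W, D' (θ (θ (θ v))) = D' v := hDθ3 k y (hkall y)
      have hw1 := hθW _ w.2
      have hw2 := hθW _ hw1
      rcases hrep φ hφ with h | h | h
      · have e : ∀ v ∈ W, D k (φ y) v = D' v := fun v hv' => by
          rw [hy v hv', h _ (hmemD _ (hψW v hv'))]
          exact hT _ (hψW v hv') _ hv' (φ.injective (by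
            rw [hv v hv', MulAut.apply_inv_self, h _ (htopE v hv')]))
        simp only [f, e _ w.2, e _ hw1, e _ hw2]
        rfl
      · have e : ∀ v ∈ W, D k (φ y) v = θ (D' (θ (θ v))) := fun v hv' => by
          rw [hy v hv', h _ (hmemD _ (hψW v hv'))]
          refine congrArg θ (hT _ (hψW v hv') _ (hθW _ (hθW _ hv')) (φ.injective ?_))
          rw [hv v hv', MulAut.apply_inv_self, ← map_pow, ← map_pow,
            h _ (hEθ _ (hEθ _ (htopE v hv'))), hθ3 _ (htopE v hv')]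
        simp only [f, e _ w.2, e _ hw1, e _ hw2]
        rw [h3D _ hw1, h3D _ w.2, hθ3 _ (hmemD _ w.2)]
        have c := hW _ (hEθ _ (hmemD _ hw2)).1 _ (hEθ _ (hEθ _ (hmemD _ hw1))).1
        calc _ = D' w * (θ (D' (θ (θ (w : X)))) * θ (θ (D' (θ (w : X))))) :=
              hW _ (E.mul_mem (hEθ _ (hmemD _ hw2)) (hEθ _ (hEθ _ (hmemD _ hw1)))).1 _ (hmemD _ w.2).1
          _ = f w y := by simp only [f, mul_assoc]; rfl
      · have e : ∀ v ∈ W, D k (φ y) v = θ (θ (D' (θ v))) := fun v hv' => by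
          rw [hy v hv', h _ (hmemD _ (hψW v hv'))]
          refine congrArg (fun z => θ (θ z)) (hT _ (hψW v hv') _ (hθW _ hv') (φ.injective ?_))
          rw [hv v hv', MulAut.apply_inv_self, ← map_pow, h _ (hEθ _ (htopE v hv')),
            hθ3 _ (htopE v hv')]
        simp only [f, e _ w.2, e _ hw1, e _ hw2]
        rw [h3D _ w.2, hθ3 _ (hmemD _ w.2), hθ3 _ (hEθ _ (hmemD _ hw2))]
        calc _ = θ (θ (D' (θ (w : X)))) * (D' w * θ (D' (θ (θ (w : X))))) := by rw [mul_assoc]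
          _ = f w y := hW _ (hEθ _ (hEθ _ (hmemD _ hw1))).1 _
              (E.mul_mem (hmemD _ w.2) (hEθ _ (hmemD _ hw2))).1
    intro w hw
    have hS := congrArg Subtype.val (H.hom_trivial (MonoidHom.mk' (fun y => (⟨f ⟨w, hw⟩ y, hfE _ _⟩ : ↥E))
      (hSmul ⟨w, hw⟩)) (fun φ hφ y => Subtype.ext (hinv ⟨w, hw⟩ φ hφ y)) x)
    change D k x w * θ (D k x (θ (θ w))) * θ (θ (D k x (θ w))) = 1 at hS
    set a := D k x w
    set b := D k x (θ w)
    have ha : a ∈ E := hDE k x (hkall x) _ hw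
    have hb : b ∈ E := hDE k x (hkall x) _ (hθW _ hw)
    have hθθ : D k x (θ (θ w)) = a * b := by
      rw [← hDmul k x _ hw _ (hθW _ hw)]
      refine hDtop k x (hkall x) _ (hθW _ (hθW _ hw)) _ (W.mul_mem hw (hθW _ hw)) ?_
      rw [(show Commute w (θ w) from hW _ hw _ (hθW _ hw)).mul_pow, ← map_pow, ← map_pow,
        hsum _ (htopE w hw)]
    rw [hθθ, map_mul] at hS
    have h1 : a * θ a = θ (θ a) := hsum a ha
    have h2 : θ b * θ (θ b) = b := by rw [hsum _ (hEθ _ hb), hθ3 b hb]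
    have : θ (θ a) * b = 1 := by rw [← h1, ← h2]; simpa [mul_assoc] using hS
    exact mul_left_cancel (this.trans ((hEθ _ (hEθ _ ha)).2).symm)
  -- squares push non-equivariance downwards
  have hne_of_anti : ∀ a ∈ E, a ≠ 1 → θ (θ a) ≠ θ a := fun a ha hne h =>
    hne (hfpf a ha (θ.injective h))
  have hstep : ∀ d : ℕ, ∀ j, j + d = k → ∃ x, Lv j x ∧ (∃ w ∈ W, D j x (θ w) ≠ θ (D j x w)) ∧
      (j = t → ∀ w ∈ W, D j x (θ w) = θ (θ (D j x w))) := by
    intro d
    induction d with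
    | zero =>
      intro j hj
      rw [add_zero] at hj
      subst hj
      exact ⟨x₀, hkall _, ⟨w₀, hw₀, by
        rw [hanti x₀ w₀ hw₀]; exact hne_of_anti _ (hDE _ _ (hkall _) _ hw₀) hD0⟩, fun _ => hanti x₀⟩
    | succ d ih =>
      intro j hj
      obtain ⟨x, hx, ⟨w, hw, hne⟩, hanti'⟩ := ih (j + 1) (by omega)
      have hjt : j + 1 ≤ t := by omega
      have hd : ∀ v ∈ W, ⁅x * x, v⁆ = ⁅x, ⁅x, v⁆⁆ * (⁅x, v⁆ * ⁅x, v⁆) := fun v hv => by
        rw [bracket_mul_left, mul_assoc]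
      have hlv : Lv j (x * x) := by
        intro v hv
        have hdv := conj_comm hWn x hv
        rw [hd v hv, (show Commute _ _ from hW _ (conj_comm hWn x hdv) _ (W.mul_mem hdv hdv)).mul_pow,
          half x _ hdv (j + 1) (hx v hv), one_mul, ← sq, ← pow_mul, ← pow_succ']
        exact hx v hv
      -- the error term
      have herr : ∀ v ∈ W, ∀ p ∈ W, p ^ 2 ^ (t + 1) = D (j + 1) x v →
          D j (x * x) v = ⁅x, p⁆ ^ 2 ^ t * D (j + 1) x v := by
        intro v hv p hp hpt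
        have hdv := conj_comm hWn x hv
        show ⁅x * x, v⁆ ^ 2 ^ j = _
        rw [hd v hv, (show Commute _ _ from hW _ (conj_comm hWn x hdv) _ (W.mul_mem hdv hdv)).mul_pow,
          ← bracket_pow hWn hW x hdv, ← bracket_pow hWn hW x hp, ← sq, ← pow_mul, ← pow_succ']
        congr 1
        set f := ⁅x, v⁆ ^ 2 ^ j with hf
        set g := p ^ 2 ^ t with hg
        have hfW : f ∈ W := W.pow_mem hdv _
        have hgW : g ∈ W := W.pow_mem hp _
        have he : f * g⁻¹ ∈ E := ⟨W.mul_mem hfW (W.inv_mem hgW), by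
          have hc : Commute f g⁻¹ := hW _ hfW _ (W.inv_mem hgW)
          rw [← sq, hc.mul_pow, inv_pow, hf, hg, ← pow_mul, ← pow_mul, ← pow_succ, ← pow_succ,
            hpt]
          exact mul_inv_cancel _⟩
        calc ⁅x, f⁆ = ⁅x, (f * g⁻¹) * g⁆ := by rw [inv_mul_cancel_right]
          _ = ⁅x, g⁆ := by rw [bracket_mul hWn hW x he.1 hgW, hEc _ he x, one_mul]
      refine ⟨x * x, hlv, ⟨w, hw, fun heq => hne ?_⟩, fun hjt' => absurd hjt' (by omega)⟩
      have hw1 := hθW _ hw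
      obtain ⟨p, hp, hpt⟩ := hsurj _ (hDE (j + 1) x hx w hw)
      by_cases hlast : j + 1 = t
      · have han := hanti' hlast
        have hp' : (θ (θ p)) ^ 2 ^ (t + 1) = D (j + 1) x (θ w) := by
          rw [← map_pow, ← map_pow, hpt, han w hw]
        have hkey : ⁅x, θ (θ p)⁆ ^ 2 ^ t = θ (⁅x, p⁆ ^ 2 ^ t) := by
          have e1 := han (θ p) (hθW _ hp)
          have e2 := han p hp
          simp only [D, hlast] at e1 e2
          rw [e1, e2, hθ3 _ (by
            have := hDE (j + 1) x hx p hp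
            simp only [D, hlast] at this
            exact hEθ _ this)]
        rw [herr _ hw1 _ (hθW _ (hθW _ hp)) hp', herr _ hw _ hp hpt, map_mul, hkey] at heq
        exact mul_left_cancel heq
      · have hz : ∀ q ∈ W, ⁅x, q⁆ ^ 2 ^ t = 1 := fun q hq => by
          rw [show t = (j + 2) + (t - (j + 2)) by omega, pow_add 2, pow_mul, hx q hq, one_pow]
        obtain ⟨p', hp', hpt'⟩ := hsurj _ (hDE (j + 1) x hx _ hw1)
        rw [herr _ hw1 _ hp' hpt', herr _ hw _ hp hpt, hz p hp, hz p' hp', one_mul, one_mul] at heq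
        exact heq
  obtain ⟨g, hg, ⟨w₁, hw₁, hgne⟩, -⟩ := hstep k 0 (by omega)
  by_cases ht0 : t = 0
  · -- exponent four
    subst ht0
    have hall1 : ∀ x, ∀ w ∈ W, ⁅x, w⁆ ∈ E := fun x w hw => ⟨conj_comm hWn x hw, by
      have := hall0 x w hw
      simpa [pow_one, sq] using this⟩
    have hanti1 : ∀ x, ∀ w ∈ W, ⁅x, θ w⁆ = θ (θ ⁅x, w⁆) := fun x w hw => by
      have h := hanti x w hw
      obtain rfl : k = 0 := by omega
      simpa [D] using h
    have hc2 : ∀ a b : X, ⁅a, b⁆ ∈ W := by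
      intro a b
      refine hcentW _ fun w hw => ?_
      let f : X →* ↥E := MonoidHom.mk' (fun x => ⟨⁅x, w⁆, hall1 x w hw⟩) fun x y => Subtype.ext (by
        show ⁅x * y, w⁆ = ⁅x, w⁆ * ⁅y, w⁆
        rw [bracket_mul_left, hEc _ (hall1 y w hw), one_mul]
        exact hcommE _ (hall1 y w hw) _ (hall1 x w hw))
      have h : f ⁅a, b⁆ = 1 := by
        rw [map_commutatorElement, commutatorElement_eq_one_iff_mul_comm]
        exact Subtype.ext (hcommE _ (f a).2 _ (f b).2)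
      exact congrArg Subtype.val h
    have hexp4 : ∀ w ∈ W, (w * w) * (w * w) = 1 := fun w hw => by
      have := hexp w hw
      rw [ht] at this
      rw [← sq, ← sq, ← pow_mul]; simpa using this
    let γ : X → X → X := fun x y => ⁅x, y⁆ * ⁅x, y⁆
    have hγE : ∀ x y, γ x y ∈ E := fun x y =>
      ⟨W.mul_mem (hc2 x y) (hc2 x y), hexp4 _ (hc2 x y)⟩
    have hγadd : ∀ x y z, γ (x * y) z = γ x z * γ y z := by
      intro x y z
      have hin := hall1 x _ (hc2 y z)
      show ⁅x * y, z⁆ * ⁅x * y, z⁆ = ⁅x, z⁆ * ⁅x, z⁆ * (⁅y, z⁆ * ⁅y, z⁆)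
      rw [bracket_mul_left]
      letI : CommGroup ↥W :=
        { (inferInstance : Group ↥W) with mul_comm := fun a b => Subtype.ext (hW _ a.2 _ b.2) }
      have key : (⟨_, hin.1⟩ : ↥W) * ⟨_, hc2 y z⟩ * ⟨_, hc2 x z⟩ *
          (⟨_, hin.1⟩ * ⟨_, hc2 y z⟩ * ⟨_, hc2 x z⟩) =
          (⟨_, hin.1⟩ * ⟨_, hin.1⟩) * (⟨_, hc2 x z⟩ * ⟨_, hc2 x z⟩ * (⟨_, hc2 y z⟩ * ⟨_, hc2 y z⟩)) := by
        rw [mul_mul_mul_comm, mul_mul_mul_comm (⟨_, hin.1⟩ : ↥W), mul_assoc (_ * _),
          mul_comm (⟨_, hc2 y z⟩ * ⟨_, hc2 y z⟩ : ↥W)]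
      have key' := congrArg Subtype.val key
      simp only [Subgroup.coe_mul] at key'
      rw [key', hin.2, one_mul]
    have hγsymm : ∀ x y, γ x y = γ y x := fun x y => by
      show _ = ⁅y, x⁆ * ⁅y, x⁆
      rw [← commutatorElement_inv x y, ← mul_inv_rev]
      exact eq_inv_of_mul_eq_one_left (hγE x y).2
    have hK : Nat.card (X ⧸ W) ≤ 4 := by
      obtain ⟨v₀, hv₀, hv₀t⟩ := hsurj e₀ he₀
      let f : X →* ↥E := MonoidHom.mk' (fun x => ⟨⁅x, v₀⁆, hall1 x v₀ hv₀⟩) fun x y => Subtype.ext (by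
        show ⁅x * y, v₀⁆ = ⁅x, v₀⁆ * ⁅y, v₀⁆
        rw [bracket_mul_left, hEc _ (hall1 y v₀ hv₀), one_mul]
        exact hcommE _ (hall1 y v₀ hv₀) _ (hall1 x v₀ hv₀))
      have hker : f.ker ≤ W := by
        intro x hx
        have hx0 : ⁅x, v₀⁆ = 1 := congrArg Subtype.val hx
        refine hcentW x fun w hw => ?_
        have hT := hDtop 0 x (fun v hv => by simpa [sq] using (hall1 x v hv).2)
        simp only [D, pow_zero, pow_one] at hT
        rcases hall _ (htopE w hw) with h | h | h | h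
        · have := hT w hw 1 W.one_mem (by rw [h, one_pow])
          simpa using this
        · rw [hT w hw v₀ hv₀ (by rw [h, hv₀t]), hx0]
        · rw [hT w hw (θ v₀) (hθW _ hv₀) (by rw [h, ← map_pow, hv₀t]), hanti1 x v₀ hv₀, hx0]; simp
        · rw [hT w hw (θ (θ v₀)) (hθW _ (hθW _ hv₀)) (by rw [h, ← map_pow, ← map_pow, hv₀t]),
            hanti1 x _ (hθW _ hv₀), hanti1 x v₀ hv₀, hx0]; simp
      calc Nat.card (X ⧸ W) = W.index := rfl
        _ ≤ f.ker.index := Nat.le_of_dvd (Nat.pos_of_ne_zero index_ne_zero_of_finite)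
            (index_dvd_of_le hker)
        _ = Nat.card f.range := Subgroup.index_ker f
        _ ≤ Nat.card E := card_le_card_group _
        _ = 4 := hcard
    intro a b
    have hsq1 : ⁅a, b⁆ * ⁅a, b⁆ = 1 := by
      by_contra hne
      have := one_value hK γ hγadd hγsymm (fun x => by simp [γ])
        (fun w hw z => by
          show ⁅w, z⁆ * ⁅w, z⁆ = 1
          have h := (hall1 z w hw).2
          rw [← commutatorElement_inv z w, ← mul_inv_rev, h, inv_one]) hne (θ a) (θ b)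
      have hmap : γ (θ a) (θ b) = θ (γ a b) := by
        show ⁅θ a, θ b⁆ * ⁅θ a, θ b⁆ = θ (⁅a, b⁆ * ⁅a, b⁆)
        rw [map_mul, map_commutatorElement]
      rw [hmap] at this
      rcases this with h | h
      · exact hne (θ.injective (h.trans (map_one θ).symm))
      · exact hne (hfpf _ (hγE a b) h)
    exact ⟨hEZ ⟨hc2 a b, hsq1⟩, hsq1⟩
  -- exponent at least eight is impossible
  exfalso
  set h := g * θ g with hh
  have hg' : Lv 0 (θ g) := fun v hv => by
    have hv' : θ⁻¹ v ∈ W := hWA θ⁻¹ (A.inv_mem hθ) v hv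
    have := congrArg θ (hg _ hv')
    rwa [map_pow, map_commutatorElement, MulAut.apply_inv_self, map_one] at this
  have hDθg : ∀ v ∈ W, D 0 (θ g) v = θ (D 0 g (θ (θ v))) := fun v hv => by
    have hv' : θ⁻¹ v ∈ W := hWA θ⁻¹ (A.inv_mem hθ) v hv
    have h1 := hDmap 0 g θ (θ⁻¹ v)
    rw [MulAut.apply_inv_self] at h1
    rw [h1]
    refine congrArg θ (hDtop 0 g hg _ hv' _ (hθW _ (hθW _ hv)) (θ.injective ?_))
    rw [← map_pow, MulAut.apply_inv_self, ← map_pow, ← map_pow, hθ3 _ (htopE v hv)]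
  have hhv : ∀ v ∈ W, D 0 h v = D 0 g v * θ (D 0 g (θ (θ v))) := fun v hv => by
    rw [hh, hDadd 0 g (θ g) hg hg' v hv, hDθg v hv]
  have hh0 : Lv 0 h := fun v hv => by
    have := hhv v hv
    have hmem : D 0 h v ∈ E := this ▸ E.mul_mem (hDE 0 g hg v hv) (hEθ _ (hDE 0 g hg _ (hθW _ (hθW _ hv))))
    simpa [D, sq] using hmem.2
  have hhanti : ∀ v ∈ W, D 0 h (θ v) = θ (θ (D 0 h v)) := by
    intro v hv
    rw [hhv _ (hθW _ hv), hhv v hv, map_mul, map_mul, hDθ3 0 g hg v hv]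
    have ha := hDE 0 g hg v hv
    have hb := hDE 0 g hg _ (hθW _ hv)
    have hc : D 0 g (θ (θ v)) = D 0 g v * D 0 g (θ v) := by
      rw [← hDmul 0 g _ hv _ (hθW _ hv)]
      refine hDtop 0 g hg _ (hθW _ (hθW _ hv)) _ (W.mul_mem hv (hθW _ hv)) ?_
      rw [(show Commute v (θ v) from hW _ hv _ (hθW _ hv)).mul_pow, ← map_pow, ← map_pow,
        hsum _ (htopE v hv)]
    rw [hc, map_mul, map_mul, map_mul, hθ3 _ ha, hθ3 _ hb]
    set a := D 0 g v
    set b := D 0 g (θ v)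
    calc b * θ a = θ a * b := hcommE _ hb _ (hEθ _ ha)
      _ = θ (θ a) * a * b := by
          rw [← hsum a ha, hcommE a ha (θ a) (hEθ _ ha), mul_assoc (θ a) a a, ha.2, mul_one]
      _ = θ (θ a) * (a * b) := mul_assoc _ _ _
  have hhne : ∀ v ∈ W, v ^ 2 ^ (t + 1) ≠ 1 → D 0 h v ≠ 1 := by
    intro v hv hvne h0
    have hzero : ∀ u ∈ W, D 0 h u = 1 := by
      intro u hu
      have hfix : θ (v ^ 2 ^ (t + 1)) ≠ v ^ 2 ^ (t + 1) := fun h => hvne (hfpf _ (htopE v hv) h)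
      rcases (H.triple hWn hW hWA hθ (htopE v hv) hfix).2.2.2.1 _ (htopE u hu) with he | he | he | he
      · rw [hDtop 0 h hh0 u hu 1 W.one_mem (by rw [he, one_pow])]; simp [D]
      · rw [hDtop 0 h hh0 u hu v hv he, h0]
      · rw [hDtop 0 h hh0 u hu (θ v) (hθW _ hv) (by rw [he, map_pow]), hhanti v hv, h0]; simp
      · rw [hDtop 0 h hh0 u hu (θ (θ v)) (hθW _ (hθW _ hv)) (by rw [he, map_pow, map_pow]),
          hhanti _ (hθW _ hv), hhanti v hv, h0]; simp
    refine hgne ?_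
    have hw2 := hzero _ (hθW _ hw₁)
    rw [hhv _ (hθW _ hw₁), hDθ3 0 g hg w₁ hw₁] at hw2
    exact mul_right_cancel (hw2.trans ((hEθ _ (hDE 0 g hg w₁ hw₁)).2).symm)
  have hhW : h * h ∈ W := hcentW _ fun v hv => by
    have := hDadd 0 h h hh0 hh0 v hv
    rw [(hDE 0 h hh0 v hv).2] at this
    simpa [D] using this
  have htopfix : (h * h) ^ 2 ^ (t + 1) = 1 := by
    by_contra hne
    refine hhne _ hhW hne ?_
    show ⁅h, h * h⁆ ^ 2 ^ 0 = 1
    rw [commutatorElement_eq_one_iff_mul_comm.mpr (mul_assoc h h h).symm, one_pow]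
  obtain ⟨v, hv, hvv⟩ := hsq _ hhW htopfix
  obtain ⟨t', rfl⟩ := Nat.exists_eq_succ_of_ne_zero ht0
  have hfix2 : ∀ u ∈ W, (u * u) * (u * u) = 1 → u ^ 2 ^ (t' + 1 + 1) = 1 := fun u hu hu4 => by
    rw [show 2 ^ (t' + 1 + 1) = 4 * 2 ^ t' by ring, pow_mul, show (4 : ℕ) = 2 * 2 from rfl, pow_mul,
      sq, sq, hu4, one_pow]
  -- choose the correction
  have hDvE : ⁅h, v⁆ ∈ E := by simpa [D] using hDE 0 h hh0 v hv
  obtain ⟨p, hp, hpt⟩ := hsurj _ hDvE
  set u' := p ^ 2 ^ (t' + 1) with hu'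
  have hu'W : u' ∈ W := W.pow_mem hp _
  have hu'2 : u' * u' = ⁅h, v⁆ := by
    rw [hu', ← pow_add, ← two_mul, ← pow_succ']; exact hpt
  have hu'c : ⁅h, u'⁆ = 1 := by
    have := hDker 0 h hh0 u' hu'W (hfix2 u' hu'W (by rw [hu'2]; exact hDvE.2))
    simpa [D] using this
  set s := h * (v⁻¹ * u') with hs
  have hsW : s ∉ W := fun hin => by
    have hhin : h ∈ W := by
      have := W.mul_mem hin (W.inv_mem (W.mul_mem (W.inv_mem hv) hu'W))
      rwa [hs, mul_inv_cancel_right] at this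
    obtain ⟨p₁, hp₁, hp₁t⟩ := hsurj e₀ he₀
    refine hhne p₁ hp₁ (hp₁t ▸ he1) ?_
    show ⁅h, p₁⁆ ^ 2 ^ 0 = 1
    rw [commutatorElement_eq_one_iff_mul_comm.mpr (hW _ hhin _ hp₁), one_pow]
  have hs2 : s * s = 1 := by
    have hu : v⁻¹ * u' ∈ W := W.mul_mem (W.inv_mem hv) hu'W
    have hb : ⁅h, v⁻¹ * u'⁆ = ⁅h, v⁆ := by
      rw [bracket_mul hWn hW h (W.inv_mem hv) hu'W, hu'c, mul_one]
      have h1 := bracket_mul hWn hW h (W.inv_mem hv) hv
      rw [inv_mul_cancel, commutatorElement_one_right] at h1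
      rw [eq_inv_of_mul_eq_one_left h1.symm]
      exact (eq_inv_of_mul_eq_one_left hDvE.2).symm
    set u := v⁻¹ * u' with hu_def
    have hinv : ⁅h, u⁆⁻¹ = ⁅h, v⁆ := by rw [hb]; exact (eq_inv_of_mul_eq_one_left hDvE.2).symm
    have hcz := mem_center_iff.mp (hEZ hDvE)
    have e1 : u * h = ⁅h, v⁆ * (h * u) := by
      rw [← hinv, commutatorElement_def]; group
    calc s * s = h * (u * h) * u := by rw [hs]; group
      _ = h * (⁅h, v⁆ * (h * u)) * u := by rw [e1]
      _ = ⁅h, v⁆ * (h * h) * (u * u) := by rw [← mul_assoc h, hcz h]; group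
      _ = ⁅h, v⁆ * ((v * v) * (u * u)) := by rw [hvv]; group
      _ = ⁅h, v⁆ * (u' * u') := by
          congr 1
          rw [hu_def]
          have c : Commute v⁻¹ u' := hW _ (W.inv_mem hv) _ hu'W
          calc v * v * (v⁻¹ * u' * (v⁻¹ * u')) = v * (u' * v⁻¹) * u' := by group
            _ = v * (v⁻¹ * u') * u' := by rw [← c.eq]
            _ = u' * u' := by group
      _ = 1 := by rw [hu'2, hDvE.2]
  refine hsW (hnoinv s hs2 fun y => ?_).1
  -- conjugates of `s`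
  have hs0 : Lv 0 s := by
    intro q hq
    have hu : v⁻¹ * u' ∈ W := W.mul_mem (W.inv_mem hv) hu'W
    rw [hs, bracket_mul_left, commutatorElement_eq_one_iff_mul_comm.mpr (hW _ hu _ hq),
      commutatorElement_one_right, one_mul, one_mul]
    exact hh0 q hq
  set c := ⁅y, s⁆ with hc
  have hcW : c ∈ W := hcentW _ fun q hq => by
    set q' := y⁻¹ * q * y with hq'
    have hq'W : q' ∈ W := by
      have := hWn.conj_mem q hq y⁻¹
      rwa [inv_inv] at this
    have hz : ⁅s, q'⁆ ∈ E := by simpa [D] using hDE 0 s hs0 q' hq'W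
    have hqq : q = y * q' * y⁻¹ := by rw [hq']; group
    have e1 : ⁅y * s * y⁻¹, q⁆ = ⁅s, q'⁆ := by
      rw [hqq, show ⁅y * s * y⁻¹, y * q' * y⁻¹⁆ = y * ⁅s, q'⁆ * y⁻¹ by
        simp only [commutatorElement_def]; group, mem_center_iff.mp (hEZ hz) y, mul_inv_cancel_right]
    have e2 : ⁅s, q'⁆ = ⁅s, q⁆ := by
      have h1 := hDtop 0 s hs0 q' hq'W q hq (by
        rw [hq', show y⁻¹ * q * y = y⁻¹ * q * y⁻¹⁻¹ by rw [inv_inv], conj_pow,
          mem_center_iff.mp (hEZ (htopE q hq)) y⁻¹, mul_inv_cancel_right])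
      simpa [D] using h1
    have e3 : ⁅y * s * y⁻¹, q⁆ = ⁅c, ⁅s, q⁆⁆ * ⁅s, q⁆ * ⁅c, q⁆ := by
      rw [← bracket_mul_left, hc, commutatorElement_def y s]; group
    have hzq : ⁅s, q⁆ ∈ E := by simpa [D] using hDE 0 s hs0 q hq
    rw [e1, e2, hEc _ hzq, one_mul] at e3
    exact mul_eq_left.mp e3.symm
  refine ⟨hcW, ?_⟩
  have hconj : (c * s) * (c * s) = 1 := by
    rw [hc, show ⁅y, s⁆ * s = y * s * y⁻¹ by rw [commutatorElement_def]; group,
      show y * s * y⁻¹ * (y * s * y⁻¹) = y * (s * s) * y⁻¹ by group, hs2]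
    group
  have hscE : ⁅s, c⁆ ∈ E := by simpa [D] using hDE 0 s hs0 c hcW
  have hcc : c * c = ⁅s, c⁆ := by
    have e : c * s * (c * s) = (c * ⁅s, c⁆ * c) * (s * s) := by
      simp only [commutatorElement_def]; group
    rw [e, hs2, mul_one, mem_center_iff.mp (hEZ hscE) c, mul_assoc] at hconj
    exact mul_left_cancel (hconj.trans hscE.2.symm)
  have h1 : ⁅s, c⁆ = 1 := by
    have := hDker 0 s hs0 c hcW (hfix2 c hcW (by rw [hcc]; exact hscE.2))
    simpa [D] using this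
  rw [hcc, h1]

/-- Commutators are central and of square one. -/
theorem classTwo (H : Hyp A) : ∀ a b : X, ⁅a, b⁆ ∈ center X ∧ ⁅a, b⁆ * ⁅a, b⁆ = 1 := by
  obtain ⟨W, ⟨⟨hn, hc, hA⟩, hZ⟩, hmax⟩ := (Set.toFinite
    {W : Subgroup X | (W.Normal ∧ Comm W ∧ AInv A W) ∧ center X ≤ W}).exists_maximal
      ⟨center X, ⟨⟨inferInstance, comm_center, center_ainv A⟩, le_rfl⟩⟩
  by_cases hW : W ≤ center X
  · refine H.classTwo_central fun M hMn hMc hMA => ?_
    have hs : M ⊔ W = closure ((M : Set X) ∪ (W : Set X)) := by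
      rw [Subgroup.closure_union, Subgroup.closure_eq, Subgroup.closure_eq]
    have hcomm : Comm (M ⊔ W) := hs ▸ comm_closure (by
      rintro a (ha | ha) b (hb | hb)
      exacts [hMc a ha b hb, mem_center_iff.mp (hW hb) a, (mem_center_iff.mp (hW ha) b).symm,
        hc a ha b hb])
    have hinv : AInv A (M ⊔ W) := by
      intro φ hφ m hm
      have : (M ⊔ W).map (φ : X ≃* X).toMonoidHom ≤ M ⊔ W := by
        rw [Subgroup.map_sup]
        exact sup_le_sup (by rintro _ ⟨a, ha, rfl⟩; exact hMA φ hφ a ha)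
          (by rintro _ ⟨a, ha, rfl⟩; exact hA φ hφ a ha)
      exact this ⟨m, hm, rfl⟩
    haveI := hMn; haveI := hn
    exact (le_sup_left.trans (hmax ⟨⟨inferInstance, hcomm, hinv⟩, hZ.trans le_sup_right⟩
      le_sup_right)).trans hW
  · refine H.classTwo_noncentral hn hc hA hW fun M hMn hMc hMA hWM => ?_
    exact hmax ⟨⟨hMn, hMc, hMA⟩, hZ.trans hWM⟩ hWM

end Hyp

end Cfsg.Agent.NoSCNOdd
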