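import Cfsg.Agent.Lib.FGB.NoSCNOddClassTwo
import Cfsg.Agent.Lib.Basics.Frattini
import Cfsg.Agent.Lib.LocalEvenA.FrattiniP
import Cfsg.Agent.Lib.Invol.MaxClassApps

/-!
# The three groups
-/

set_option autoImplicit false
set_option linter.unusedSectionVars false
set_option linter.unusedVariables false
set_option linter.style.haveILetI false

namespace Cfsg.Agent.NoSCNOdd

open Subgroup
open scoped commutatorElement Classical

universe u

variable {X : Type u} [Group X] [Finite X] {A : Subgroup (MulAut X)}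

namespace Hyp

/-- An element fixed modulo the derived subgroup lies in it. -/
theorem mem_commutator_of_fixed (H : Hyp A) {z : X}
    (hz : ∀ φ ∈ A, z⁻¹ * φ z ∈ _root_.commutator X) : z ∈ _root_.commutator X := by
  haveI := Fintype.ofFinite ↥A
  let q : X →* Abelianization X := Abelianization.of
  let P : X →* Abelianization X := MonoidHom.mk' (fun x => ∏ φ : ↥A, q ((φ : MulAut X) x))
    (fun x y => by simp [map_mul, Finset.prod_mul_distrib])
  have hP : ∀ ψ ∈ A, ∀ x, P (ψ x) = P x := fun ψ hψ x => by
    show (∏ φ : ↥A, q ((φ : MulAut X) (ψ x))) = ∏ φ : ↥A, q ((φ : MulAut X) x)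
    exact Fintype.prod_equiv (Equiv.mulRight (⟨ψ, hψ⟩ : ↥A)) _ _ fun φ => rfl
  have hconst : ∀ φ : ↥A, q ((φ : MulAut X) z) = q z := fun φ => by
    have h1 : q (z⁻¹ * (φ : MulAut X) z) = 1 := by
      rw [← MonoidHom.mem_ker]
      show _ ∈ (Abelianization.of : X →* Abelianization X).ker
      rw [Abelianization.ker_of]; exact hz _ φ.2
    rw [map_mul, map_inv, inv_mul_eq_one] at h1
    exact h1.symm
  have h := H.hom_trivial P hP z
  change (∏ φ : ↥A, q ((φ : MulAut X) z)) = 1 at h
  rw [Finset.prod_congr rfl (fun φ _ => hconst φ), Finset.prod_const, Finset.card_univ,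
    ← Nat.card_eq_fintype_card] at h
  obtain ⟨k, hk⟩ := H.pg z
  have hcop : (Nat.card ↥A).Coprime (2 ^ k) :=
    (Nat.Coprime.pow_right k (Nat.coprime_two_right.mpr H.odd))
  have h1 : q z = 1 := by
    have := orderOf_dvd_of_pow_eq_one h
    have h2 : orderOf (q z) ∣ 2 ^ k := orderOf_dvd_of_pow_eq_one (by rw [← map_pow, hk, map_one])
    exact orderOf_eq_one_iff.mp (Nat.eq_one_of_dvd_coprimes hcop this h2)
  rw [← MonoidHom.mem_ker] at h1
  rwa [Abelianization.ker_of] at h1

theorem sq_mem_center (H : Hyp A) (x : X) : x * x ∈ center X := by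
  have h := H.classTwo
  refine mem_center_iff.mpr fun g => ?_
  have h1 : ⁅x * x, g⁆ = 1 := by
    rw [cmul_left (fun a b => (h a b).1)]; exact (h x g).2
  exact (commutatorElement_eq_one_iff_mul_comm.mp h1).symm

theorem commutator_le_center (H : Hyp A) : _root_.commutator X ≤ center X := by
  rw [_root_.commutator, commutator_le]
  exact fun a _ b _ => (H.classTwo a b).1

theorem commutator_mem (H : Hyp A) (a b : X) : ⁅a, b⁆ ∈ _root_.commutator X :=
  commutator_mem_commutator (mem_top a) (mem_top b)

theorem commutator_sq (H : Hyp A) : ∀ c ∈ _root_.commutator X, c * c = 1 := by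
  have h : _root_.commutator X ≤ omega (center X) comm_center := by
    rw [_root_.commutator, commutator_le]
    exact fun a _ b _ => H.classTwo a b
  exact fun c hc => (h hc).2

theorem exists_commutator_ne (H : Hyp A) : ∃ a b : X, ⁅a, b⁆ ≠ 1 := by
  by_contra hh
  push Not at hh
  exact H.nonab fun a b => commutatorElement_eq_one_iff_mul_comm.mp (hh a b)

/-- If commutators take one nontrivial value, the derived subgroup has order at most two. -/
theorem card_commutator_le_two (H : Hyp A) {c : X} (hc : c ∈ _root_.commutator X)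
    (h : ∀ a b : X, ⁅a, b⁆ = 1 ∨ ⁅a, b⁆ = c) : Nat.card (_root_.commutator X) ≤ 2 := by
  have hle : _root_.commutator X ≤ zpowers c := by
    rw [_root_.commutator, commutator_le]
    intro a _ b _
    rcases h a b with h | h <;> rw [h]
    exacts [one_mem _, mem_zpowers c]
  refine (Nat.le_of_dvd Nat.card_pos (card_dvd_of_le hle)).trans ?_
  rw [Nat.card_zpowers]
  exact orderOf_le_of_pow_eq_one two_pos (by rw [sq]; exact H.commutator_sq c hc)

theorem card_le_two_of_quotient (H : Hyp A) (hQ : Nat.card (X ⧸ center X) ≤ 4) :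
    Nat.card (_root_.commutator X) ≤ 2 := by
  have hcl := fun a b => (H.classTwo a b).1
  obtain ⟨u, v, huv⟩ := H.exists_commutator_ne
  refine H.card_commutator_le_two (H.commutator_mem u v) fun a b =>
    one_value hQ (fun a b => ⁅a, b⁆) (fun x y z => cmul_left hcl x y z) (fun x y => ?_)
      (fun x => commutatorElement_self x) (fun k hk z => ?_) huv a b
  · rw [← commutatorElement_inv y x]
    exact (eq_inv_of_mul_eq_one_left (H.classTwo y x).2).symm
  · exact commutatorElement_eq_one_iff_mul_comm.mpr (mem_center_iff.mp hk z).symm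

/-- The centre is elementary. -/
theorem center_sq (H : Hyp A) : ∀ z ∈ center X, z * z = 1 := by
  by_cases hfix : ∀ φ ∈ A, ∀ e ∈ omega (center X) comm_center, φ e = e
  · intro z hz
    refine H.commutator_sq z (H.mem_commutator_of_fixed fun φ hφ => ?_)
    rw [H.fix_of_fix_omega comm_center (center_ainv A) hφ (fun e he he2 => hfix φ hφ e ⟨he, he2⟩) z hz,
      inv_mul_cancel]
    exact one_mem _
  push Not at hfix
  obtain ⟨θ, hθ, e₀, he₀, hne⟩ := hfix
  obtain ⟨-, -, -, hall, hfpf, hcard⟩ := H.triple inferInstance comm_center (center_ainv A) hθ he₀ hne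
  intro z hz
  by_contra hz2
  set E := omega (center X) comm_center with hE
  -- every involution of the centre is a square
  have hEsq : ∀ e ∈ E, ∃ w ∈ center X, w * w = e := by
    have hex : ∃ n : ℕ, z ^ 2 ^ n = 1 := H.pg z
    have h0 : Nat.find hex ≠ 0 := fun h => hz2 (by
      have := Nat.find_spec hex
      rw [h, pow_zero, pow_one] at this; simp [this])
    have h1 : Nat.find hex ≠ 1 := fun h => hz2 (by
      have := Nat.find_spec hex
      rwa [h, pow_one, sq] at this)
    obtain ⟨n, hn⟩ : ∃ n, Nat.find hex = n + 2 := ⟨Nat.find hex - 2, by omega⟩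
    set w := z ^ 2 ^ n
    have hw : w ∈ center X := (center X).pow_mem hz _
    have hwE : w * w ∈ E := ⟨(center X).mul_mem hw hw, by
      rw [← pow_add, ← two_mul, ← pow_succ', ← pow_add, ← two_mul, ← pow_succ', ← hn]
      exact Nat.find_spec hex⟩
    have hwne : w * w ≠ 1 := by
      rw [← pow_add, ← two_mul, ← pow_succ']
      exact Nat.find_min hex (by omega)
    have hmove : θ (w * w) ≠ w * w := fun h => hwne (hfpf _ hwE h)
    intro e he
    rcases (H.triple inferInstance comm_center (center_ainv A) hθ hwE hmove).2.2.2.1 e he with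
      rfl | rfl | rfl | rfl
    exacts [⟨1, one_mem _, one_mul 1⟩, ⟨w, hw, rfl⟩,
      ⟨θ w, center_ainv A θ hθ _ hw, (map_mul θ w w).symm⟩,
      ⟨θ (θ w), center_ainv A θ hθ _ (center_ainv A θ hθ _ hw), by rw [map_mul, map_mul]⟩]
  letI : CommGroup ↥(center X) :=
    { (inferInstance : Group ↥(center X)) with
      mul_comm := fun a b => Subtype.ext (comm_center _ a.2 _ b.2) }
  let s : ↥(center X) →* ↥(center X) := powMonoidHom 2
  have hk : Nat.card s.ker = 4 := by
    rw [← hcard]
    exact Nat.card_congr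
      { toFun := fun a => ⟨(a.1 : X), a.1.2, (sq _).symm.trans (congrArg Subtype.val a.2)⟩
        invFun := fun e => ⟨⟨(e : X), e.2.1⟩, Subtype.ext ((sq _).trans e.2.2)⟩
        left_inv := fun _ => rfl
        right_inv := fun _ => rfl }
  have hrk : Nat.card (↥(center X) ⧸ s.range) = 4 := by
    have a1 := s.ker.card_mul_index
    rw [Subgroup.index_ker, hk] at a1
    have a2 := s.range.card_mul_index
    rw [mul_comm] at a1
    have : Nat.card s.range * s.range.index = Nat.card s.range * 4 := by rw [a2, a1]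
    exact Nat.eq_of_mul_eq_mul_left Nat.card_pos this
  let Φ : X →* ↥(center X) ⧸ s.range := MonoidHom.mk'
    (fun x => QuotientGroup.mk (⟨x * x, H.sq_mem_center x⟩ : ↥(center X))) fun x y => by
      obtain ⟨w, hw, hww⟩ := hEsq ⁅y, x⁆ ⟨(H.classTwo y x).1, (H.classTwo y x).2⟩
      have e : (⟨x * y * (x * y), H.sq_mem_center _⟩ : ↥(center X)) =
          ⟨x * x, H.sq_mem_center x⟩ * ⟨y * y, H.sq_mem_center y⟩ * s ⟨w, hw⟩ := Subtype.ext (by
        show x * y * (x * y) = x * x * (y * y) * w ^ 2
        rw [sq, hww, show x * y * (x * y) = x * (⁅y, x⁆ * x) * (y * y) by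
          simp only [commutatorElement_def]; group, ← mem_center_iff.mp (H.classTwo y x).1 x,
          mul_assoc (x * x), mem_center_iff.mp (H.classTwo y x).1 (y * y)]
        group)
      rw [e, QuotientGroup.mk_mul, QuotientGroup.mk_mul,
        (QuotientGroup.eq_one_iff (N := s.range) (s ⟨w, hw⟩)).mpr ⟨_, rfl⟩, mul_one]
  have hker : Φ.ker ≤ center X := by
    intro x hx
    obtain ⟨⟨w, hw⟩, hwx⟩ := (QuotientGroup.eq_one_iff (N := s.range) _).mp (MonoidHom.mem_ker.mp hx)
    have hww : w ^ 2 = x * x := congrArg Subtype.val hwx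
    by_contra hxZ
    set t := x * w⁻¹
    have ht2 : t * t = 1 := by
      have c : Commute w⁻¹ x := (mem_center_iff.mp ((center X).inv_mem hw) x).symm
      calc t * t = x * (w⁻¹ * x) * w⁻¹ := by simp only [t]; group
        _ = (x * x) * (w ^ 2)⁻¹ := by rw [c.eq]; group
        _ = 1 := by rw [hww, mul_inv_cancel]
    have htZ : t ∉ center X := fun h => hxZ (by
      have := (center X).mul_mem h hw
      rwa [inv_mul_cancel_right] at this)
    set M := closure ((center X : Set X) ∪ {t}) with hM
    have hMc : Comm M := comm_closure (by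
      rintro a (ha | rfl) b (hb | rfl)
      · exact (mem_center_iff.mp ha b).symm
      · exact (mem_center_iff.mp ha _).symm
      · exact mem_center_iff.mp hb _
      · rfl)
    have hMn : M.Normal := normal_of_commutators fun a b => subset_closure (Or.inl (H.classTwo a b).1)
    have hlt : E < omega M hMc := lt_of_le_of_ne (fun e he => ⟨subset_closure (Or.inl he.1), he.2⟩)
      fun h => htZ ((h ▸ ⟨subset_closure (Or.inr rfl), ht2⟩ : t ∈ E)).1
    have h1 := two_mul_card_le hlt
    have h2 := H.small M hMn hMc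
    rw [hcard] at h1
    omega
  have hQ : Nat.card (X ⧸ center X) ≤ 4 :=
    calc (center X).index ≤ Φ.ker.index := Nat.le_of_dvd (Nat.pos_of_ne_zero index_ne_zero_of_finite)
          (index_dvd_of_le hker)
      _ = Nat.card Φ.range := Subgroup.index_ker Φ
      _ ≤ Nat.card (↥(center X) ⧸ s.range) := card_le_card_group _
      _ = 4 := hrk
  have h2 := H.card_le_two_of_quotient hQ
  obtain ⟨u, v, huv⟩ := H.exists_commutator_ne
  have hcE : ⁅u, v⁆ ∈ E := H.classTwo u v
  have hmove : θ ⁅u, v⁆ ≠ ⁅u, v⁆ := fun h => huv (hfpf _ hcE h)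
  haveI := Fintype.ofFinite X
  have hsub : ({1, ⁅u, v⁆, θ ⁅u, v⁆} : Finset X) ⊆
      Finset.univ.filter fun c => c ∈ _root_.commutator X := by
    intro c hc
    simp only [Finset.mem_insert, Finset.mem_singleton] at hc
    simp only [Finset.mem_filter, Finset.mem_univ, true_and]
    rcases hc with rfl | rfl | rfl
    exacts [one_mem _, H.commutator_mem u v, map_commutatorElement θ u v ▸ H.commutator_mem _ _]
  have hne1 : θ ⁅u, v⁆ ≠ 1 := fun h => huv (θ.injective (h.trans (map_one θ).symm))
  have hc3 : ({1, ⁅u, v⁆, θ ⁅u, v⁆} : Finset X).card = 3 := by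
    rw [Finset.card_insert_of_notMem (by simp [-map_commutatorElement, Ne.symm huv, Ne.symm hne1]),
      Finset.card_pair (Ne.symm hmove)]
  have h3 := Finset.card_le_card hsub
  rw [hc3, ← Fintype.card_subtype, ← Nat.card_eq_fintype_card] at h3
  change 3 ≤ Nat.card (_root_.commutator X) at h3
  omega

/-- The centre is the derived subgroup. -/
theorem center_eq_commutator (H : Hyp A) : center X = _root_.commutator X := by
  refine le_antisymm ?_ H.commutator_le_center
  by_cases hfix : ∀ φ ∈ A, ∀ e ∈ omega (center X) comm_center, φ e = e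
  · intro z hz
    refine H.mem_commutator_of_fixed fun φ hφ => ?_
    rw [hfix φ hφ z ⟨hz, H.center_sq z hz⟩, inv_mul_cancel]
    exact one_mem _
  push Not at hfix
  obtain ⟨θ, hθ, e₀, he₀, hne⟩ := hfix
  obtain ⟨-, -, -, -, hfpf, -⟩ := H.triple inferInstance comm_center (center_ainv A) hθ he₀ hne
  obtain ⟨u, v, huv⟩ := H.exists_commutator_ne
  intro z hz
  have hmove : θ ⁅u, v⁆ ≠ ⁅u, v⁆ := fun h => huv (hfpf _ (H.classTwo u v) h)
  rcases (H.triple inferInstance comm_center (center_ainv A) hθ
    (show ⁅u, v⁆ ∈ omega (center X) comm_center from H.classTwo u v) hmove).2.2.2.1 z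
      ⟨hz, H.center_sq z hz⟩ with rfl | rfl | rfl | rfl
  · exact one_mem _
  · exact H.commutator_mem u v
  · rw [map_commutatorElement]; exact H.commutator_mem _ _
  · rw [map_commutatorElement, map_commutatorElement]; exact H.commutator_mem _ _

theorem special (H : Hyp A) : Cfsg.IsSpecial 2 X := by
  haveI : Fact (Nat.Prime 2) := ⟨Nat.prime_two⟩
  haveI : Group.IsNilpotent X := H.pg.isNilpotent
  refine ⟨H.pg, le_antisymm ?_ ?_, H.center_eq_commutator.symm⟩
  · refine (LocalEvenA.frattini_le_commutator_sup_pow (p := 2)).trans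
      (sup_le H.commutator_le_center ((closure_le _).mpr ?_))
    rintro _ ⟨x, rfl⟩
    rw [SetLike.mem_coe]
    show x ^ 2 ∈ center X
    rw [sq]; exact H.sq_mem_center x
  · rw [H.center_eq_commutator]; exact Basics.commutator_le_frattini

theorem card_center (H : Hyp A) : Nat.card (center X) = 2 ∨ Nat.card (center X) = 4 := by
  haveI : Fact (Nat.Prime 2) := ⟨Nat.prime_two⟩
  have h4 : Nat.card (center X) ≤ 4 := by
    have hle : center X ≤ omega (center X) comm_center := fun z hz => ⟨hz, H.center_sq z hz⟩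
    exact (Nat.le_of_dvd Nat.card_pos (card_dvd_of_le hle)).trans
      (H.small _ inferInstance comm_center)
  obtain ⟨n, hn⟩ := IsPGroup.iff_card.mp (H.pg.to_subgroup (center X))
  rcases n with _ | _ | _ | n
  · exfalso
    obtain ⟨u, v, huv⟩ := H.exists_commutator_ne
    have := (eq_bot_of_card_eq _ (hn.trans (pow_zero 2))) ▸ (H.classTwo u v).1
    exact huv (mem_bot.mp this)
  · exact Or.inl (by rw [hn]; norm_num)
  · exact Or.inr (by rw [hn]; norm_num)
  · exfalso
    rw [hn, pow_succ, pow_succ, pow_succ] at h4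
    have : 1 ≤ 2 ^ n := Nat.one_le_two_pow
    omega

end Hyp

/-- The subgroup of order at most two generated by an involution. -/
def pairSub {K : Type*} [Group K] (v : K) (hv : v * v = 1) : Subgroup K where
  carrier := {a | a = 1 ∨ a = v}
  one_mem' := Or.inl rfl
  mul_mem' := by
    rintro a b (rfl | rfl) (rfl | rfl)
    exacts [Or.inl (one_mul 1), Or.inr (one_mul _), Or.inr (mul_one _), Or.inl hv]
  inv_mem' := by
    rintro a (rfl | rfl)
    exacts [Or.inl inv_one, Or.inr (inv_eq_of_mul_eq_one_left hv)]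

/-- Three independent elements cannot have pairwise pairing values outside a predicate closed
under products of two outside values. -/
theorem no_triple {Q : Type u} [Group Q] [Finite Q] {K : Type u} [Group K] (C : Subgroup Q)
    (B : Q → Q → K) (Pr : K → Prop) {v : Q} (hvv : v * v = 1) (hexp : ∀ a : Q, a * a = 1)
    (hadd : ∀ a b c, B a (b * c) = B a b * B a c)
    (hind : ∀ a ∈ C, ∀ b ∈ C, a ≠ 1 → a ≠ v → b ≠ 1 → b ≠ v → a * b ≠ 1 → a * b ≠ v → ¬ Pr (B a b))
    (hPr : ∀ a b c : Q, ¬ Pr (B a b) → ¬ Pr (B a c) → Pr (B a b * B a c))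
    (hv : v ∈ C) : Nat.card C ≤ 8 ∧ (v = 1 → Nat.card C ≤ 4) := by
  haveI := Fintype.ofFinite Q
  have hcomm : ∀ a b : Q, a * b = b * a := fun a b => by
    calc a * b = (a * b)⁻¹ := (inv_eq_of_mul_eq_one_left (hexp _)).symm
      _ = b⁻¹ * a⁻¹ := mul_inv_rev a b
      _ = b * a := by rw [inv_eq_of_mul_eq_one_left (hexp a), inv_eq_of_mul_eq_one_left (hexp b)]
  have hinv : ∀ a b : Q, a * b = 1 → b = a := fun a b h => mul_left_cancel (h.trans (hexp a).symm)
  have hinv' : ∀ a b c : Q, a * b = c → b = a * c := fun a b c h => by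
    rw [← h, ← mul_assoc, hexp, one_mul]
  have pick : ∀ S : Finset Q, S.card < Nat.card C → ∃ a ∈ C, a ∉ S := by
    intro S hS
    rw [Nat.card_eq_fintype_card, Fintype.card_subtype] at hS
    obtain ⟨a, ha, ha'⟩ := Finset.exists_mem_notMem_of_card_lt_card hS
    exact ⟨a, (Finset.mem_filter.mp ha).2, ha'⟩
  have main : ∀ u₁ ∈ C, ∀ u₂ ∈ C, ∀ u₃ ∈ C, u₁ ∉ ({1, v} : Finset Q) →
      u₂ ∉ ({1, v, u₁, u₁ * v} : Finset Q) →
      u₃ ∉ ({1, v, u₁, u₁ * v, u₂, u₂ * v, u₂ * u₁, u₂ * (u₁ * v)} : Finset Q) → False := by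
    intro u₁ h1 u₂ h2 u₃ h3 n1 n2 n3
    simp only [Finset.mem_insert, Finset.mem_singleton, not_or] at n1 n2 n3
    obtain ⟨a1, a2⟩ := n1
    obtain ⟨b1, b2, b3, b4⟩ := n2
    obtain ⟨c1, c2, c3, c4, c5, c6, c7, c8⟩ := n3
    have e12 := hind u₁ h1 u₂ h2 a1 a2 b1 b2 (fun h => b3 (hinv _ _ h)) (fun h => b4 (hinv' _ _ _ h))
    have e13 := hind u₁ h1 u₃ h3 a1 a2 c1 c2 (fun h => c3 (hinv _ _ h)) (fun h => c4 (hinv' _ _ _ h))
    refine hind u₁ h1 (u₂ * u₃) (C.mul_mem h2 h3) a1 a2 (fun h => c5 (hinv _ _ h))
      (fun h => c6 (hinv' _ _ _ h)) (fun h => c7 ?_) (fun h => c8 ?_) ?_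
    · exact hinv' _ _ _ (hinv _ _ h)
    · exact hinv' _ _ _ (hinv' _ _ _ h)
    · rw [hadd]; exact hPr _ _ _ e12 e13
  have card2 : ({1, v} : Finset Q).card ≤ 2 := Finset.card_le_two
  constructor
  · by_contra hlt
    obtain ⟨u₁, h1, n1⟩ := pick {1, v} (by omega)
    obtain ⟨u₂, h2, n2⟩ := pick {1, v, u₁, u₁ * v}
      (lt_of_le_of_lt Finset.card_le_four (by omega))
    obtain ⟨u₃, h3, n3⟩ := pick {1, v, u₁, u₁ * v, u₂, u₂ * v, u₂ * u₁, u₂ * (u₁ * v)} (by
      refine lt_of_le_of_lt ?_ (Nat.lt_of_not_le hlt)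
      repeat (refine (Finset.card_insert_le _ _).trans (Nat.succ_le_succ ?_))
      simp)
    exact main u₁ h1 u₂ h2 u₃ h3 n1 n2 n3
  · rintro rfl
    by_contra hlt
    obtain ⟨u₁, h1, n1⟩ := pick {1} (by simp only [Finset.card_singleton]; omega)
    obtain ⟨u₂, h2, n2⟩ := pick {1, u₁} (lt_of_le_of_lt Finset.card_le_two (by omega))
    obtain ⟨u₃, h3, n3⟩ := pick {1, u₁, u₂, u₂ * u₁} (lt_of_le_of_lt Finset.card_le_four (by omega))
    exact main u₁ h1 u₂ h2 u₃ h3 (by simpa using n1) (by simpa using n2)
      (by simp only [Finset.mem_insert, Finset.mem_singleton, not_or, mul_one] at n3 ⊢; tauto)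

namespace Hyp

/-- The conclusion. -/
theorem conclusion (H : Hyp A) : Nonempty (X ≃* QuaternionGroup 2) ∨
    (Cfsg.IsSpecial 2 X ∧ Nat.card X = 64 ∧ Nat.card {x : X // orderOf x = 2} = 3 ∧
      ∀ x : X, orderOf x = 2 → x ∈ Subgroup.center X) ∨
    (Cfsg.IsExtraspecial 2 X ∧ Nat.card X = 32 ∧ Nat.card {x : X // orderOf x = 2} = 11) := by
  haveI : Fact (Nat.Prime 2) := ⟨Nat.prime_two⟩
  haveI := Fintype.ofFinite X
  haveI := Fintype.ofFinite (X ⧸ center X)
  set Z := center X with hZdef
  have hcl := fun a b : X => (H.classTwo a b).1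
  have hZ2 := H.center_sq
  have hzcomm : ∀ z ∈ Z, ∀ g : X, g * z = z * g := fun z hz g => mem_center_iff.mp hz g
  have hout : ∀ x : X, ∃ z ∈ Z, (QuotientGroup.mk x : X ⧸ Z).out = x * z := fun x => by
    obtain ⟨z, hz⟩ := QuotientGroup.mk_out_eq_mul Z x
    exact ⟨z, z.2, hz⟩
  let q : X ⧸ Z → X := fun v => v.out * v.out
  let B : X ⧸ Z → X ⧸ Z → X := fun v w => ⁅v.out, w.out⁆
  have hcz : ∀ z ∈ Z, ∀ y : X, ⁅z, y⁆ = 1 := fun z hz y =>
    commutatorElement_eq_one_iff_mul_comm.mpr (hzcomm z hz y).symm
  have hq : ∀ x : X, q (x : X ⧸ Z) = x * x := fun x => by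
    obtain ⟨z, hz, e⟩ := hout x
    show (QuotientGroup.mk x : X ⧸ Z).out * _ = _
    rw [e]
    calc x * z * (x * z) = x * (z * x) * z := by group
      _ = x * (x * z) * z := by rw [hzcomm z hz x]
      _ = x * x * (z * z) := by group
      _ = x * x := by rw [hZ2 z hz, mul_one]
  have hB : ∀ x y : X, B (x : X ⧸ Z) (y : X ⧸ Z) = ⁅x, y⁆ := fun x y => by
    obtain ⟨z, hz, e⟩ := hout x
    obtain ⟨z', hz', e'⟩ := hout y
    show ⁅(QuotientGroup.mk x : X ⧸ Z).out, (QuotientGroup.mk y : X ⧸ Z).out⁆ = _
    rw [e, e', cmul_left hcl, hcz z hz, mul_one, cmul_right hcl]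
    rw [← commutatorElement_inv z' x, hcz z' hz', inv_one, mul_one]
  have hcsymm : ∀ x y : X, ⁅y, x⁆ = ⁅x, y⁆ := fun x y => by
    rw [← commutatorElement_inv x y]; exact (eq_inv_of_mul_eq_one_left (H.classTwo x y).2).symm
  have hBsymm : ∀ v w, B v w = B w v := fun v w => (hcsymm _ _).symm
  have hBadd : ∀ u v w, B u (v * w) = B u v * B u w := by
    intro u v w
    obtain ⟨a, rfl⟩ := QuotientGroup.mk_surjective u
    obtain ⟨b, rfl⟩ := QuotientGroup.mk_surjective v
    obtain ⟨c, rfl⟩ := QuotientGroup.mk_surjective w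
    rw [← QuotientGroup.mk_mul, hB, hB, hB, cmul_right hcl]
  have hBself : ∀ v, B v v = 1 := fun v => commutatorElement_self _
  have hBZ : ∀ v w, B v w ∈ Z := fun v w => hcl _ _
  have hB1 : ∀ v, B v 1 = 1 := fun v => by
    have h := hBadd v 1 1
    rw [one_mul] at h
    exact (mul_eq_left.mp h.symm)
  have hqZ : ∀ v, q v ∈ Z := fun v => H.sq_mem_center _
  have hqmul : ∀ v w, q (v * w) = q v * q w * B v w := by
    intro v w
    obtain ⟨a, rfl⟩ := QuotientGroup.mk_surjective v
    obtain ⟨b, rfl⟩ := QuotientGroup.mk_surjective w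
    rw [← QuotientGroup.mk_mul, hq, hq, hq, hB, ← hcsymm a b,
      show a * b * (a * b) = a * (⁅b, a⁆ * a) * (b * b) by simp only [commutatorElement_def]; group,
      ← hzcomm _ (hcl b a) a,
      show a * (a * ⁅b, a⁆) * (b * b) = (a * a) * (⁅b, a⁆ * (b * b)) by group,
      ← hzcomm _ (hcl b a) (b * b), ← mul_assoc]
  have hq1 : q 1 = 1 := by rw [← QuotientGroup.mk_one Z, hq, one_mul]
  have hexp : ∀ v : X ⧸ Z, v * v = 1 := by
    intro v
    obtain ⟨a, rfl⟩ := QuotientGroup.mk_surjective v
    rw [← QuotientGroup.mk_mul, QuotientGroup.eq_one_iff]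
    exact H.sq_mem_center a
  have hnd : ∀ v : X ⧸ Z, v ≠ 1 → ∃ w, B v w ≠ 1 := by
    intro v hv
    obtain ⟨a, rfl⟩ := QuotientGroup.mk_surjective v
    by_contra hh
    push Not at hh
    refine hv ((QuotientGroup.eq_one_iff a).mpr (mem_center_iff.mpr fun g => ?_))
    have h := hh (g : X ⧸ Z)
    rw [hB] at h
    exact (commutatorElement_eq_one_iff_mul_comm.mp h).symm
  -- the action on the quotient
  have hρ : ∀ φ ∈ A, ∀ x : X,
      (QuotientGroup.mk (φ (QuotientGroup.mk x : X ⧸ Z).out) : X ⧸ Z) = QuotientGroup.mk (φ x) := by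
    intro φ hφ x
    obtain ⟨z, hz, e⟩ := hout x
    rw [e, map_mul, QuotientGroup.mk_mul,
      (QuotientGroup.eq_one_iff (φ z)).mpr (center_ainv A φ hφ z hz), mul_one]
  letI : MulAction ↥A (X ⧸ Z) :=
    { smul := fun φ v => QuotientGroup.mk ((φ : MulAut X) v.out)
      one_smul := fun v => QuotientGroup.out_eq' v
      mul_smul := fun φ ψ v => (hρ (φ : MulAut X) φ.2 ((ψ : MulAut X) v.out)).symm }
  have hsmul : ∀ (φ : ↥A) (v : X ⧸ Z), φ • v = QuotientGroup.mk ((φ : MulAut X) v.out) :=
    fun φ v => rfl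
  have hsmul1 : ∀ (φ : ↥A) (v : X ⧸ Z), v ≠ 1 → φ • v ≠ 1 := by
    intro φ v hv h
    rw [hsmul, QuotientGroup.eq_one_iff] at h
    have := center_ainv A (φ : MulAut X)⁻¹ (A.inv_mem φ.2) _ h
    rw [MulAut.inv_apply_self] at this
    exact hv (by rw [← QuotientGroup.out_eq' v, QuotientGroup.eq_one_iff]; exact this)
  have hqsmul : ∀ (φ : ↥A) (v : X ⧸ Z), q (φ • v) = (φ : MulAut X) (q v) := by
    intro φ v
    rw [hsmul, hq, ← map_mul]
  have horb : ∀ S : Finset (X ⧸ Z), (∀ v ∈ S, v ≠ 1) → (∀ φ : ↥A, ∀ v ∈ S, φ • v ∈ S) →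
      S.card ≠ 1 ∧ S.card ≠ 2 ∧ S.card ≠ 4 := by
    intro S hS1 hSA
    have horb3 : ∀ v ∈ S, 3 ≤ (Finset.univ.filter fun w => w ∈ MulAction.orbit ↥A v).card := by
      intro v hv
      set O := Finset.univ.filter fun w => w ∈ MulAction.orbit ↥A v with hO
      have hOc : O.card = Nat.card (MulAction.orbit ↥A v) := by
        rw [Nat.card_eq_fintype_card, ← Set.toFinset_card]
        congr 1; ext; simp [hO]
      have hd : O.card ∣ Nat.card ↥A := by
        rw [hOc, Nat.card_congr (MulAction.orbitEquivQuotientStabilizer ↥A v)]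
        exact Subgroup.index_dvd_card _
      have hodd : Odd O.card := H.odd.of_dvd_nat hd
      have hv' : v ∈ O := by simp [hO, MulAction.mem_orbit_self]
      by_contra hlt
      have h1 : O.card = 1 := by obtain ⟨k, hk⟩ := hodd; omega
      refine hS1 v hv ?_
      have hfix : ∀ φ : ↥A, φ • v = v := fun φ =>
        Finset.card_le_one.mp h1.le _ (by simp [hO, MulAction.mem_orbit]) _ hv'
      rw [← QuotientGroup.out_eq' v, QuotientGroup.eq_one_iff]
      refine H.center_eq_commutator.ge (H.mem_commutator_of_fixed fun φ hφ => ?_)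
      have h := hfix ⟨φ, hφ⟩
      rw [hsmul] at h
      nth_rewrite 2 [← QuotientGroup.out_eq' v] at h
      rw [← H.center_eq_commutator]
      exact QuotientGroup.eq.mp h.symm
    have hsub : ∀ v ∈ S, (Finset.univ.filter fun w => w ∈ MulAction.orbit ↥A v) ⊆ S := by
      intro v hv w hw
      obtain ⟨φ, rfl⟩ := (Finset.mem_filter.mp hw).2
      exact hSA φ v hv
    have key : S.card ≠ 0 → 3 ≤ S.card := fun h => by
      obtain ⟨v, hv⟩ := Finset.card_pos.mp (Nat.pos_of_ne_zero h)
      exact (horb3 v hv).trans (Finset.card_le_card (hsub v hv))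
    refine ⟨fun h => by have := key (by omega); omega, fun h => by have := key (by omega); omega, fun h => ?_⟩
    obtain ⟨v, hv⟩ := Finset.card_pos.mp (show 0 < S.card by omega)
    set O := Finset.univ.filter fun w => w ∈ MulAction.orbit ↥A v
    by_cases hOS : O = S
    · have hd : Odd O.card := by
        refine H.odd.of_dvd_nat ?_
        have hOc : O.card = Nat.card (MulAction.orbit ↥A v) := by
          rw [Nat.card_eq_fintype_card, ← Set.toFinset_card]
          congr 1; ext; simp [O]
        rw [hOc, Nat.card_congr (MulAction.orbitEquivQuotientStabilizer ↥A v)]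
        exact Subgroup.index_dvd_card _
      rw [hOS, h] at hd
      exact absurd hd (by decide)
    · obtain ⟨w, hw, hwO⟩ := Finset.exists_of_ssubset (lt_of_le_of_ne (hsub v hv) hOS)
      have hdis : Disjoint O (Finset.univ.filter fun u => u ∈ MulAction.orbit ↥A w) := by
        rw [Finset.disjoint_left]
        intro u hu hu'
        refine hwO (Finset.mem_filter.mpr ⟨Finset.mem_univ _, ?_⟩)
        have e1 := MulAction.orbit_eq_iff.mpr (Finset.mem_filter.mp hu).2
        have e2 := MulAction.orbit_eq_iff.mpr (Finset.mem_filter.mp hu').2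
        rw [← e1, e2]; exact MulAction.mem_orbit_self w
      have h6 := Finset.card_le_card (Finset.union_subset (hsub v hv) (hsub w hw))
      rw [Finset.card_union_of_disjoint hdis] at h6
      have := horb3 v hv; have := horb3 w hw
      simp only [O] at *
      omega
  -- sizes
  obtain ⟨n, hn⟩ := IsPGroup.iff_card.mp (H.pg.to_quotient Z)
  have hcardX : Nat.card X = Nat.card (X ⧸ Z) * Nat.card Z := card_eq_card_quotient_mul_card_subgroup Z
  let Cv : X ⧸ Z → Subgroup (X ⧸ Z) := fun v =>
    { carrier := {w | B v w = 1}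
      one_mem' := hB1 v
      mul_mem' := fun {a b} (ha : B v a = 1) (hb : B v b = 1) => by
        show B v (a * b) = 1; rw [hBadd, ha, hb, one_mul]
      inv_mem' := fun {a} (ha : B v a = 1) => by
        show B v a⁻¹ = 1; rwa [inv_eq_of_mul_eq_one_left (hexp a)] }
  have hCv : ∀ v, Nat.card (X ⧸ Z) ≤ Nat.card (Cv v) * Nat.card Z := by
    intro v
    let f : X ⧸ Z →* ↥Z := MonoidHom.mk' (fun w => ⟨B v w, hBZ v w⟩) fun a b => Subtype.ext (hBadd v a b)
    have hk : f.ker = Cv v := by
      ext w
      rw [MonoidHom.mem_ker]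
      exact ⟨fun h => congrArg Subtype.val h, fun h => Subtype.ext h⟩
    rw [← (Cv v).card_mul_index, ← hk, Subgroup.index_ker]
    exact Nat.mul_le_mul le_rfl (card_le_card_group _)
  have hqv1 : ∀ x : X, x * x = 1 ↔ q (x : X ⧸ Z) = 1 := fun x => by rw [hq]
  rcases (show Nat.card Z = 2 ∨ Nat.card Z = 4 from H.card_center) with hc2 | hc4
  · -- centre of order two
    obtain ⟨z, hzZ, hz1, hall⟩ : ∃ z ∈ Z, z ≠ 1 ∧ ∀ a ∈ Z, a = 1 ∨ a = z := by
      obtain ⟨u, v, huv⟩ := H.exists_commutator_ne
      refine ⟨⁅u, v⁆, hcl u v, huv, fun a ha => ?_⟩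
      by_contra hne
      push Not at hne
      have hsub : ({1, ⁅u, v⁆, a} : Finset X) ⊆ Finset.univ.filter fun c => c ∈ Z := by
        intro c hc
        simp only [Finset.mem_insert, Finset.mem_singleton] at hc
        simp only [Finset.mem_filter, Finset.mem_univ, true_and]
        rcases hc with rfl | rfl | rfl
        exacts [one_mem _, hcl u v, ha]
      have h3 := Finset.card_le_card hsub
      rw [Finset.card_insert_of_notMem (by simp [Ne.symm huv, Ne.symm hne.1]),
        Finset.card_pair (Ne.symm hne.2), ← Fintype.card_subtype, ← Nat.card_eq_fintype_card] at h3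
      change 3 ≤ Nat.card Z at h3
      omega
    have hzz : z * z = 1 := hZ2 z hzZ
    have hpair : ∀ v w : X ⧸ Z, q v = 1 → q w = 1 → B v w = 1 → v ≠ 1 → w ≠ 1 → w ≠ v → False := by
      intro v w hv hw hvw hv1 hw1 hne
      obtain ⟨x, rfl⟩ := QuotientGroup.mk_surjective v
      obtain ⟨y, rfl⟩ := QuotientGroup.mk_surjective w
      rw [hq] at hv hw
      rw [hB] at hvw
      have hxy := commutatorElement_eq_one_iff_mul_comm.mp hvw
      set M := closure ((Z : Set X) ∪ {x, y}) with hM
      have hMc : Comm M := comm_closure (by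
        rintro a (ha | rfl | rfl) b (hb | rfl | rfl)
        all_goals first
          | exact (hzcomm a ha _).symm
          | exact hzcomm b hb _
          | exact hxy
          | exact hxy.symm
          | rfl)
      have hMn : M.Normal := normal_of_commutators fun a b => subset_closure (Or.inl (hcl a b))
      set M₁ := (pairSub (x : X ⧸ Z) (hexp _)).comap (QuotientGroup.mk' Z) ⊓ omega M hMc with hM₁
      have hxM : x ∈ omega M hMc := ⟨subset_closure (Or.inr (Or.inl rfl)), hv⟩
      have hyM : y ∈ omega M hMc := ⟨subset_closure (Or.inr (Or.inr rfl)), hw⟩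
      have h1 : Z < M₁ := lt_of_le_of_ne
        (fun a ha => ⟨Or.inl ((QuotientGroup.eq_one_iff a).mpr ha), subset_closure (Or.inl ha), hZ2 a ha⟩)
        fun h => hv1 ((QuotientGroup.eq_one_iff x).mpr
          ((h ▸ ⟨Or.inr rfl, hxM⟩ : x ∈ Z)))
      have h2 : M₁ < omega M hMc := lt_of_le_of_ne inf_le_right fun h => by
        rcases ((h.symm ▸ hyM : y ∈ M₁)).1 with e | e
        exacts [hw1 e, hne e]
      have := two_mul_card_le h1
      have := two_mul_card_le h2
      have := H.small M hMn hMc
      omega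
    set S := Finset.univ.filter fun v : X ⧸ Z => v ≠ 1 ∧ q v = 1 with hS
    have hSA : ∀ φ : ↥A, ∀ v ∈ S, φ • v ∈ S := by
      intro φ v hv
      simp only [hS, Finset.mem_filter, Finset.mem_univ, true_and] at hv ⊢
      exact ⟨hsmul1 φ v hv.1, by rw [hqsmul, hv.2, map_one]⟩
    have hSorb := horb S (fun v hv => (Finset.mem_filter.mp hv).2.1) hSA
    have haniso : ∀ v : X ⧸ Z, q v = 1 → (∀ w, B v w = 1 → w ≠ 1 → w ≠ v → q w = z) →
        Nat.card (Cv v) ≤ 8 ∧ (v = 1 → Nat.card (Cv v) ≤ 4) := by
      intro v hv hval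
      refine no_triple (Cv v) B (fun c => c = 1) (hexp v) hexp hBadd ?_ ?_ (hBself v)
      · intro a ha b hb a1 a2 b1 b2 c1 c2 hBab
        have := hval (a * b) ((Cv v).mul_mem ha hb) c1 c2
        rw [hqmul, hval a ha a1 a2, hval b hb b1 b2, hBab, hzz, one_mul] at this
        exact hz1 this.symm
      · intro a b c hb hc
        rw [(hall _ (hBZ a b)).resolve_left hb, (hall _ (hBZ a c)).resolve_left hc, hzz]
    have hCv1 : Nat.card (Cv 1) = Nat.card (X ⧸ Z) := by
      have : Cv 1 = ⊤ := eq_top_iff.mpr fun w _ => by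
        show B 1 w = 1; rw [hBsymm, hB1]
      rw [this, card_top]
    have hcS : ∀ v ∈ S, 4 * (S.card - 1) = Nat.card (X ⧸ Z) ∧ Nat.card (X ⧸ Z) ≤ 16 := by
      intro v hv
      simp only [hS, Finset.mem_filter, Finset.mem_univ, true_and] at hv
      obtain ⟨hv1, hvq⟩ := hv
      have hval : ∀ w, B v w = 1 → w ≠ 1 → w ≠ v → q w = z := fun w hw w1 wv =>
        (hall _ (hqZ w)).resolve_left fun h => hpair v w hvq h hw hv1 w1 wv
      have hle := (haniso v hvq hval).1
      obtain ⟨w₀, hw₀⟩ := hnd v hv1
      set T := Finset.univ.filter fun w : X ⧸ Z => B v w ≠ 1 with hT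
      have hflip : ∀ w ∈ T, q (w * v) = q w * z := fun w hw => by
        rw [hqmul, hvq, mul_one, hBsymm, (hall _ (hBZ v w)).resolve_left (Finset.mem_filter.mp hw).2]
      have hTv : ∀ w ∈ T, w * v ∈ T := fun w hw => by
        simp only [hT, Finset.mem_filter, Finset.mem_univ, true_and] at hw ⊢
        rwa [hBadd, hBself, mul_one]
      have hSeq : S = insert v (T.filter fun w => q w = 1) := by
        ext w
        simp only [hS, hT, Finset.mem_filter, Finset.mem_univ, true_and, Finset.mem_insert]
        constructor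
        · rintro ⟨w1, wq⟩
          by_cases hwv : w = v
          · exact Or.inl hwv
          · exact Or.inr ⟨fun h => hz1 ((hval w h w1 hwv).symm.trans wq), wq⟩
        · rintro (rfl | ⟨hb, wq⟩)
          exacts [⟨hv1, hvq⟩, ⟨fun h => hb (h ▸ hB1 v), wq⟩]
      have hSc : S.card = (T.filter fun w => q w = 1).card + 1 := by
        rw [hSeq, Finset.card_insert_of_notMem]
        simp [hT, hBself]
      have hhalf : (T.filter fun w => q w = 1).card = (T.filter fun w => ¬ q w = 1).card := by
        refine Finset.card_bij' (fun w _ => w * v) (fun w _ => w * v) ?_ ?_ ?_ ?_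
        · intro w hw
          obtain ⟨hw, hwq⟩ := Finset.mem_filter.mp hw
          exact Finset.mem_filter.mpr ⟨hTv w hw, by rw [hflip w hw, hwq, one_mul]; exact hz1⟩
        · intro w hw
          obtain ⟨hw, hwq⟩ := Finset.mem_filter.mp hw
          exact Finset.mem_filter.mpr ⟨hTv w hw, by
            rw [hflip w hw, (hall _ (hqZ w)).resolve_left hwq, hzz]⟩
        all_goals intro w _; simp [mul_assoc, hexp v]
      have hsum := Finset.card_filter_add_card_filter_not (s := T) (fun w => q w = 1)
      have hcompl : T.card = Nat.card (Cv v) := by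
        rw [Nat.card_eq_fintype_card, Fintype.card_subtype]
        refine Finset.card_bij' (fun w _ => w * w₀) (fun w _ => w * w₀) ?_ ?_ ?_ ?_
        · intro w hw
          simp only [hT, Finset.mem_filter, Finset.mem_univ, true_and] at hw ⊢
          show B v (w * w₀) = 1
          rw [hBadd, (hall _ (hBZ v w)).resolve_left hw, (hall _ (hBZ v w₀)).resolve_left hw₀, hzz]
        · intro w hw
          simp only [hT, Finset.mem_filter, Finset.mem_univ, true_and] at hw ⊢
          change B v w = 1 at hw
          rw [hBadd, hw, one_mul]; exact hw₀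
        all_goals intro w _; simp [mul_assoc, hexp w₀]
      have htot : T.card + Nat.card (Cv v) = Nat.card (X ⧸ Z) := by
        rw [Nat.card_eq_fintype_card (α := X ⧸ Z), Nat.card_eq_fintype_card, Fintype.card_subtype,
          ← Finset.card_univ, ← Finset.card_filter_add_card_filter_not (s := Finset.univ)
            (fun w : X ⧸ Z => B v w = 1), add_comm]
        rfl
      omega
    have hSne : Nat.card (X ⧸ Z) ≤ 4 ∨ ∃ v, v ∈ S := by
      by_cases h : ∃ v, v ∈ S
      · exact Or.inr h
      refine Or.inl (hCv1 ▸ (haniso 1 hq1 fun w _ w1 _ => ?_).2 rfl)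
      exact (hall _ (hqZ w)).resolve_left fun hh =>
        h ⟨w, by simp [hS, w1, hh]⟩
    have hn4 : n ≤ 4 := by
      rcases hSne with h | ⟨v, hv⟩
      · rw [hn] at h
        by_contra hgt
        have : 2 ^ 5 ≤ 2 ^ n := Nat.pow_le_pow_right two_pos (by omega)
        omega
      · have := (hcS v hv).2
        rw [hn] at this
        by_contra hgt
        have : 2 ^ 5 ≤ 2 ^ n := Nat.pow_le_pow_right two_pos (by omega)
        omega
    interval_cases n
    · exfalso
      have hall1 : ∀ v : X ⧸ Z, v = 1 := fun v => by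
        have := (Nat.card_eq_one_iff_unique.mp (hn.trans (pow_zero 2))).1
        exact Subsingleton.elim _ _
      obtain ⟨u, v, huv⟩ := H.exists_commutator_ne
      exact huv (by rw [← hB, hall1 (v : X ⧸ Z), hB1])
    · exfalso
      obtain ⟨u, v, huv⟩ := H.exists_commutator_ne
      have hu : (u : X ⧸ Z) ≠ 1 := fun h => huv (by rw [← hB, h, hBsymm, hB1])
      have hv : (v : X ⧸ Z) ≠ 1 := fun h => huv (by rw [← hB, h, hB1])
      have hne : (u : X ⧸ Z) ≠ v := fun h => huv (by rw [← hB, h, hBself])
      have := Finset.card_le_univ ({1, (u : X ⧸ Z), (v : X ⧸ Z)} : Finset (X ⧸ Z))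
      rw [Finset.card_insert_of_notMem (by simp [Ne.symm hu, Ne.symm hv]), Finset.card_pair hne,
        ← Nat.card_eq_fintype_card, hn] at this
      omega
    · -- the quaternion group
      left
      have hidx : (_root_.commutator X).index = 4 := by
        rw [← H.center_eq_commutator]; exact hn.trans (by norm_num)
      refine Invol.MaxClassTwo.quaternion_of_aut H.pg
        (fun h => H.nonab fun a b => h.is_comm.comm a b) hidx fun hp => ?_
      have hA1 : ∀ φ ∈ A, φ = 1 := fun φ hφ => by
        obtain ⟨k, hk⟩ := hp φ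
        exact orderOf_eq_one_iff.mp (Nat.eq_one_of_dvd_coprimes
          (Nat.Coprime.pow_right k (Nat.coprime_two_right.mpr (H.odd_orderOf hφ)))
          dvd_rfl (orderOf_dvd_of_pow_eq_one hk))
      refine H.nonab fun a b => ?_
      have : ∀ g : X, g = 1 := fun g =>
        H.hom_trivial (MonoidHom.id X) (fun φ hφ x => by rw [hA1 φ hφ]; rfl) g
      rw [this a, this b]
    · exfalso
      rcases hSne with h | ⟨v, hv⟩
      · rw [hn] at h; norm_num at h
      have hcS' := (hcS v hv).1
      rw [hn] at hcS'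
      set R := Finset.univ.filter fun w : X ⧸ Z => w ≠ 1 ∧ q w = z with hR
      have hR4 : R.card = 4 := by
        have hd : S.card + R.card = (Finset.univ.erase (1 : X ⧸ Z)).card := by
          rw [← Finset.card_union_of_disjoint (Finset.disjoint_left.mpr fun w hw hw' =>
            hz1 ((Finset.mem_filter.mp hw').2.2.symm.trans (Finset.mem_filter.mp hw).2.2))]
          congr 1
          ext w
          simp only [hS, hR, Finset.mem_union, Finset.mem_filter, Finset.mem_univ, true_and,
            Finset.mem_erase]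
          rcases hall _ (hqZ w) with h | h <;> simp [h, hz1, Ne.symm hz1]
        rw [Finset.card_erase_of_mem (Finset.mem_univ _), Finset.card_univ,
          ← Nat.card_eq_fintype_card, hn] at hd
        omega
      refine (horb R (fun w hw => (Finset.mem_filter.mp hw).2.1) fun φ w hw => ?_).2.2 hR4
      simp only [hR, Finset.mem_filter, Finset.mem_univ, true_and] at hw ⊢
      refine ⟨hsmul1 φ w hw.1, ?_⟩
      rw [hqsmul, hw.2]
      rcases hall _ (center_ainv A (φ : MulAut X) φ.2 z hzZ) with h | h
      · exact absurd ((φ : MulAut X).injective (h.trans (map_one _).symm)) hz1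
      · exact h
    · -- extraspecial of order 32
      refine Or.inr (Or.inr ⟨⟨H.special, hc2⟩, by rw [hcardX, hn, hc2]; norm_num, ?_⟩)
      rcases hSne with h | ⟨v, hv⟩
      · rw [hn] at h; norm_num at h
      have hcS' := (hcS v hv).1
      rw [hn] at hcS'
      have hq0 : Nat.card {v : X ⧸ Z // q v = 1} = S.card + 1 := by
        rw [Nat.card_eq_fintype_card, Fintype.card_subtype,
          show (Finset.univ.filter fun v : X ⧸ Z => q v = 1) = insert 1 S by
            ext w
            by_cases hw : w = 1 <;> simp [hS, hw, hq1],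
          Finset.card_insert_of_notMem (by simp [hS])]
      have e : {x : X // x * x = 1} ≃ {v : X ⧸ Z // q v = 1} × ↥Z :=
        { toFun := fun x => (⟨(x.1 : X ⧸ Z), (hqv1 x.1).mp x.2⟩,
            ⟨(x.1 : X ⧸ Z).out⁻¹ * x.1, QuotientGroup.eq.mp (QuotientGroup.out_eq' _)⟩)
          invFun := fun p => ⟨p.1.1.out * p.2, (hqv1 _).mpr (by
            rw [QuotientGroup.mk_mul, QuotientGroup.out_eq', (QuotientGroup.eq_one_iff _).mpr p.2.2,
              mul_one]
            exact p.1.2)⟩
          left_inv := fun x => Subtype.ext (mul_inv_cancel_left _ _)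
          right_inv := fun p => by
            have h : ((p.1.1.out * (p.2 : X) : X) : X ⧸ Z) = p.1.1 := by
              rw [QuotientGroup.mk_mul, QuotientGroup.out_eq',
                (QuotientGroup.eq_one_iff _).mpr p.2.2, mul_one]
            refine Prod.ext (Subtype.ext h) (Subtype.ext ?_)
            show ((p.1.1.out * (p.2 : X) : X) : X ⧸ Z).out⁻¹ * (p.1.1.out * (p.2 : X)) = p.2
            rw [h, inv_mul_cancel_left] }
      have h12 : Nat.card {x : X // x * x = 1} = 12 := by
        rw [Nat.card_congr e, Nat.card_prod, hq0, hc2]; omega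
      rw [Nat.card_eq_fintype_card, Fintype.card_subtype] at h12 ⊢
      have hfe : (Finset.univ.filter fun x : X => orderOf x = 2) =
          (Finset.univ.filter fun x : X => x * x = 1).erase 1 := by
        ext x
        simp [orderOf_eq_prime_iff, sq, and_comm]
      rw [hfe, Finset.card_erase_of_mem (by simp), h12]
  · -- centre of order four
    have hfour : ∀ a ∈ Z, ∀ x ∈ Z, ∀ y ∈ Z, a ≠ 1 → x ≠ 1 → x ≠ a → y ≠ 1 → y ≠ a →
        x * y = 1 ∨ x * y = a := by
      intro a ha x hx y hy a1 x1 xa y1 ya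
      by_contra hne
      push Not at hne
      have hxy : x ≠ y := fun h => hne.1 (by rw [← h]; exact hZ2 x hx)
      have hsub : ({1, a, x, y, x * y} : Finset X) ⊆ Finset.univ.filter fun c => c ∈ Z := by
        intro c hc
        simp only [Finset.mem_insert, Finset.mem_singleton] at hc
        simp only [Finset.mem_filter, Finset.mem_univ, true_and]
        rcases hc with rfl | rfl | rfl | rfl | rfl
        exacts [one_mem _, ha, hx, hy, mul_mem hx hy]
      have h5 := Finset.card_le_card hsub
      rw [Finset.card_insert_of_notMem (by simp [Ne.symm a1, Ne.symm x1, Ne.symm y1, Ne.symm hne.1]),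
        Finset.card_insert_of_notMem (by simp [Ne.symm xa, Ne.symm ya, Ne.symm hne.2]),
        Finset.card_insert_of_notMem (by simp [hxy, y1]),
        Finset.card_pair (fun h => x1 (mul_eq_right.mp h.symm)),
        ← Fintype.card_subtype, ← Nat.card_eq_fintype_card] at h5
      change 5 ≤ Nat.card Z at h5
      omega
    have hqne : ∀ v : X ⧸ Z, v ≠ 1 → q v ≠ 1 := by
      intro v hv hqv
      obtain ⟨t, rfl⟩ := QuotientGroup.mk_surjective v
      rw [hq] at hqv
      set M := closure ((Z : Set X) ∪ {t}) with hM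
      have hMc : Comm M := comm_closure (by
        rintro a (ha | rfl) b (hb | rfl)
        all_goals first
          | exact (hzcomm a ha _).symm
          | exact hzcomm b hb _
          | rfl)
      have hMn : M.Normal := normal_of_commutators fun a b => subset_closure (Or.inl (hcl a b))
      have hlt : Z < omega M hMc := lt_of_le_of_ne
        (fun a ha => ⟨subset_closure (Or.inl ha), hZ2 a ha⟩)
        fun h => hv ((QuotientGroup.eq_one_iff t).mpr
          ((h ▸ ⟨subset_closure (Or.inr rfl), hqv⟩ : t ∈ Z)))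
      have := two_mul_card_le hlt
      have := H.small M hMn hMc
      omega
    have hv8 : ∀ v : X ⧸ Z, v ≠ 1 → Nat.card (Cv v) ≤ 8 := by
      intro v hv
      have hval : ∀ w, B v w = 1 → w ≠ 1 → w ≠ v → q w ≠ 1 ∧ q w ≠ q v := by
        intro w hw w1 wv
        refine ⟨hqne w w1, fun h => hqne (w * v) (fun hh => wv (mul_right_cancel (hh.trans (hexp v).symm))) ?_⟩
        rw [hqmul, hBsymm, hw, h, mul_one]
        exact hZ2 _ (hqZ v)
      refine (no_triple (Cv v) B (fun c => c = 1 ∨ c = q v) (hexp v) hexp hBadd ?_ ?_ (hBself v)).1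
      · intro a ha b hb a1 a2 b1 b2 c1 c2 hBab
        obtain ⟨qa1, qav⟩ := hval a ha a1 a2
        obtain ⟨qb1, qbv⟩ := hval b hb b1 b2
        obtain ⟨qc1, qcv⟩ := hval (a * b) ((Cv v).mul_mem ha hb) c1 c2
        rw [hqmul] at qc1 qcv
        rcases hfour _ (hqZ v) _ (hqZ a) _ (hqZ b) (hqne v hv) qa1 qav qb1 qbv with e | e <;>
          rw [e] at qc1 qcv <;> rcases hBab with f | f <;> rw [f] at qc1 qcv
        · exact qc1 (one_mul 1)
        · exact qcv (one_mul _)
        · exact qcv (mul_one _)
        · exact qc1 (hZ2 _ (hqZ v))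
      · intro a b c hb hc
        push Not at hb hc
        exact hfour _ (hqZ v) _ (hBZ a b) _ (hBZ a c) (hqne v hv) hb.1 hb.2 hc.1 hc.2
    have hbig : 4 < Nat.card (X ⧸ Z) := by
      by_contra hle
      have := H.card_le_two_of_quotient (Nat.le_of_not_lt hle)
      rw [← H.center_eq_commutator] at this
      change Nat.card Z ≤ 2 at this
      omega
    have hn5 : n ≤ 5 := by
      obtain ⟨v, hv⟩ : ∃ v : X ⧸ Z, v ≠ 1 := by
        by_contra hh
        push Not at hh
        haveI : Subsingleton (X ⧸ Z) := ⟨fun a b => (hh a).trans (hh b).symm⟩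
        have := Finite.card_le_one_iff_subsingleton.mpr ‹_›
        omega
      have := hCv v
      have := hv8 v hv
      by_contra hgt
      have : 2 ^ 6 ≤ 2 ^ n := Nat.pow_le_pow_right two_pos (by omega)
      rw [hc4, hn] at *
      omega
    -- value classes
    let N : X → Finset (X ⧸ Z) := fun a => Finset.univ.filter fun v => v ≠ 1 ∧ q v = a
    set T := (Finset.univ.filter fun a : X => a ∈ Z).erase 1 with hT
    have hTc : T.card = 3 := by
      rw [hT, Finset.card_erase_of_mem (by simp), ← Fintype.card_subtype, ← Nat.card_eq_fintype_card]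
      show Nat.card Z - 1 = 3
      omega
    have hTmem : ∀ a, a ∈ T ↔ a ≠ 1 ∧ a ∈ Z := fun a => by simp [hT]
    have hsum : ∑ a ∈ T, (N a).card = Nat.card (X ⧸ Z) - 1 := by
      have hm := Finset.card_eq_sum_card_fiberwise (s := (Finset.univ.erase (1 : X ⧸ Z))) (t := T)
        (f := q) (fun v hv => (hTmem _).mpr ⟨hqne v (Finset.ne_of_mem_erase hv), hqZ v⟩)
      rw [Finset.card_erase_of_mem (Finset.mem_univ _), Finset.card_univ,
        ← Nat.card_eq_fintype_card] at hm
      rw [hm]
      refine Finset.sum_congr rfl fun a _ => ?_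
      congr 1
      ext w
      simp [N, and_comm]
    have hsp : ∀ k, (∀ a ∈ T, (N a).card = k) → 3 * k = Nat.card (X ⧸ Z) - 1 := fun k hk => by
      rw [← hsum, Finset.sum_congr rfl hk, Finset.sum_const, hTc, smul_eq_mul]
    interval_cases n
    · exfalso; rw [hn] at hbig; norm_num at hbig
    · exfalso; rw [hn] at hbig; norm_num at hbig
    · exfalso; rw [hn] at hbig; norm_num at hbig
    · exfalso
      by_cases hfix : ∀ φ ∈ A, ∀ a ∈ Z, φ a = a
      · -- invariant classes
        have hNA : ∀ a ∈ T, ∀ φ : ↥A, ∀ v ∈ N a, φ • v ∈ N a := by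
          intro a ha φ v hv
          simp only [N, Finset.mem_filter, Finset.mem_univ, true_and] at hv ⊢
          exact ⟨hsmul1 φ v hv.1, by rw [hqsmul, hv.2]; exact hfix _ φ.2 a ((hTmem a).mp ha).2⟩
        have hN : ∀ a ∈ T, (N a).card ≠ 1 ∧ (N a).card ≠ 2 ∧ (N a).card ≠ 4 := fun a ha =>
          horb _ (fun v hv => (Finset.mem_filter.mp hv).2.1) (hNA a ha)
        obtain ⟨a, b, c, hab, hac, hbc, hTeq⟩ := Finset.card_eq_three.mp hTc
        rw [hTeq] at hsum hN
        rw [Finset.sum_insert (by simp [hab, hac]), Finset.sum_pair hbc, hn] at hsum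
        simp only [Finset.mem_insert, Finset.mem_singleton, forall_eq_or_imp, forall_eq] at hN
        obtain ⟨d, hd, hd7⟩ : ∃ d ∈ T, (N d).card = 7 := by
          rcases (by omega : (N a).card = 7 ∨ (N b).card = 7 ∨ (N c).card = 7) with h | h | h
          exacts [⟨a, by simp [hTeq], h⟩, ⟨b, by simp [hTeq], h⟩, ⟨c, by simp [hTeq], h⟩]
        have hconst : ∀ v : X ⧸ Z, v ≠ 1 → q v = d := by
          intro v hv
          have hEq : N d = Finset.univ.erase 1 := Finset.eq_of_subset_of_card_le
            (fun w hw => by simp [(Finset.mem_filter.mp hw).2.1])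
            (by rw [Finset.card_erase_of_mem (Finset.mem_univ _), Finset.card_univ,
              ← Nat.card_eq_fintype_card, hn, hd7]; norm_num)
          have : v ∈ N d := by rw [hEq]; simp [hv]
          exact (Finset.mem_filter.mp this).2.2
        have hdZ := (hTmem d).mp hd
        have hBd : ∀ x y : X, ⁅x, y⁆ = 1 ∨ ⁅x, y⁆ = d := by
          intro x y
          have hq' : ∀ v, q v = 1 ∨ q v = d := fun v =>
            if h : v = 1 then Or.inl (h ▸ hq1) else Or.inr (hconst v h)
          have h := hqmul (x : X ⧸ Z) (y : X ⧸ Z)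
          rw [hB] at h
          have hd2 : d * d = 1 := hZ2 d hdZ.2
          rcases hq' ((x : X ⧸ Z) * y) with e | e <;> rcases hq' (x : X ⧸ Z) with f | f <;>
            rcases hq' (y : X ⧸ Z) with g | g <;> rw [e, f, g] at h <;>
            simp only [one_mul, mul_one, hd2] at h
          all_goals first
            | exact Or.inl h.symm
            | exact Or.inr h.symm
            | exact Or.inl (mul_eq_left.mp h.symm)
            | exact Or.inr (mul_left_cancel (h.symm.trans hd2.symm))
        have := H.card_commutator_le_two (H.center_eq_commutator ▸ hdZ.2) hBd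
        rw [← H.center_eq_commutator] at this
        change Nat.card Z ≤ 2 at this
        omega
      · push Not at hfix
        obtain ⟨φ, hφ, e, he, hne⟩ := hfix
        obtain ⟨he1, -, -, hall, -, -⟩ :=
          H.triple (W := center X) inferInstance comm_center (center_ainv A) hφ ⟨he, hZ2 e he⟩ hne
        have hmap : ∀ a : X, (N a).card = (N (φ a)).card := by
          intro a
          refine Finset.card_bij' (fun v _ => (⟨φ, hφ⟩ : ↥A) • v) (fun v _ => (⟨φ, hφ⟩ : ↥A)⁻¹ • v) ?_ ?_
            (fun v _ => inv_smul_smul _ v) (fun v _ => smul_inv_smul _ v)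
          · intro v hv
            simp only [N, Finset.mem_filter, Finset.mem_univ, true_and] at hv ⊢
            exact ⟨hsmul1 _ v hv.1, by rw [hqsmul, hv.2]⟩
          · intro v hv
            simp only [N, Finset.mem_filter, Finset.mem_univ, true_and] at hv ⊢
            refine ⟨hsmul1 _ v hv.1, ?_⟩
            rw [hqsmul, hv.2]
            exact φ.symm_apply_apply a
        have := hsp (N e).card fun a ha => by
          rcases hall a ⟨((hTmem a).mp ha).2, hZ2 a ((hTmem a).mp ha).2⟩ with rfl | rfl | rfl | rfl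
          · exact absurd rfl ((hTmem _).mp ha).1
          · rfl
          · exact (hmap e).symm
          · rw [← hmap, ← hmap]
        rw [hn] at this
        omega
    · -- special of order 64
      have hcent : ∀ x : X, orderOf x = 2 → x ∈ Z := fun x hx => by
        by_contra hxZ
        refine hqne (x : X ⧸ Z) (fun h => hxZ ((QuotientGroup.eq_one_iff x).mp h)) ?_
        rw [hq, ← sq, ← hx, pow_orderOf_eq_one]
      refine Or.inr (Or.inl ⟨H.special, by rw [hcardX, hn, hc4]; norm_num, ?_, hcent⟩)
      rw [Nat.card_eq_fintype_card, Fintype.card_subtype, ← hTc]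
      congr 1
      ext x
      simp only [Finset.mem_filter, Finset.mem_univ, true_and, hTmem]
      refine ⟨fun h => ⟨fun h1 => by simp [h1] at h, hcent x h⟩, fun h => ?_⟩
      exact orderOf_eq_prime (by rw [sq]; exact hZ2 x h.2) h.1
    · exfalso
      have h3 : ∀ a ∈ T, ∀ b ∈ T, a ≠ b → ∀ v ∈ N a,
          ((N b).filter fun w => B v w = 1).card = 3 := by
        intro a ha b hb hab v hv
        simp only [N, Finset.mem_filter, Finset.mem_univ, true_and] at hv
        obtain ⟨hv1, hvq⟩ := hv
        obtain ⟨ha1, haZ⟩ := (hTmem a).mp ha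
        obtain ⟨hb1, hbZ⟩ := (hTmem b).mp hb
        have hC8 : Nat.card (Cv v) = 8 := by
          have := hCv v
          rw [hn, hc4] at this
          have := hv8 v hv1
          omega
        set S6 := ((Finset.univ.filter fun w : X ⧸ Z => B v w = 1).erase 1).erase v with hS6
        have h6 : S6.card = 6 := by
          rw [hS6, Finset.card_erase_of_mem (by simp [hv1, hBself]),
            Finset.card_erase_of_mem (by simp [hB1]), ← Fintype.card_subtype,
            ← Nat.card_eq_fintype_card]
          show Nat.card (Cv v) - 1 - 1 = 6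
          omega
        have hS6m : ∀ w, w ∈ S6 ↔ w ≠ v ∧ w ≠ 1 ∧ B v w = 1 := fun w => by simp [hS6]
        have hmul : ∀ w ∈ S6, w * v ∈ S6 ∧ q (w * v) = q w * a ∧ q w ≠ a := by
          intro w hw
          obtain ⟨wv, w1, hwB⟩ := (hS6m w).mp hw
          have hqwv : q (w * v) = q w * a := by rw [hqmul, hBsymm w v, hwB, mul_one, hvq]
          have hwv1 : w * v ≠ 1 := fun h => wv (mul_right_cancel (h.trans (hexp v).symm))
          refine ⟨(hS6m _).mpr ⟨fun h => w1 (mul_eq_right.mp h), hwv1, by
            rw [hBadd, hwB, hBself, one_mul]⟩, hqwv, fun h => hqne _ hwv1 ?_⟩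
          rw [hqwv, h]; exact hZ2 a haZ
        have hab' : b * a ≠ b ∧ b * a ≠ a ∧ b * a ≠ 1 := by
          refine ⟨fun h => ha1 (mul_eq_left.mp h), fun h => hb1 (mul_eq_right.mp h), fun h => hab ?_⟩
          exact mul_left_cancel ((hZ2 a haZ).trans (by rw [mem_center_iff.mp hbZ a, h]))
        have hhalf : (S6.filter fun w => q w = b).card = (S6.filter fun w => ¬ q w = b).card := by
          refine Finset.card_bij' (fun w _ => w * v) (fun w _ => w * v) ?_ ?_ ?_ ?_
          · intro w hw
            obtain ⟨hw, hwq⟩ := Finset.mem_filter.mp hw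
            exact Finset.mem_filter.mpr ⟨(hmul w hw).1, by rw [(hmul w hw).2.1, hwq]; exact hab'.1⟩
          · intro w hw
            obtain ⟨hw, hwq⟩ := Finset.mem_filter.mp hw
            refine Finset.mem_filter.mpr ⟨(hmul w hw).1, ?_⟩
            have hne := hqne w ((hS6m w).mp hw).2.1
            rw [(hmul w hw).2.1]
            have hc := hfour a haZ (q w) (hqZ w) b hbZ ha1 hne (hmul w hw).2.2 hb1 (Ne.symm hab)
            rcases hc with h | h
            · exact absurd (mul_right_cancel (h.trans (hZ2 b hbZ).symm)) hwq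
            · rw [← h, ← mul_assoc, hZ2 _ (hqZ w), one_mul]
          all_goals intro w _; simp [mul_assoc, hexp v]
        have hs := Finset.card_filter_add_card_filter_not (s := S6) (fun w => q w = b)
        have heq : ((N b).filter fun w => B v w = 1) = S6.filter fun w => q w = b := by
          ext w
          simp only [N, Finset.mem_filter, Finset.mem_univ, true_and, hS6m]
          exact ⟨fun h => ⟨⟨fun e => hab (by rw [← hvq, ← h.1.2, e]), h.1.1, h.2⟩, h.1.2⟩,
            fun h => ⟨⟨h.1.2.1, h.2⟩, h.1.2.2⟩⟩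
        rw [heq]
        omega
      have heqN : ∀ a ∈ T, ∀ b ∈ T, (N a).card = (N b).card := by
        intro a ha b hb
        by_cases hab : a = b
        · rw [hab]
        have h := Finset.sum_card_bipartiteAbove_eq_sum_card_bipartiteBelow
          (fun v w : X ⧸ Z => B v w = 1) (s := N a) (t := N b)
        simp only [Finset.bipartiteAbove, Finset.bipartiteBelow] at h
        rw [Finset.sum_congr rfl (fun v hv => h3 a ha b hb hab v hv),
          Finset.sum_congr rfl (fun w hw => (show ((N a).filter fun v => B v w = 1).card = 3 by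
            rw [← h3 b hb a ha (Ne.symm hab) w hw]
            congr 1
            exact Finset.filter_congr fun v _ => by rw [hBsymm]))] at h
        simp only [Finset.sum_const, smul_eq_mul] at h
        omega
      obtain ⟨a, ha⟩ := Finset.card_pos.mp (show 0 < T.card by omega)
      have := hsp (N a).card fun b hb => heqN b hb a ha
      rw [hn] at this
      omega

end Hyp

end Cfsg.Agent.NoSCNOdd
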