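import Mathlib
import Cfsg.Agent.Lib.OddLocal.Rank
import Cfsg.Agent.Lib.Invol.OddPSmall

/-! Odd `p`: an elementary abelian subgroup of order `p ^ 4` forces a normal one. -/

set_option autoImplicit false

namespace Cfsg.Agent.FGB.NormalRankFour

open Subgroup
open scoped commutatorElement Pointwise

universe u

variable {G : Type u} [Group G] [Finite G] {p : ℕ} [hp : Fact p.Prime]

theorem comm_mem {N A : Subgroup G} [N.Normal] [A.Normal] (hG : IsPGroup p G) (hNA : N ≤ A)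
    (h : Nat.card A ≤ p * Nat.card N) {a : G} (ha : a ∈ A) (g : G) : ⁅a, g⁆ ∈ N := by
  have hmap := Basics.card_map_mul_card_inf_ker (QuotientGroup.mk' N) A
  rw [QuotientGroup.ker_mk', inf_eq_right.2 hNA] at hmap
  have hc : Nat.card (A.map (QuotientGroup.mk' N)) ≤ p :=
    Nat.le_of_mul_le_mul_right (hmap.le.trans h) Nat.card_pos
  haveI : (A.map (QuotientGroup.mk' N)).Normal := Normal.map inferInstance _ (QuotientGroup.mk'_surjective N)
  have h2 := mem_center_iff.1
    (OddLocal.le_center_of_card_le (hG.to_quotient N) _ hc (mem_map_of_mem _ ha)) (QuotientGroup.mk' N g)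
  rw [← QuotientGroup.eq_one_iff, ← QuotientGroup.mk'_apply, map_commutatorElement,
    commutatorElement_eq_one_iff_mul_comm]
  exact h2.symm

/-- An abelian subgroup modulo its part centralizing `A`, for small normal elementary `A`. -/
theorem card_le_sq (hG : IsPGroup p G) (A : Subgroup G) [A.Normal] (hA : IsElementaryAbelian p A)
    (hA3 : Nat.card A ≤ p ^ 3) (E : Subgroup G) (hE : IsMulCommutative E)
    (hEA : ∀ x ∈ E, x ∈ centralizer (A : Set G) → x ∈ A) :
    Nat.card E ≤ p ^ 2 * Nat.card (E ⊓ A : Subgroup G) := by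
  obtain ⟨k, hk⟩ := IsPGroup.iff_card.1 (hG.to_subgroup A)
  rw [hk, Nat.pow_le_pow_iff_right hp.out.one_lt] at hA3
  obtain ⟨L, hLn, hLA, hLc⟩ := Invol.OddPSmall.exists_normal_card_pow hG k (k - 1) A inferInstance hk (by omega)
  haveI := hLn
  have hLA' : Nat.card A ≤ p * Nat.card L := by
    rw [hk, hLc, ← pow_succ']; exact Nat.pow_le_pow_right hp.out.pos (by omega)
  have hL2 : Nat.card L ≤ p ^ 2 := hLc ▸ Nat.pow_le_pow_right hp.out.pos (by omega)
  have hLe : IsElementaryAbelian p L :=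
    ⟨⟨⟨fun a b => Subtype.ext (OddLocal.ea_commute hA (hLA a.2) (hLA b.2)).eq⟩⟩, fun a ha => hA.2 a (hLA ha)⟩
  set K := E ⊓ centralizer (L : Set G) with hK
  have hEK : Nat.card E ≤ p * Nat.card K := by
    have h1 : (centralizer (L : Set G)).relIndex E ≤ (centralizer (L : Set G)).relIndex ⊤ :=
      relIndex_le_of_le_right le_top (by rw [relIndex_top_right]; exact index_ne_zero_of_finite)
    rw [relIndex_top_right] at h1
    have h2 : Nat.card K * (centralizer (L : Set G)).relIndex E = Nat.card E := by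
      rw [← inf_relIndex_left, ← relIndex_bot_left, ← relIndex_bot_left,
        relIndex_mul_relIndex ⊥ (E ⊓ centralizer (L : Set G)) E bot_le inf_le_left]
    rw [← h2, mul_comm p]
    exact Nat.mul_le_mul_left _ (h1.trans (OddLocal.index_centralizer_le hG L hLe hL2))
  by_cases hAL : A ≤ L
  · have : K ≤ E ⊓ A := fun x hx =>
      mem_inf.2 ⟨hx.1, hEA x hx.1 (centralizer_le hAL hx.2)⟩
    calc Nat.card E ≤ p * Nat.card K := hEK
      _ ≤ p ^ 2 * Nat.card (E ⊓ A : Subgroup G) :=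
          Nat.mul_le_mul (Nat.le_self_pow (by norm_num) p) (card_le_of_le this)
  obtain ⟨a, ha, haL⟩ := SetLike.not_le_iff_exists.1 hAL
  have hgen : A ≤ L ⊔ zpowers a := by
    have hlt : L < L ⊔ zpowers a :=
      lt_of_le_of_ne le_sup_left fun he => haL (he ▸ mem_sup_right (mem_zpowers a))
    obtain ⟨e, he⟩ := IsPGroup.iff_card.1 (hG.to_subgroup (L ⊔ zpowers a : Subgroup G))
    have h1 := Basics.card_lt_of_lt hlt
    rw [hLc, he, Nat.pow_lt_pow_iff_right hp.out.one_lt] at h1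
    exact (eq_of_le_of_card_ge (sup_le hLA (zpowers_le.2 ha))
      (by rw [hk, he]; exact Nat.pow_le_pow_right hp.out.pos (by omega))).ge
  let φ : K →* G :=
    { toFun := fun f => ⁅(f : G), a⁆
      map_one' := commutatorElement_one_left a
      map_mul' := fun f g => by
        have hg : ⁅(g : G), a⁆ ∈ L := by
          rw [← commutatorElement_inv]; exact inv_mem (comm_mem hG hLA hLA' ha _)
        have hf : ⁅(f : G), a⁆ ∈ L := by
          rw [← commutatorElement_inv]; exact inv_mem (comm_mem hG hLA hLA' ha _)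
        show ⁅(f : G) * g, a⁆ = _
        rw [show ⁅(f : G) * g, a⁆ = (f : G) * ⁅(g : G), a⁆ * (f : G)⁻¹ * ⁅(f : G), a⁆ by
          simp only [commutatorElement_def]; group,
          ← mem_centralizer_iff.1 f.2.2 _ hg, mul_inv_cancel_right,
          (OddLocal.ea_commute hA (hLA hg) (hLA hf)).eq] }
  have hrange : ∀ f : K, φ f ∈ L := fun f => by
    show ⁅(f : G), a⁆ ∈ L
    rw [← commutatorElement_inv]; exact inv_mem (comm_mem hG hLA hLA' ha _)
  have hker : φ.ker.map K.subtype ≤ E ⊓ A := by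
    rintro _ ⟨f, hf, rfl⟩
    refine mem_inf.2 ⟨f.2.1, hEA _ f.2.1 ?_⟩
    have hfa : (f : G) * a = a * (f : G) := commutatorElement_eq_one_iff_mul_comm.1 hf
    have : A ≤ centralizer ({(f : G)} : Set G) := hgen.trans (sup_le
      (fun z hz => mem_centralizer_singleton_iff.2 (mem_centralizer_iff.1 f.2.2 z hz))
      (zpowers_le.2 (mem_centralizer_singleton_iff.2 hfa.symm)))
    exact mem_centralizer_iff.2 fun z hz => mem_centralizer_singleton_iff.1 (this hz)
  have hKc : Nat.card K ≤ Nat.card φ.range * Nat.card (E ⊓ A : Subgroup G) := by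
    rw [Subgroup.card_eq_card_quotient_mul_card_subgroup φ.ker,
      Nat.card_congr (QuotientGroup.quotientKerEquivRange φ).toEquiv,
      ← card_map_of_injective (f := K.subtype) (K := φ.ker) K.subtype_injective]
    exact Nat.mul_le_mul_left _ (card_le_of_le hker)
  by_cases hEC : E ≤ centralizer (L : Set G)
  · have hrL : Nat.card φ.range ≤ p ^ 2 :=
      (card_le_of_le (show φ.range ≤ L by rintro _ ⟨f, rfl⟩; exact hrange f)).trans hL2
    exact (card_le_of_le (le_inf le_rfl hEC : E ≤ K)).trans (hKc.trans (Nat.mul_le_mul_right _ hrL))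
  obtain ⟨e, he, hec⟩ := SetLike.not_le_iff_exists.1 hEC
  have hfix : φ.range ≤ L ⊓ centralizer ({e} : Set G) := by
    rintro _ ⟨f, rfl⟩
    refine mem_inf.2 ⟨hrange f, mem_centralizer_singleton_iff.2 ?_⟩
    have hef : e * (f : G) = (f : G) * e :=
      congrArg Subtype.val (hE.is_comm.comm ⟨e, he⟩ ⟨f, f.2.1⟩)
    have hm : a⁻¹ * (e * a * e⁻¹) ∈ L := by
      have := comm_mem hG hLA hLA' (inv_mem ha) e
      rwa [show ⁅a⁻¹, e⁆ = a⁻¹ * (e * a * e⁻¹) by simp only [commutatorElement_def]; group] at this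
    show ⁅(f : G), a⁆ * e = e * ⁅(f : G), a⁆
    have h1 : e * ⁅(f : G), a⁆ * e⁻¹ = ⁅(f : G), e * a * e⁻¹⁆ := by
      rw [show e * ⁅(f : G), a⁆ * e⁻¹ = ⁅e * (f : G) * e⁻¹, e * a * e⁻¹⁆ by
        simp only [commutatorElement_def]; group, hef, mul_inv_cancel_right]
    have h2 : ⁅(f : G), e * a * e⁻¹⁆ = ⁅(f : G), a⁆ := by
      rw [show e * a * e⁻¹ = a * (a⁻¹ * (e * a * e⁻¹)) by group,
        show ⁅(f : G), a * (a⁻¹ * (e * a * e⁻¹))⁆ =
          ⁅(f : G), a⁆ * (a * ⁅(f : G), a⁻¹ * (e * a * e⁻¹)⁆ * a⁻¹) by simp only [commutatorElement_def]; group,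
        commutatorElement_eq_one_iff_mul_comm.2 (mem_centralizer_iff.1 f.2.2 _ hm).symm, mul_one,
        mul_inv_cancel, mul_one]
    rw [h2] at h1
    exact (mul_inv_eq_iff_eq_mul.1 h1).symm
  have hlt : L ⊓ centralizer ({e} : Set G) < L := lt_of_le_of_ne inf_le_left fun hh => hec
    (mem_centralizer_iff.2 fun l hl => mem_centralizer_singleton_iff.1 (hh.ge hl).2)
  have hr : Nat.card φ.range ≤ p := by
    obtain ⟨r, hr⟩ := IsPGroup.iff_card.1 (hG.to_subgroup (L ⊓ centralizer ({e} : Set G)))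
    have h1 := Basics.card_lt_of_lt hlt
    rw [hr, hLc, Nat.pow_lt_pow_iff_right hp.out.one_lt] at h1
    refine (card_le_of_le hfix).trans ?_
    rw [hr]
    exact (Nat.pow_le_pow_right hp.out.pos (show r ≤ 1 by omega)).trans (pow_one p).le
  calc Nat.card E ≤ p * Nat.card K := hEK
    _ ≤ p * (p * Nat.card (E ⊓ A : Subgroup G)) := Nat.mul_le_mul_left _ (hKc.trans (Nat.mul_le_mul_right _ hr))
    _ = _ := by rw [← mul_assoc, sq]

/-- The position of an elementary abelian subgroup of order `p ^ 4`. -/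
theorem facts (hG : IsPGroup p G) (A : Subgroup G) [A.Normal] (hA : IsElementaryAbelian p A)
    (hA3 : Nat.card A ≤ p ^ 3) (hΩ : ∀ x ∈ centralizer (A : Set G), x ^ p = 1 → x ∈ A)
    (E : Subgroup G) (hE : IsElementaryAbelian p E) (hE4 : Nat.card E = p ^ 4) :
    Nat.card A = p ^ 3 ∧ Nat.card (E ⊓ A : Subgroup G) = p ^ 2 ∧ Nat.card (E ⊔ A : Subgroup G) = p ^ 5 ∧
      (∀ a ∈ A, ∀ e ∈ E, ⁅e, a⁆ ∈ E ⊓ A) ∧
      ∀ a ∈ A, a ∉ E → ∀ b ∈ E ⊓ A, ∃ e ∈ E, ⁅e, a⁆ = b := by
  have hbound := card_le_sq hG A hA hA3 E hE.1 fun x hx hc => hΩ x hc (hE.2 x hx)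
  obtain ⟨b, hb⟩ := IsPGroup.iff_card.1 (hG.to_subgroup (E ⊓ A : Subgroup G))
  obtain ⟨k, hk⟩ := IsPGroup.iff_card.1 (hG.to_subgroup A)
  rw [hE4, hb, ← pow_add, Nat.pow_le_pow_iff_right hp.out.one_lt] at hbound
  have hk3 : k ≤ 3 := by rwa [hk, Nat.pow_le_pow_iff_right hp.out.one_lt] at hA3
  have hlt : E ⊓ A < A := by
    refine lt_of_le_of_ne inf_le_right fun he => ?_
    have hAE : A ≤ E := inf_eq_right.1 he
    have hEA : E ≤ A := fun x hx => hΩ x
      (mem_centralizer_iff.2 fun z hz => congrArg Subtype.val (hE.1.is_comm.comm ⟨z, hAE hz⟩ ⟨x, hx⟩))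
      (hE.2 x hx)
    have := card_le_of_le hEA
    rw [hE4, hk, Nat.pow_le_pow_iff_right hp.out.one_lt] at this
    omega
  have h1 := Basics.card_lt_of_lt hlt
  rw [hb, hk, Nat.pow_lt_pow_iff_right hp.out.one_lt] at h1
  have hb2 : b = 2 := by omega
  have hk' : k = 3 := by omega
  subst hb2 hk'
  have hmap := Basics.card_map_mul_card_inf_ker (QuotientGroup.mk' A) E
  rw [QuotientGroup.ker_mk', hb, hE4] at hmap
  have hT : Nat.card (E ⊔ A : Subgroup G) = p ^ 5 := by
    have hmT := Basics.card_map_mul_card_inf_ker (QuotientGroup.mk' A) (E ⊔ A)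
    rw [QuotientGroup.ker_mk', inf_eq_right.2 le_sup_right, Subgroup.map_sup,
      (Subgroup.map_eq_bot_iff A).2 (QuotientGroup.ker_mk' A).ge, sup_bot_eq, hk] at hmT
    have hm : Nat.card (E.map (QuotientGroup.mk' A)) = p ^ 2 := by
      refine Nat.eq_of_mul_eq_mul_right (pow_pos hp.out.pos 2) ?_
      rw [hmap, ← pow_add]
    rw [← hmT, hm, ← pow_add]
  have hnorm : A ≤ normalizer (E : Set G) := by
    have hidx : (E.subgroupOf (E ⊔ A)).index = (Nat.card (E ⊔ A : Subgroup G)).minFac := by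
      have h2 := card_mul_index (E.subgroupOf (E ⊔ A))
      rw [Nat.card_congr (subgroupOfEquivOfLe (le_sup_left : E ≤ E ⊔ A)).toEquiv, hE4, hT, pow_succ] at h2
      rw [hT, Nat.pow_minFac (by norm_num), hp.out.minFac_eq]
      exact Nat.eq_of_mul_eq_mul_left (pow_pos hp.out.pos 4) h2
    haveI := normal_of_index_eq_minFac_card hidx
    exact le_sup_right.trans ((normal_subgroupOf_iff_le_normalizer le_sup_left).1 this)
  have hmem : ∀ a ∈ A, ∀ e ∈ E, ⁅e, a⁆ ∈ E ⊓ A := fun a ha e he => by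
    refine mem_inf.2 ⟨?_, ?_⟩
    · rw [show ⁅e, a⁆ = e * (a * e⁻¹ * a⁻¹) by simp only [commutatorElement_def]; group]
      exact mul_mem he ((mem_normalizer_iff.1 (hnorm ha) _).1 (inv_mem he))
    · exact mul_mem (Subgroup.Normal.conj_mem inferInstance a ha e) (inv_mem ha)
  refine ⟨hk, hb, hT, hmem, fun a ha haE => ?_⟩
  let φ : E →* G :=
    { toFun := fun f => ⁅(f : G), a⁆
      map_one' := commutatorElement_one_left a
      map_mul' := fun f g => by
        have hc : ∀ x ∈ E, ∀ y ∈ E, Commute x y := fun x hx y hy => OddLocal.ea_commute hE hx hy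
        have hg := (mem_inf.1 (hmem a ha g g.2)).1
        show ⁅(f : G) * g, a⁆ = _
        rw [show ⁅(f : G) * g, a⁆ = (f : G) * ⁅(g : G), a⁆ * (f : G)⁻¹ * ⁅(f : G), a⁆ by
          simp only [commutatorElement_def]; group,
          (hc _ f.2 _ hg).eq, mul_inv_cancel_right,
          (hc _ hg _ (mem_inf.1 (hmem a ha f f.2)).1).eq] }
  have hrange : φ.range ≤ E ⊓ A := by rintro _ ⟨f, rfl⟩; exact hmem a ha f f.2
  have hgen : A ≤ (E ⊓ A) ⊔ zpowers a := by
    have hlt' : E ⊓ A < (E ⊓ A) ⊔ zpowers a :=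
      lt_of_le_of_ne le_sup_left fun he => haE (he ▸ mem_sup_right (mem_zpowers a) : a ∈ E ⊓ A).1
    obtain ⟨e, he⟩ := IsPGroup.iff_card.1 (hG.to_subgroup ((E ⊓ A) ⊔ zpowers a : Subgroup G))
    have h2 := Basics.card_lt_of_lt hlt'
    rw [hb, he, Nat.pow_lt_pow_iff_right hp.out.one_lt] at h2
    exact (eq_of_le_of_card_ge (sup_le inf_le_right (zpowers_le.2 ha))
      (by rw [hk, he]; exact Nat.pow_le_pow_right hp.out.pos (by omega))).ge
  have hker : φ.ker.map E.subtype ≤ E ⊓ A := by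
    rintro _ ⟨f, hf, rfl⟩
    refine mem_inf.2 ⟨f.2, hΩ _ ?_ (hE.2 _ f.2)⟩
    have hfa : (f : G) * a = a * (f : G) := commutatorElement_eq_one_iff_mul_comm.1 hf
    have : A ≤ centralizer ({(f : G)} : Set G) := hgen.trans (sup_le
      (fun z hz => mem_centralizer_singleton_iff.2 (OddLocal.ea_commute hE (mem_inf.1 hz).1 f.2).eq)
      (zpowers_le.2 (mem_centralizer_singleton_iff.2 hfa.symm)))
    exact mem_centralizer_iff.2 fun z hz => mem_centralizer_singleton_iff.1 (this hz)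
  have heq : φ.range = E ⊓ A := by
    refine eq_of_le_of_card_ge hrange ?_
    have h2 := Subgroup.card_eq_card_quotient_mul_card_subgroup φ.ker
    rw [hE4, Nat.card_congr (QuotientGroup.quotientKerEquivRange φ).toEquiv,
      ← card_map_of_injective (f := E.subtype) (K := φ.ker) E.subtype_injective] at h2
    have h3 := card_le_of_le hker
    rw [hb] at h3 ⊢
    refine Nat.le_of_mul_le_mul_right ?_ (pow_pos hp.out.pos 2)
    rw [← pow_add, show (2 + 2) = 4 from rfl, h2]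
    exact Nat.mul_le_mul_left _ h3
  intro b hb'
  rw [← heq] at hb'
  obtain ⟨e, he⟩ := hb'
  exact ⟨e, e.2, he⟩

/-- The theorem. -/
theorem exists_normal (hp2 : p ≠ 2) (hG : IsPGroup p G) (E : Subgroup G) (hE : IsElementaryAbelian p E)
    (hE4 : Nat.card E = p ^ 4) : ∃ A : Subgroup G, A.Normal ∧ IsElementaryAbelian p A ∧ Nat.card A = p ^ 4 := by
  obtain ⟨A, -, hAmax⟩ := OddLocal.exists_isMaxNormalEA p (E₀ := (⊥ : Subgroup G)) OddLocal.isElementaryAbelian_bot
  have hAn : A.Normal := hAmax.1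
  have hA : IsElementaryAbelian p A := hAmax.2.1
  obtain ⟨k, hk⟩ := IsPGroup.iff_card.1 (hG.to_subgroup A)
  by_cases hk4 : 4 ≤ k
  · obtain ⟨M, hM, hMA, hMc⟩ := Invol.OddPSmall.exists_normal_card_pow hG k 4 A hAn hk hk4
    exact ⟨M, hM, ⟨⟨⟨fun a b => Subtype.ext (OddLocal.ea_commute hA (hMA a.2) (hMA b.2)).eq⟩⟩,
      fun a ha => hA.2 a (hMA ha)⟩, hMc⟩
  have hA3 : Nat.card A ≤ p ^ 3 := hk ▸ Nat.pow_le_pow_right hp.out.pos (by omega)
  have hΩ : ∀ x ∈ centralizer (A : Set G), x ^ p = 1 → x ∈ A :=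
    fun x => OddLocal.mem_of_isMaxNormalEA hp2 hG hAmax
  by_cases hEn : E.Normal
  · exact ⟨E, hEn, hE, hE4⟩
  exfalso
  haveI := hG.isNilpotent
  set N := normalizer (E : Set G) with hN
  have hNlt : N < normalizer (N : Set G) := by
    refine normalizerCondition_of_isNilpotent N (lt_top_iff_ne_top.2 fun h => hEn ?_)
    rwa [hN, normalizer_eq_top_iff] at h
  obtain ⟨g, hg, hgN⟩ := SetLike.exists_of_lt hNlt
  set E' := E.map (MulAut.conj g).toMonoidHom with hE'
  have hmemE' : ∀ x, x ∈ E' ↔ g⁻¹ * x * g ∈ E := by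
    intro x
    constructor
    · rintro ⟨y, hy, rfl⟩
      show g⁻¹ * (g * y * g⁻¹) * g ∈ E
      rwa [show g⁻¹ * (g * y * g⁻¹) * g = y by group]
    · exact fun hx => ⟨_, hx, by simp [mul_assoc]⟩
  have hE'ea : IsElementaryAbelian p E' := by
    refine ⟨⟨⟨?_⟩⟩, ?_⟩
    · rintro ⟨_, y, hy, rfl⟩ ⟨_, z, hz, rfl⟩
      exact Subtype.ext (by simpa using congrArg (MulAut.conj g) (OddLocal.ea_commute hE hy hz).eq)
    rintro _ ⟨y, hy, rfl⟩
    rw [← map_pow, hE.2 y hy, map_one]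
  have hE'4 : Nat.card E' = p ^ 4 := by
    rw [hE', card_map_of_injective (MulEquiv.injective _), hE4]
  -- mutual normalization
  have hnE' : ∀ x ∈ E', ∀ y ∈ E, x * y * x⁻¹ ∈ E := by
    rintro _ ⟨z, hz, rfl⟩ y hy
    have : g * z * g⁻¹ ∈ N := (mem_normalizer_iff.1 hg z).1 (le_normalizer hz)
    exact (mem_normalizer_iff.1 this y).1 hy
  have hnE : ∀ y ∈ E, ∀ x ∈ E', y * x * y⁻¹ ∈ E' := by
    intro y hy x hx
    have hy' : g⁻¹ * y * g ∈ N := by
      have := (mem_normalizer_iff.1 (inv_mem hg) y).1 (le_normalizer hy)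
      rwa [inv_inv] at this
    rw [hmemE'] at hx ⊢
    have := (mem_normalizer_iff.1 hy' _).1 hx
    rwa [show g⁻¹ * y * g * (g⁻¹ * x * g) * (g⁻¹ * y * g)⁻¹ = g⁻¹ * (y * x * y⁻¹) * g by group] at this
  obtain ⟨hAc, hB, hT, hmem, hsurj⟩ := facts hG A hA hA3 hΩ E hE hE4
  obtain ⟨-, hB', -, hmem', -⟩ := facts hG A hA hA3 hΩ E' hE'ea hE'4
  have hBB : E ⊓ A = E' ⊓ A := by
    by_contra hne
    obtain ⟨a, ha, haB⟩ : ∃ a ∈ E' ⊓ A, a ∉ E := by
      by_contra hall
      push Not at hall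
      exact hne (eq_of_le_of_card_ge (le_inf (fun x hx => hall x hx) inf_le_right) (by rw [hB, hB'])).symm
    refine hne (eq_of_le_of_card_ge (fun b hb => ?_) (by rw [hB, hB']))
    obtain ⟨e, he, rfl⟩ := hsurj a ha.2 haB b hb
    refine mem_inf.2 ⟨?_, (mem_inf.1 (hmem a ha.2 e he)).2⟩
    exact mul_mem (hnE e he a ha.1) (inv_mem ha.1)
  obtain ⟨a, ha, haE⟩ : ∃ a ∈ A, a ∉ E := by
    by_contra hall
    push Not at hall
    have := card_le_of_le (show A ≤ E ⊓ A from le_inf hall le_rfl)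
    rw [hAc, hB, Nat.pow_le_pow_iff_right hp.out.one_lt] at this
    omega
  have hgen : A ≤ (E ⊓ A) ⊔ zpowers a := by
    have hlt' : E ⊓ A < (E ⊓ A) ⊔ zpowers a :=
      lt_of_le_of_ne le_sup_left fun he => haE (he ▸ mem_sup_right (mem_zpowers a) : a ∈ E ⊓ A).1
    obtain ⟨e, he⟩ := IsPGroup.iff_card.1 (hG.to_subgroup ((E ⊓ A) ⊔ zpowers a : Subgroup G))
    have h2 := Basics.card_lt_of_lt hlt'
    rw [hB, he, Nat.pow_lt_pow_iff_right hp.out.one_lt] at h2
    exact (eq_of_le_of_card_ge (sup_le inf_le_right (zpowers_le.2 ha))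
      (by rw [hAc, he]; exact Nat.pow_le_pow_right hp.out.pos (by omega))).ge
  -- the conjugate lies in the product
  have hle : E' ≤ E ⊔ A := by
    intro f hf
    obtain ⟨e, he, hef⟩ := hsurj a ha haE ⁅f, a⁆ (hBB ▸ hmem' a ha f hf)
    have hy : (e⁻¹ * f) * a = a * (e⁻¹ * f) := by
      rw [commutatorElement_def, commutatorElement_def] at hef
      have h1 : e * a * e⁻¹ = f * a * f⁻¹ := mul_right_cancel hef
      calc e⁻¹ * f * a = e⁻¹ * (f * a * f⁻¹) * f := by group
        _ = a * (e⁻¹ * f) := by rw [← h1]; group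
    have hyA : e⁻¹ * f ∈ centralizer (A : Set G) := by
      have : A ≤ centralizer ({e⁻¹ * f} : Set G) := hgen.trans (sup_le (fun z hz => by
        rw [mem_centralizer_singleton_iff]
        exact ((OddLocal.ea_commute hE (mem_inf.1 hz).1 (inv_mem he)).mul_right
          (OddLocal.ea_commute hE'ea (mem_inf.1 (hBB ▸ hz : z ∈ E' ⊓ A)).1 hf)).eq)
        (zpowers_le.2 (mem_centralizer_singleton_iff.2 hy.symm)))
      exact mem_centralizer_iff.2 fun z hz => mem_centralizer_singleton_iff.1 (this hz)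
    have hc : ⁅f, e⁻¹⁆ ∈ E ∧ ⁅f, e⁻¹⁆ ∈ E' := by
      refine ⟨mul_mem (hnE' f hf _ (inv_mem he)) (inv_mem (inv_mem he)), ?_⟩
      rw [show ⁅f, e⁻¹⁆ = f * (e⁻¹ * f⁻¹ * e⁻¹⁻¹) by simp only [commutatorElement_def]; group]
      exact mul_mem hf (hnE _ (inv_mem he) _ (inv_mem hf))
    have hpow := Transfer.mul_pow_of_commute (OddLocal.ea_commute hE hc.1 (inv_mem he))
      (OddLocal.ea_commute hE'ea hc.2 hf) p
    obtain ⟨q, hq⟩ := hp.out.dvd_choose_self (by norm_num : 2 ≠ 0)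
      (by have := hp.out.two_le; omega : 2 < p)
    rw [hE.2 _ (inv_mem he), hE'ea.2 f hf, hq, pow_mul, hE.2 _ hc.1, one_pow, mul_one, mul_one] at hpow
    have hyin := hΩ _ hyA hpow
    rw [show f = e * (e⁻¹ * f) by group]
    exact mul_mem (mem_sup_left he) (mem_sup_right hyin)
  -- hence a common element outside `A`
  have hne : ¬ E' ≤ E := fun h => by
    have heq : E' = E := eq_of_le_of_card_ge h (by rw [hE4, hE'4])
    refine hgN (mem_normalizer_iff.2 fun y => ⟨fun hy => ?_, fun hy => ?_⟩)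
    · rw [← heq]; exact ⟨y, hy, rfl⟩
    · rw [← heq, hmemE', show g⁻¹ * (g * y * g⁻¹) * g = y by group] at hy; exact hy
  obtain ⟨f, hf, hfE⟩ := SetLike.not_le_iff_exists.1 hne
  obtain ⟨w, hw, hwA⟩ : ∃ w ∈ E ⊓ E', w ∉ A := by
    by_contra hall
    push Not at hall
    have h1 : E.relIndex E' ≤ E.relIndex (E ⊔ A) :=
      relIndex_le_of_le_right hle (by exact index_ne_zero_of_finite)
    have h2 : Nat.card (E ⊓ E' : Subgroup G) * E.relIndex E' = p ^ 4 := by
      rw [← inf_relIndex_right, ← relIndex_bot_left, relIndex_mul_relIndex ⊥ (E ⊓ E') E' bot_le inf_le_right,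
        relIndex_bot_left, hE'4]
    have h3 : Nat.card E * E.relIndex (E ⊔ A) = p ^ 5 := by
      rw [← relIndex_bot_left, relIndex_mul_relIndex ⊥ E (E ⊔ A) bot_le le_sup_left, relIndex_bot_left, hT]
    rw [hE4, pow_succ] at h3
    rw [Nat.eq_of_mul_eq_mul_left (pow_pos hp.out.pos 4) h3] at h1
    have h4 := card_le_of_le (show E ⊓ E' ≤ E ⊓ A from le_inf inf_le_left hall)
    rw [hB] at h4
    have h5 := Nat.mul_le_mul h4 h1
    rw [h2, ← pow_succ, Nat.pow_le_pow_iff_right hp.out.one_lt] at h5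
    omega
  have hfT : f ∈ (E : Set G) * (A : Set G) := by rw [← Subgroup.mul_normal]; exact hle hf
  obtain ⟨e, he, α, hα, rfl⟩ := Set.mem_mul.1 hfT
  have hαE : α ∉ E := fun h => hfE (mul_mem he h)
  have hwα : Commute w α := by
    have h1 : Commute w (e * α) := OddLocal.ea_commute hE'ea (mem_inf.1 hw).2 hf
    have h2 : Commute w e := OddLocal.ea_commute hE (mem_inf.1 hw).1 he
    have := h2.inv_right.mul_right h1
    rwa [inv_mul_cancel_left] at this
  have hgen' : A ≤ (E ⊓ A) ⊔ zpowers α := by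
    have hlt' : E ⊓ A < (E ⊓ A) ⊔ zpowers α :=
      lt_of_le_of_ne le_sup_left fun he => hαE (he ▸ mem_sup_right (mem_zpowers α) : α ∈ E ⊓ A).1
    obtain ⟨e, he⟩ := IsPGroup.iff_card.1 (hG.to_subgroup ((E ⊓ A) ⊔ zpowers α : Subgroup G))
    have h2 := Basics.card_lt_of_lt hlt'
    rw [hB, he, Nat.pow_lt_pow_iff_right hp.out.one_lt] at h2
    exact (eq_of_le_of_card_ge (sup_le inf_le_right (zpowers_le.2 hα))
      (by rw [hAc, he]; exact Nat.pow_le_pow_right hp.out.pos (by omega))).ge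
  refine hwA (hΩ w ?_ (hE.2 w (mem_inf.1 hw).1))
  have : A ≤ centralizer ({w} : Set G) := hgen'.trans (sup_le
    (fun z hz => mem_centralizer_singleton_iff.2 (OddLocal.ea_commute hE (mem_inf.1 hz).1 (mem_inf.1 hw).1).eq)
    (zpowers_le.2 (mem_centralizer_singleton_iff.2 hwα.eq.symm)))
  exact mem_centralizer_iff.2 fun z hz => mem_centralizer_singleton_iff.1 (this hz)

end Cfsg.Agent.FGB.NormalRankFour
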