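/-
Numbers of elements of given order.
-/
import Mathlib
import Cfsg.Agent.Lib.FGB.FrobeniusTheorem

set_option autoImplicit false
set_option linter.all false

namespace Cfsg.Agent.FGB

universe u

variable {G : Type u} [Group G]

/-- The number of elements of order `m`. -/
noncomputable def ocount (G : Type u) [Group G] (m : ℕ) : ℕ := Nat.card {g : G // orderOf g = m}

variable [Finite G]

theorem ocount_eq_zero {m : ℕ} (h : ∀ g : G, orderOf g ≠ m) : ocount G m = 0 := by
  haveI : IsEmpty {g : G // orderOf g = m} := ⟨fun g => h g.1 g.2⟩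
  exact Nat.card_of_isEmpty

theorem ocount_one : ocount G 1 = 1 := by
  haveI : Unique {g : G // orderOf g = 1} :=
    ⟨⟨⟨1, orderOf_one⟩⟩, fun g => Subtype.ext (orderOf_eq_one_iff.mp g.2)⟩
  exact Nat.card_unique

theorem totient_dvd_ocount (m : ℕ) : m.totient ∣ ocount G m := by
  classical
  haveI : Fintype G := Fintype.ofFinite G
  let π : {g : G // orderOf g = m} → Subgroup G := fun g => Subgroup.zpowers g.1
  haveI : Fintype (Subgroup G) := Fintype.ofFinite _
  rw [ocount, ← Nat.card_congr (Equiv.sigmaFiberEquiv π), Nat.card_sigma]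
  refine Finset.dvd_sum fun K _ => ?_
  by_cases hK : ∃ g, π g = K
  · obtain ⟨⟨g, hg⟩, rfl⟩ := hK
    refine dvd_of_eq ?_
    have e : {x : {x : G // orderOf x = m} // π x = Subgroup.zpowers g} ≃ {y : Subgroup.zpowers g // orderOf y = m} :=
      { toFun := fun x => ⟨⟨x.1.1, (show Subgroup.zpowers x.1.1 = Subgroup.zpowers g from x.2).le (Subgroup.mem_zpowers x.1.1)⟩, by rw [Subgroup.orderOf_mk]; exact x.1.2⟩
        invFun := fun y => ⟨⟨y.1.1, (Subgroup.orderOf_coe y.1).trans y.2⟩, by
          refine Subgroup.eq_of_le_of_card_ge (Subgroup.zpowers_le.mpr y.1.2) (le_of_eq ?_)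
          rw [Nat.card_zpowers, Nat.card_zpowers, (Subgroup.orderOf_coe y.1).trans y.2, hg]⟩
        left_inv := fun x => rfl
        right_inv := fun y => rfl }
    rw [Nat.card_congr e, Nat.card_eq_fintype_card, Fintype.card_subtype]
    exact (IsCyclic.card_orderOf_eq_totient (by rw [← Nat.card_eq_fintype_card, Nat.card_zpowers, hg])).symm
  · haveI : IsEmpty {x : {x : G // orderOf x = m} // π x = K} := ⟨fun x => hK ⟨x.1, x.2⟩⟩
    rw [Nat.card_of_isEmpty]
    exact dvd_zero _

theorem sum_ocount {d : ℕ} (hd : d ≠ 0) : ∑ m ∈ d.divisors, ocount G m = Nat.card {g : G // g ^ d = 1} := by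
  classical
  haveI : Fintype G := Fintype.ofFinite G
  simp only [ocount, Nat.card_eq_fintype_card, Fintype.card_subtype]
  exact sum_card_orderOf_eq_card_pow_eq_one hd

theorem dvd_sum_ocount {d : ℕ} (hd : d ∣ Nat.card G) : d ∣ ∑ m ∈ d.divisors, ocount G m := by
  have h0 : d ≠ 0 := fun h => Nat.card_pos.ne' (Nat.eq_zero_of_zero_dvd (h ▸ hd))
  rw [sum_ocount h0]
  exact frobenius_dvd d hd

theorem prime_dvd_succ_ocount {q : ℕ} (hq : q.Prime) (hd : q ∣ Nat.card G) : q ∣ 1 + ocount G q := by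
  have h := dvd_sum_ocount hd
  rwa [hq.divisors, Finset.sum_pair hq.one_lt.ne, ocount_one] at h

theorem sum_divisors_coprime_mul {a b : ℕ} (hab : a.Coprime b) (f : ℕ → ℕ) :
    ∑ m ∈ (a * b).divisors, f m = ∑ i ∈ a.divisors, ∑ j ∈ b.divisors, f (i * j) := by
  rw [← Finset.sum_product']
  symm
  refine Finset.sum_bij (fun x _ => x.1 * x.2) ?_ ?_ ?_ (fun _ _ => rfl)
  · rintro ⟨i, j⟩ hij
    simp only [Finset.mem_product, Nat.mem_divisors] at hij ⊢
    exact ⟨mul_dvd_mul hij.1.1 hij.2.1, mul_ne_zero hij.1.2 hij.2.2⟩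
  · rintro ⟨i, j⟩ hij ⟨i', j'⟩ hij' he
    simp only [Finset.mem_product, Nat.mem_divisors] at hij hij'
    have hj0 : 0 < j := Nat.pos_of_ne_zero fun h => hij.2.2 (Nat.eq_zero_of_zero_dvd (h ▸ hij.2.1))
    have e1 : i = i' := by
      refine Nat.dvd_antisymm ?_ ?_
      · exact ((hab.coprime_dvd_left hij.1.1).coprime_dvd_right hij'.2.1).dvd_of_dvd_mul_right ⟨j, he.symm⟩
      · exact ((hab.coprime_dvd_left hij'.1.1).coprime_dvd_right hij.2.1).dvd_of_dvd_mul_right ⟨j', he⟩
    subst e1
    have hi0 : 0 < i := Nat.pos_of_ne_zero fun h => hij.1.2 (Nat.eq_zero_of_zero_dvd (h ▸ hij.1.1))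
    obtain rfl : j = j' := Nat.eq_of_mul_eq_mul_left hi0 he
    rfl
  · intro m hm
    rw [Nat.mem_divisors] at hm
    obtain ⟨i, j, hi, hj, rfl⟩ := Nat.dvd_mul.mp hm.1
    obtain ⟨ha0, hb0⟩ := mul_ne_zero_iff.mp hm.2
    exact ⟨(i, j), by simp [Nat.mem_divisors, hi, hj, ha0, hb0], rfl⟩

/-- Odd order and a single value: prime exponent. -/
theorem exponent_prime_of_ocount (hodd : Odd (Nat.card G)) (n : ℕ) (hG : Nontrivial G)
    (h : ∀ g : G, g ≠ 1 → ocount G (orderOf g) = n) : ∃ p : ℕ, p.Prime ∧ Monoid.exponent G = p ∧ IsPGroup p G := by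
  classical
  haveI : Fintype G := Fintype.ofFinite G
  have hocc : ∀ q : ℕ, q.Prime → q ∣ Nat.card G → ocount G q = n := by
    intro q hq hd
    haveI := Fact.mk hq
    obtain ⟨g, hg⟩ := exists_prime_orderOf_dvd_card' q hd
    exact hg ▸ h g (fun e => hq.one_lt.ne' (by rw [← hg, e, orderOf_one]))
  have hsucc : ∀ q : ℕ, q.Prime → q ∣ Nat.card G → q ∣ 1 + n := fun q hq hd => hocc q hq hd ▸ prime_dvd_succ_ocount hq hd
  have h3 : ∀ q : ℕ, q.Prime → q ∣ Nat.card G → 3 ≤ q := by
    intro q hq hd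
    have h2 : q ≠ 2 := fun e => by
      subst e
      exact (Nat.not_even_iff_odd.mpr hodd) (even_iff_two_dvd.mpr hd)
    have := hq.two_le; omega
  have hprime : ∀ g : G, g ≠ 1 → (orderOf g).Prime := by
    intro g hg
    obtain ⟨q, hq, hqd⟩ := Nat.exists_prime_and_dvd (fun e : orderOf g = 1 => hg (orderOf_eq_one_iff.mp e))
    obtain ⟨c, hc⟩ := hqd
    by_cases hc1 : c = 1
    · rw [hc, hc1, mul_one]; exact hq
    exfalso
    obtain ⟨r, hr, hrd⟩ := Nat.exists_prime_and_dvd hc1
    have hqG : q ∣ Nat.card G := (dvd_of_mul_right_eq c hc.symm).trans (_root_.orderOf_dvd_natCard g)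
    have hrG : r ∣ Nat.card G := (hrd.trans (dvd_of_mul_left_eq q hc.symm)).trans (_root_.orderOf_dvd_natCard g)
    have hqr : q * r ∣ orderOf g := hc ▸ mul_dvd_mul_left q hrd
    have hord : orderOf (g ^ (orderOf g / (q * r))) = q * r := orderOf_pow_orderOf_div (orderOf_pos g).ne' hqr
    have hne : g ^ (orderOf g / (q * r)) ≠ 1 := fun e => by
      rw [e, orderOf_one] at hord
      exact hq.one_lt.ne' (Nat.eq_one_of_mul_eq_one_right hord.symm)
    have hf := h _ hne
    rw [hord] at hf
    by_cases hrq : q = r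
    · subst hrq
      have h1 : q ∣ n := by
        rw [← hf]
        refine dvd_trans ?_ (totient_dvd_ocount (q * q))
        rw [← pow_two, Nat.totient_prime_pow hq two_pos]
        exact dvd_mul_of_dvd_left (by simp) _
      have := (Nat.dvd_add_left h1).mp (hsucc q hq hqG)
      exact hq.not_dvd_one this
    · have hco : q.Coprime r := (Nat.coprime_primes hq hr).mpr hrq
      have hd := dvd_sum_ocount (G := G) (hco.mul_dvd_of_dvd_of_dvd hqG hrG)
      rw [sum_divisors_coprime_mul hco] at hd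
      rw [hq.divisors, hr.divisors, Finset.sum_pair hq.one_lt.ne, Finset.sum_pair hr.one_lt.ne, Finset.sum_pair hr.one_lt.ne] at hd
      simp only [one_mul, mul_one, ocount_one, hocc q hq hqG, hocc r hr hrG, hf] at hd
      have h1 := hsucc q hq hqG
      have h2 : q ∣ 1 + n + (n + n) := (dvd_mul_right q r).trans hd
      have h4 : q ∣ n + n := (Nat.dvd_add_right h1).mp h2
      have h5 : q ∣ 2 := by
        have h6 : q ∣ 2 * (1 + n) := dvd_mul_of_dvd_right h1 2
        rw [show 2 * (1 + n) = (n + n) + 2 by ring] at h6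
        exact (Nat.dvd_add_right h4).mp h6
      have := Nat.le_of_dvd two_pos h5
      have := h3 q hq hqG
      omega
  -- count the whole group
  set k := (Nat.card G).primeFactors.card
  have hcard : Nat.card G = 1 + k * n := by
    have h1 : ∑ m ∈ (Nat.card G).divisors, ocount G m = Nat.card G := by
      rw [sum_ocount Nat.card_pos.ne']
      exact Nat.card_congr (Equiv.subtypeUnivEquiv fun g => pow_card_eq_one')
    have hsub : insert 1 (Nat.card G).primeFactors ⊆ (Nat.card G).divisors := by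
      intro m hm
      rcases Finset.mem_insert.mp hm with rfl | hm
      · exact Nat.one_mem_divisors.mpr Nat.card_pos.ne'
      · exact Nat.mem_divisors.mpr ⟨Nat.dvd_of_mem_primeFactors hm, Nat.card_pos.ne'⟩
    rw [← Finset.sum_subset hsub (fun m hm hm' => ocount_eq_zero fun g hg => hm' ?_)] at h1
    · rw [Finset.sum_insert (fun h => Nat.not_prime_one (Nat.prime_of_mem_primeFactors h)), ocount_one,
        Finset.sum_congr rfl (fun q hq => hocc q (Nat.prime_of_mem_primeFactors hq) (Nat.dvd_of_mem_primeFactors hq)),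
        Finset.sum_const, smul_eq_mul] at h1
      exact h1.symm
    · by_cases hg1 : g = 1
      · rw [← hg, hg1, orderOf_one]; exact Finset.mem_insert_self _ _
      · exact Finset.mem_insert_of_mem (Nat.mem_primeFactors.mpr
          ⟨hg ▸ hprime g hg1, (Nat.mem_divisors.mp hm).1, Nat.card_pos.ne'⟩)
  have hkmod : ∀ q ∈ (Nat.card G).primeFactors, q ∣ k - 1 := by
    intro q hq
    have hq' := Nat.prime_of_mem_primeFactors hq
    have hd := Nat.dvd_of_mem_primeFactors hq
    have hk : 1 ≤ k := Finset.card_pos.mpr ⟨q, hq⟩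
    have h1 := hsucc q hq' hd
    rw [hcard] at hd
    obtain ⟨j, hj⟩ : ∃ j, k = j + 1 := ⟨k - 1, by omega⟩
    rw [hj] at hd ⊢
    rw [show 1 + (j + 1) * n = (1 + n) + j * n by ring] at hd
    have h2 : q ∣ j * n := (Nat.dvd_add_right h1).mp hd
    rcases hq'.dvd_mul.mp h2 with h | h
    · simpa using h
    · exact absurd ((Nat.dvd_add_left h).mp h1) hq'.not_dvd_one
  have hk1 : k = 1 := by
    have hk0 : k ≠ 0 := by
      intro h0
      rw [h0, zero_mul, add_zero] at hcard
      exact absurd hcard (Finite.one_lt_card (α := G)).ne'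
    by_contra hk
    have hdvd : (∏ q ∈ (Nat.card G).primeFactors, q) ∣ k - 1 :=
      Finset.prod_primes_dvd _ (fun q hq => Nat.prime_iff.mp (Nat.prime_of_mem_primeFactors hq)) hkmod
    have h2 : 2 ^ k ≤ ∏ q ∈ (Nat.card G).primeFactors, q :=
      Finset.pow_card_le_prod _ _ _ fun q hq => (Nat.prime_of_mem_primeFactors hq).two_le
    have h4 := Nat.le_of_dvd (by omega) hdvd
    have := Nat.lt_two_pow_self (n := k)
    omega
  obtain ⟨p, hp⟩ := Finset.card_eq_one.mp hk1
  have hpm : p ∈ (Nat.card G).primeFactors := hp ▸ Finset.mem_singleton_self p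
  have hpp := Nat.prime_of_mem_primeFactors hpm
  have hord : ∀ g : G, g ≠ 1 → orderOf g = p := fun g hg => by
    have h1 : orderOf g ∈ (Nat.card G).primeFactors :=
      Nat.mem_primeFactors.mpr ⟨hprime g hg, _root_.orderOf_dvd_natCard g, Nat.card_pos.ne'⟩
    rw [hp] at h1
    exact Finset.mem_singleton.mp h1
  have hpow : ∀ g : G, g ^ p = 1 := fun g => by
    by_cases hg : g = 1
    · rw [hg, one_pow]
    · rw [← hord g hg]; exact pow_orderOf_eq_one g
  refine ⟨p, hpp, ?_, fun g => ⟨1, by rw [pow_one, hpow]⟩⟩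
  refine (hpp.eq_one_or_self_of_dvd _ (Monoid.exponent_dvd_of_forall_pow_eq_one hpow)).resolve_left fun e => ?_
  obtain ⟨g, hg⟩ := exists_ne (1 : G)
  exact hg (by rw [← pow_one g, ← e]; exact Monoid.pow_exponent_eq_one g)

end Cfsg.Agent.FGB
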