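import Mathlib
import Cfsg.Agent.Lib.Basics.CoprimeAction
import Cfsg.Agent.Lib.Transfer.Abelian
import Cfsg.Agent.Lib.InvChar.OneSubgroup
import Cfsg.Agent.Lib.FGB.PRegularClasses

/-!
# Coprime action on groups with cyclic Sylow subgroups
-/

set_option autoImplicit false
set_option linter.style.haveILetI false

open scoped Pointwise commutatorElement

namespace Cfsg.Agent.FGB

universe u

variable {G : Type u} [Group G]

theorem eq_of_isCyclic_of_card_eq [Finite G] {A B C : Subgroup G} [IsCyclic C]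
    (hA : A ≤ C) (hB : B ≤ C) (h : Nat.card A = Nat.card B) : A = B := by
  obtain ⟨c, hc⟩ := IsCyclic.exists_generator (α := C)
  have key : ∀ A : Subgroup G, A ≤ C → ∀ x ∈ C, x ^ Nat.card A = 1 → x ∈ A := by
    intro A hA x hx hpow
    classical
    let φ : A → {y : C // y ^ Nat.card A = 1} := fun a =>
      ⟨⟨a, hA a.2⟩, Subtype.ext (show (a : G) ^ Nat.card A = 1 from
        orderOf_dvd_iff_pow_eq_one.mp (Subgroup.orderOf_dvd_natCard A a.2))⟩
    have hφ : Function.Injective φ := fun a b e =>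
      Subtype.ext (congrArg (fun z : {y : C // y ^ Nat.card A = 1} => ((z : C) : G)) e)
    haveI := Fintype.ofFinite C
    have hle : Nat.card {y : C // y ^ Nat.card A = 1} ≤ Nat.card A := by
      rw [Nat.card_eq_fintype_card, Fintype.card_subtype]
      exact IsCyclic.card_pow_eq_one_le Nat.card_pos
    obtain ⟨a, ha⟩ := ((Nat.bijective_iff_injective_and_card φ).mpr
      ⟨hφ, le_antisymm (Nat.card_le_card_of_injective φ hφ) hle⟩).2 ⟨⟨x, hx⟩, Subtype.ext hpow⟩
    have e : (a : G) = x :=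
      congrArg (fun z : {y : C // y ^ Nat.card A = 1} => ((z : C) : G)) ha
    exact e ▸ a.2
  refine Subgroup.eq_of_le_of_card_ge (fun a ha => key B hB a (hA ha) ?_) h.ge
  rw [← h]
  exact orderOf_dvd_iff_pow_eq_one.mp (Subgroup.orderOf_dvd_natCard A ha)

/-- A `p`-group all of whose abelian subgroups are cyclic is cyclic, if it is abelian or `p` is odd. -/
theorem isCyclic_of_abelian_subgroups_cyclic {P : Type u} [Group P] [Finite P] {p : ℕ}
    [Fact p.Prime] (hP : IsPGroup p P) (h2 : p = 2 → IsMulCommutative P)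
    (hab : ∀ A : Subgroup P, IsMulCommutative A → IsCyclic A) : IsCyclic P := by
  rcases subsingleton_or_nontrivial P with hP1 | hP1
  · infer_instance
  by_cases hp2 : p = 2
  · haveI := h2 hp2
    haveI := hab ⊤ inferInstance
    exact isCyclic_of_surjective Subgroup.topEquiv.toMonoidHom Subgroup.topEquiv.surjective
  refine (InvChar.cyclic_or_quaternion hP ?_).resolve_right fun h => hp2 h.1
  haveI := hP.center_nontrivial
  have hdvd : p ∣ Nat.card (Subgroup.center P) := by
    haveI : Nontrivial (Subgroup.center P) := hP.center_nontrivial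
    obtain ⟨n, hn, hn'⟩ := (hP.to_subgroup (Subgroup.center P)).nontrivial_iff_card.mp inferInstance
    exact hn' ▸ dvd_pow_self p hn.ne'
  obtain ⟨c, hc⟩ := exists_prime_orderOf_dvd_card' p hdvd
  suffices ∀ X : Subgroup P, Nat.card X = p → X = Subgroup.zpowers (c : P) from
    fun X Y hX hY => (this X hX).trans (this Y hY).symm
  intro X hX
  haveI : IsCyclic X := isCyclic_of_prime_card hX
  let C := Subgroup.zpowers (c : P)
  have hXab : IsMulCommutative X := inferInstance
  have hcomm : ∀ a ∈ X ⊔ C, ∀ b ∈ X ⊔ C, a * b = b * a := by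
    have hle : X ⊔ C ≤ Subgroup.centralizer ((X ⊔ C : Subgroup P) : Set P) := by
      have h1 : C ≤ Subgroup.center P := Subgroup.zpowers_le.mpr c.2
      refine sup_le (Subgroup.le_centralizer_iff.mp (sup_le (Subgroup.le_centralizer X)
        (h1.trans (Subgroup.center_le_centralizer _)))) (h1.trans (Subgroup.center_le_centralizer _))
    exact fun a ha b hb => (Subgroup.mem_centralizer_iff.mp (hle ha) b hb).symm
  haveI := hab (X ⊔ C) ⟨⟨fun a b => Subtype.ext (hcomm a a.2 b b.2)⟩⟩
  refine eq_of_isCyclic_of_card_eq le_sup_left le_sup_right ?_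
  rw [hX, Nat.card_zpowers, Subgroup.orderOf_coe, hc]

/-- A coprime action on a cyclic `p`-group fixing a non-trivial element is trivial. -/
theorem le_centralizer_of_fix_cyclic [Finite G] {p : ℕ} [hp : Fact p.Prime] (S Q : Subgroup G)
    [IsCyclic S] (hS : IsPGroup p S) (hQS : Q ≤ Subgroup.normalizer (S : Set G))
    (hcop : (Nat.card Q).Coprime (Nat.card S))
    (hne : S ⊓ Subgroup.centralizer (Q : Set G) ≠ ⊥) : S ≤ Subgroup.centralizer (Q : Set G) := by
  have hSQ : ⁅S, Q⁆ ≤ S := Subgroup.le_normalizer_iff_commutator_le_left.mp hQS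
  by_contra hcon
  have hne' : ⁅S, Q⁆ ≠ ⊥ := fun h => hcon (Subgroup.commutator_eq_bot_iff_le_centralizer.mp h)
  have hex : ∀ X : Subgroup G, X ≤ S → X ≠ ⊥ → ∃ Y ≤ X, Nat.card Y = p := by
    intro X hX hX1
    haveI := (Subgroup.nontrivial_iff_ne_bot X).mpr hX1
    obtain ⟨n, hn, hn'⟩ := (hS.to_le hX).nontrivial_iff_card.mp inferInstance
    obtain ⟨x, hx⟩ := exists_prime_orderOf_dvd_card' p (hn' ▸ dvd_pow_self p hn.ne' : p ∣ Nat.card X)
    exact ⟨Subgroup.zpowers (x : G), Subgroup.zpowers_le.mpr x.2,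
      by rw [Nat.card_zpowers, Subgroup.orderOf_coe, hx]⟩
  obtain ⟨Y, hY, hYp⟩ := hex _ inf_le_left hne
  obtain ⟨Y', hY', hYp'⟩ := hex _ hSQ hne'
  have := eq_of_isCyclic_of_card_eq (hY.trans inf_le_left) (hY'.trans hSQ) (hYp.trans hYp'.symm)
  have hle := le_inf hY (this ▸ hY')
  rw [Basics.inf_centralizer_inf_commutator_eq_bot Q S hQS hcop, le_bot_iff] at hle
  rw [hle, Subgroup.card_bot] at hYp
  exact hp.out.one_lt.ne hYp

/-- If `L = [L, Q]` and `Q` centralises a Sylow `r`-subgroup of `L`, then that Sylow subgroup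
is contained in the derived subgroup of `L`. -/
theorem sylow_le_commutator_of_centralized [Finite G] {r : ℕ} [hr : Fact r.Prime]
    (L Q : Subgroup G) (hQL : Q ≤ Subgroup.normalizer (L : Set G)) (hLQ : ⁅L, Q⁆ = L)
    (S : Sylow r L) (hS : ∀ s ∈ (S : Subgroup L), ∀ a ∈ Q, a * (s : G) = (s : G) * a) :
    (S : Subgroup L) ≤ commutator L := by
  set e := (S : Subgroup L).index with he
  let φ : Q → (L →* L) := fun a =>
    { toFun := fun v => ⟨a * v * (a : G)⁻¹, (Basics.conj_mem_iff_of_mem_normalizer (hQL a.2)).mpr v.2⟩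
      map_one' := Subtype.ext (by simp)
      map_mul' := fun v w => Subtype.ext (by simp [mul_assoc]) }
  let ψ : L →* Abelianization L := Abelianization.of
  let θ : L →* Abelianization L := (powMonoidHom e).comp ψ
  have hfix : ∀ (a : Q) (h : L), θ (φ a h) = θ h := by
    intro a h
    obtain ⟨s, hs, hse⟩ : ψ h ^ e ∈ (S : Subgroup L).map ψ := by
      obtain ⟨c, hc⟩ := (S : Subgroup L).index_map_dvd (f := ψ) QuotientGroup.mk_surjective
      rw [he, hc, pow_mul]
      exact Subgroup.pow_mem _ (Subgroup.pow_index_mem _ _) _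
    have hφs : φ a s = s := Subtype.ext (by
      show (a : G) * s * (a : G)⁻¹ = s
      rw [hS s hs a a.2, mul_inv_cancel_right])
    calc θ (φ a h) = (Abelianization.map (φ a)) (ψ h) ^ e := by
          show ψ (φ a h) ^ e = _
          rw [Abelianization.map_of]
      _ = (Abelianization.map (φ a)) (ψ s) := by rw [← map_pow, hse]
      _ = ψ s := by rw [Abelianization.map_of, hφs]
      _ = θ h := hse
  have hall : ∀ x : L, θ x = 1 := by
    intro x
    have hle : ⁅L, Q⁆ ≤ θ.ker.map L.subtype := by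
      rw [Subgroup.commutator_le]
      intro h hh a ha
      refine ⟨⟨h, hh⟩ * φ ⟨a, ha⟩ ⟨h, hh⟩⁻¹, ?_, ?_⟩
      · show θ _ = 1
        rw [map_mul, hfix, map_inv, mul_inv_cancel]
      · show h * (a * h⁻¹ * a⁻¹) = ⁅h, a⁆
        rw [commutatorElement_def]
        group
    rw [hLQ] at hle
    obtain ⟨y, hy, hyx⟩ := hle x.2
    exact (Subtype.ext hyx : y = x) ▸ hy
  intro x hx
  have h1 : ψ x ^ e = 1 := hall x
  obtain ⟨k, hk⟩ := (IsPGroup.iff_orderOf.mp S.2) ⟨x, hx⟩
  rw [Subgroup.orderOf_mk] at hk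
  have h2 : orderOf (ψ x) = 1 := Nat.eq_one_of_dvd_coprimes
    ((hr.out.coprime_iff_not_dvd.mpr S.not_dvd_index).pow_left k)
    (hk ▸ orderOf_map_dvd ψ x) (orderOf_dvd_of_pow_eq_one h1)
  exact Abelianization.ker_of L ▸ MonoidHom.mem_ker.mpr (orderOf_eq_one_iff.mp h2)

/-- For a coprime action of `Q` on a group `H` with cyclic Sylow subgroups, `[H, Q]` and the
fixed points have coprime orders. -/
theorem coprime_card_commutator_centralizer [Finite G] (H Q : Subgroup G) [IsZGroup H]
    (hQ : Q ≤ Subgroup.normalizer (H : Set G)) (hcop : (Nat.card Q).Coprime (Nat.card H)) :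
    (Nat.card ↥(H ⊓ Subgroup.centralizer (Q : Set G))).Coprime (Nat.card ↥⁅H, Q⁆) := by
  have hsolv : Group.IsSolvable Q ∨ Group.IsSolvable H := Or.inr inferInstance
  have hK0H : ⁅H, Q⁆ ≤ H := Subgroup.le_normalizer_iff_commutator_le_left.mp hQ
  refine Nat.coprime_of_dvd fun r hr hrC hrK => ?_
  haveI := Fact.mk hr
  set C := H ⊓ Subgroup.centralizer (Q : Set G) with hC
  set K0 := ⁅H, Q⁆ with hK0
  -- an invariant Sylow subgroup of `H`, centralised by `Q`
  obtain ⟨U⟩ := (inferInstance : Nonempty (Sylow r C))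
  let U' := (U : Subgroup C).map C.subtype
  have hU'C : U' ≤ C := Subgroup.map_subtype_le _
  have hU'ne : U' ≠ ⊥ := fun h => U.ne_bot_of_dvd_card hrC
    ((Subgroup.map_eq_bot_iff_of_injective _ C.subtype_injective).mp h)
  have hQU : Q ≤ Subgroup.normalizer (U' : Set G) :=
    (Subgroup.le_centralizer_iff.mp (hU'C.trans inf_le_right)).trans
      (Subgroup.centralizer_le_normalizer _)
  obtain ⟨S, hS, hUS, hQS⟩ := Basics.exists_invariant_isSylowIn_ge Q H hQ hcop hsolv r U'
    (hU'C.trans inf_le_left) (U.2.map _) hQU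
  haveI : IsZGroup S := IsZGroup.of_injective (Subgroup.inclusion_injective hS.1)
  haveI : IsCyclic S := by
    haveI : IsCyclic (S.subgroupOf H) :=
      (hS.isPGroup.comap_subtype (K := H)).isCyclic_of_isZGroup
    exact isCyclic_of_surjective (Subgroup.subgroupOfEquivOfLe hS.1).toMonoidHom
      (Subgroup.subgroupOfEquivOfLe hS.1).surjective
  have hSC : S ≤ Subgroup.centralizer (Q : Set G) :=
    le_centralizer_of_fix_cyclic S Q hS.isPGroup hQS
      (hcop.coprime_dvd_right (Subgroup.card_dvd_of_le hS.1))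
      (fun h => hU'ne (le_bot_iff.mp (h ▸ le_inf hUS (hU'C.trans inf_le_right))))
  -- its intersection with `[H, Q]`
  have hQK : Q ≤ Subgroup.normalizer (K0 : Set G) := Subgroup.normalizer_commutator_ge_right _ _
  have hHK : H ≤ Subgroup.normalizer (K0 : Set G) := Subgroup.normalizer_commutator_ge_left _ _
  obtain ⟨SH, hSH⟩ := hS.exists_sylow
  haveI : (K0.subgroupOf H).Normal := (Subgroup.normal_subgroupOf_iff_le_normalizer hK0H).mpr hHK
  have hidx : ¬ r ∣ (SH : Subgroup H).relIndex (K0.subgroupOf H) := fun h =>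
    SH.not_dvd_index (h.trans (relIndex_dvd_index_of_normal_right _ _))
  have hS' : S.subgroupOf H = (SH : Subgroup H) := by
    rw [← hSH, Subgroup.subgroupOf, Subgroup.comap_map_eq_self_of_injective H.subtype_injective]
  have hrel : S.relIndex K0 = (SH : Subgroup H).relIndex (K0.subgroupOf H) := by
    rw [← hS', Subgroup.relIndex_subgroupOf hK0H]
  let S1 : Sylow r K0 := (hS.isPGroup.comap_subtype (K := K0)).toSylow
    (show ¬ r ∣ S.relIndex K0 from hrel ▸ hidx)
  have hS1 : (S1 : Subgroup K0) = S.subgroupOf K0 := rfl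
  have hKK : ⁅K0, Q⁆ = K0 := Basics.commutator_commutator_eq Q H hQ hcop hsolv
  have hS1D : (S1 : Subgroup K0) ≤ commutator K0 :=
    sylow_le_commutator_of_centralized K0 Q hQK hKK S1
      (fun s hs a ha => Subgroup.mem_centralizer_iff.mp (hSC hs) a ha)
  haveI : IsZGroup K0 := IsZGroup.of_injective (Subgroup.inclusion_injective hK0H)
  haveI : IsCyclic (commutator K0) := IsZGroup.isCyclic_commutator K0
  let T := (S1 : Subgroup K0).map K0.subtype
  let D := (commutator K0).map K0.subtype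
  haveI : IsCyclic D :=
    isCyclic_of_surjective (K0.subtype.subgroupMap (commutator K0))
      (K0.subtype.subgroupMap_surjective _)
  have hTD : T ≤ D := Subgroup.map_mono hS1D
  have hTS : T ≤ S := by
    rintro _ ⟨x, hx, rfl⟩
    exact hx
  have hTnorm : ∀ h ∈ H, ∀ x ∈ T, h * x * h⁻¹ ∈ T := by
    intro h hh x hx
    have hD : D.map (MulAut.conj h).toMonoidHom = D := by
      have e : D = ⁅K0, K0⁆ := Subgroup.map_subtype_commutator K0
      have hKh : K0.map (MulAut.conj h).toMonoidHom = K0 :=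
        Subgroup.mem_normalizer_iff_map_conj_eq.mp (hHK hh)
      rw [e, Subgroup.map_commutator, hKh]
    have heq := eq_of_isCyclic_of_card_eq (A := T.map (MulAut.conj h).toMonoidHom) (B := T) (C := D)
      (by rw [← hD]; exact Subgroup.map_mono hTD) hTD
      (Subgroup.card_map_of_injective (MulEquiv.injective _))
    rw [← heq]
    exact ⟨x, hx, rfl⟩
  have hTK : K0 ≤ Subgroup.centralizer (T : Set G) := by
    rw [hK0, Subgroup.commutator_le]
    intro h hh a ha
    rw [Subgroup.mem_centralizer_iff]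
    intro x hx
    have e1 : ∀ y ∈ T, a * y = y * a := fun y hy =>
      Subgroup.mem_centralizer_iff.mp (hSC (hTS hy)) a ha
    have ea : ∀ y ∈ T, a⁻¹ * y = y * a⁻¹ := fun y hy =>
      (Commute.inv_left (e1 y hy : Commute a y)).eq
    have e2 : h⁻¹ * x * h ∈ T := by simpa using hTnorm h⁻¹ (inv_mem hh) x hx
    rw [commutatorElement_def]
    calc x * (h * a * h⁻¹ * a⁻¹) = h * ((h⁻¹ * x * h) * a) * h⁻¹ * a⁻¹ := by group
      _ = h * (a * (h⁻¹ * x * h)) * h⁻¹ * a⁻¹ := by rw [e1 _ e2]
      _ = h * a * h⁻¹ * (x * a⁻¹) := by group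
      _ = h * a * h⁻¹ * (a⁻¹ * x) := by rw [ea x hx]
      _ = h * a * h⁻¹ * a⁻¹ * x := by group
  have hS1Z : (S1 : Subgroup K0) ≤ Subgroup.center K0 := fun x hx =>
    Subgroup.mem_center_iff.mpr fun y => Subtype.ext
      (Subgroup.mem_centralizer_iff.mp (hTK y.2) x ⟨x, hx, rfl⟩).symm
  haveI : IsMulCommutative (S1 : Subgroup K0) := ⟨⟨fun a b => Subtype.ext
    (Subgroup.mem_center_iff.mp (hS1Z b.2) a)⟩⟩
  refine S1.ne_bot_of_dvd_card hrK ?_
  rw [← le_bot_iff, ← Transfer.inf_commutator_center_eq_bot (S1 : Subgroup K0)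
    (Transfer.sylow_card_coprime_index S1)]
  exact le_inf (le_inf le_rfl hS1D) hS1Z

end Cfsg.Agent.FGB
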