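import Mathlib
import Cfsg.Agent.Lib.FGB.ZGroupAction
import Cfsg.Agent.Lib.Basics.Cores
import Cfsg.Agent.Lib.Basics.FrobeniusBasic
import Cfsg.Agent.Lib.Basics.CoprimeGen
import Cfsg.Agent.Lib.InvChar.OneSubgroup
import Cfsg.Agent.Lib.CT.Integral
import Cfsg.Agent.Lib.FGB.PRegularClasses

/-!
# Groups whose Sylow subgroups have a cyclic subgroup of index at most two

Frobenius complements have this property; in a solvable such group the Sylow subgroup for the
largest prime `≥ 5` is normal, so solvability is determined by the numbers of solutions of `x ^ m = 1`.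
-/

set_option autoImplicit false
set_option linter.style.haveILetI false

namespace Cfsg.Agent.FGB

open scoped Pointwise

universe u v

/-- Every Sylow subgroup has a cyclic subgroup of index dividing 2. -/
def CyclicIndexTwo (G : Type u) [Group G] : Prop :=
  ∀ (p : ℕ) [Fact p.Prime] (P : Sylow p G), ∃ D : Subgroup (P : Subgroup G), IsCyclic D ∧ D.index ∣ 2

variable {G : Type u} [Group G] [Finite G]

theorem CyclicIndexTwo.of_surjective (h : CyclicIndexTwo G) {H : Type v} [Group H] (f : G →* H)
    (hf : Function.Surjective f) : CyclicIndexTwo H := by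
  intro p _ P'
  haveI : Finite H := Finite.of_surjective f hf
  obtain ⟨P0⟩ := (inferInstance : Nonempty (Sylow p G))
  obtain ⟨x, hx⟩ := MulAction.exists_smul_eq H (P0.mapSurjective hf) P'
  obtain ⟨g, rfl⟩ := hf x
  have hP : (P' : Subgroup H) = ((g • P0 : Sylow p G) : Subgroup G).map f := by
    rw [← hx, Sylow.coe_subgroup_smul, Sylow.coe_subgroup_smul]
    ext y
    constructor
    · rintro ⟨z, ⟨w, hw, rfl⟩, rfl⟩
      exact ⟨_, ⟨w, hw, rfl⟩, by simp⟩
    · rintro ⟨_, ⟨w, hw, rfl⟩, rfl⟩
      exact ⟨f w, ⟨w, hw, rfl⟩, by simp⟩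
  rw [hP]
  obtain ⟨D, hD, hD2⟩ := h p (g • P0)
  let r := f.subgroupMap ((g • P0 : Sylow p G) : Subgroup G)
  refine ⟨D.map r, ?_, (D.index_map_dvd (f.subgroupMap_surjective _)).trans hD2⟩
  exact isCyclic_of_surjective (r.subgroupMap D) (r.subgroupMap_surjective D)

/-- A normal elementary abelian subgroup is small. -/
theorem CyclicIndexTwo.card_le (h : CyclicIndexTwo G) {q : ℕ} [hq : Fact q.Prime] (E : Subgroup G)
    [E.Normal] (hE : ∀ x ∈ E, x ^ q = 1) : Nat.card E ≤ q ∨ Nat.card E ≤ 4 := by
  have hEp : IsPGroup q E := fun x => ⟨1, Subtype.ext (by rw [pow_one]; exact hE x x.2)⟩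
  obtain ⟨P, hP⟩ := hEp.exists_le_sylow
  obtain ⟨D, hD, hD2⟩ := h q P
  let E' := E.subgroupOf (P : Subgroup G)
  have hcardE : Nat.card E' = Nat.card E :=
    Nat.card_congr (Subgroup.subgroupOfEquivOfLe hP).toEquiv
  have h1 := relIndex_dvd_index_of_normal_right D E'
  have h2 : Nat.card (D.subgroupOf E') ≤ q := by
    haveI : IsCyclic (D.subgroupOf E') := by
      let f : D.subgroupOf E' →* D :=
        { toFun := fun x => ⟨((x : E') : (P : Subgroup G)), x.2⟩
          map_one' := rfl
          map_mul' := fun _ _ => rfl }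
      exact isCyclic_of_injective f fun x y e =>
        Subtype.ext (Subtype.ext (congrArg (fun z : D => (z : (P : Subgroup G))) e))
    obtain ⟨c, hc⟩ := IsCyclic.exists_generator (α := D.subgroupOf E')
    rw [← orderOf_eq_card_of_forall_mem_zpowers hc]
    refine Nat.le_of_dvd hq.out.pos (orderOf_dvd_of_pow_eq_one ?_)
    exact Subtype.ext (Subtype.ext (Subtype.ext (hE _ (c : E').2)))
  have h3 := (D.subgroupOf E').card_mul_index
  rw [hcardE] at h3
  change _ * D.relIndex E' = _ at h3
  have h4 : D.relIndex E' ∣ 2 := h1.trans hD2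
  rcases (Nat.dvd_prime Nat.prime_two).mp h4 with h5 | h5
  · left; rw [← h3, h5, mul_one]; exact h2
  · have h6 : 2 ∣ Nat.card E := Dvd.intro_left _ (h5 ▸ h3)
    obtain ⟨k, hk⟩ := IsPGroup.iff_card.mp hEp
    rw [hk] at h6
    have hq2 : q = 2 := ((Nat.prime_dvd_prime_iff_eq Nat.prime_two hq.out).mp
      (Nat.prime_two.dvd_of_dvd_pow h6)).symm
    right
    rw [← h3, h5]
    subst hq2
    omega

theorem centralizes_of_card_lt {p : ℕ} [hp : Fact p.Prime] (E : Subgroup G) [E.Normal]
    (P : Subgroup G) (hP : IsPGroup p P) (hE : Nat.card E < p + 1) (hne : Nat.card E ≠ p) :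
    E ≤ Subgroup.centralizer (P : Set G) := by
  classical
  intro e he
  rw [Subgroup.mem_centralizer_iff]
  intro x hx
  let φ : MulAut E := MulAut.conjNormal (H := E) x
  obtain ⟨k, hk⟩ := hP ⟨x, hx⟩
  have hk' : x ^ p ^ k = 1 := congrArg Subtype.val hk
  have hφ : φ ^ p ^ k = 1 := by
    rw [← map_pow, hk', map_one]
  have hperm : (MulAut.toPerm E φ) ^ p ^ k = 1 := by rw [← map_pow, hφ, map_one]
  have hlt : Nat.card E < p := by omega
  have hord : orderOf (MulAut.toPerm E φ) = 1 := by
    obtain ⟨i, -, hi⟩ := (Nat.dvd_prime_pow hp.out).mp (orderOf_dvd_of_pow_eq_one hperm)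
    rcases Nat.eq_zero_or_pos i with rfl | hi0
    · simpa using hi
    · exfalso
      have h1 : p ∣ Nat.card (Equiv.Perm E) := by
        refine Dvd.dvd.trans ?_ (orderOf_dvd_natCard (MulAut.toPerm E φ))
        rw [hi]
        exact dvd_pow_self p hi0.ne'
      rw [Nat.card_perm] at h1
      have := hp.out.dvd_factorial.mp h1
      omega
  have h1 := congrArg (fun f : Equiv.Perm E => ((f ⟨e, he⟩ : E) : G)) (orderOf_eq_one_iff.mp hord)
  have h2 : x * e * x⁻¹ = e := h1
  exact mul_inv_eq_iff_eq_mul.mp h2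

theorem sylow_normal_of_cyclicIndexTwo : ∀ (n : ℕ) (G : Type u) [Group G] [Finite G],
    Nat.card G = n → Group.IsSolvable G → CyclicIndexTwo G → ∀ (p : ℕ) [Fact p.Prime], 5 ≤ p →
      (∀ r : ℕ, r.Prime → r ∣ Nat.card G → r ≤ p) → ∀ P : Sylow p G, (P : Subgroup G).Normal := by
  intro n
  induction n using Nat.strong_induction_on with
  | _ n ih =>
  intro G _ _ hn hs hc p hp5' h5 hmax P
  rcases subsingleton_or_nontrivial G with hG | hG
  · rw [Subsingleton.elim (P : Subgroup G) ⊥]; infer_instance
  obtain ⟨q, E, hq, hEn, -, hE1, hEab, hEq⟩ := Basics.exists_elementary_normal (G := G) (N := ⊤)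
    (by exact top_ne_bot) (Group.isSolvable_of_isSolvable_injective (f := (⊤ : Subgroup G).subtype)
      (⊤ : Subgroup G).subtype_injective)
  haveI := hEn
  haveI := Fact.mk hq
  let π := QuotientGroup.mk' E
  have hlt : Nat.card (G ⧸ E) < n := by
    rw [← hn, E.card_eq_card_quotient_mul_card_subgroup]
    exact lt_mul_of_one_lt_right Nat.card_pos ((Subgroup.one_lt_card_iff_ne_bot E).mpr hE1)
  have hK : ((P.mapSurjective (QuotientGroup.mk'_surjective E) : Sylow p (G ⧸ E)) : Subgroup (G ⧸ E)).Normal :=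
    ih _ hlt (G ⧸ E) rfl (Group.isSolvable_of_surjective (f := π) (QuotientGroup.mk'_surjective E))
      (hc.of_surjective π (QuotientGroup.mk'_surjective E)) p h5
      (fun r hr hrd => hmax r hr (hrd.trans (Subgroup.card_quotient_dvd_card E))) _
  rw [Sylow.coe_mapSurjective] at hK
  set K := ((P : Subgroup G).map π).comap π with hKdef
  haveI hKn : K.Normal := hK.comap π
  have hKeq : K = (P : Subgroup G) ⊔ E := by
    rw [hKdef, Subgroup.comap_map_eq, QuotientGroup.ker_mk']
  have hPK : (P : Subgroup G) ≤ K := hKeq ▸ le_sup_left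
  have hEnorm : E ≤ Subgroup.normalizer ((P : Subgroup G) : Set G) := by
    have hEp : IsPGroup q E := fun x => ⟨1, Subtype.ext (by rw [pow_one]; exact hEq x x.2)⟩
    by_cases hqp : q = p
    · subst hqp
      obtain ⟨R, hR⟩ := hEp.exists_le_sylow
      obtain ⟨x, hx⟩ := MulAction.exists_smul_eq G R P
      have hEP : E ≤ (P : Subgroup G) := by
        intro e he
        rw [← hx, Sylow.coe_subgroup_smul]
        exact ⟨x⁻¹ * e * x, hR (by simpa using hEn.conj_mem e he x⁻¹), by simp [mul_assoc]⟩
      exact hEP.trans Subgroup.le_normalizer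
    · have hqlt : q < p := by
        refine lt_of_le_of_ne (hmax q hq ?_) hqp
        obtain ⟨j, hj0, hj⟩ := (hEp.nontrivial_iff_card).mp ((Subgroup.nontrivial_iff_ne_bot E).mpr hE1)
        exact ((dvd_pow_self q hj0.ne').trans (hj ▸ dvd_rfl)).trans (Subgroup.card_subgroup_dvd_card E)
      have hsmall : Nat.card E < p := by rcases hc.card_le E hEq with h | h <;> omega
      exact (centralizes_of_card_lt E (P : Subgroup G) P.2 (by omega) (by omega)).trans
        (Subgroup.centralizer_le_normalizer _)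
  haveI : ((P.subtype hPK : Sylow p K) : Subgroup K).Normal :=
    (Subgroup.normal_subgroupOf_iff_le_normalizer hPK).mpr
      (hKeq ▸ sup_le Subgroup.le_normalizer hEnorm)
  haveI : ((P.subtype hPK : Sylow p K) : Subgroup K).Characteristic :=
    Sylow.characteristic_of_normal _ inferInstance
  have := ConjAct.normal_of_characteristic_of_normal (H := K) (K := ((P.subtype hPK : Sylow p K) : Subgroup K))
  rwa [Sylow.coe_subtype, Subgroup.map_subgroupOf_eq_of_le hPK] at this

theorem card_pow_mul_eq_one {N : Subgroup G} [N.Normal] {k : ℕ}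
    (hN : ∀ x : G, x ∈ N ↔ x ^ k = 1) (m : ℕ) :
    Nat.card {g : G // g ^ (m * k) = 1} = Nat.card N * Nat.card {q : G ⧸ N // q ^ m = 1} := by
  have hmem : ∀ g : G, g ^ (m * k) = 1 ↔ (QuotientGroup.mk g : G ⧸ N) ^ m = 1 := by
    intro g
    rw [← QuotientGroup.mk_pow, QuotientGroup.eq_one_iff, hN, ← pow_mul]
  have := QuotientGroup.card_preimage_mk N {q : G ⧸ N | q ^ m = 1}
  rw [show {g : G // g ^ (m * k) = 1} =
    ↥((QuotientGroup.mk : G → G ⧸ N) ⁻¹' {q | q ^ m = 1}) from ?_, this]
  · rfl
  · show Subtype _ = Subtype _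
    simp only [hmem]
    rfl

theorem mem_normal_sylow_iff {p : ℕ} [Fact p.Prime] (P : Sylow p G) [(P : Subgroup G).Normal] (x : G) :
    x ∈ (P : Subgroup G) ↔ x ^ Nat.card (P : Subgroup G) = 1 := by
  constructor
  · intro h
    exact congrArg Subtype.val (pow_card_eq_one' (x := (⟨x, h⟩ : (P : Subgroup G))))
  · intro h
    have hz : IsPGroup p (Subgroup.zpowers x) := by
      obtain ⟨k, hk⟩ := IsPGroup.iff_card.mp P.2
      refine IsPGroup.of_card_dvd_pow (n := k) ?_
      rw [Nat.card_zpowers, ← hk]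
      exact orderOf_dvd_of_pow_eq_one h
    obtain ⟨R, hR⟩ := hz.exists_le_sylow
    obtain ⟨g, hg⟩ := MulAction.exists_smul_eq G P R
    rw [← hg, Sylow.smul_eq_of_normal] at hR
    exact hR (Subgroup.mem_zpowers _)

theorem sylow_normal_of_card_pow {p : ℕ} [Fact p.Prime] (Q : Sylow p G)
    (h : Nat.card {g : G // g ^ Nat.card (Q : Subgroup G) = 1} = Nat.card (Q : Subgroup G)) :
    (Q : Subgroup G).Normal := by
  have : Subsingleton (Sylow p G) := by
    refine ⟨fun A B => ?_⟩
    have key : ∀ A : Sylow p G, ∀ x, x ∈ (A : Subgroup G) ↔ x ^ Nat.card (Q : Subgroup G) = 1 := by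
      intro A
      have e : Nat.card (A : Subgroup G) = Nat.card (Q : Subgroup G) := by
        rw [A.card_eq_multiplicity, Q.card_eq_multiplicity]
      have hsub : ((A : Subgroup G) : Set G) ⊆ {g : G | g ^ Nat.card (Q : Subgroup G) = 1} := by
        intro x hx
        have := pow_card_eq_one' (x := (⟨x, hx⟩ : (A : Subgroup G)))
        rw [e] at this
        exact congrArg Subtype.val this
      have := Set.eq_of_subset_of_ncard_le hsub (by
        rw [← Nat.card_coe_set_eq, ← Nat.card_coe_set_eq]
        exact le_of_eq (h.trans e.symm))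
      intro x
      exact Set.ext_iff.mp this x
    ext x
    rw [key A x, key B x]
  exact Q.normal_of_subsingleton

theorem isSolvable_of_same_pow_count : ∀ (n : ℕ) (A : Type u) (B : Type v) [Group A] [Finite A]
    [Group B] [Finite B], Nat.card A = n → Group.IsSolvable A → CyclicIndexTwo A →
    (∀ m : ℕ, Nat.card {g : A // g ^ m = 1} = Nat.card {h : B // h ^ m = 1}) → Group.IsSolvable B := by
  intro n
  induction n using Nat.strong_induction_on with
  | _ n ih =>
  intro A B _ _ _ _ hn hA hcA hT
  have hcard : Nat.card A = Nat.card B := by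
    have := hT 0
    simpa [Nat.card_congr (Equiv.subtypeUnivEquiv (p := fun _ => True) fun _ => trivial)] using this
  rcases eq_or_ne (Nat.card A) 1 with h1 | h1
  · haveI : Subsingleton B := (Nat.card_eq_one_iff_unique.mp (hcard ▸ h1)).1
    exact Group.isSolvable_of_top_eq_bot _ (Subsingleton.elim _ _)
  by_cases hbig : ∀ r : ℕ, r.Prime → r ∣ Nat.card A → r < 5
  · refine CT.isSolvable_of_card_two_primes Nat.prime_two Nat.prime_three _ B
      ((Nat.card B).factorization 2) ((Nat.card B).factorization 3) rfl ?_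
    conv_lhs => rw [← Nat.prod_factorization_pow_eq_self (n := Nat.card B) Nat.card_pos.ne']
    rw [Finsupp.prod_of_support_subset _ (s := ({2, 3} : Finset ℕ)) ?_ _ (fun _ _ => pow_zero _)]
    · rw [Finset.prod_pair (by norm_num : (2 : ℕ) ≠ 3)]
    · intro r hr
      rw [Nat.support_factorization, Nat.mem_primeFactors] at hr
      have := hbig r hr.1 (hcard ▸ hr.2.1)
      have := hr.1.two_le
      have h4 : r ≠ 4 := fun h => by rw [h] at hr; exact absurd hr.1 (by norm_num)
      simp only [Finset.mem_insert, Finset.mem_singleton]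
      omega
  push Not at hbig
  obtain ⟨r0, hr0, hr0d, hr05⟩ := hbig
  have hne : (Nat.card A).primeFactors.Nonempty := ⟨r0, Nat.mem_primeFactors.mpr ⟨hr0, hr0d, Nat.card_pos.ne'⟩⟩
  let p := (Nat.card A).primeFactors.max' hne
  have hp := Nat.mem_primeFactors.mp ((Nat.card A).primeFactors.max'_mem hne)
  have hp5 : 5 ≤ p := hr05.trans (Finset.le_max' _ _ (Nat.mem_primeFactors.mpr ⟨hr0, hr0d, Nat.card_pos.ne'⟩))
  haveI : Fact p.Prime := ⟨hp.1⟩
  obtain ⟨P⟩ := (inferInstance : Nonempty (Sylow p A))
  haveI hPn : (P : Subgroup A).Normal := sylow_normal_of_cyclicIndexTwo _ A rfl hA hcA p hp5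
    (fun r hr hrd => Finset.le_max' _ _ (Nat.mem_primeFactors.mpr ⟨hr, hrd, Nat.card_pos.ne'⟩)) P
  obtain ⟨Q⟩ := (inferInstance : Nonempty (Sylow p B))
  have hPQ : Nat.card (P : Subgroup A) = Nat.card (Q : Subgroup B) := by
    rw [P.card_eq_multiplicity, Q.card_eq_multiplicity, hcard]
  haveI hQn : (Q : Subgroup B).Normal := sylow_normal_of_card_pow Q (by
    rw [← hT, ← hPQ]
    exact Nat.card_congr (Equiv.subtypeEquivRight fun x => (mem_normal_sylow_iff P x).symm))
  have hquot : Group.IsSolvable (B ⧸ (Q : Subgroup B)) := by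
    refine ih (Nat.card (A ⧸ (P : Subgroup A))) ?_ (A ⧸ (P : Subgroup A)) _ rfl
      (Group.isSolvable_of_surjective (f := QuotientGroup.mk' (P : Subgroup A)) (QuotientGroup.mk'_surjective _))
      (hcA.of_surjective _ (QuotientGroup.mk'_surjective _)) fun m => ?_
    · rw [← hn, Subgroup.card_eq_card_quotient_mul_card_subgroup (P : Subgroup A)]
      exact lt_mul_of_one_lt_right Nat.card_pos
        ((Subgroup.one_lt_card_iff_ne_bot _).mpr (P.ne_bot_of_dvd_card hp.2.1))
    · have h := hT (m * Nat.card (P : Subgroup A))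
      rw [card_pow_mul_eq_one (mem_normal_sylow_iff P) m] at h
      rw [hPQ, card_pow_mul_eq_one (mem_normal_sylow_iff Q) m] at h
      exact Nat.eq_of_mul_eq_mul_left Nat.card_pos h
  haveI : Group.IsSolvable (Q : Subgroup B) := @IsNilpotent.to_isSolvable _ _ Q.2.isNilpotent
  exact (Group.isSolvable_iff_subgroup_quotient (Q : Subgroup B)).mpr ⟨inferInstance, hquot⟩

/-- Frobenius complements have Sylow subgroups with cyclic subgroups of index at most two. -/
theorem cyclicIndexTwo_of_fpf (K H : Subgroup G) [K.Normal] (hK : K ≠ ⊥)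
    (hcop : (Nat.card H).Coprime (Nat.card K))
    (hfpf : ∀ h ∈ H, h ≠ 1 → K ⊓ Subgroup.centralizer {h} = ⊥) : CyclicIndexTwo H := by
  intro p _ P
  have hab : ∀ A : Subgroup (P : Subgroup H), IsMulCommutative A → IsCyclic A := by
    intro A hA
    let f : (P : Subgroup H) →* G := H.subtype.comp (P : Subgroup H).subtype
    have hf : Function.Injective f := H.subtype_injective.comp (P : Subgroup H).subtype_injective
    let A' := A.map f
    haveI : IsMulCommutative A' := by
      constructor; constructor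
      rintro ⟨_, a, ha, rfl⟩ ⟨_, b, hb, rfl⟩
      exact Subtype.ext (by
        show f a * f b = f b * f a
        rw [← map_mul, ← map_mul, show a * b = b * a from
          congrArg Subtype.val (mul_comm' (⟨a, ha⟩ : A) ⟨b, hb⟩)])
    have hle : A' ≤ H := by rintro _ ⟨a, -, rfl⟩; exact (a : H).2
    by_contra hnc
    have hnc' : ¬ IsCyclic A' := fun h => hnc
      (isCyclic_of_surjective (A.equivMapOfInjective f hf).symm.toMonoidHom
        (A.equivMapOfInjective f hf).symm.surjective)
    apply hK
    rw [← Basics.iSup_inf_centralizer_eq A' K hnc' (Subgroup.le_normalizer_of_normal)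
      (hcop.coprime_dvd_left (Subgroup.card_dvd_of_le hle)), eq_bot_iff]
    exact iSup₂_le fun a ha => (hfpf a (hle ha.1) ha.2).le
  rcases subsingleton_or_nontrivial (P : Subgroup H) with hP1 | hP1
  · exact ⟨⊤, isCyclic_of_subsingleton, by rw [Subgroup.index_top]; exact one_dvd 2⟩
  haveI := P.2.center_nontrivial
  have huniq : ∀ X Y : Subgroup (P : Subgroup H), Nat.card X = p → Nat.card Y = p → X = Y := by
    obtain ⟨k, hk0, hk⟩ := (P.2.to_subgroup (Subgroup.center (P : Subgroup H))).nontrivial_iff_card.mp inferInstance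
    obtain ⟨z, hz⟩ := exists_prime_orderOf_dvd_card' (G := Subgroup.center (P : Subgroup H)) p
      (hk ▸ dvd_pow_self p hk0.ne')
    suffices ∀ X : Subgroup (P : Subgroup H), Nat.card X = p → X = Subgroup.zpowers (z : (P : Subgroup H)) from
      fun X Y hX hY => (this X hX).trans (this Y hY).symm
    intro X hX
    haveI : IsCyclic X := isCyclic_of_prime_card hX
    let C := Subgroup.zpowers (z : (P : Subgroup H))
    have h1 : C ≤ Subgroup.center (P : Subgroup H) := Subgroup.zpowers_le.mpr z.2
    have hle : X ⊔ C ≤ Subgroup.centralizer ((X ⊔ C : Subgroup (P : Subgroup H)) : Set (P : Subgroup H)) := by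
      refine sup_le (Subgroup.le_centralizer_iff.mp (sup_le (Subgroup.le_centralizer X)
        (h1.trans (Subgroup.center_le_centralizer _)))) (h1.trans (Subgroup.center_le_centralizer _))
    haveI := hab (X ⊔ C) ⟨⟨fun a b => Subtype.ext (Subgroup.mem_centralizer_iff.mp (hle a.2) b b.2).symm⟩⟩
    refine eq_of_isCyclic_of_card_eq le_sup_left le_sup_right ?_
    rw [hX, Nat.card_zpowers, Subgroup.orderOf_coe, hz]
  rcases InvChar.cyclic_or_quaternion P.2 huniq with hc | ⟨-, n, ⟨e⟩⟩
  · haveI := hc
    exact ⟨⊤, inferInstance, by rw [Subgroup.index_top]; exact one_dvd 2⟩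
  · haveI : NeZero (2 ^ n) := ⟨by positivity⟩
    refine ⟨(Subgroup.zpowers (QuaternionGroup.a 1 : QuaternionGroup (2 ^ n))).map e.symm.toMonoidHom,
      ?_, ?_⟩
    · exact isCyclic_of_surjective (e.symm.toMonoidHom.subgroupMap _)
        (e.symm.toMonoidHom.subgroupMap_surjective _)
    · have h0 := Subgroup.index_map_of_bijective (f := e.symm.toMonoidHom) e.symm.bijective
        (Subgroup.zpowers (QuaternionGroup.a 1 : QuaternionGroup (2 ^ n)))
      rw [h0]
      have h := (Subgroup.zpowers (QuaternionGroup.a 1 : QuaternionGroup (2 ^ n))).card_mul_index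
      rw [Nat.card_zpowers, QuaternionGroup.orderOf_a_one, Nat.card_eq_fintype_card, QuaternionGroup.card] at h
      have h2 : (Subgroup.zpowers (QuaternionGroup.a 1 : QuaternionGroup (2 ^ n))).index = 2 := by
        have : 0 < 2 ^ n := by positivity
        nlinarith
      rw [h2]

end Cfsg.Agent.FGB
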