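import Mathlib
import Cfsg.Agent.Lib.FGS.Kazarin

/-!
Permutation groups in which every orbit on subsets has `p`-power size are solvable.
-/

set_option autoImplicit false
set_option linter.all false

namespace Cfsg.Agent.FGB.PPow

open Subgroup Equiv
open scoped Pointwise

universe u v

variable {H : Type u} [Group H]

/-- The range of `f` is solvable, phrased with the derived series of the source. -/
def SolvMod {X : Type*} [MulOneClass X] (f : H →* X) : Prop := ∃ n, derivedSeries H n ≤ f.ker

theorem SolvMod.mono {X Y : Type*} [MulOneClass X] [MulOneClass Y] {f : H →* X} {g : H →* Y}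
    (h : SolvMod f) (hk : f.ker ≤ g.ker) : SolvMod g :=
  h.imp fun _ hn => hn.trans hk

theorem solvMod_of_forall {ι : Type*} [Finite ι] {X : ι → Type*} [∀ i, MulOneClass (X i)]
    {Y : Type*} [MulOneClass Y] (f : ∀ i, H →* X i) (g : H →* Y) (h : ∀ i, SolvMod (f i))
    (hk : ∀ a, (∀ i, f i a = 1) → g a = 1) : SolvMod g := by
  choose n hn using h
  obtain ⟨m, hm⟩ := (Set.finite_range n).bddAbove
  exact ⟨m, fun a ha => hk a fun i => hn i (derivedSeries_antitone H (hm ⟨i, rfl⟩) ha)⟩

theorem solvMod_of_normal {X Y : Type*} [MulOneClass X] [MulOneClass Y] {f : H →* X} {g : H →* Y}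
    (h : SolvMod f) (h2 : SolvMod (g.comp f.ker.subtype)) : SolvMod g := by
  obtain ⟨n, hn⟩ := h
  obtain ⟨m, hm⟩ := h2
  refine ⟨n + m, ?_⟩
  have key : ∀ j, derivedSeries H (n + j) ≤ (derivedSeries f.ker j).map f.ker.subtype := by
    intro j
    induction j with
    | zero =>
      rw [derivedSeries_zero, ← MonoidHom.range_eq_map, range_subtype]
      exact hn
    | succ j ih =>
      rw [← add_assoc, derivedSeries_succ, derivedSeries_succ, map_commutator]
      exact commutator_mono ih ih
  intro a ha
  obtain ⟨b, hb, rfl⟩ := key m ha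
  exact hm hb

theorem isSolvable_of_solvMod {X : Type*} [MulOneClass X] {f : H →* X} (hf : Function.Injective f)
    (h : SolvMod f) : Group.IsSolvable H := by
  obtain ⟨n, hn⟩ := h
  rw [(MonoidHom.ker_eq_bot_iff f).2 hf, le_bot_iff] at hn
  exact ⟨⟨n, hn⟩⟩

theorem solvMod_of_isSolvable {X : Type*} [Group X] (f : H →* X)
    (h : Group.IsSolvable f.range) : SolvMod f := by
  obtain ⟨⟨n, hn⟩⟩ := h
  refine ⟨n, fun a ha => ?_⟩
  have h1 : f.rangeRestrict a ∈ (derivedSeries H n).map f.rangeRestrict := mem_map_of_mem _ ha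
  have h2 := map_derivedSeries_le_derivedSeries f.rangeRestrict n h1
  rw [hn, mem_bot] at h2
  exact congrArg Subtype.val h2

/-- In a normal subgroup indices of traces divide indices. -/
theorem relIndex_dvd_index [Finite H] (S N : Subgroup H) [N.Normal] : S.relIndex N ∣ S.index := by
  have h1 : (S ⊓ N).index = S.relIndex N * N.index := by
    rw [← inf_relIndex_right, relIndex_mul_index inf_le_right]
  have h2 : (S ⊓ N).index = N.relIndex S * S.index := by
    rw [← inf_relIndex_left, relIndex_mul_index inf_le_left]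
  obtain ⟨t, ht⟩ := relIndex_dvd_index_of_normal (H := N) (K := S)
  have h3 : N.relIndex S * (S.relIndex N * t) = N.relIndex S * S.index := by
    rw [← h2, h1, ht]; ring
  have hne : N.relIndex S ≠ 0 := (N.subgroupOf S).index_ne_zero_of_finite
  exact ⟨t, (Nat.eq_of_mul_eq_mul_left (Nat.pos_of_ne_zero hne) h3).symm⟩

/-- A Sylow subgroup covers every coset of a subgroup of `p`-power index. -/
theorem exists_sylow_mul [Finite H] {p : ℕ} [Fact p.Prime] (P : Sylow p H) (C : Subgroup H)
    (hC : ∃ e, C.index = p ^ e) (a : H) : ∃ π ∈ (P : Subgroup H), π⁻¹ * a ∈ C := by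
  obtain ⟨e, he⟩ := hC
  exact FGS.Kazarin.exists_mul_mem (K := ⊤) le_top
    ⟨le_top, by rw [card_top]; exact P.card_eq_multiplicity⟩
    (by rw [relIndex_top_right]; exact he) (mem_top a)

variable {Ω : Type v}

/-- The set stabiliser through a homomorphism. -/
def setStab (σ : H →* Perm Ω) (S : Set Ω) : Subgroup H where
  carrier := {a | σ a '' S = S}
  one_mem' := by simp
  mul_mem' := fun {a b} ha hb => by
    show σ (a * b) '' S = S
    rw [map_mul, Perm.coe_mul, Set.image_comp, hb, ha]
  inv_mem' := fun {a} ha => by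
    show σ a⁻¹ '' S = S
    conv_lhs => rw [← ha]
    rw [← Set.image_comp, ← Perm.coe_mul, ← map_mul, inv_mul_cancel, map_one, Perm.coe_one,
      Set.image_id]

theorem mem_setStab {σ : H →* Perm Ω} {S : Set Ω} {a : H} :
    a ∈ setStab σ S ↔ σ a '' S = S := Iff.rfl

/-- Every orbit on subsets has `p`-power size. -/
def SubsetPow (p : ℕ) (σ : H →* Perm Ω) : Prop :=
  ∀ S : Set Ω, ∃ e, (setStab σ S).index = p ^ e

theorem SubsetPow.exists_sylow [Finite H] {p : ℕ} [Fact p.Prime] {σ : H →* Perm Ω}
    (h : SubsetPow p σ) (P : Sylow p H) (a : H) (S : Set Ω) :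
    ∃ π ∈ (P : Subgroup H), σ a '' S = σ π '' S := by
  obtain ⟨π, hπ, hc⟩ := exists_sylow_mul P (setStab σ S) (h S) a
  refine ⟨π, hπ, ?_⟩
  conv_rhs => rw [← (mem_setStab.1 hc)]
  rw [← Set.image_comp, ← Perm.coe_mul, ← map_mul, mul_inv_cancel_left]

/-- Restriction of the action to an invariant set. -/
noncomputable def restr (σ : H →* Perm Ω) (Δ : Set Ω) (h : ∀ a y, σ a y ∈ Δ ↔ y ∈ Δ) :
    H →* Perm ↥Δ where
  toFun a := (σ a).subtypePerm (h a)
  map_one' := by ext x; simp [Perm.subtypePerm_apply]
  map_mul' := fun a b => Equiv.ext fun x => Subtype.ext (by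
    show σ (a * b) x = σ a (σ b x)
    rw [map_mul, Perm.mul_apply])

@[simp] theorem restr_apply (σ : H →* Perm Ω) (Δ : Set Ω) (h : ∀ a y, σ a y ∈ Δ ↔ y ∈ Δ)
    (a : H) (x : ↥Δ) : ((restr σ Δ h a x : ↥Δ) : Ω) = σ a x := rfl

theorem SubsetPow.restr {p : ℕ} {σ : H →* Perm Ω} (hS : SubsetPow p σ) (Δ : Set Ω)
    (h : ∀ a y, σ a y ∈ Δ ↔ y ∈ Δ) : SubsetPow p (PPow.restr σ Δ h) := by
  intro S
  have : setStab (PPow.restr σ Δ h) S = setStab σ (Subtype.val '' S) := by
    ext a
    rw [mem_setStab, mem_setStab, ← Set.image_comp,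
      ← Set.image_eq_image Subtype.val_injective, ← Set.image_comp]
    rfl
  rw [this]; exact hS _

/-- In a transitive case of prime degree the group is small. -/
theorem solvMod_prime_degree [Finite H] [Finite Ω] {p : ℕ} [hp : Fact p.Prime]
    (σ : H →* Perm Ω) (hcard : Nat.card Ω = p) (hS : SubsetPow p σ)
    (htr : ∀ x y : Ω, ∃ a, σ a x = y) : SolvMod σ := by
  classical
  haveI := Fintype.ofFinite Ω
  have hc' : Fintype.card Ω = p := by rw [← hcard, Nat.card_eq_fintype_card]
  obtain ⟨x⟩ : Nonempty Ω := (Nat.card_pos_iff.1 (hcard ▸ hp.out.pos)).1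
  -- an element of order p
  have hdvd : p ∣ Nat.card σ.range := by
    letI : MulAction σ.range Ω := inferInstance
    haveI : MulAction.IsPretransitive σ.range Ω :=
      ⟨fun a b => (htr a b).elim fun g hg => ⟨⟨σ g, g, rfl⟩, hg⟩⟩
    rw [← hcard, ← MulAction.index_stabilizer_of_transitive σ.range x]
    exact (MulAction.stabilizer σ.range x).index_dvd_card
  obtain ⟨c, hc⟩ := exists_prime_orderOf_dvd_card' p hdvd
  have hco : orderOf (c : Perm Ω) = p := by rw [orderOf_coe, hc]
  have hcyc : (c : Perm Ω).IsCycle := Perm.isCycle_of_prime_order'' (hc' ▸ hp.out)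
    (by rw [hco, hc'])
  have hsupp : (c : Perm Ω).support = Finset.univ := by
    apply Finset.eq_univ_of_card
    rw [← hcyc.orderOf, hco, hc']
  have hmove : ∀ y, (c : Perm Ω) y ≠ y := fun y =>
    Perm.mem_support.1 (hsupp ▸ Finset.mem_univ y)
  set f : ℕ → Ω := fun i => ((c : Perm Ω) ^ i) x with hfdef
  have hfsurj : ∀ y, ∃ i < p, f i = y := by
    intro y
    obtain ⟨i, hi⟩ := hcyc.exists_pow_eq (hmove x) (hmove y)
    refine ⟨i % p, Nat.mod_lt _ hp.out.pos, ?_⟩
    show ((c : Perm Ω) ^ (i % p)) x = y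
    conv_lhs => rw [← hco, pow_mod_orderOf]
    exact hi
  -- the small case
  have key : Nat.card σ.range ≤ 2 * p := by
    rcases le_or_gt p 3 with hp3 | hp3
    · calc Nat.card σ.range ≤ Nat.card (Perm Ω) := Nat.card_le_card_of_injective _
            Subtype.val_injective
        _ = p.factorial := by rw [Nat.card_perm, hcard]
        _ ≤ 2 * p := by
          have := hp.out.two_le
          interval_cases p <;> decide
    -- the edges
    set E : Ω → Set Ω := fun y => {y, (c : Perm Ω) y} with hEdef
    have hE : ∀ y, E y = {y, (c : Perm Ω) y} := fun y => rfl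
    obtain ⟨a0, ha0⟩ := c.2
    have hEimg : ∀ (i : ℕ) y, σ (a0 ^ i) '' E y = E (((c : Perm Ω) ^ i) y) := by
      intro i y
      rw [hE, hE, map_pow, ha0, Set.image_pair, ← Perm.mul_apply, ← Perm.mul_apply, ← pow_succ,
        ← pow_succ']
    have hEinj : Function.Injective E := by
      intro y z hyz
      have h1 : y ∈ E z := hyz ▸ Set.mem_insert _ _
      have h2 : z ∈ E y := hyz ▸ Set.mem_insert _ _
      simp only [hE, Set.mem_insert_iff, Set.mem_singleton_iff] at h1 h2
      rcases h1 with h1 | h1
      · exact h1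
      rcases h2 with h2 | h2
      · exact h2.symm
      exfalso
      have h3 : ((c : Perm Ω) ^ 2) z = z := by
        rw [pow_two, Perm.mul_apply, ← h1, ← h2]
      have h4 : orderOf (c : Perm Ω) ∣ 2 := by
        refine orderOf_dvd_of_pow_eq_one ?_
        by_contra hne
        exact Perm.mem_support.1 ((Perm.support_pow_coprime
          (σ := (c : Perm Ω)) (n := 2) (by rw [hco]; exact ((Nat.coprime_primes Nat.prime_two
            hp.out).2 (by omega))) ) ▸ hsupp ▸ Finset.mem_univ z) h3
      rw [hco] at h4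
      exact absurd (Nat.le_of_dvd two_pos h4) (by omega)
    -- the orbit of an edge consists of edges
    obtain ⟨e, he⟩ := hS (E x)
    have hidx : (setStab σ (E x)).index = p := by
      have hE2 : ∀ a : H, (σ a '' E x).ncard = 2 := fun a => by
        rw [Set.ncard_image_of_injective _ (σ a).injective, hE,
          Set.ncard_pair (hmove x).symm]
      let φ : H ⧸ setStab σ (E x) → {S : Set Ω // S.ncard = 2} :=
        Quotient.lift (fun a => ⟨σ a '' E x, hE2 a⟩) (fun a b hab => Subtype.ext (by
            have h1 := mem_setStab.1 (QuotientGroup.leftRel_apply.1 hab)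
            show σ a '' E x = σ b '' E x
            conv_lhs => rw [← h1]
            rw [← Set.image_comp, ← Perm.coe_mul, ← map_mul, mul_inv_cancel_left]))
      have hφ : Function.Injective φ := by
        intro a b
        induction a using QuotientGroup.induction_on with
        | _ a =>
        induction b using QuotientGroup.induction_on with
        | _ b =>
        intro h
        have h1 : σ a '' E x = σ b '' E x := congrArg Subtype.val h
        refine QuotientGroup.eq.2 (mem_setStab.2 ?_)
        rw [map_mul, Perm.coe_mul, Set.image_comp, ← h1, ← Set.image_comp, ← Perm.coe_mul,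
          ← map_mul, inv_mul_cancel, map_one, Perm.coe_one, Set.image_id]
      have hup : (setStab σ (E x)).index ≤ p.choose 2 := by
        rw [index_eq_card]
        refine (Nat.card_le_card_of_injective φ hφ).trans (le_of_eq ?_)
        rw [← hc', ← Set.coe_setOf, Nat.card_coe_set_eq,
          ← Finset.card_univ, ← Finset.card_powersetCard, ← Set.ncard_coe_finset]
        refine Set.ncard_congr' ?_
        exact
          { toFun := fun S => ⟨S.1.toFinset, by
              rw [Finset.mem_coe, Finset.mem_powersetCard, ← Set.ncard_eq_toFinset_card']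
              exact ⟨Finset.subset_univ _, S.2⟩⟩
            invFun := fun s => ⟨(s.1 : Set Ω), by
              show (s.1 : Set Ω).ncard = 2
              rw [Set.ncard_coe_finset]
              exact (Finset.mem_powersetCard.1 (Finset.mem_coe.1 s.2)).2⟩
            left_inv := fun S => by simp
            right_inv := fun s => by simp }
      have hlow : p ≤ (setStab σ (E x)).index := by
        rw [index_eq_card]
        have : Function.Injective (fun i : Fin p =>
            (QuotientGroup.mk (s := setStab σ (E x)) (a0 ^ (i : ℕ)))) := by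
          intro i j h
          have h1 := congrArg (fun z => (φ z).1) h
          replace h1 : σ (a0 ^ (i : ℕ)) '' E x = σ (a0 ^ (j : ℕ)) '' E x := h1
          rw [hEimg, hEimg] at h1
          have h2 := hEinj h1
          have hinj : Function.Injective (fun i : Fin p => f i) :=
            ((Fintype.bijective_iff_surjective_and_card _).2 ⟨fun y => by
              obtain ⟨i, hi, rfl⟩ := hfsurj y
              exact ⟨⟨i, hi⟩, rfl⟩, by rw [Fintype.card_fin, hc']⟩).1
          exact hinj h2
        simpa using Nat.card_le_card_of_injective _ this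
      rw [he] at hup hlow ⊢
      have h2 : p ^ e < p ^ 2 := by
        refine lt_of_le_of_lt hup ?_
        rw [Nat.choose_two_right, pow_two]
        calc p * (p - 1) / 2 ≤ p * (p - 1) := Nat.div_le_self _ _
          _ < p * p := by
            apply Nat.mul_lt_mul_of_pos_left <;> omega
      have h3 := (Nat.pow_lt_pow_iff_right hp.out.one_lt).1 h2
      have h4 : e ≠ 0 := fun h0 => by
        rw [h0, pow_zero] at hlow; exact absurd hlow (by omega)
      rw [show e = 1 by omega, pow_one]
    have hedge : ∀ (a : H) y, ∃ z, σ a '' E y = E z := by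
      intro a y
      obtain ⟨i, hi, rfl⟩ := hfsurj y
      rw [show E (f i) = σ (a0 ^ i) '' E x from (hEimg i x).symm, ← Set.image_comp,
        ← Perm.coe_mul, ← map_mul]
      generalize a * a0 ^ i = b
      have : Function.Surjective (fun i : Fin p =>
          (QuotientGroup.mk (s := setStab σ (E x)) (a0 ^ (i : ℕ)))) := by
        refine ((Nat.bijective_iff_injective_and_card _).2 ⟨?_, ?_⟩).2
        · intro i j h
          have h1 : σ (a0 ^ (i : ℕ)) '' E x = σ (a0 ^ (j : ℕ)) '' E x := by
            have h2 := mem_setStab.1 (QuotientGroup.eq.1 h)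
            conv_rhs => rw [show a0 ^ (j : ℕ) = a0 ^ (i : ℕ) * ((a0 ^ (i : ℕ))⁻¹ * a0 ^ (j : ℕ)) by
              group]
            rw [map_mul, Perm.coe_mul, Set.image_comp, h2]
          rw [hEimg, hEimg] at h1
          have hinj : Function.Injective (fun i : Fin p => f i) :=
            ((Fintype.bijective_iff_surjective_and_card _).2 ⟨fun y => by
              obtain ⟨i, hi, rfl⟩ := hfsurj y
              exact ⟨⟨i, hi⟩, rfl⟩, by rw [Fintype.card_fin, hc']⟩).1
          exact hinj (hEinj h1)
        · rw [Nat.card_eq_fintype_card (α := Fin p), Fintype.card_fin, ← index_eq_card, hidx]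
      obtain ⟨j, hj⟩ := this (QuotientGroup.mk b)
      have h2 := mem_setStab.1 (QuotientGroup.eq.1 hj)
      refine ⟨((c : Perm Ω) ^ (j : ℕ)) x, ?_⟩
      rw [show b = a0 ^ (j : ℕ) * ((a0 ^ (j : ℕ))⁻¹ * b) by group, map_mul, Perm.coe_mul,
        Set.image_comp, h2, hEimg]
    -- adjacency is preserved
    have hadj : ∀ (g : σ.range) y, (g : Perm Ω) ((c : Perm Ω) y) = (c : Perm Ω) ((g : Perm Ω) y) ∨
        (g : Perm Ω) y = (c : Perm Ω) ((g : Perm Ω) ((c : Perm Ω) y)) := by
      rintro ⟨_, a, rfl⟩ y
      obtain ⟨z, hz⟩ := hedge a y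
      rw [hE, Set.image_pair] at hz
      rcases Set.pair_eq_pair_iff.1 hz with ⟨h1, h2⟩ | ⟨h1, h2⟩
      · left; rw [h2, h1]
      · right; rw [h1, h2]
    let Φ : σ.range → Ω × Bool := fun g =>
      ((g : Perm Ω) x, decide ((g : Perm Ω) ((c : Perm Ω) x) = (c : Perm Ω) ((g : Perm Ω) x)))
    have hΦ : Function.Injective Φ := by
      intro g g' h
      simp only [Φ, Prod.mk.injEq, decide_eq_decide] at h
      obtain ⟨h1, h2⟩ := h
      have step : ∀ i, (g : Perm Ω) (f i) = (g' : Perm Ω) (f i) ∧
          (g : Perm Ω) (f (i + 1)) = (g' : Perm Ω) (f (i + 1)) := by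
        intro i
        induction i with
        | zero =>
          refine ⟨by simpa [hfdef] using h1, ?_⟩
          simp only [hfdef, zero_add, pow_one]
          rcases hadj g x with hg | hg <;> rcases hadj g' x with hg' | hg'
          · rw [hg, hg', h1]
          · rw [hg, h2.1 hg, h1]
          · rw [h2.2 hg', hg', h1]
          · exact (c : Perm Ω).injective (by rw [← hg, ← hg', h1])
        | succ i ih =>
          refine ⟨ih.2, ?_⟩
          have hf1 : f (i + 1 + 1) = (c : Perm Ω) (f (i + 1)) := by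
            simp only [hfdef, pow_succ' _ (i + 1), Perm.mul_apply]
          have hf0 : f (i + 1) = (c : Perm Ω) (f i) := by
            simp only [hfdef, pow_succ', Perm.mul_apply]
          have hne : f (i + 1 + 1) ≠ f i := by
            intro hh
            rw [hf1, hf0] at hh
            have h3 : E (f i) = E ((c : Perm Ω) (f i)) := by
              show ({f i, (c : Perm Ω) (f i)} : Set Ω)
                = {(c : Perm Ω) (f i), (c : Perm Ω) ((c : Perm Ω) (f i))}
              rw [hh, Set.pair_comm]
            exact hmove _ (hEinj h3).symm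
          rcases hadj g (f (i + 1)) with hg | hg <;> rcases hadj g' (f (i + 1)) with hg' | hg'
          · rw [hf1, hg, hg', ih.2]
          · exfalso
            rw [← hf1] at hg hg'
            rcases hadj g (f i) with hgi | hgi <;> rcases hadj g' (f i) with hgi' | hgi'
            all_goals rw [← hf0] at hgi hgi'
            · exact hne ((g' : Perm Ω).injective ((c : Perm Ω).injective
                (by rw [← hgi', ← hg'])))
            · exact hne ((g' : Perm Ω).injective ((c : Perm Ω).injective
                (by rw [← hg', ← ih.2, hgi, ih.1])))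
            · exact hne ((g : Perm Ω).injective (by rw [hg, hgi, ih.2]))
            · exact hne ((g : Perm Ω).injective (by rw [hg, hgi, ih.2]))
          · exfalso
            rw [← hf1] at hg hg'
            rcases hadj g' (f i) with hgi' | hgi' <;> rcases hadj g (f i) with hgi | hgi
            all_goals rw [← hf0] at hgi hgi'
            · exact hne ((g : Perm Ω).injective ((c : Perm Ω).injective
                (by rw [← hgi, ← hg])))
            · exact hne ((g : Perm Ω).injective ((c : Perm Ω).injective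
                (by rw [← hg, ih.2, hgi', ← ih.1])))
            · exact hne ((g' : Perm Ω).injective (by rw [hg', hgi', ← ih.2]))
            · exact hne ((g' : Perm Ω).injective (by rw [hg', hgi', ← ih.2]))
          · rw [hf1]; exact (c : Perm Ω).injective (by rw [← hg, ← hg', ih.2])
      apply Subtype.ext
      ext y
      obtain ⟨i, -, rfl⟩ := hfsurj y
      exact (step i).1
    refine (Nat.card_le_card_of_injective Φ hΦ).trans (le_of_eq ?_)
    rw [Nat.card_prod, hcard, Nat.card_eq_fintype_card (α := Bool), Fintype.card_bool, mul_comm]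
  -- a group of order at most 2p with a subgroup of order p
  apply solvMod_of_isSolvable
  set C : Subgroup σ.range := zpowers c with hC
  have hCc : Nat.card C = p := by rw [hC, Nat.card_zpowers, hc]
  have hind : C.index ≤ 2 := by
    have := C.card_mul_index
    rw [hCc] at this
    have h2 : p * C.index ≤ p * 2 := by rw [this, mul_comm p 2]; exact key
    exact Nat.le_of_mul_le_mul_left h2 hp.out.pos
  haveI : C.Normal := by
    rcases Nat.lt_or_ge C.index 2 with h | h
    · have : C.index = 1 := by
        have := C.index_ne_zero_of_finite; omega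
      rw [index_eq_one] at this
      rw [this]; infer_instance
    · exact normal_of_index_eq_two (le_antisymm hind h)
  haveI : Group.IsSolvable C := by
    haveI : IsCyclic C := isCyclic_of_prime_card hCc
    exact Group.isSolvable_of_comm fun a b => IsMulCommutative.is_comm.comm a b
  haveI : Group.IsSolvable (σ.range ⧸ C) := by
    have hle : Nat.card (σ.range ⧸ C) ≤ 2 := by rw [← index_eq_card]; exact hind
    refine Group.isSolvable_of_comm fun a b => ?_
    by_cases ha : a = 1
    · simp [ha]
    by_cases hb : b = 1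
    · simp [hb]
    by_contra hne
    haveI := Fintype.ofFinite (σ.range ⧸ C)
    rw [Nat.card_eq_fintype_card] at hle
    have : a = b := by
      by_contra hab
      have h3 : ({1, a, b} : Finset (σ.range ⧸ C)).card = 3 :=
        Finset.card_eq_three.2 ⟨1, a, b, Ne.symm ha, Ne.symm hb, hab, rfl⟩
      have := Finset.card_le_univ ({1, a, b} : Finset (σ.range ⧸ C))
      omega
    exact hne (by rw [this])
  exact Group.isSolvable_of_ker_le_range C.subtype (QuotientGroup.mk' C)
    (by rw [QuotientGroup.ker_mk', range_subtype])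

theorem solvMod_of_subsetPow {p : ℕ} [hp : Fact p.Prime] :
    ∀ (n : ℕ) {H : Type u} [Group H] [Finite H] {Ω : Type v} [Finite Ω] (σ : H →* Perm Ω),
      Nat.card Ω = n → SubsetPow p σ → SolvMod σ := by
  intro n
  induction n using Nat.strong_induction_on with
  | _ n ih =>
  intro H _ _ Ω _ σ hn hS
  classical
  subst hn
  rcases isEmpty_or_nonempty Ω with hΩ | ⟨⟨x⟩⟩
  · exact ⟨0, fun a _ => Equiv.ext fun y => (IsEmpty.false y).elim⟩
  set Δ : Set Ω := Set.range (fun a => σ a x) with hΔdef
  by_cases hΔ : Δ = Set.univ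
  swap
  · have hinv : ∀ a y, σ a y ∈ Δ ↔ y ∈ Δ := fun a y => by
      constructor
      · rintro ⟨b, hb⟩
        exact ⟨a⁻¹ * b, by simp only at hb ⊢; rw [map_mul, Perm.mul_apply, hb, map_inv]; simp⟩
      · rintro ⟨b, rfl⟩
        exact ⟨a * b, by simp⟩
    have hinv' : ∀ a y, σ a y ∈ Δᶜ ↔ y ∈ Δᶜ := fun a y => not_congr (hinv a y)
    obtain ⟨y, hy⟩ := (Set.ne_univ_iff_exists_notMem _).1 hΔ
    have hx : x ∈ Δ := ⟨1, by simp⟩
    have h1 : SolvMod (restr σ Δ hinv) := ih _ (by
      rw [Nat.card_coe_set_eq, ← Set.ncard_univ Ω]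
      exact Set.ncard_lt_ncard (Set.ssubset_univ_iff.2 hΔ)) _ rfl (hS.restr _ _)
    have h2 : SolvMod (restr σ Δᶜ hinv') := ih _ (by
      rw [Nat.card_coe_set_eq, ← Set.ncard_univ Ω]
      exact Set.ncard_lt_ncard (Set.ssubset_univ_iff.2
        ((Set.ne_univ_iff_exists_notMem _).2 ⟨x, fun h => h hx⟩))) _ rfl (hS.restr _ _)
    obtain ⟨n1, h1⟩ := h1
    obtain ⟨n2, h2⟩ := h2
    refine ⟨max n1 n2, fun a ha => Equiv.ext fun z => ?_⟩
    by_cases hz : z ∈ Δ
    · exact congrArg (fun e : Perm ↥Δ => ((e ⟨z, hz⟩ : ↥Δ) : Ω))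
        (h1 (derivedSeries_antitone H (le_max_left n1 n2) ha))
    · exact congrArg (fun e : Perm ↥(Δᶜ) => ((e ⟨z, hz⟩ : ↥(Δᶜ)) : Ω))
        (h2 (derivedSeries_antitone H (le_max_right n1 n2) ha))
  have htr : ∀ y z : Ω, ∃ a, σ a y = z := fun y z => by
    obtain ⟨a, ha⟩ : y ∈ Δ := hΔ ▸ Set.mem_univ y
    obtain ⟨b, hb⟩ : z ∈ Δ := hΔ ▸ Set.mem_univ z
    exact ⟨b * a⁻¹, by simp only at ha hb; rw [← ha, ← hb]; simp⟩
  let P : Sylow p H := default
  have hPtr : ∀ y, ∃ π ∈ (P : Subgroup H), σ π x = y := fun y => by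
    obtain ⟨a, ha⟩ := htr x y
    obtain ⟨π, hπ, h⟩ := hS.exists_sylow P a {x}
    rw [Set.image_singleton, Set.image_singleton, Set.singleton_eq_singleton_iff, ha] at h
    exact ⟨π, hπ, h.symm⟩
  set T := (P : Subgroup H).map σ with hT
  have hTp : IsPGroup p T := P.2.map σ
  by_cases hone : T = ⊥
  · refine ⟨0, fun a _ => Equiv.ext fun y => ?_⟩
    have h1 : ∀ z, z = x := fun z => by
      obtain ⟨π, hπ, rfl⟩ := hPtr z
      have : σ π ∈ (⊥ : Subgroup (Perm Ω)) := hone ▸ mem_map_of_mem σ hπ
      rw [mem_bot.1 this]; rfl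
    rw [h1 (σ a y), h1 ((1 : Perm Ω) y)]
  haveI : Nontrivial T := (nontrivial_iff_ne_bot _).2 hone
  haveI := hTp.center_nontrivial
  obtain ⟨z, hz⟩ := exists_prime_orderOf_dvd_card' p
    (((hTp.to_subgroup (center T)).card_eq_or_dvd).resolve_left
      (fun h => (card_eq_one.1 h ▸ (nontrivial_iff_ne_bot (center T)).1 inferInstance) rfl))
  set c : Perm Ω := ((z : T) : Perm Ω) with hc
  have hco : orderOf c = p := by rw [hc, orderOf_coe, orderOf_coe, hz]
  have hcc : ∀ π ∈ (P : Subgroup H), ∀ y, σ π (c y) = c (σ π y) := fun π hπ y => by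
    have := congrArg (fun w : T => ((w : Perm Ω)) y)
      (mem_center_iff.1 z.2 ⟨σ π, mem_map_of_mem σ hπ⟩)
    simpa [hc] using this
  have hmove : ∀ y, c y ≠ y := by
    intro y hy
    have hx : c x = x := by
      obtain ⟨π, hπ, rfl⟩ := hPtr y
      rw [← hcc π hπ] at hy
      exact (σ π).injective hy
    have : c = 1 := Equiv.ext fun w => by
      obtain ⟨π, hπ, rfl⟩ := hPtr w
      rw [← hcc π hπ, hx]; rfl
    rw [this, orderOf_one] at hco
    exact hp.out.one_lt.ne hco
  set B : Ω → Set Ω := fun y => {w | ∃ i : ℕ, (c ^ i) y = w} with hB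
  have hself : ∀ y, y ∈ B y := fun y => ⟨0, rfl⟩
  have hBeq : ∀ y, ∀ w ∈ B y, B w = B y := by
    rintro y _ ⟨i, rfl⟩
    ext v
    constructor
    · rintro ⟨j, rfl⟩; exact ⟨j + i, by rw [pow_add]; rfl⟩
    · rintro ⟨j, rfl⟩
      obtain ⟨m, hm⟩ : ∃ m : ℕ, c ^ m = c ^ j * (c ^ i)⁻¹ :=
        (IsOfFinOrder.mem_powers_iff_mem_zpowers (isOfFinOrder_of_finite c)).mpr
          (mul_mem (pow_mem (mem_zpowers c) _) (inv_mem (pow_mem (mem_zpowers c) _)))
      exact ⟨m, by rw [← Perm.mul_apply, show c ^ m * c ^ i = c ^ j by rw [hm]; group]⟩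
  have hBP : ∀ π ∈ (P : Subgroup H), ∀ y, σ π '' B y = B (σ π y) := by
    intro π hπ y
    have hcpow : ∀ (i : ℕ) w, σ π ((c ^ i) w) = (c ^ i) (σ π w) := by
      intro i
      induction i with
      | zero => intro w; rfl
      | succ i ih => intro w; rw [pow_succ, Perm.mul_apply, Perm.mul_apply, ih, hcc π hπ]
    ext v
    constructor
    · rintro ⟨w, ⟨i, rfl⟩, rfl⟩; exact ⟨i, (hcpow i y).symm⟩
    · rintro ⟨i, rfl⟩; exact ⟨(c ^ i) y, ⟨i, rfl⟩, hcpow i y⟩
  have hBall : ∀ a y, σ a '' B y = B (σ a y) := by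
    intro a y
    obtain ⟨π, hπ, h⟩ := hS.exists_sylow P a (B y)
    rw [h, hBP π hπ]
    refine (hBeq _ _ ?_).symm
    rw [← hBP π hπ, ← h]
    exact ⟨y, hself y, rfl⟩
  have hBcard : ∀ y, (B y).ncard = p := by
    intro y
    have hb : B y = (fun i : ℕ => (c ^ i) y) '' (Set.Iio p) := by
      ext w; constructor
      · rintro ⟨i, rfl⟩
        refine ⟨i % p, Nat.mod_lt _ hp.out.pos, ?_⟩
        simp only
        conv_lhs => rw [← hco, pow_mod_orderOf]
      · rintro ⟨i, -, rfl⟩; exact ⟨i, rfl⟩
    have key : ∀ d, d ≠ 0 → d < p → (c ^ d) y ≠ y := by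
      intro d hd hdp h
      obtain ⟨m, hm⟩ := exists_pow_eq_self_of_coprime (x := c) (n := d)
        (hco ▸ ((Nat.Prime.coprime_iff_not_dvd hp.out).2
          (fun hd' => absurd (Nat.le_of_dvd (Nat.pos_of_ne_zero hd) hd') (by omega))).symm)
      have h2 : ∀ l, (((c ^ d) ^ l) y) = y := by
        intro l; induction l with
        | zero => rfl
        | succ l ih => rw [pow_succ, Perm.mul_apply, h, ih]
      exact hmove y (by simpa [hm] using h2 m)
    rw [hb, Set.ncard_image_of_injOn, Set.ncard_eq_toFinset_card', Set.toFinset_Iio, Nat.card_Iio]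
    intro i hi j hj hij
    simp only at hij
    rcases le_total i j with hle | hle
    · by_contra hne
      refine key (j - i) (by omega) (by have := Set.mem_Iio.1 hj; omega) ?_
      apply (c ^ i).injective
      rw [← Perm.mul_apply, ← pow_add, show i + (j - i) = j by omega, hij]
    · by_contra hne
      refine key (i - j) (by omega) (by have := Set.mem_Iio.1 hi; omega) ?_
      apply (c ^ j).injective
      rw [← Perm.mul_apply, ← pow_add, show j + (i - j) = i by omega, hij]
  by_cases hB1 : B x = Set.univ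
  · exact solvMod_prime_degree σ (by rw [← Set.ncard_univ, ← hB1, hBcard x]) hS htr
  -- the action on blocks
  set β : Set (Set Ω) := Set.range B with hβ
  let τ : H →* Perm ↥β :=
    { toFun := fun a =>
        { toFun := fun b => ⟨σ a '' b.1, by
            obtain ⟨y, hy⟩ := b.2
            exact ⟨σ a y, by rw [← hy, hBall]⟩⟩
          invFun := fun b => ⟨σ a⁻¹ '' b.1, by
            obtain ⟨y, hy⟩ := b.2
            exact ⟨σ a⁻¹ y, by rw [← hy, hBall]⟩⟩
          left_inv := fun b => Subtype.ext (by
            show σ a⁻¹ '' (σ a '' b.1) = b.1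
            rw [← Set.image_comp, ← Perm.coe_mul, ← map_mul, inv_mul_cancel, map_one,
              Perm.coe_one, Set.image_id])
          right_inv := fun b => Subtype.ext (by
            show σ a '' (σ a⁻¹ '' b.1) = b.1
            rw [← Set.image_comp, ← Perm.coe_mul, ← map_mul, mul_inv_cancel, map_one,
              Perm.coe_one, Set.image_id]) }
      map_one' := Equiv.ext fun b => Subtype.ext (by
        show σ 1 '' b.1 = b.1
        rw [map_one, Perm.coe_one, Set.image_id])
      map_mul' := fun a b => Equiv.ext fun w => Subtype.ext (by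
        show σ (a * b) '' w.1 = σ a '' (σ b '' w.1)
        rw [map_mul, Perm.coe_mul, Set.image_comp]) }
  have hτ : ∀ a (b : ↥β), (τ a b : Set Ω) = σ a '' b.1 := fun a b => rfl
  have hβcard : Nat.card ↥β < Nat.card Ω := by
    rw [Nat.card_coe_set_eq, ← Set.ncard_univ Ω, hβ, ← Set.image_univ]
    refine lt_of_le_of_ne (Set.ncard_image_le) fun h => ?_
    have hinj : Set.InjOn B Set.univ := Set.injOn_of_ncard_image_eq h
    have : B (c x) = B x := hBeq x _ ⟨1, by rw [pow_one]⟩
    exact hmove x (hinj (Set.mem_univ _) (Set.mem_univ _) this)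
  have hτS : SubsetPow p τ := by
    intro S
    obtain ⟨e, he⟩ := hS (⋃ b ∈ S, (b : Set Ω))
    have hle : setStab σ (⋃ b ∈ S, (b : Set Ω)) ≤ setStab τ S := by
      intro a ha
      rw [mem_setStab] at ha ⊢
      have key : ∀ b : ↥β, b ∈ S → τ a b ∈ S := by
        intro b hb
        obtain ⟨y, hy⟩ := b.2
        have h1 : σ a y ∈ ⋃ b ∈ S, (b : Set Ω) := by
          rw [← ha]
          exact ⟨y, Set.mem_biUnion hb (hy ▸ hself y), rfl⟩
        obtain ⟨b', hb', hy'⟩ := Set.mem_iUnion₂.1 h1
        obtain ⟨w, hw⟩ := b'.2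
        have hb'eq : (b' : Set Ω) = (τ a b : Set Ω) := by
          rw [hτ, ← hy, hBall, ← hw]
          exact (hBeq w _ (hw ▸ hy')).symm
        rwa [Subtype.ext hb'eq] at hb'
      refine Set.eq_of_subset_of_ncard_le (by rintro _ ⟨b, hb, rfl⟩; exact key b hb)
        (le_of_eq (Set.ncard_image_of_injective _ (τ a).injective).symm)
    obtain ⟨e', -, he'⟩ := (Nat.dvd_prime_pow hp.out).1 (he ▸ index_dvd_of_le hle)
    exact ⟨e', he'⟩
  have h1 : SolvMod τ := ih _ hβcard τ rfl hτS
  refine solvMod_of_normal h1 ?_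
  -- the kernel acts block by block
  have hinv : ∀ (b : ↥β) (a : τ.ker) y, σ (a : H) y ∈ (b : Set Ω) ↔ y ∈ (b : Set Ω) := by
    intro b a y
    have hb : σ (a : H) '' (b : Set Ω) = (b : Set Ω) := by
      rw [← hτ, MonoidHom.mem_ker.1 a.2]; rfl
    constructor
    · intro h
      rw [← hb] at h
      obtain ⟨w, hw, hwy⟩ := h
      rwa [← (σ (a : H)).injective hwy]
    · intro h
      rw [← hb]; exact ⟨y, h, rfl⟩
  refine solvMod_of_forall (fun b : ↥β => restr (σ.comp τ.ker.subtype) (b : Set Ω) (hinv b)) _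
    (fun b => ?_) ?_
  · refine ih _ ?_ _ rfl ?_
    · obtain ⟨y, hy⟩ := b.2
      rw [Nat.card_coe_set_eq, ← hy, hBcard y, ← hBcard x, ← Set.ncard_univ Ω]
      exact Set.ncard_lt_ncard (Set.ssubset_univ_iff.2 hB1)
    · refine SubsetPow.restr ?_ _ _
      intro S
      obtain ⟨e, he⟩ := hS S
      have : (setStab (σ.comp τ.ker.subtype) S).index = (setStab σ S).relIndex τ.ker := rfl
      rw [this]
      obtain ⟨e', -, he'⟩ := (Nat.dvd_prime_pow hp.out).1 (he ▸ relIndex_dvd_index (setStab σ S) τ.ker)
      exact ⟨e', he'⟩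
  · intro a ha
    refine Equiv.ext fun y => ?_
    exact congrArg (fun e : Perm ↥(B y) => ((e ⟨y, hself y⟩ : ↥(B y)) : Ω)) (ha ⟨B y, y, rfl⟩)

end Cfsg.Agent.FGB.PPow
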