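import Mathlib
import Cfsg.Agent.Lib.FGB.PPowerPerm

/-!
Linear groups with `p`-power orbits: reduction along decompositions permuted by a Sylow subgroup.
-/

set_option autoImplicit false
set_option linter.all false

namespace Cfsg.Agent.FGB.PPow

open Subgroup
open scoped Pointwise

universe u v w

variable {k : Type w} [Field k] {A : Type u} [Group A] {V : Type v} [AddCommGroup V] [Module k V]

/-- The stabiliser of a vector. -/
def stab (ρ : A →* Module.End k V) (v : V) : Subgroup A where
  carrier := {a | ρ a v = v}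
  one_mem' := by simp
  mul_mem' := fun {a b} ha hb => by
    show ρ (a * b) v = v
    rw [map_mul, Module.End.mul_apply, hb, ha]
  inv_mem' := fun {a} ha => by
    show ρ a⁻¹ v = v
    conv_lhs => rw [← ha]
    rw [← Module.End.mul_apply, ← map_mul, inv_mul_cancel, map_one, Module.End.one_apply]

theorem mem_stab {ρ : A →* Module.End k V} {v : V} {a : A} : a ∈ stab ρ v ↔ ρ a v = v := Iff.rfl

/-- All orbits have `p`-power size. -/
def Orb (p : ℕ) (ρ : A →* Module.End k V) : Prop := ∀ v : V, ∃ e, (stab ρ v).index = p ^ e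

theorem apply_injective (ρ : A →* Module.End k V) (a : A) : Function.Injective (ρ a) :=
  Function.LeftInverse.injective (g := ρ a⁻¹) fun x => by
    rw [← Module.End.mul_apply, ← map_mul, inv_mul_cancel, map_one, Module.End.one_apply]

theorem Orb.exists_sylow [Finite A] {p : ℕ} [Fact p.Prime] {ρ : A →* Module.End k V}
    (h : Orb p ρ) (P : Sylow p A) (a : A) (v : V) : ∃ π ∈ (P : Subgroup A), ρ a v = ρ π v := by
  obtain ⟨π, hπ, hc⟩ := exists_sylow_mul P (stab ρ v) (h v) a
  refine ⟨π, hπ, ?_⟩
  conv_rhs => rw [← (mem_stab.1 hc)]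
  rw [← Module.End.mul_apply, ← map_mul, mul_inv_cancel_left]

theorem Orb.comp_normal [Finite A] {p : ℕ} [hp : Fact p.Prime] {ρ : A →* Module.End k V}
    (h : Orb p ρ) (N : Subgroup A) [N.Normal] : Orb p (ρ.comp N.subtype) := by
  intro v
  obtain ⟨e, he⟩ := h v
  obtain ⟨e', -, he'⟩ := (Nat.dvd_prime_pow hp.out).1 (he ▸ relIndex_dvd_index (stab ρ v) N)
  exact ⟨e', he'⟩

theorem cast_card_ne_zero_of_dvd {m n : ℕ} (h : m ∣ n) (hn : (n : k) ≠ 0) : (m : k) ≠ 0 := by
  obtain ⟨t, rfl⟩ := h
  intro h0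
  rw [Nat.cast_mul, h0, zero_mul] at hn
  exact hn rfl

/-- A decomposition of `V`, given by idempotents, permuted by `S`. -/
def HasDecomp (ρ : A →* Module.End k V) (S : Subgroup A) : Prop :=
  ∃ s : Finset (Module.End k V), 2 ≤ s.card ∧ (∀ e ∈ s, e ≠ 0) ∧ (∀ e ∈ s, e * e = e) ∧
    (∀ e ∈ s, ∀ f ∈ s, e ≠ f → e * f = 0) ∧ (∑ e ∈ s, e) = 1 ∧
    ∀ π ∈ S, ∀ e ∈ s, ∃ f ∈ s, ∀ x, e x = x → f (ρ π x) = ρ π x

/-- A decomposition from a linear equivalence with a product. -/
theorem hasDecomp_of_equiv (ρ : A →* Module.End k V) (S : Subgroup A) {ι : Type*} [Fintype ι]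
    [DecidableEq ι] {W : ι → Type*} [∀ i, AddCommGroup (W i)] [∀ i, Module k (W i)]
    [∀ i, Nontrivial (W i)] (E : (∀ i, W i) ≃ₗ[k] V) (hι : 2 ≤ Fintype.card ι)
    (hperm : ∀ π ∈ S, ∀ i, ∃ j, ∀ w : W i, ∃ w' : W j,
      ρ π (E (Pi.single i w)) = E (Pi.single j w')) : HasDecomp ρ S := by
  classical
  set e : ι → Module.End k V := fun i =>
    E.toLinearMap ∘ₗ (LinearMap.single k W i) ∘ₗ (LinearMap.proj i) ∘ₗ E.symm.toLinearMap with he
  have happ : ∀ i x, e i x = E (Pi.single i (E.symm x i)) := fun i x => rfl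
  have hne : ∀ i, e i ≠ 0 := fun i h => by
    obtain ⟨w, hw⟩ := exists_ne (0 : W i)
    have := LinearMap.congr_fun h (E (Pi.single i w))
    rw [happ, E.symm_apply_apply, Pi.single_eq_same, LinearMap.zero_apply,
      LinearEquiv.map_eq_zero_iff, Pi.single_eq_zero_iff] at this
    exact hw this
  have hidem : ∀ i, e i * e i = e i := fun i => LinearMap.ext fun x => by
    rw [Module.End.mul_apply, happ, happ, E.symm_apply_apply, Pi.single_eq_same]
  have horth : ∀ i j, i ≠ j → e i * e j = 0 := fun i j hij => LinearMap.ext fun x => by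
    rw [Module.End.mul_apply, happ, happ, E.symm_apply_apply, Pi.single_eq_of_ne hij,
      Pi.single_zero, map_zero, LinearMap.zero_apply]
  have hinj : Function.Injective e := fun i j h => by
    by_contra hij
    have := horth i j hij
    rw [← h, hidem] at this
    exact hne i this
  refine ⟨Finset.univ.image e, ?_, ?_, ?_, ?_, ?_, ?_⟩
  · rw [Finset.card_image_of_injective _ hinj, Finset.card_univ]; exact hι
  · simp only [Finset.mem_image, Finset.mem_univ, true_and, forall_exists_index,
      forall_apply_eq_imp_iff]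
    exact hne
  · simp only [Finset.mem_image, Finset.mem_univ, true_and, forall_exists_index,
      forall_apply_eq_imp_iff]
    exact hidem
  · simp only [Finset.mem_image, Finset.mem_univ, true_and, forall_exists_index,
      forall_apply_eq_imp_iff]
    exact fun i j hne' => horth i j fun h => hne' (by rw [h])
  · rw [Finset.sum_image fun i _ j _ h => hinj h]
    refine LinearMap.ext fun x => ?_
    rw [LinearMap.sum_apply, Module.End.one_apply]
    simp only [happ, ← map_sum, Finset.univ_sum_single, E.apply_symm_apply]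
  · intro π hπ f hf
    obtain ⟨i, -, rfl⟩ := Finset.mem_image.1 hf
    obtain ⟨j, hj⟩ := hperm π hπ i
    refine ⟨e j, Finset.mem_image_of_mem _ (Finset.mem_univ j), fun x hx => ?_⟩
    rw [← hx, happ i x]
    obtain ⟨w', hw'⟩ := hj (E.symm x i)
    rw [hw', happ, E.symm_apply_apply, Pi.single_eq_same]

/-- The reduction: a decomposition permuted by a Sylow subgroup is permuted by the whole group. -/
theorem solvMod_of_hasDecomp [Finite A] [Finite V] {p : ℕ} [hp : Fact p.Prime]
    (ρ : A →* Module.End k V) (hO : Orb p ρ) (P : Sylow p A)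
    (hD : HasDecomp ρ (P : Subgroup A))
    (IH : ∀ (B : Subgroup A) (W : Submodule k V) (τ : ↥B →* Module.End k ↥W),
      Nat.card ↥W < Nat.card V → Orb p τ → SolvMod τ) : SolvMod ρ := by
  classical
  obtain ⟨s, hs2, hne, hidem, horth, hsum, hperm⟩ := hD
  have huniq : ∀ e ∈ s, ∀ f ∈ s, ∀ x, x ≠ 0 → e x = x → f x = x → e = f := by
    intro e he f hf x hx hex hfx
    by_contra hne'
    apply hx
    calc x = e (f x) := by rw [hfx, hex]
      _ = 0 := by rw [← Module.End.mul_apply, horth e he f hf hne', LinearMap.zero_apply]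
  have hnz : ∀ e ∈ s, ∃ x, x ≠ 0 ∧ e x = x := by
    intro e he
    obtain ⟨y, hy⟩ : ∃ y, e y ≠ 0 := by
      by_contra hcon
      push_neg at hcon
      exact hne e he (LinearMap.ext fun y => by rw [hcon y]; rfl)
    exact ⟨e y, hy, by rw [← Module.End.mul_apply, hidem e he]⟩
  have hperm' : ∀ a, ∀ e ∈ s, ∃ f ∈ s, ∀ x, e x = x → f (ρ a x) = ρ a x := by
    intro a e he
    obtain ⟨x0, hx0, hex0⟩ := hnz e he
    obtain ⟨π, hπ, h0⟩ := hO.exists_sylow P a x0
    obtain ⟨f0, hf0, hf0'⟩ := hperm π hπ e he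
    have hfx0 : f0 (ρ a x0) = ρ a x0 := by rw [h0]; exact hf0' x0 hex0
    have hax0 : ρ a x0 ≠ 0 := fun h => hx0 (apply_injective ρ a (by rw [h, map_zero]))
    refine ⟨f0, hf0, fun x hx => ?_⟩
    by_contra hne'
    obtain ⟨π1, hπ1, h1⟩ := hO.exists_sylow P a x
    obtain ⟨f1, hf1, hf1'⟩ := hperm π1 hπ1 e he
    have hfx : f1 (ρ a x) = ρ a x := by rw [h1]; exact hf1' x hx
    have hf01 : f0 ≠ f1 := fun h => hne' (h ▸ hfx)
    obtain ⟨π2, hπ2, h2⟩ := hO.exists_sylow P a (x + x0)
    obtain ⟨f2, hf2, hf2'⟩ := hperm π2 hπ2 e he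
    have hfy : f2 (ρ a (x + x0)) = ρ a (x + x0) := by
      rw [h2]; exact hf2' _ (by rw [map_add, hx, hex0])
    have hz : f0 (ρ a x) = 0 := by
      rw [← hfx, ← Module.End.mul_apply, horth f0 hf0 f1 hf1 hf01, LinearMap.zero_apply]
    by_cases h02 : f0 = f2
    · subst h02
      rw [map_add, map_add, hz, hfx0, zero_add] at hfy
      have h3 : ρ a x = 0 := add_eq_right.1 hfy.symm
      exact hne' (by rw [h3, map_zero])
    · have h3 : f0 (ρ a (x + x0)) = 0 := by
        rw [← hfy, ← Module.End.mul_apply, horth f0 hf0 f2 hf2 h02, LinearMap.zero_apply]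
      rw [map_add, map_add, hz, hfx0, zero_add] at h3
      exact hax0 h3
  choose g hgs hg using fun a (e : ↥s) => hperm' a e.1 e.2
  have hgu : ∀ a (e : ↥s) (f : Module.End k V), f ∈ s →
      (∀ x, e.1 x = x → f (ρ a x) = ρ a x) → g a e = f := by
    intro a e f hf hf'
    obtain ⟨x, hx, hex⟩ := hnz e.1 e.2
    exact huniq _ (hgs a e) f hf (ρ a x)
      (fun h => hx (apply_injective ρ a (by rw [h, map_zero]))) (hg a e x hex) (hf' x hex)
  let σ0 : A →* Function.End ↥s :=
    { toFun := fun a e => ⟨g a e, hgs a e⟩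
      map_one' := funext fun e => Subtype.ext (hgu 1 e e.1 e.2 fun x hx => by
        rw [map_one, Module.End.one_apply, hx])
      map_mul' := fun a b => funext fun e => Subtype.ext (hgu (a * b) e _
        (hgs a ⟨g b e, hgs b e⟩) fun x hx => by
          rw [map_mul, Module.End.mul_apply]
          exact hg a ⟨g b e, hgs b e⟩ _ (hg b e x hx)) }
  let σ : A →* Equiv.Perm ↥s := σ0.toHomPerm
  have hσ : ∀ a (e : ↥s) x, e.1 x = x → (σ a e : Module.End k V) (ρ a x) = ρ a x :=
    fun a e x hx => hg a e x hx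
  -- orbits on subsets
  choose xx hxx0 hxx using fun e : ↥s => hnz e.1 e.2
  have hS : SubsetPow p σ := by
    intro S
    haveI : DecidablePred (· ∈ S) := Classical.decPred _
    obtain ⟨n, hn⟩ := hO (∑ e ∈ S.toFinset, xx e)
    have hle : stab ρ (∑ e ∈ S.toFinset, xx e) ≤ setStab σ S := by
      intro a ha
      rw [mem_stab, map_sum] at ha
      rw [mem_setStab]
      refine Set.eq_of_subset_of_ncard_le ?_
        (le_of_eq (Set.ncard_image_of_injective _ (σ a).injective).symm)
      rintro _ ⟨e, he, rfl⟩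
      by_contra hcon
      have h1 : (σ a e : Module.End k V) (∑ l ∈ S.toFinset, xx l) = 0 := by
        rw [map_sum]
        refine Finset.sum_eq_zero fun l hl => ?_
        rw [← hxx l, ← Module.End.mul_apply, horth _ (σ a e).2 _ l.2 ?_, LinearMap.zero_apply]
        intro h
        exact hcon (by rw [Subtype.ext h]; exact Set.mem_toFinset.1 hl)
      have h2 : (σ a e : Module.End k V) (∑ l ∈ S.toFinset, ρ a (xx l)) = ρ a (xx e) := by
        rw [map_sum, Finset.sum_eq_single e]
        · exact hσ a e _ (hxx e)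
        · intro l hl hle'
          rw [← hσ a l _ (hxx l), ← Module.End.mul_apply,
            horth _ (σ a e).2 _ (σ a l).2 (fun h => hle'
              ((σ a).injective (Subtype.ext h)).symm), LinearMap.zero_apply]
        · intro h; exact absurd (Set.mem_toFinset.2 he) h
      rw [ha, h1] at h2
      exact hxx0 e (apply_injective ρ a (by rw [← h2, map_zero]))
    obtain ⟨n', -, hn'⟩ := (Nat.dvd_prime_pow hp.out).1 (hn ▸ index_dvd_of_le hle)
    exact ⟨n', hn'⟩
  have h1 : SolvMod σ := solvMod_of_subsetPow _ σ rfl hS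
  refine solvMod_of_normal h1 ?_
  have hK : ∀ (e : ↥s) (a : σ.ker) x, x ∈ LinearMap.range e.1 → ρ (a : A) x ∈ LinearMap.range e.1 := by
    intro e a x hx
    obtain ⟨y, rfl⟩ := hx
    have h := hσ (a : A) e (e.1 y) (by rw [← Module.End.mul_apply, hidem _ e.2])
    rw [MonoidHom.mem_ker.1 a.2] at h
    exact ⟨_, h⟩
  let τ : ∀ e : ↥s, σ.ker →* Module.End k (LinearMap.range e.1) := fun e =>
    { toFun := fun a => (ρ (a : A)).restrict (hK e a)
      map_one' := LinearMap.ext fun x => Subtype.ext (by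
        rw [LinearMap.restrict_apply]
        simp [OneMemClass.coe_one])
      map_mul' := fun a b => LinearMap.ext fun x => Subtype.ext (by
        rw [Module.End.mul_apply, LinearMap.restrict_apply, LinearMap.restrict_apply,
          LinearMap.restrict_apply]
        simp [Subgroup.coe_mul, map_mul, Module.End.mul_apply]) }
  refine solvMod_of_forall τ _ (fun e => ?_) ?_
  · refine IH σ.ker _ (τ e) ?_ ?_
    · have hss : ((LinearMap.range e.1 : Submodule k V) : Set V) ≠ Set.univ := by
        intro huniv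
        obtain ⟨f, hf, hfe⟩ := Finset.exists_mem_ne hs2 e.1
        obtain ⟨x, hx, hfx⟩ := hnz f hf
        obtain ⟨y, hy⟩ : x ∈ LinearMap.range e.1 := by
          rw [← SetLike.mem_coe, huniv]; trivial
        exact hfe (huniq f hf e.1 e.2 x hx hfx
          (by rw [← hy, ← Module.End.mul_apply, hidem _ e.2]))
      have := Set.ncard_lt_ncard (Set.ssubset_univ_iff.2 hss)
      rw [Set.ncard_univ, ← Nat.card_coe_set_eq] at this
      exact this
    · intro v
      obtain ⟨n, hn⟩ := (hO.comp_normal σ.ker) (v : V)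
      refine ⟨n, ?_⟩
      rw [← hn]
      congr 1
      ext a
      rw [mem_stab, mem_stab]
      exact Subtype.ext_iff
  · intro a ha
    refine LinearMap.ext fun x => ?_
    show ρ (a : A) x = x
    have h1 : ∀ e : ↥s, ρ (a : A) (e.1 x) = e.1 x := fun e =>
      congrArg (fun f : Module.End k (LinearMap.range e.1) =>
        ((f ⟨e.1 x, x, rfl⟩ : LinearMap.range e.1) : V)) (ha e)
    have hx : x = ∑ e ∈ s, e x := by
      rw [← LinearMap.sum_apply, hsum, Module.End.one_apply]
    conv_lhs => rw [hx, map_sum]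
    conv_rhs => rw [hx]
    exact Finset.sum_congr rfl fun e he => h1 ⟨e, he⟩

end Cfsg.Agent.FGB.PPow
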