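import Mathlib
import Cfsg.Agent.Lib.Basics.Cores
import Cfsg.Agent.Lib.FGB.PPowerLin
import Cfsg.Agent.Lib.FGB.CyclicRegular
import Cfsg.Agent.Lib.PermGp.Burnside

/-!
Linear groups with `p`-power orbits: the primitive cyclic case.
-/

set_option autoImplicit false
set_option linter.all false

namespace Cfsg.Agent.FGB.PPow

open Subgroup Polynomial
open scoped commutatorElement

universe u v w

variable {k : Type w} [Field k] [Finite k] {A : Type u} [Group A] [Finite A] {V : Type v}
  [AddCommGroup V] [Module k V] [Finite V] {p : ℕ} [hp : Fact p.Prime]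

/-- A non-trivial normal solvable subgroup contains a non-trivial normal abelian `p`-subgroup. -/
theorem exists_normal_abelian_pGroup (ρ : A →* Module.End k V) (hinj : Function.Injective ρ)
    (hO : Orb p ρ) (K : Subgroup A) [K.Normal] (hK : K ≠ ⊥) (hsol : Group.IsSolvable K) :
    ∃ M : Subgroup A, M.Normal ∧ M ≠ ⊥ ∧ IsPGroup p M ∧ ∀ x ∈ M, ∀ y ∈ M, x * y = y * x := by
  classical
  have hex : ∃ d, derivedSeries K d = ⊥ := hsol.solvable
  set d := Nat.find hex with hd
  have hd0 : d ≠ 0 := fun h0 => by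
    have := Nat.find_spec hex
    rw [← hd, h0, derivedSeries_zero] at this
    exact hK (Subgroup.eq_bot_iff_forall _ |>.2 fun x hx => by
      have h1 : (⟨x, hx⟩ : K) ∈ (⊥ : Subgroup K) := this ▸ mem_top _
      exact congrArg Subtype.val (mem_bot.1 h1))
  haveI hchar : (derivedSeries K (d - 1)).Characteristic := derivedSeries_characteristic _ _
  set M := (derivedSeries K (d - 1)).map K.subtype with hM
  haveI hMn : M.Normal := ConjAct.normal_of_characteristic_of_normal
  have hMne : M ≠ ⊥ := by
    rw [hM, Ne, map_eq_bot_iff_of_injective _ K.subtype_injective]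
    exact Nat.find_min hex (by omega)
  have hcomm : ∀ x ∈ M, ∀ y ∈ M, x * y = y * x := by
    rintro _ ⟨x, hx, rfl⟩ _ ⟨y, hy, rfl⟩
    have h1 : ⁅x, y⁆ ∈ derivedSeries K d := by
      rw [show d = (d - 1) + 1 by omega, derivedSeries_succ]
      exact commutator_mem_commutator hx hy
    rw [hd, Nat.find_spec hex, mem_bot, commutatorElement_eq_one_iff_mul_comm] at h1
    exact congrArg Subtype.val h1
  refine ⟨M, hMn, hMne, ?_, hcomm⟩
  set e := ordCompl[p] (Nat.card M) with he
  let T : Subgroup A :=
    { carrier := {x | x ∈ M ∧ x ^ e = 1}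
      one_mem' := ⟨one_mem _, one_pow _⟩
      mul_mem' := fun {a b} ha hb => ⟨mul_mem ha.1 hb.1, by
        rw [(show Commute a b from hcomm a ha.1 b hb.1).mul_pow, ha.2, hb.2, one_mul]⟩
      inv_mem' := fun {a} ha => ⟨inv_mem ha.1, by rw [inv_pow, ha.2, inv_one]⟩ }
  haveI : T.Normal := ⟨fun a ha c => ⟨hMn.conj_mem a ha.1 c, by
    rw [conj_pow, ha.2, mul_one, mul_inv_cancel]⟩⟩
  have hTp : ¬ p ∣ Nat.card T := fun hdvd => by
    obtain ⟨x, hx⟩ := exists_prime_orderOf_dvd_card' p hdvd
    have h1 : p ∣ e := by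
      rw [← hx, ← Subgroup.orderOf_coe]
      exact orderOf_dvd_of_pow_eq_one x.2.2
    exact Nat.not_dvd_ordCompl hp.out Nat.card_pos.ne' h1
  have hT : ∀ x ∈ T, x = 1 := fun x hx => hinj (LinearMap.ext fun v => by
    rw [map_one, Module.End.one_apply]
    obtain ⟨i, hi⟩ := hO v
    obtain ⟨j, -, hj⟩ := (Nat.dvd_prime_pow hp.out).1 (hi ▸ relIndex_dvd_index (stab ρ v) T)
    have hj0 : j = 0 := by
      by_contra hj0
      exact hTp ((dvd_pow_self p hj0).trans (hj ▸ relIndex_dvd_card (stab ρ v) T))
    rw [hj0, pow_zero, relIndex_eq_one] at hj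
    exact hj hx)
  intro x
  refine ⟨(Nat.card M).factorization p, ?_⟩
  have h1 : (x : A) ^ (p ^ (Nat.card M).factorization p) ∈ T := ⟨pow_mem x.2 _, by
    rw [← pow_mul, he, Nat.ordProj_mul_ordCompl_eq_self, ← SubmonoidClass.coe_pow,
      pow_card_eq_one', OneMemClass.coe_one]⟩
  exact Subtype.ext (hT _ h1)

theorem isSolvable_cyclic (hp2 : p ≠ 2) (ρ : A →* Module.End k V) (hinj : Function.Injective ρ)
    (hA : (Nat.card A : k) ≠ 0) (hO : Orb p ρ) (P : Sylow p A)
    {L : Type v} [Field L] [Finite L] [Algebra k L] [Module L V] [IsScalarTower k L V]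
    (x0 : V) (hx0 : Function.Bijective fun c : L => c • x0)
    (g : A) (hg : (P : Subgroup A) = zpowers g) (u : L) (hgu : ∀ x, ρ g x = u • x)
    (m : ℕ) (hu : orderOf u = p ^ (m + 1))
    (htop : Algebra.adjoin k ({u ^ p ^ m} : Set L) = ⊤) (hn : Module.finrank k L ≤ p - 1)
    (IH : ∀ K : Subgroup A, K.Normal → K ≠ ⊤ → Group.IsSolvable K) : Group.IsSolvable A := by
  classical
  haveI := Fintype.ofFinite A
  haveI : FiniteDimensional k L := Module.Finite.of_finite
  set N := p ^ (m + 1) with hNdef
  haveI : NeZero N := ⟨pow_ne_zero _ hp.out.ne_zero⟩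
  have hgpow : ∀ (n : ℕ) x, ρ (g ^ n) x = u ^ n • x := by
    intro n
    induction n with
    | zero => intro x; simp
    | succ n ih => intro x; rw [pow_succ', map_mul, Module.End.mul_apply, ih, hgu, smul_smul, pow_succ']
  have hu0 : u ≠ 0 := fun h => by
    rw [h, orderOf_zero] at hu
    exact pow_ne_zero (m + 1) hp.out.ne_zero hu.symm
  have hpu : ∀ n : ℕ, u ^ n = 1 → g ^ n = 1 := fun n h => hinj (LinearMap.ext fun x => by
    rw [hgpow, h, one_smul, map_one, Module.End.one_apply])
  have hgord : orderOf g = N := by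
    refine Nat.dvd_antisymm (orderOf_dvd_of_pow_eq_one (hpu _ (hu ▸ pow_orderOf_eq_one u))) ?_
    rw [← hu]
    refine orderOf_dvd_of_pow_eq_one (hx0.1 ?_)
    show u ^ orderOf g • x0 = (1 : L) • x0
    rw [← hgpow, pow_orderOf_eq_one, map_one, Module.End.one_apply, one_smul]
  -- a normal solvable subgroup suffices
  have hdone : ∀ K : Subgroup A, K.Normal → K ≠ ⊥ → Group.IsSolvable K → Group.IsSolvable A := by
    intro K hKn hKne hKs
    haveI := hKn
    obtain ⟨M, hMn, hMne, hMp, -⟩ := exists_normal_abelian_pGroup ρ hinj hO K hKne hKs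
    haveI := hMn
    have hMg : M ≤ zpowers g := hg ▸ (Basics.le_pCore hMp).trans (Basics.pCore_le_sylow p P)
    have hpM : p ∣ Nat.card M := hMp.card_eq_or_dvd.resolve_left fun h => hMne (card_eq_one.1 h)
    obtain ⟨y, hy⟩ := exists_prime_orderOf_dvd_card' p hpM
    set z := g ^ p ^ m with hz
    have hzord : orderOf z = p := by
      rw [hz, orderOf_pow' _ (pow_ne_zero _ hp.out.ne_zero), hgord,
        Nat.gcd_eq_right (pow_dvd_pow p (Nat.le_succ m)), hNdef, pow_succ,
        Nat.mul_div_cancel_left _ (pow_pos hp.out.pos m)]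
    -- elements of order p of the cyclic group are powers of z
    have hzp : ∀ w ∈ zpowers g, w ^ p = 1 → ∃ t : ℕ, w = z ^ t := by
      intro w hw hwp
      obtain ⟨i, rfl⟩ := (IsOfFinOrder.mem_powers_iff_mem_zpowers (isOfFinOrder_of_finite g)).mpr hw
      rw [← pow_mul, ← orderOf_dvd_iff_pow_eq_one, hgord, hNdef, pow_succ] at hwp
      obtain ⟨t, ht⟩ := (Nat.mul_dvd_mul_iff_right hp.out.pos).1 hwp
      exact ⟨t, by rw [hz, ← pow_mul, ← ht]⟩
    have hzM : z ∈ M := by
      obtain ⟨t, ht⟩ := hzp y (hMg y.2) (by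
        rw [← hy, ← Subgroup.orderOf_coe]; exact pow_orderOf_eq_one (y : A))
      have hyne : (y : A) ≠ 1 := fun h => by
        rw [← orderOf_eq_one_iff, Subgroup.orderOf_coe, hy] at h; exact hp.out.ne_one h
      have hco : Nat.Coprime t (orderOf z) := by
        rw [hzord]
        exact ((Nat.Prime.coprime_iff_not_dvd hp.out).2 fun hd => hyne (by
          obtain ⟨c, rfl⟩ := hd
          rw [ht, pow_mul, ← hzord, pow_orderOf_eq_one, one_pow])).symm
      obtain ⟨l, hl⟩ := exists_pow_eq_self_of_coprime hco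
      rw [← hl, ← ht]
      exact pow_mem y.2 l
    have hconj : ∀ a : A, ∃ t : ℕ, a * z * a⁻¹ = z ^ t := fun a =>
      hzp _ (hMg (hMn.conj_mem z hzM a))
        (by rw [conj_pow, ← hzord, pow_orderOf_eq_one, mul_one, mul_inv_cancel])
    set C := centralizer ({z} : Set A) with hC
    have hlin : ∀ a ∈ C, ∀ (c : L) x, ρ a (c • x) = c • ρ a x := by
      intro a ha
      let B : Subalgebra k L :=
        { carrier := {c | ∀ x, ρ a (c • x) = c • ρ a x}
          mul_mem' := fun {c c'} hc hc' x => by rw [← smul_smul, hc, hc', smul_smul]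
          one_mem' := fun x => by rw [one_smul, one_smul]
          add_mem' := fun {c c'} hc hc' x => by rw [add_smul, map_add, hc, hc', add_smul]
          zero_mem' := fun x => by rw [zero_smul, map_zero, zero_smul]
          algebraMap_mem' := fun c x => by rw [algebraMap_smul, map_smul, algebraMap_smul] }
      have hle : Algebra.adjoin k ({u ^ p ^ m} : Set L) ≤ B :=
        Algebra.adjoin_le (Set.singleton_subset_iff.2 fun x => by
          rw [← hgpow, ← hgpow, ← Module.End.mul_apply, ← Module.End.mul_apply, ← map_mul,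
            ← map_mul, ← hz, mem_centralizer_singleton_iff.1 ha])
      intro c
      exact hle (htop ▸ Algebra.mem_top (R := k))
    have hCab : ∀ a ∈ C, ∀ b ∈ C, a * b = b * a := by
      intro a ha b hb
      obtain ⟨α, hα⟩ := hx0.2 (ρ a x0)
      obtain ⟨β, hβ⟩ := hx0.2 (ρ b x0)
      refine hinj (LinearMap.ext fun x => ?_)
      obtain ⟨c, rfl⟩ := hx0.2 x
      simp only [map_mul, Module.End.mul_apply, hlin a ha, hlin b hb]
      simp only at hα hβ
      rw [← hβ, hlin a ha, ← hα, hlin b hb, ← hβ, smul_smul β α, smul_smul α β, mul_comm]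
    have hder : ∀ a b : A, ⁅a, b⁆ ∈ C := by
      intro a b
      obtain ⟨t, ht⟩ := hconj a
      obtain ⟨s, hs⟩ := hconj b
      have hab : (a * b) * z * (a * b)⁻¹ = z ^ (t * s) := by
        rw [show (a * b) * z * (a * b)⁻¹ = a * (b * z * b⁻¹) * a⁻¹ by group, hs, ← conj_pow, ht,
          ← pow_mul]
      have hba : (b * a) * z * (b * a)⁻¹ = z ^ (t * s) := by
        rw [show (b * a) * z * (b * a)⁻¹ = b * (a * z * a⁻¹) * b⁻¹ by group, ht, ← conj_pow, hs,
          ← pow_mul, mul_comm]
      rw [hC, mem_centralizer_singleton_iff, commutatorElement_def]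
      calc a * b * a⁻¹ * b⁻¹ * z
          = a * b * ((b * a)⁻¹ * z) := by group
        _ = z * (a * b * a⁻¹ * b⁻¹) := by
          have hcomm : Commute ((a * b) * (b * a)⁻¹) z := by
            have h1 : ((a * b) * (b * a)⁻¹) * z ^ (t * s) * ((a * b) * (b * a)⁻¹)⁻¹ = z ^ (t * s) := by
              conv_lhs => rw [← hba]
              rw [← hab]; group
            have hco : Nat.Coprime (t * s) (orderOf z) := by
              rw [hzord]
              refine ((Nat.Prime.coprime_iff_not_dvd hp.out).2 fun hd => ?_).symm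
              obtain ⟨c, hc⟩ := hd
              rw [hc, pow_mul, ← hzord, pow_orderOf_eq_one, one_pow, conj_eq_one_iff] at hab
              rw [← orderOf_eq_one_iff, hzord] at hab
              exact hp.out.ne_one hab
            obtain ⟨l, hl⟩ := exists_pow_eq_self_of_coprime hco
            have h2 : Commute ((a * b) * (b * a)⁻¹) (z ^ (t * s)) := mul_inv_eq_iff_eq_mul.1 h1
            exact hl ▸ h2.pow_right l
          rw [show a * b * ((b * a)⁻¹ * z) = (a * b) * (b * a)⁻¹ * z by group, hcomm.eq]
          group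
    refine ⟨⟨2, ?_⟩⟩
    rw [eq_bot_iff]
    have h1 : derivedSeries A 1 ≤ C := by
      rw [derivedSeries_succ, derivedSeries_zero]
      exact commutator_le.2 fun a _ b _ => hder a b
    rw [derivedSeries_succ]
    exact commutator_le.2 fun a ha b hb => mem_bot.2
      (commutatorElement_eq_one_iff_mul_comm.2 (hCab a (h1 ha) b (h1 hb)))
  -- the permutation action on the orbit
  set χ : ZMod N → L := fun i => u ^ i.val with hχ
  have huN : u ^ N = 1 := hu ▸ pow_orderOf_eq_one u
  have hχn : ∀ n : ℕ, χ (n : ZMod N) = u ^ n := fun n => by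
    simp only [hχ, ZMod.val_natCast]
    conv_rhs => rw [← Nat.mod_add_div n N, pow_add, pow_mul, huN, one_pow, mul_one]
  have hχadd : ∀ a b : ZMod N, χ (a + b) = χ a * χ b := fun a b => by
    rw [← ZMod.natCast_zmod_val a, ← ZMod.natCast_zmod_val b, ← Nat.cast_add, hχn, hχn, hχn,
      pow_add]
  set pt : ZMod N → V := fun i => χ i • x0 with hpt
  have hptinj : Function.Injective pt := fun i j h => by
    have h1 : u ^ i.val = u ^ j.val := hx0.1 h
    exact ZMod.val_injective N (pow_injOn_Iio_orderOf (by rw [Set.mem_Iio, hu]; exact ZMod.val_lt i)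
      (by rw [Set.mem_Iio, hu]; exact ZMod.val_lt j) h1)
  have hgpt : ∀ (n : ℕ) i, ρ (g ^ n) (pt i) = pt (i + n) := fun n i => by
    rw [hgpow, hpt]
    simp only
    rw [smul_smul, hχadd, hχn, mul_comm]
  have hperm : ∀ a i, ∃ j, ρ a (pt i) = pt j := fun a i => by
    obtain ⟨π, hπ, h⟩ := hO.exists_sylow P a (pt i)
    rw [hg] at hπ
    obtain ⟨n, rfl⟩ := (IsOfFinOrder.mem_powers_iff_mem_zpowers (isOfFinOrder_of_finite g)).mpr hπ
    exact ⟨i + n, by rw [h, hgpt]⟩
  choose γ0 hγ0 using hperm
  let γ1 : A →* Function.End (ZMod N) :=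
    { toFun := γ0
      map_one' := funext fun i => hptinj (by
        rw [← hγ0, map_one, Module.End.one_apply]; rfl)
      map_mul' := fun a b => funext fun i => hptinj (by
        show pt (γ0 (a * b) i) = pt (γ0 a (γ0 b i))
        rw [← hγ0, ← hγ0, ← hγ0, map_mul, Module.End.mul_apply]) }
  let γ : A →* Equiv.Perm (ZMod N) := γ1.toHomPerm
  have hγ : ∀ a i, ρ a (pt i) = pt (γ a i) := hγ0
  have hgγ : ∀ i, γ g i = i + 1 := fun i => hptinj (by
    rw [← hγ, ← pow_one g, hgpt, Nat.cast_one])
  -- `u` generates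
  have htop' : Algebra.adjoin k ({u} : Set L) = ⊤ := by
    rw [eq_top_iff, ← htop]
    exact Algebra.adjoin_le (Set.singleton_subset_iff.2
      (pow_mem (Algebra.subset_adjoin (Set.mem_singleton u)) _))
  have hγinj : Function.Injective γ := by
    rw [injective_iff_map_eq_one]
    intro a ha
    have hfix : ∀ n : ℕ, ρ a (u ^ n • x0) = u ^ n • x0 := fun n => by
      have := hγ a (n : ZMod N)
      rw [ha, Equiv.Perm.one_apply] at this
      simp only [hpt, hχn] at this
      exact this
    refine hinj (LinearMap.ext fun x => ?_)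
    obtain ⟨c, rfl⟩ := hx0.2 x
    rw [map_one, Module.End.one_apply]
    show ρ a (c • x0) = c • x0
    have hc : c ∈ Subalgebra.toSubmodule (Algebra.adjoin k ({u} : Set L)) := by
      rw [htop']; exact Algebra.mem_top (R := k)
    rw [Algebra.adjoin_eq_span] at hc
    induction hc using Submodule.span_induction with
    | mem y hy =>
      obtain ⟨n, rfl⟩ := Submonoid.mem_closure_singleton.1 hy
      exact hfix n
    | zero => simp
    | add y z _ _ hy hz => rw [add_smul, map_add, hy, hz]
    | smul c y _ hy => rw [smul_assoc, map_smul, hy]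
  -- the coefficient function
  let φ : (ZMod N → k) →ₗ[k] V :=
    { toFun := fun h => ∑ i, h i • pt i
      map_add' := fun a b => by simp [add_smul, Finset.sum_add_distrib]
      map_smul' := fun c a => by simp [Finset.smul_sum, smul_smul] }
  have hφ : ∀ h, φ h = ∑ i, h i • pt i := fun h => rfl
  have hφs : ∀ i, φ (Pi.single i 1) = pt i := fun i => by
    rw [hφ, Finset.sum_eq_single i]
    · rw [Pi.single_eq_same, one_smul]
    · intro j _ hj; rw [Pi.single_eq_of_ne hj, zero_smul]
    · intro h; exact absurd (Finset.mem_univ i) h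
  have hφsurj : Function.Surjective φ := by
    intro x
    obtain ⟨c, rfl⟩ := hx0.2 x
    show ∃ h, φ h = c • x0
    have hc : c ∈ Subalgebra.toSubmodule (Algebra.adjoin k ({u} : Set L)) := by
      rw [htop']; exact Algebra.mem_top (R := k)
    rw [Algebra.adjoin_eq_span] at hc
    induction hc using Submodule.span_induction with
    | mem y hy =>
      obtain ⟨n, rfl⟩ := Submonoid.mem_closure_singleton.1 hy
      exact ⟨Pi.single (n : ZMod N) 1, by rw [hφs]; simp only [hpt, hχn]⟩
    | zero => exact ⟨0, by simp⟩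
    | add y z _ _ hy hz =>
      obtain ⟨h1, h1'⟩ := hy
      obtain ⟨h2, h2'⟩ := hz
      exact ⟨h1 + h2, by rw [map_add, h1', h2', add_smul]⟩
    | smul c y _ hy =>
      obtain ⟨h1, h1'⟩ := hy
      exact ⟨c • h1, by rw [map_smul, h1', smul_assoc]⟩
  obtain ⟨s0, hs0⟩ := φ.exists_rightInverse_of_surjective (LinearMap.range_eq_top.2 hφsurj)
  set cA : k := (Fintype.card A : k)⁻¹ with hcA
  let S : V → ZMod N → k := fun x i => cA * ∑ a : A, s0 (ρ a⁻¹ x) (γ a⁻¹ i)
  have hSdef : ∀ x i, S x i = cA * ∑ a : A, s0 (ρ a⁻¹ x) (γ a⁻¹ i) := fun x i => rfl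
  have hSeq : ∀ b x i, S (ρ b x) (γ b i) = S x i := fun b x i => by
    rw [hSdef, hSdef]
    congr 1
    rw [← Equiv.sum_comp (Equiv.mulLeft b)]
    refine Finset.sum_congr rfl fun a _ => ?_
    simp only [Equiv.coe_mulLeft, mul_inv_rev, map_mul, Module.End.mul_apply, Equiv.Perm.mul_apply]
    rw [← Module.End.mul_apply (ρ b⁻¹), ← map_mul ρ, inv_mul_cancel, map_one,
      Module.End.one_apply, ← Equiv.Perm.mul_apply (γ b⁻¹), ← map_mul γ, inv_mul_cancel, map_one,
      Equiv.Perm.one_apply]
  set f : ZMod N → k := S x0 with hfdef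
  have hpt0 : pt 0 = x0 := by
    have : χ 0 = 1 := by simp [hχ]
    simp only [hpt, this, one_smul]
  have hfinv : CycReg.Inv γ f := by
    intro a ha i
    have h0 : ρ a x0 = x0 := by rw [← hpt0, hγ, ha]
    conv_lhs => rw [hfdef, ← h0]
    exact hSeq a x0 i
  have hSφ : φ f = x0 := by
    rw [hφ]
    simp only [hfdef, hSdef, ← smul_smul, ← Finset.smul_sum, Finset.sum_smul]
    rw [Finset.sum_comm]
    have : ∀ a : A, (∑ i, s0 (ρ a⁻¹ x0) (γ a⁻¹ i) • pt i) = x0 := fun a => by
      rw [← Equiv.sum_comp (γ a)]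
      have h1 : ∀ i, s0 (ρ a⁻¹ x0) (γ a⁻¹ (γ a i)) • pt (γ a i)
          = ρ a (s0 (ρ a⁻¹ x0) i • pt i) := fun i => by
        rw [map_smul, hγ, ← Equiv.Perm.mul_apply, ← map_mul, inv_mul_cancel, map_one,
          Equiv.Perm.one_apply]
      rw [Finset.sum_congr rfl fun i _ => h1 i, ← map_sum, ← hφ]
      rw [show φ (s0 (ρ a⁻¹ x0)) = ρ a⁻¹ x0 from LinearMap.congr_fun hs0 _,
        ← Module.End.mul_apply, ← map_mul, mul_inv_cancel, map_one, Module.End.one_apply]
    rw [Finset.sum_congr rfl fun a _ => this a, Finset.sum_const, Finset.card_univ, hcA,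
      ← Nat.cast_smul_eq_nsmul k, smul_smul, inv_mul_cancel₀ (by
        rw [← Nat.card_eq_fintype_card]; exact hA), one_smul]
  have hconv : ∀ h : ZMod N → k, φ h = 0 → ∀ i, ∑ j, h j * f (i - j) = 0 := by
    intro h hh i
    have hlin : S (∑ j, h j • pt j) i = ∑ j, h j * S (pt j) i := by
      simp only [hSdef, map_sum, map_smul, Finset.sum_apply, Pi.smul_apply, smul_eq_mul]
      rw [Finset.sum_comm, Finset.mul_sum]
      refine Finset.sum_congr rfl fun j _ => ?_
      rw [← Finset.mul_sum]; ring
    rw [← hφ, hh] at hlin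
    have h0 : S 0 i = 0 := by simp [hSdef]
    rw [h0] at hlin
    rw [hlin]
    refine Finset.sum_congr rfl fun j _ => ?_
    congr 1
    have h1 := hSeq (g ^ j.val) x0 (i - j)
    rw [CycReg.trans_val hgγ, sub_add_cancel] at h1
    rw [hfdef, ← h1, show ρ (g ^ j.val) x0 = pt j by
      rw [← hpt0, hgpt, zero_add, ZMod.natCast_zmod_val]]
  -- multiplicative evaluation
  set Λ : ℕ → (ZMod N → k) → L := fun j h => ∑ i, algebraMap k L (h i) * χ i ^ j with hΛ
  set μ := minpoly k u with hμ
  have hint : IsIntegral k u := Algebra.IsIntegral.isIntegral u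
  have hμdeg : μ.natDegree ≤ p - 1 := (minpoly.natDegree_le u).trans hn
  have hμN : μ.natDegree < N := lt_of_le_of_lt hμdeg (lt_of_lt_of_le
    (show p - 1 < p by have := hp.out.pos; omega) (Nat.le_self_pow (by omega) p))
  set hμc : ZMod N → k := fun i => μ.coeff i.val with hμcdef
  have hΛμ : ∀ j, Λ j hμc = aeval (u ^ j) μ := by
    intro j
    rw [aeval_eq_sum_range' hμN, hΛ]
    simp only
    refine Finset.sum_bij (fun i _ => i.val) (fun i _ => Finset.mem_range.2 (ZMod.val_lt i))
      (fun i _ i' _ h => ZMod.val_injective N h)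
      (fun n hn' => ⟨(n : ZMod N), Finset.mem_univ _, ZMod.val_natCast_of_lt (Finset.mem_range.1 hn')⟩)
      (fun i _ => ?_)
    rw [Algebra.smul_def, hμcdef, hχ, ← pow_mul, ← pow_mul, mul_comm i.val j]
  have hΛ1 : ∀ h, φ h = (Λ 1 h) • x0 := fun h => by
    rw [hφ, hΛ, Finset.sum_smul]
    refine Finset.sum_congr rfl fun i _ => ?_
    rw [pow_one, ← smul_smul, algebraMap_smul]
  have hf1 : Λ 1 f = 1 := hx0.1 (by
    show Λ 1 f • x0 = (1 : L) • x0
    rw [← hΛ1, hSφ, one_smul])
  have hroot : ∀ j, Λ j f ≠ 0 → aeval (u ^ j) μ = 0 := by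
    intro j hj
    have h0 : φ hμc = 0 := by rw [hΛ1, hΛμ, pow_one, minpoly.aeval, zero_smul]
    have hprod : Λ j hμc * Λ j f = 0 := by
      have : Λ j (fun i => ∑ t, hμc t * f (i - t)) = Λ j hμc * Λ j f := by
        rw [hΛ]
        simp only
        rw [Finset.sum_mul_sum]
        simp only [map_sum, map_mul, Finset.sum_mul]
        rw [Finset.sum_comm]
        refine Finset.sum_congr rfl fun t _ => ?_
        rw [← Equiv.sum_comp (Equiv.addLeft t)]
        refine Finset.sum_congr rfl fun i _ => ?_
        rw [Equiv.coe_addLeft, add_sub_cancel_left, hχadd, mul_pow]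
        ring
      rw [← this, hΛ]
      simp only [hconv _ h0, map_zero, zero_mul, Finset.sum_const_zero]
    rw [← hΛμ]
    exact (mul_eq_zero.1 hprod).resolve_right hj
  have hroots : ∀ s : Finset ℕ, (∀ j ∈ s, j < N ∧ Λ j f ≠ 0) → s.card ≤ μ.natDegree := by
    intro s hs
    have hne : μ.map (algebraMap k L) ≠ 0 :=
      (Polynomial.map_ne_zero_iff (algebraMap k L).injective).2 (minpoly.ne_zero hint)
    have hsub : s.image (fun j => u ^ j) ⊆ (μ.map (algebraMap k L)).roots.toFinset := by
      intro y hy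
      obtain ⟨j, hj, rfl⟩ := Finset.mem_image.1 hy
      rw [Multiset.mem_toFinset, mem_roots hne, IsRoot.def, eval_map_algebraMap]
      exact hroot j (hs j hj).2
    have hci : (s.image fun j => u ^ j).card = s.card :=
      Finset.card_image_of_injOn fun i hi j hj h => pow_injOn_Iio_orderOf
        (by rw [Set.mem_Iio, hu]; exact (hs i hi).1) (by rw [Set.mem_Iio, hu]; exact (hs j hj).1) h
    rw [← hci]
    refine (Finset.card_le_card hsub).trans ((Multiset.toFinset_card_le _).trans
      ((card_roots' _).trans (le_of_eq (natDegree_map _))))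
  rcases Nat.eq_zero_or_pos m with hm | hm
  · -- degree p
    have hNp : N = p := by rw [hNdef, hm, zero_add, pow_one]
    haveI : MulAction.IsPretransitive γ.range (ZMod N) := ⟨fun i j => ⟨⟨γ (g ^ (j - i).val), _, rfl⟩,
      by show γ (g ^ (j - i).val) i = j; rw [CycReg.trans_val hgγ, add_sub_cancel]⟩⟩
    have hsolv : Group.IsSolvable γ.range → Group.IsSolvable A := fun h =>
      isSolvable_of_solvMod hγinj (solvMod_of_isSolvable γ h)
    have hcardN : Fintype.card (ZMod N) = p := by rw [ZMod.card, hNp]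
    rcases (em (Group.IsSolvable γ.range)).imp_right (fun hns => PermGp.two_transitive_of_not_solvable hcardN γ.range hns) with h | h
    · exact hsolv h
    rcases le_or_gt p 3 with hp3 | hp3
    · refine hsolv ?_
      haveI : IsZGroup γ.range := IsZGroup.of_squarefree (by
        have h1 := γ.range.card_subgroup_dvd_card
        rw [Nat.card_perm, Nat.card_eq_fintype_card (α := ZMod N), hcardN] at h1
        refine Squarefree.squarefree_of_dvd h1 ?_
        have := hp.out.two_le
        interval_cases p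
        · exact absurd rfl hp2
        · rw [show Nat.factorial 3 = 2 * 3 from rfl, Nat.squarefree_mul (by norm_num)]
          exact ⟨Nat.prime_two.squarefree, Nat.prime_three.squarefree⟩)
      infer_instance
    rw [MulAction.is_two_pretransitive_iff] at h
    have hmove : ∀ a b c d : ZMod N, a ≠ b → c ≠ d → ∃ x : A, γ x a = c ∧ γ x b = d := by
      intro a b c d h1 h2
      obtain ⟨⟨_, x, rfl⟩, h3, h4⟩ := h h1 h2
      exact ⟨x, h3, h4⟩
    have h01 : (0 : ZMod N) ≠ 1 := fun he => by
      have := hgγ 0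
      rw [zero_add, ← he] at this
      have h1 : pt (γ g 0) = pt 0 := by rw [this]
      rw [← hγ, hpt0, hgu] at h1
      have h2 : u = 1 := hx0.1 (h1.trans (one_smul L x0).symm)
      rw [h2, orderOf_one] at hu
      exact (Nat.one_lt_pow (Nat.succ_ne_zero m) hp.out.one_lt).ne hu
    have hfconst : ∀ i : ZMod N, i ≠ 0 → f i = f 1 := fun i hi => by
      obtain ⟨x, hx1, hx2⟩ := hmove 0 1 0 i h01 hi.symm
      rw [← hx2]; exact hfinv x hx1 1
    have hsumj : ∀ j, ¬ p ∣ j → ∑ i, χ i ^ j = 0 := by
      intro j hj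
      have h1 : (∑ i, χ i ^ j) = χ 1 ^ j * ∑ i, χ i ^ j := by
        conv_lhs => rw [← Equiv.sum_comp (Equiv.addLeft (1 : ZMod N))]
        rw [Finset.mul_sum]
        refine Finset.sum_congr rfl fun i _ => ?_
        rw [Equiv.coe_addLeft, hχadd, mul_pow]
      by_contra hne
      have h2 : χ 1 ^ j = 1 := mul_right_cancel₀ hne (by rw [← h1, one_mul])
      have h3 : χ 1 = u := by rw [← Nat.cast_one, hχn, pow_one]
      rw [h3, ← orderOf_dvd_iff_pow_eq_one, show orderOf u = p by rw [hu]; exact hNp] at h2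
      exact hj h2
    have hΛj : ∀ j, ¬ p ∣ j → Λ j f = algebraMap k L (f 0 - f 1) := by
      intro j hj
      have : Λ j f = ∑ i, algebraMap k L (f 1) * χ i ^ j
          + ∑ i, algebraMap k L (f i - f 1) * χ i ^ j := by
        rw [hΛ, ← Finset.sum_add_distrib]
        refine Finset.sum_congr rfl fun i _ => ?_
        rw [map_sub]; ring
      rw [this, ← Finset.mul_sum, hsumj j hj, mul_zero, zero_add,
        Finset.sum_eq_single (0 : ZMod N)]
      · simp [hχ]
      · intro i _ hi; rw [hfconst i hi, sub_self, map_zero, zero_mul]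
      · intro h; exact absurd (Finset.mem_univ _) h
    have hdeg : μ.natDegree = p - 1 := by
      refine le_antisymm hμdeg ?_
      have := hroots (Finset.Ico 1 p) fun j hj => by
        rw [Finset.mem_Ico] at hj
        refine ⟨by omega, ?_⟩
        rw [hΛj j fun hd => absurd (Nat.le_of_dvd (by omega) hd) (by omega),
          ← hΛj 1 (Nat.prime_two.one_lt.ne' |> fun _ => hp.out.not_dvd_one), hf1]
        exact one_ne_zero
      simpa using this
    -- relations are constant
    have hrel : ∀ c : ZMod N → k, ∑ i, c i • pt i = 0 → ∀ i i', c i = c i' := by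
      intro c hc
      set n0 : ZMod N := ((p - 1 : ℕ) : ZMod N) with hn0
      set d : ZMod N → k := fun i => c i - c n0 with hd
      have hallsum : ∑ i, pt i = 0 := by
        simp only [hpt, ← Finset.sum_smul]
        have := hsumj 1 hp.out.not_dvd_one
        simp only [pow_one] at this
        rw [this, zero_smul]
      have hd0 : φ d = 0 := by
        rw [hφ]
        simp only [hd, sub_smul, Finset.sum_sub_distrib, ← Finset.smul_sum, hallsum, smul_zero,
          sub_zero]
        exact hc
      set D : k[X] := ∑ i : ZMod N, C (d i) * X ^ i.val with hD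
      have hcoef : ∀ i : ZMod N, D.coeff i.val = d i := fun i => by
        rw [hD, finsetSum_coeff, Finset.sum_eq_single i]
        · simp
        · intro j _ hj; rw [coeff_C_mul_X_pow, if_neg fun h => hj (ZMod.val_injective N h.symm)]
        · intro h; exact absurd (Finset.mem_univ i) h
      have hDu : aeval u D = 0 := by
        have h2 : Λ 1 d = 0 := hx0.1 (by show Λ 1 d • x0 = (0 : L) • x0; rw [← hΛ1, hd0, zero_smul])
        rw [← h2, hD, map_sum, hΛ]
        refine Finset.sum_congr rfl fun i _ => ?_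
        rw [map_mul, aeval_C, map_pow, aeval_X, pow_one, hχ]
      have hDdeg : D = 0 ∨ D.natDegree < p - 1 := by
        by_cases hD0 : D = 0
        · exact Or.inl hD0
        right
        rcases lt_or_ge D.natDegree (p - 1) with h' | h'
        · exact h'
        exfalso
        have hle : D.natDegree ≤ p - 1 := by
          rw [hD]
          refine natDegree_sum_le_of_forall_le _ _ fun i _ => (natDegree_C_mul_X_pow_le _ _).trans ?_
          have := ZMod.val_lt i; omega
        have h2 : D.coeff (p - 1) = 0 := by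
          have := hcoef n0
          rw [hn0, ZMod.val_natCast_of_lt (by omega : p - 1 < N)] at this
          rw [this, hd]; exact sub_self _
        rw [← le_antisymm hle h', coeff_natDegree, leadingCoeff_eq_zero] at h2
        exact hD0 h2
      by_cases hD0 : D = 0
      · intro i i'
        have h1 : ∀ i, c i = c n0 := fun i => sub_eq_zero.1 (by
          rw [← show d i = c i - c n0 from rfl, ← hcoef i, hD0, coeff_zero])
        rw [h1 i, h1 i']
      · exfalso
        have hlt := hDdeg.resolve_left hD0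
        have := natDegree_le_of_dvd (minpoly.dvd k u hDu) hD0
        rw [← hμ, hdeg] at this
        omega
    exfalso
    set w0 := pt 0 - pt 1 with hw0
    have horb : ∀ x : A, ∃ n : Fin p, ρ x w0 = ρ (g ^ (n : ℕ)) w0 := fun x => by
      obtain ⟨π, hπ, hx⟩ := hO.exists_sylow P x w0
      rw [hg] at hπ
      obtain ⟨n, rfl⟩ := (IsOfFinOrder.mem_powers_iff_mem_zpowers (isOfFinOrder_of_finite g)).mpr hπ
      refine ⟨⟨n % p, Nat.mod_lt _ hp.out.pos⟩, ?_⟩
      rw [hx]
      show ρ (g ^ n) w0 = ρ (g ^ (n % p)) w0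
      rw [← pow_mod_orderOf, hgord, hNp]
    have hpair : ∀ z : {z : ZMod N × ZMod N // z.1 ≠ z.2}, ∃ n : Fin p,
        pt z.1.1 - pt z.1.2 = ρ (g ^ (n : ℕ)) w0 := fun z => by
      obtain ⟨x, hx1, hx2⟩ := hmove 0 1 _ _ h01 z.2
      obtain ⟨n, hn'⟩ := horb x
      exact ⟨n, by rw [← hn', hw0, map_sub, hγ, hγ, hx1, hx2]⟩
    choose F hF using hpair
    set T : Finset (ZMod N × ZMod N) :=
      ((Finset.univ.erase (0 : ZMod N)).image fun b => ((0 : ZMod N), b)) ∪
      (((Finset.univ.erase (0 : ZMod N)).erase 1).image fun b => ((1 : ZMod N), b)) with hT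
    have hTne : ∀ z ∈ T, z.1 ≠ z.2 := by
      intro z hz
      simp only [hT, Finset.mem_union, Finset.mem_image, Finset.mem_erase] at hz
      rcases hz with ⟨b, ⟨hb, -⟩, rfl⟩ | ⟨b, ⟨hb1, -⟩, rfl⟩
      · exact hb.symm
      · exact hb1.symm
    have hTcard : p < T.card := by
      have hc1 : (Finset.univ.erase (0 : ZMod N)).card = p - 1 := by
        rw [Finset.card_erase_of_mem (Finset.mem_univ _), Finset.card_univ, hcardN]
      have hc2 : ((Finset.univ.erase (0 : ZMod N)).erase 1).card = p - 1 - 1 := by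
        rw [Finset.card_erase_of_mem (Finset.mem_erase.2 ⟨h01.symm, Finset.mem_univ _⟩), hc1]
      rw [hT, Finset.card_union_of_disjoint, Finset.card_image_of_injective,
        Finset.card_image_of_injective, hc1, hc2]
      · omega
      · intro b c hbc; exact congrArg Prod.snd hbc
      · intro b c hbc; exact congrArg Prod.snd hbc
      · rw [Finset.disjoint_left]
        intro z hz hz'
        obtain ⟨b, -, rfl⟩ := Finset.mem_image.1 hz
        obtain ⟨c, -, hc⟩ := Finset.mem_image.1 hz'
        exact h01 (congrArg Prod.fst hc).symm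
    have hinjT : ∀ z ∈ T, ∀ z' ∈ T, pt z.1 - pt z.2 = pt z'.1 - pt z'.2 → z = z' := by
      intro z hz z' hz' he
      by_contra hne
      set c : ZMod N → k := fun i => (if i = z.1 then 1 else 0) - (if i = z.2 then 1 else 0)
        - ((if i = z'.1 then 1 else 0) - (if i = z'.2 then 1 else 0)) with hc
      have hc0 : ∑ i, c i • pt i = 0 := by
        simp only [hc, sub_smul, Finset.sum_sub_distrib, ite_smul, one_smul, zero_smul,
          Finset.sum_ite_eq', Finset.mem_univ, if_true]
        rw [he, sub_self]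
      have hex : ∃ e : ZMod N, c e = 0 := by
        have hlt : ({z.1, z.2, z'.1, z'.2} : Finset (ZMod N)).card < Fintype.card (ZMod N) := by
          refine lt_of_le_of_lt Finset.card_le_four ?_
          rw [hcardN]
          rcases Nat.lt_or_ge p 5 with h5 | h5
          · interval_cases p
            exact absurd hp.out (by norm_num)
          · omega
        obtain ⟨e, he'⟩ : ∃ e, e ∉ ({z.1, z.2, z'.1, z'.2} : Finset (ZMod N)) := by
          by_contra hcon
          push Not at hcon
          exact absurd (Finset.card_le_card (fun x (_ : x ∈ Finset.univ) => hcon x)) (not_le.2 hlt)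
        simp only [Finset.mem_insert, Finset.mem_singleton, not_or] at he'
        exact ⟨e, by simp [hc, he'.1, he'.2.1, he'.2.2.1, he'.2.2.2]⟩
      obtain ⟨e, hce⟩ := hex
      have hall : ∀ i, c i = 0 := fun i => (hrel c hc0 i e).trans hce
      simp only [hT, Finset.mem_union, Finset.mem_image, Finset.mem_erase] at hz hz'
      rcases hz with ⟨b, ⟨hb, -⟩, rfl⟩ | ⟨b, ⟨hb1, hb0, -⟩, rfl⟩ <;>
        rcases hz' with ⟨d, ⟨hd', -⟩, rfl⟩ | ⟨d, ⟨hd1, hd0, -⟩, rfl⟩
      · have hbd : b ≠ d := fun h => hne (by rw [h])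
        have := hall d
        simp [hc, hd', hbd.symm] at this
      · have := hall 0
        simp [hc, hb.symm, hd0.symm, h01] at this
      · have := hall 0
        simp [hc, hb0.symm, hd'.symm, h01] at this
      · have hbd : b ≠ d := fun h => hne (by rw [h])
        have := hall d
        simp [hc, hd1, hbd.symm] at this
    have hcard := Finset.card_le_card_of_injOn (s := T.attach) (t := (Finset.univ : Finset (Fin p)))
      (fun z => F ⟨z.1, hTne z.1 z.2⟩) (fun _ _ => Finset.mem_univ _) (fun z _ z' _ h => by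
        apply Subtype.ext
        refine hinjT z.1 z.2 z'.1 z'.2 ?_
        rw [hF ⟨z.1, hTne z.1 z.2⟩, hF ⟨z'.1, hTne z'.1 z'.2⟩, show F ⟨z.1, hTne z.1 z.2⟩ = _ from h])
    rw [Finset.card_attach, Finset.card_univ, Fintype.card_fin] at hcard
    omega
  · -- blocks, or a contradiction
    rcases CycReg.dichotomy (p := p) (m := m) rfl γ hgγ with ⟨K, hKn, hgK, hzK, -⟩ | hcos
    · refine hdone K hKn ?_ (IH K hKn fun h => hgK (h ▸ mem_top g))
      intro h
      rw [h, mem_bot, ← orderOf_dvd_iff_pow_eq_one, hgord, hNdef, pow_succ] at hzK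
      have := Nat.le_of_dvd (pow_pos hp.out.pos m) hzK
      have h2 : p ^ m * 1 < p ^ m * p := Nat.mul_lt_mul_of_pos_left hp.out.one_lt (pow_pos hp.out.pos m)
      omega
    exfalso
    have hfx : ∀ x e : ZMod N, p • x ≠ 0 → p • e = 0 → f (x + e) = f x := by
      intro x e hx he
      have := (hcos (Finset.univ.filter fun i => f i = f x) (fun a ha i => by
        simp only [Finset.mem_filter, Finset.mem_univ, true_and, hfinv a ha i]) x e hx he).2
        (Finset.mem_filter.2 ⟨Finset.mem_univ x, rfl⟩)
      exact (Finset.mem_filter.1 this).2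
    set E : Finset (ZMod N) := Finset.univ.filter fun i => p • i = 0 with hE
    set e1 : ZMod N := ((p ^ m : ℕ) : ZMod N) with he1
    have he1p : p • e1 = 0 := (CycReg.nsmul_eq_zero_iff (p := p) (m := m) rfl e1).2
      ⟨1, hp.out.one_lt, by rw [one_mul]⟩
    have hout : ∀ j, ¬ p ∣ j → ∑ i ∈ Eᶜ, algebraMap k L (f i) * χ i ^ j = 0 := by
      intro j hj
      have h1 : (∑ i ∈ Eᶜ, algebraMap k L (f i) * χ i ^ j)
          = χ e1 ^ j * ∑ i ∈ Eᶜ, algebraMap k L (f i) * χ i ^ j := by
        rw [Finset.mul_sum]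
        refine (Finset.sum_bij (fun i _ => i + e1) (fun i hi => ?_) (fun a _ b _ h => add_right_cancel h)
          (fun b hb => ⟨b - e1, ?_, sub_add_cancel b e1⟩) (fun i hi => ?_)).symm
        · rw [Finset.mem_compl, hE, Finset.mem_filter] at hi ⊢
          simpa [nsmul_add, he1p] using hi
        · rw [Finset.mem_compl, hE, Finset.mem_filter] at hb ⊢
          exact fun h => hb ⟨Finset.mem_univ _, by rw [← h.2, nsmul_sub, he1p, sub_zero]⟩
        · rw [Finset.mem_compl, hE, Finset.mem_filter] at hi
          rw [hfx i e1 (by simpa using hi) he1p, hχadd, mul_pow]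
          ring
      by_contra hne
      have h2 : χ e1 ^ j = 1 := mul_right_cancel₀ hne (by rw [← h1, one_mul])
      rw [he1, hχn, ← pow_mul, ← orderOf_dvd_iff_pow_eq_one,
        show orderOf u = p ^ m * p from hu.trans (pow_succ p m)] at h2
      exact hj ((Nat.mul_dvd_mul_iff_left (pow_pos hp.out.pos m)).1 h2)
    have hin : ∀ i ∈ E, ∀ t : ℕ, χ i ^ (1 + p * t) = χ i := by
      intro i hi t
      rw [hE, Finset.mem_filter] at hi
      have h1 : χ i ^ p = 1 := by
        have hχnsmul : ∀ n : ℕ, χ (n • i) = χ i ^ n := by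
          intro n
          induction n with
          | zero => simp [hχ]
          | succ n ih => rw [succ_nsmul, hχadd, ih, pow_succ]
        rw [← hχnsmul, hi.2]; simp [hχ]
      rw [pow_add, pow_one, pow_mul, h1, one_pow, mul_one]
    have hval : ∀ t : ℕ, Λ (1 + p * t) f = Λ 1 f := fun t => by
      rw [hΛ]
      simp only
      rw [← Finset.sum_add_sum_compl E (fun i => algebraMap k L (f i) * χ i ^ (1 + p * t)),
        ← Finset.sum_add_sum_compl E (fun i => algebraMap k L (f i) * χ i ^ 1),
        hout _ (fun hd => hp.out.not_dvd_one ((Nat.dvd_add_left (Dvd.intro t rfl)).1 hd)),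
        hout 1 hp.out.not_dvd_one]
      congr 1
      exact Finset.sum_congr rfl fun i hi => by rw [hin i hi, pow_one]
    have h2 := hroots ((Finset.range p).image fun t => 1 + p * t) (fun j hj => by
      obtain ⟨t, ht, rfl⟩ := Finset.mem_image.1 hj
      rw [Finset.mem_range] at ht
      refine ⟨?_, by rw [hval, hf1]; exact one_ne_zero⟩
      have h3 : p * t + p ≤ p * p := by rw [← Nat.mul_succ]; exact Nat.mul_le_mul_left p ht
      have h4 : p * p ≤ N := by
        rw [hNdef, ← pow_two]; exact Nat.pow_le_pow_right hp.out.pos (by omega)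
      have := hp.out.two_le
      omega)
    rw [Finset.card_image_of_injective _ (fun a b h => Nat.eq_of_mul_eq_mul_left hp.out.pos
      (Nat.add_left_cancel h)), Finset.card_range] at h2
    have := hp.out.pos
    omega

end Cfsg.Agent.FGB.PPow
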