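import Mathlib
import Cfsg.Agent.Lib.FGB.PPowerLin

/-!
Semilinear `p`-groups over a finite field: an invariant line, and an invariant decomposition
along a Kummer extension.
-/

set_option autoImplicit false
set_option linter.all false

namespace Cfsg.Agent.FGB.PPow

open Subgroup Polynomial
open scoped IntermediateField

universe u v w

/-- A semilinear map of finite order (up to a fixed scalar) has an eigenvector. -/
theorem exists_semilinear_eigen {L : Type*} [Field L] [Finite L] {V : Type*} [AddCommGroup V]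
    [Module L V] [Nontrivial V] (g : V →+ V) {s r : ℕ} (hr : r ≠ 0) (hs : 2 ≤ s)
    (hcard : Nat.card L = s ^ r) (hg : ∀ (c : L) x, g (c • x) = c ^ s • g x)
    (u0 : L) (hu : u0 ≠ 0) (hu0 : u0 ^ (s - 1) = 1) (hgr : ∀ x, g^[r] x = u0 • x) :
    ∃ v : V, v ≠ 0 ∧ ∃ c : L, g v = c • v := by
  classical
  haveI := Fintype.ofFinite L
  set M := ∑ i ∈ Finset.range r, s ^ i with hM
  have hgeom : (s - 1) * M = s ^ r - 1 := by
    rw [hM, mul_comm]; exact geom_sum_mul_of_one_le (by omega) r
  obtain ⟨z, hz⟩ := IsCyclic.exists_generator (α := Lˣ)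
  have hzord : orderOf z = (s - 1) * M := by
    rw [orderOf_eq_card_of_forall_mem_zpowers hz, Nat.card_units, hcard, hgeom]
  obtain ⟨t, ht⟩ : ∃ t : ℕ, z ^ t = Units.mk0 u0 hu :=
    (IsOfFinOrder.mem_powers_iff_mem_zpowers (isOfFinOrder_of_finite z)).mpr (hz _)
  have hdvd : (s - 1) * M ∣ t * (s - 1) := by
    rw [← hzord]
    refine orderOf_dvd_of_pow_eq_one ?_
    rw [pow_mul, ht]
    exact Units.ext (by simpa using hu0)
  rw [mul_comm t] at hdvd
  obtain ⟨d, hd⟩ := Nat.dvd_of_mul_dvd_mul_left (by omega : 0 < s - 1) hdvd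
  set c : L := ((z ^ d : Lˣ) : L) with hc
  have hc0 : c ≠ 0 := Units.ne_zero _
  have hcM : c ^ M = u0 := by
    rw [hc, ← Units.val_pow_eq_pow_val, ← pow_mul, mul_comm, ← hd, ht]; rfl
  set g' : V → V := fun x => c⁻¹ • g x with hg'
  have hit : ∀ i x, g'^[i] x = (c⁻¹) ^ (∑ j ∈ Finset.range i, s ^ j) • g^[i] x := by
    intro i
    induction i with
    | zero => intro x; simp
    | succ i ih =>
      intro x
      rw [Function.iterate_succ_apply', Function.iterate_succ_apply', ih, hg']
      simp only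
      rw [hg, smul_smul, ← pow_mul, ← pow_succ', geom_sum_succ]
      congr 2
      rw [mul_comm]
  have hg'r : ∀ x, g'^[r] x = x := fun x => by
    rw [hit, hgr, smul_smul, ← hM, inv_pow, hcM, inv_mul_cancel₀ hu, one_smul]
  have hglin : ∀ i (l : L) x, g^[i] (l • x) = l ^ (s ^ i) • g^[i] x := by
    intro i
    induction i with
    | zero => intro l x; simp
    | succ i ih =>
      intro l x
      rw [Function.iterate_succ_apply', Function.iterate_succ_apply', ih, hg, ← pow_mul, pow_succ]
  obtain ⟨x, hx⟩ := exists_ne (0 : V)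
  obtain ⟨φ, hφ⟩ : ∃ φ : V →ₗ[L] L, φ x ≠ 0 := by
    by_contra hcon
    push_neg at hcon
    exact hx ((Module.forall_dual_apply_eq_zero_iff L x).1 hcon)
  obtain ⟨l, hl⟩ : ∃ l : L, (∑ i ∈ Finset.range r, g'^[i] (l • x)) ≠ 0 := by
    by_contra hcon
    push_neg at hcon
    set a : ℕ → L := fun i => φ ((c⁻¹) ^ (∑ j ∈ Finset.range i, s ^ j) • g^[i] x) with ha
    set f : L[X] := ∑ i ∈ Finset.range r, C (a i) * X ^ (s ^ i) with hf
    have hzero : ∀ l : L, f.eval l = 0 := fun l => by
      have := congrArg φ (hcon l)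
      rw [map_sum, map_zero] at this
      rw [hf, eval_finsetSum, ← this]
      refine Finset.sum_congr rfl fun i _ => ?_
      rw [eval_mul, eval_C, eval_pow, eval_X, hit, hglin, smul_comm, map_smul,
        smul_eq_mul, ha]
      ring
    have hdeg : f.natDegree < Fintype.card L := by
      rw [← Nat.card_eq_fintype_card, hcard]
      refine lt_of_le_of_lt (natDegree_sum_le_of_forall_le _ _ fun i hi => ?_)
        (Nat.pow_lt_pow_right (by omega : 1 < s) (by omega : r - 1 < r))
      refine (natDegree_C_mul_X_pow_le _ _).trans ?_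
      exact Nat.pow_le_pow_right (by omega) (by have := Finset.mem_range.1 hi; omega)
    have hf0 : f = 0 :=
      eq_zero_of_natDegree_lt_card_of_eval_eq_zero f Function.injective_id hzero hdeg
    have h1 : f.coeff 1 = a 0 := by
      rw [hf, finsetSum_coeff, Finset.sum_eq_single 0]
      · simp
      · intro i _ hi
        rw [coeff_C_mul_X_pow, if_neg]
        exact (Nat.one_lt_pow hi (by omega)).ne
      · intro h; exact absurd (Finset.mem_range.2 (Nat.pos_of_ne_zero hr)) h
    rw [hf0, coeff_zero] at h1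
    refine hφ ?_
    rw [h1, ha]
    simp
  refine ⟨_, hl, c, ?_⟩
  have hshift : g' (∑ i ∈ Finset.range r, g'^[i] (l • x)) = ∑ i ∈ Finset.range r, g'^[i] (l • x) := by
    rw [show g' (∑ i ∈ Finset.range r, g'^[i] (l • x))
        = ∑ i ∈ Finset.range r, g'^[i + 1] (l • x) by
      show c⁻¹ • g _ = _
      rw [map_sum, Finset.smul_sum]
      exact Finset.sum_congr rfl fun i _ => (Function.iterate_succ_apply' g' i _).symm]
    obtain ⟨r', rfl⟩ := Nat.exists_eq_succ_of_ne_zero hr
    rw [Finset.sum_range_succ, Finset.sum_range_succ' (fun i => g'^[i] (l • x)) r', hg'r,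
      Function.iterate_zero_apply]
  conv_rhs => rw [← hshift]
  show g _ = c • (c⁻¹ • g _)
  rw [smul_inv_smul₀ hc0]

variable {k : Type w} [Field k] [Finite k] {A : Type u} [Group A] [Finite A] {V : Type v}
  [AddCommGroup V] [Module k V] [Finite V]

theorem not_sq_dvd_geom_sum {p Q : ℕ} (hp : p.Prime)
    (h : (p ≠ 2 ∧ p ∣ Q - 1) ∨ (p = 2 ∧ 4 ∣ Q - 1)) (hQ : 1 ≤ Q) :
    ¬ p ^ 2 ∣ ∑ i ∈ Finset.range p, Q ^ i := by
  rcases h with ⟨hp2, t, ht⟩ | ⟨rfl, t, ht⟩
  · have hQe : Q = p * t + 1 := by omega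
    have key : ∀ i, ∃ a, Q ^ i = p ^ 2 * a + i * (p * t) + 1 := by
      intro i
      induction i with
      | zero => exact ⟨0, by simp⟩
      | succ i ih =>
        obtain ⟨a, ha⟩ := ih
        refine ⟨a * (p * t) + a + i * t ^ 2, ?_⟩
        rw [pow_succ, ha, hQe]; ring
    choose a ha using key
    obtain ⟨c, hc⟩ := hp.odd_of_ne_two hp2
    have hsum : ∑ i ∈ Finset.range p, i = p * c := by
      rw [Finset.sum_range_id, show p - 1 = 2 * c by omega,
        show p * (2 * c) = p * c * 2 by ring, Nat.mul_div_cancel _ two_pos]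
    rw [Finset.sum_congr rfl fun i _ => ha i, Finset.sum_add_distrib, Finset.sum_add_distrib,
      ← Finset.mul_sum, ← Finset.sum_mul, hsum, Finset.sum_const, Finset.card_range,
      smul_eq_mul, mul_one]
    intro hd
    have h1 : p ^ 2 ∣ p ^ 2 * ∑ i ∈ Finset.range p, a i := Dvd.intro _ rfl
    rw [add_assoc, Nat.dvd_add_right h1] at hd
    have h2 : p ^ 2 ∣ p * c * (p * t) := Dvd.intro (c * t) (by ring)
    rw [Nat.dvd_add_right h2] at hd
    have := Nat.le_of_dvd hp.pos hd
    have h3 : p * 1 < p * p := Nat.mul_lt_mul_of_pos_left hp.one_lt hp.pos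
    rw [pow_two] at this
    omega
  · have hQe : Q = 4 * t + 1 := by omega
    simp [Finset.sum_range_succ]
    omega

/-- **Kummer step**: a decomposition permuted by a semilinear `p`-group. -/
theorem hasDecomp_kummer {p : ℕ} [hp : Fact p.Prime] (ρ : A →* Module.End k V) {S : Subgroup A}
    (hS : IsPGroup p S) {L : Type v} [Field L] [Finite L] [Algebra k L] [Module L V]
    [IsScalarTower k L V] (x0 : V) (hx0 : Function.Bijective fun c : L => c • x0)
    (hsemi : ∀ π ∈ S, ∃ s : ℕ, (∀ c : L, c ^ s = 0 → c = 0) ∧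
      ∀ (c : L) x, ρ π (c • x) = c ^ s • ρ π x)
    (u : L) (htop : Algebra.adjoin k ({u} : Set L) = ⊤)
    (hu : u ∉ k⟮u ^ p⟯)
    (hQ : (p ≠ 2 ∧ p ∣ Nat.card k⟮u ^ p⟯ - 1) ∨ (p = 2 ∧ 4 ∣ Nat.card k⟮u ^ p⟯ - 1)) :
    HasDecomp ρ S := by
  classical
  haveI := Fintype.ofFinite L
  set F := k⟮u ^ p⟯ with hF
  haveI := Fintype.ofFinite F
  set Q := Nat.card F with hQdef
  have hu0 : u ≠ 0 := fun h => hu (by rw [h]; exact zero_mem F)
  have hQ1 : 1 < Q := Finite.one_lt_card
  have hfix : ∀ x : L, x ∈ F ↔ x ^ Q = x := by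
    intro x
    constructor
    · intro hx
      have := congrArg Subtype.val (FiniteField.pow_card (⟨x, hx⟩ : F))
      rwa [← Nat.card_eq_fintype_card] at this
    · intro hx
      have hne : (X ^ Q - X : L[X]) ≠ 0 := FiniteField.X_pow_card_sub_X_ne_zero L hQ1
      have hsub : (Finset.univ.image (Subtype.val : F → L)) ⊆ (X ^ Q - X : L[X]).roots.toFinset := by
        intro y hy
        obtain ⟨y, -, rfl⟩ := Finset.mem_image.1 hy
        rw [Multiset.mem_toFinset, mem_roots hne, IsRoot.def, eval_sub, eval_pow, eval_X,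
          sub_eq_zero]
        have := congrArg Subtype.val (FiniteField.pow_card y)
        rwa [← Nat.card_eq_fintype_card] at this
      have heq := Finset.eq_of_subset_of_card_le hsub (by
        refine (Multiset.toFinset_card_le _).trans ((card_roots' _).trans ?_)
        rw [FiniteField.X_pow_card_sub_X_natDegree_eq L hQ1,
          Finset.card_image_of_injective _ Subtype.val_injective, Finset.card_univ, hQdef,
          Nat.card_eq_fintype_card])
      have hxr : x ∈ (X ^ Q - X : L[X]).roots.toFinset := by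
        rw [Multiset.mem_toFinset, mem_roots hne, IsRoot.def, eval_sub, eval_pow, eval_X,
          sub_eq_zero, hx]
      rw [← heq] at hxr
      obtain ⟨y, -, rfl⟩ := Finset.mem_image.1 hxr
      exact y.2
  have hup : u ^ p ∈ F := IntermediateField.mem_adjoin_simple_self k _
  have hpQ : p ∣ Q - 1 := by
    rcases hQ with ⟨-, h⟩ | ⟨rfl, h⟩
    · exact h
    · exact (show 2 ∣ 4 by norm_num).trans h
  set om := u ^ (Q - 1) with hom
  have hom_p : om ^ p = 1 := by
    rw [hom, ← pow_mul, mul_comm, pow_mul]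
    have h1 := (hfix _).1 hup
    have h2 : (u ^ p) ^ (Q - 1) * u ^ p = 1 * u ^ p := by
      rw [← pow_succ, show Q - 1 + 1 = Q by omega, h1, one_mul]
    exact mul_right_cancel₀ (pow_ne_zero p hu0) h2
  have hom1 : om ≠ 1 := fun h => hu ((hfix u).2 (by
    rw [← Nat.succ_pred_eq_of_pos (show 0 < Q by omega), pow_succ, show Q.pred = Q - 1 from rfl,
      ← hom, h, one_mul]))
  have homord : orderOf om = p := orderOf_eq_prime hom_p hom1
  have homF : om ^ Q = om := by
    obtain ⟨e, he⟩ := hpQ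
    rw [show Q = p * e + 1 by omega, pow_succ, pow_mul, hom_p, one_pow, one_mul]
  -- the Frobenius of F
  obtain ⟨q0, hq0⟩ := CharP.exists L
  haveI := Fact.mk (CharP.char_is_prime L q0)
  haveI : CharP F q0 := (F.val : F →+* L).charP F.val.injective q0
  obtain ⟨mm, -, hmm⟩ := FiniteField.card F q0
  have hQq : Q = q0 ^ (mm : ℕ) := by rw [hQdef, Nat.card_eq_fintype_card, hmm]
  have hFrob : ∀ (a b : L), (a + b) ^ Q = a ^ Q + b ^ Q := fun a b => by
    rw [hQq]; exact add_pow_char_pow a b q0 (mm : ℕ)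
  have hsumQ : ∀ (f : Fin p → L), (∑ i, f i) ^ Q = ∑ i, f i ^ Q := fun f => by
    rw [hQq]; exact sum_pow_char_pow _ _ _ _
  -- coordinates
  let Φ : (Fin p → F) →ₗ[k] L :=
    { toFun := fun a => ∑ i, (a i : L) * u ^ (i : ℕ)
      map_add' := fun a b => by simp [add_mul, Finset.sum_add_distrib]
      map_smul' := fun c a => by simp [Finset.smul_sum] }
  have hΦ : ∀ a, Φ a = ∑ i, (a i : L) * u ^ (i : ℕ) := fun a => rfl
  have hinj : Function.Injective Φ := by
    rw [injective_iff_map_eq_zero]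
    intro a ha
    rw [hΦ] at ha
    have hroot : ∀ j : ℕ, ∑ i, (a i : L) * (u * om ^ j) ^ (i : ℕ) = 0 := by
      intro j
      induction j with
      | zero => simpa using ha
      | succ j ih =>
        have := congrArg (fun x : L => x ^ Q) ih
        simp only [zero_pow (show Q ≠ 0 by omega), hsumQ] at this
        rw [← this]
        refine Finset.sum_congr rfl fun i _ => ?_
        rw [mul_pow (a i : L) _ Q, (hfix _).1 (a i).2, ← pow_mul (u * om ^ j) (i : ℕ) Q,
          mul_comm (i : ℕ) Q, pow_mul (u * om ^ j) Q, mul_pow u _ Q, ← pow_mul om j Q,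
          mul_comm j Q, pow_mul om Q, homF,
          show u ^ Q = u * om by rw [hom, ← pow_succ', Nat.sub_add_cancel (by omega : 1 ≤ Q)],
          pow_succ' om j, mul_assoc u om]
    set f : L[X] := ∑ i : Fin p, C (a i : L) * X ^ (i : ℕ) with hf
    have hinj' : Function.Injective (fun j : Fin p => u * om ^ (j : ℕ)) := fun i j h => by
      have h1 := mul_left_cancel₀ hu0 h
      exact Fin.ext (pow_injOn_Iio_orderOf (by rw [Set.mem_Iio, homord]; exact i.2)
        (by rw [Set.mem_Iio, homord]; exact j.2) h1)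
    have hf0 : f = 0 := by
      refine eq_zero_of_natDegree_lt_card_of_eval_eq_zero f hinj' (fun j => ?_) ?_
      · rw [hf, eval_finsetSum]
        simp only [eval_mul, eval_C, eval_pow, eval_X]
        exact hroot j
      · rw [Fintype.card_fin]
        refine lt_of_le_of_lt (natDegree_sum_le_of_forall_le _ _ fun i _ => ?_)
          (show p - 1 < p by have := hp.out.pos; omega)
        exact (natDegree_C_mul_X_pow_le _ _).trans (by have := i.2; omega)
    funext i
    apply Subtype.ext
    have h1 : f.coeff i = (a i : L) := by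
      rw [hf, finsetSum_coeff, Finset.sum_eq_single i]
      · simp
      · intro j _ hj
        rw [coeff_C_mul_X_pow, if_neg fun h => hj (Fin.ext h.symm)]
      · intro h; exact absurd (Finset.mem_univ i) h
    rw [hf0, coeff_zero] at h1
    exact h1.symm
  have hpow : ∀ (a : F) (n : ℕ), Φ (Pi.single ⟨n % p, Nat.mod_lt _ hp.out.pos⟩
      (a * ⟨u ^ p, hup⟩ ^ (n / p))) = (a : L) * u ^ n := by
    intro a n
    rw [hΦ, Finset.sum_eq_single ⟨n % p, Nat.mod_lt _ hp.out.pos⟩]
    · rw [Pi.single_eq_same, MulMemClass.coe_mul, SubmonoidClass.coe_pow]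
      show (a : L) * (u ^ p) ^ (n / p) * u ^ (n % p) = _
      rw [← pow_mul, mul_assoc, ← pow_add, Nat.div_add_mod]
    · intro j _ hj; rw [Pi.single_eq_of_ne hj, ZeroMemClass.coe_zero, zero_mul]
    · intro h; exact absurd (Finset.mem_univ _) h
  have hsurj : Function.Surjective Φ := by
    rw [← LinearMap.range_eq_top, eq_top_iff]
    intro x _
    have hx : x ∈ Subalgebra.toSubmodule (Algebra.adjoin k ({u} : Set L)) := by
      rw [htop]; exact Algebra.mem_top (R := k)
    rw [Algebra.adjoin_eq_span] at hx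
    refine Submodule.span_le.2 ?_ hx
    intro y hy
    obtain ⟨n, rfl⟩ := Submonoid.mem_closure_singleton.1 hy
    exact ⟨_, (hpow 1 n).trans (by rw [OneMemClass.coe_one, one_mul])⟩
  let ΦE : (Fin p → F) ≃ₗ[k] L := LinearEquiv.ofBijective Φ ⟨hinj, hsurj⟩
  have hcardL : Nat.card L = Q ^ p := by
    rw [← Nat.card_congr ΦE.toEquiv, Nat.card_fun, Nat.card_fin]
  -- the group N
  set uu : Lˣ := Units.mk0 u hu0 with huu
  set Kf : Subgroup Lˣ := (Units.map (F.val : F →* L)).range with hKf
  have hKfmem : ∀ c : Lˣ, c ∈ Kf ↔ (c : L) ∈ F := by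
    intro c
    constructor
    · rintro ⟨d, rfl⟩; exact (d : F).2
    · intro h
      exact ⟨Units.mk0 ⟨c, h⟩ (fun h0 => c.ne_zero (congrArg Subtype.val h0)), Units.ext rfl⟩
  set N := Kf ⊔ Subgroup.zpowers uu with hN
  have hNmem : ∀ c : Lˣ, c ∈ N ↔ ∃ a ∈ Kf, ∃ i : Fin p, c = a * uu ^ (i : ℕ) := by
    intro c
    constructor
    · intro hc
      obtain ⟨a, ha, b, hb, rfl⟩ := Subgroup.mem_sup.1 hc
      obtain ⟨n, rfl⟩ :=
        (IsOfFinOrder.mem_powers_iff_mem_zpowers (isOfFinOrder_of_finite uu)).mpr hb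
      refine ⟨a * (uu ^ p) ^ (n / p), mul_mem ha (pow_mem ((hKfmem _).2 ?_) _),
        ⟨n % p, Nat.mod_lt _ hp.out.pos⟩, ?_⟩
      · rw [Units.val_pow_eq_pow_val]; exact hup
      · show a * uu ^ n = _
        rw [mul_assoc, ← pow_mul, ← pow_add, Nat.div_add_mod]
    · rintro ⟨a, ha, i, rfl⟩
      exact mul_mem (mem_sup_left ha) (mem_sup_right (pow_mem (mem_zpowers uu) _))
  have hNcard : Nat.card N = (Q - 1) * p := by
    have hKc : Nat.card Kf = Q - 1 := by
      rw [hKf, ← Nat.card_congr (MonoidHom.ofInjective (Units.map_injective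
        (f := (F.val : F →* L)) F.val.injective)).toEquiv, Nat.card_units]
    rw [← hKc]
    conv_rhs => rw [← Nat.card_fin p, ← Nat.card_prod]
    refine (Nat.card_eq_of_bijective (fun z : Kf × Fin p => (⟨z.1.1 * uu ^ (z.2 : ℕ),
      (hNmem _).2 ⟨z.1, z.1.2, z.2, rfl⟩⟩ : N)) ⟨?_, ?_⟩).symm
    · rintro ⟨a, i⟩ ⟨b, j⟩ h
      have h1 : (a : Lˣ) * uu ^ (i : ℕ) = (b : Lˣ) * uu ^ (j : ℕ) := congrArg Subtype.val h
      have key : ∀ {a b : Lˣ} {i j : ℕ}, a ∈ Kf → b ∈ Kf → j < p → i ≤ j →
          a * uu ^ i = b * uu ^ j → i = j := by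
        intro a b i j ha hb hj hij h
        by_contra hne
        have h2 : uu ^ (j - i) = b⁻¹ * a := by
          rw [eq_inv_mul_iff_mul_eq]
          apply mul_right_cancel (b := uu ^ i)
          rw [mul_assoc, ← pow_add, Nat.sub_add_cancel hij, h]
        have h3 : uu ^ (j - i) ∈ Kf := h2 ▸ mul_mem (inv_mem hb) ha
        have h4 : uu ^ p ∈ Kf := (hKfmem _).2 (by rw [Units.val_pow_eq_pow_val]; exact hup)
        have hco : Nat.Coprime (j - i) p := ((Nat.Prime.coprime_iff_not_dvd hp.out).2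
          fun hd => absurd (Nat.le_of_dvd (by omega) hd) (by omega)).symm
        have h5 : uu ∈ Kf := by
          have := Nat.gcd_eq_gcd_ab (j - i) p
          rw [hco.gcd_eq_one] at this
          rw [← zpow_one uu, show (1 : ℤ) = ((1 : ℕ) : ℤ) by rfl, this, zpow_add, zpow_mul,
            zpow_mul, zpow_natCast, zpow_natCast]
          exact mul_mem (zpow_mem h3 _) (zpow_mem h4 _)
        exact hu ((hKfmem _).1 h5)
      have hij : i = j := by
        rcases le_total (i : ℕ) j with h2 | h2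
        · exact Fin.ext (key a.2 b.2 j.2 h2 h1)
        · exact (Fin.ext (key b.2 a.2 i.2 h2 h1.symm)).symm
      subst hij
      exact Prod.ext (Subtype.ext (mul_right_cancel h1)) rfl
    · rintro ⟨c, hc⟩
      obtain ⟨a, ha, i, rfl⟩ := (hNmem c).1 hc
      exact ⟨(⟨a, ha⟩, i), rfl⟩
  have hY : ¬ p ∣ Nat.card (Lˣ ⧸ N) := by
    intro hd
    have h1 : Nat.card (Lˣ ⧸ N) * ((Q - 1) * p) = (Q - 1) * ∑ i ∈ Finset.range p, Q ^ i := by
      rw [← hNcard, ← N.card_eq_card_quotient_mul_card_subgroup, Nat.card_units, hcardL,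
        mul_comm (Q - 1)]
      exact (geom_sum_mul_of_one_le hQ1.le p).symm
    have h2 : Nat.card (Lˣ ⧸ N) * p = ∑ i ∈ Finset.range p, Q ^ i := by
      refine Nat.eq_of_mul_eq_mul_left (show 0 < Q - 1 by omega) ?_
      rw [← h1]; ring
    refine not_sq_dvd_geom_sum hp.out hQ hQ1.le ?_
    rw [← h2, pow_two]
    exact Nat.mul_dvd_mul_right hd p
  -- the action
  have hx00 : x0 ≠ 0 := fun h => one_ne_zero (α := L)
    (hx0.1 (show (1 : L) • x0 = (0 : L) • x0 by rw [h, smul_zero, smul_zero]))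
  have hth : ∀ (π : S) (c : Lˣ), ∃ d : Lˣ, ρ (π : A) ((c : L) • x0) = (d : L) • x0 := by
    intro π c
    obtain ⟨d, hd⟩ := hx0.2 (ρ (π : A) ((c : L) • x0))
    have hd0 : d ≠ 0 := fun h => by
      simp only [h, zero_smul] at hd
      have h1 : (c : L) • x0 = 0 := apply_injective ρ (π : A) (by rw [← hd, map_zero])
      exact hx00 ((smul_eq_zero.1 h1).resolve_left c.ne_zero)
    exact ⟨Units.mk0 d hd0, hd.symm⟩
  choose th hth using hth
  have hthu : ∀ (π : S) (c d : Lˣ), ρ (π : A) ((c : L) • x0) = (d : L) • x0 → th π c = d := fun π c d h =>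
    Units.ext (hx0.1 ((hth π c).symm.trans h))
  letI : MulAction S (Lˣ ⧸ N) :=
    { smul := fun π => Quotient.map' (th π) (fun a b hab => by
        rw [QuotientGroup.leftRel_apply] at hab ⊢
        obtain ⟨s, hs0, hs⟩ := hsemi π π.2
        have : th π b = th π a * (a⁻¹ * b) ^ s := hthu π b _ (by
          have hb : ((b : L)) • x0 = ((a⁻¹ * b : Lˣ) : L) • ((a : L) • x0) := by
            rw [smul_smul, ← Units.val_mul]
            congr 2
            rw [mul_comm, mul_inv_cancel_left]
          rw [hb, hs, hth, smul_smul, Units.val_mul (th π a), Units.val_pow_eq_pow_val]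
          ring_nf)
        rw [this, inv_mul_cancel_left]
        exact pow_mem hab s)
      one_smul := fun y => by
        induction y using QuotientGroup.induction_on with
        | _ c =>
        show QuotientGroup.mk (th 1 c) = _
        rw [hthu 1 c c (show ρ (1 : A) ((c : L) • x0) = (c : L) • x0 by
          rw [map_one, Module.End.one_apply])]
      mul_smul := fun π π' y => by
        induction y using QuotientGroup.induction_on with
        | _ c =>
        show QuotientGroup.mk (th (π * π') c) = QuotientGroup.mk (th π (th π' c))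
        rw [hthu (π * π') c (th π (th π' c)) (show ρ ((π : A) * (π' : A)) ((c : L) • x0) = _ by
          rw [map_mul, Module.End.mul_apply, hth, hth])] }
  obtain ⟨y, hy⟩ := hS.nonempty_fixed_point_of_prime_not_dvd_card (Lˣ ⧸ N) hY
  induction y using QuotientGroup.induction_on with
  | _ c =>
  set x := (c : L) • x0 with hx
  have hxb : Function.Bijective fun d : L => d • x := by
    have : (fun d : L => d • x) = (fun d : L => d • x0) ∘ (fun d => d * (c : L)) := by
      funext d; simp [hx, smul_smul]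
    rw [this]
    exact hx0.comp ⟨fun a b h => mul_right_cancel₀ c.ne_zero h, fun d =>
      ⟨d * (c : L)⁻¹, by simp⟩⟩
  let mv : L →ₗ[k] V :=
    { toFun := fun d => d • x
      map_add' := fun a b => add_smul a b x
      map_smul' := fun a b => smul_assoc a b x }
  refine hasDecomp_of_equiv ρ S (ΦE.trans (LinearEquiv.ofBijective mv hxb))
    (by rw [Fintype.card_fin]; exact hp.out.two_le) ?_
  intro π hπ i
  have hfx : (QuotientGroup.mk (th ⟨π, hπ⟩ c) : Lˣ ⧸ N) = QuotientGroup.mk c := hy ⟨π, hπ⟩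
  obtain ⟨a, ha, l, hal⟩ := (hNmem _).1 (QuotientGroup.eq.1 hfx.symm)
  have hπx : ρ π x = ((a : L) * u ^ (l : ℕ)) • x := by
    rw [hx, hth ⟨π, hπ⟩ c, smul_smul]
    congr 1
    have h1 : th ⟨π, hπ⟩ c = c * (a * uu ^ (l : ℕ)) := by rw [← hal, mul_inv_cancel_left]
    rw [h1, Units.val_mul, Units.val_mul, Units.val_pow_eq_pow_val, mul_comm]
    rfl
  obtain ⟨s, -, hs⟩ := hsemi π hπ
  refine ⟨⟨((i : ℕ) * s + l) % p, Nat.mod_lt _ hp.out.pos⟩, fun w =>
    ⟨w ^ s * ⟨(a : L), (hKfmem a).1 ha⟩ * ⟨u ^ p, hup⟩ ^ (((i : ℕ) * s + l) / p), ?_⟩⟩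
  show ρ π (Φ (Pi.single i w) • x) = Φ (Pi.single _ _) • x
  rw [hpow, hs, hπx, smul_smul]
  congr 1
  have h1 : Φ (Pi.single i w) = (w : L) * u ^ (i : ℕ) := by
    rw [hΦ, Finset.sum_eq_single i]
    · rw [Pi.single_eq_same]
    · intro j _ hj; rw [Pi.single_eq_of_ne hj, ZeroMemClass.coe_zero, zero_mul]
    · intro h; exact absurd (Finset.mem_univ _) h
  rw [h1, MulMemClass.coe_mul, SubmonoidClass.coe_pow, mul_pow, ← pow_mul, pow_add]
  ring

end Cfsg.Agent.FGB.PPow
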