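import Mathlib
import Cfsg.Agent.Lib.Tech.DStar
import Cfsg.Agent.Lib.FGB.PPowerField
import Cfsg.Agent.Lib.FGB.PPowerCyclic

/-!
A group acting faithfully and coprimely on a finite vector space with all orbits of `p`-power size
is solvable.
-/

set_option autoImplicit false
set_option linter.all false

namespace Cfsg.Agent.FGB.PPow

open Subgroup Polynomial
open scoped IsMulCommutative IntermediateField commutatorElement

universe u v w

variable {k : Type w} [Field k] {A : Type u} [Group A] {V : Type v} [AddCommGroup V] [Module k V]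

/-- Without decompositions a `p`-group is irreducible. -/
theorem eq_top_of_invariant [Finite A] (ρ : A →* Module.End k V) (S : Subgroup A)
    (hS : (Nat.card S : k) ≠ 0) (hD : ¬ HasDecomp ρ S) (W : Submodule k V) (hW : W ≠ ⊥)
    (hinv : ∀ π ∈ S, ∀ x ∈ W, ρ π x ∈ W) : W = ⊤ := by
  classical
  haveI := Fintype.ofFinite S
  by_contra hne
  obtain ⟨g, hg⟩ := W.subtype.exists_leftInverse_of_injective W.ker_subtype
  set π0 : Module.End k V := W.subtype ∘ₗ g with hπ0
  set e : Module.End k V := (Fintype.card S : k)⁻¹ •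
    ∑ π : S, ρ (π : A) * π0 * ρ (π : A)⁻¹ with he
  have heW : ∀ x, e x ∈ W := fun x => by
    rw [he, LinearMap.smul_apply, LinearMap.sum_apply]
    refine W.smul_mem _ (W.sum_mem fun π _ => hinv _ π.2 _ ?_)
    exact Submodule.coe_mem _
  have hefix : ∀ x ∈ W, e x = x := by
    intro x hx
    rw [he, LinearMap.smul_apply, LinearMap.sum_apply]
    have h1 : ∀ π : S, (ρ (π : A) * π0 * ρ (π : A)⁻¹) x = x := by
      intro π
      have h2 : ρ (π : A)⁻¹ x ∈ W := hinv _ (inv_mem π.2) x hx
      have h3 : π0 (ρ (π : A)⁻¹ x) = ρ (π : A)⁻¹ x :=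
        congrArg Subtype.val (LinearMap.congr_fun hg ⟨_, h2⟩)
      rw [Module.End.mul_apply, Module.End.mul_apply, h3, ← Module.End.mul_apply, ← map_mul,
        mul_inv_cancel, map_one, Module.End.one_apply]
    rw [Finset.sum_congr rfl fun π _ => h1 π, Finset.sum_const, Finset.card_univ,
      ← Nat.cast_smul_eq_nsmul k, smul_smul, inv_mul_cancel₀ (by
        rw [← Nat.card_eq_fintype_card]; exact hS), one_smul]
  have hecomm : ∀ σ : S, ∀ x, e (ρ (σ : A) x) = ρ (σ : A) (e x) := by
    intro σ x
    rw [he, LinearMap.smul_apply, LinearMap.sum_apply, LinearMap.smul_apply, LinearMap.sum_apply,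
      map_smul, map_sum]
    congr 1
    rw [← Equiv.sum_comp (Equiv.mulLeft σ)]
    refine Finset.sum_congr rfl fun π _ => ?_
    simp only [Equiv.coe_mulLeft, Subgroup.coe_mul, mul_inv_rev, map_mul, Module.End.mul_apply]
    rw [← Module.End.mul_apply (ρ (σ : A)⁻¹), ← map_mul ρ, inv_mul_cancel, map_one,
      Module.End.one_apply]
  have hidem : e * e = e := LinearMap.ext fun x => hefix _ (heW x)
  obtain ⟨w, hw, hw0⟩ := (Submodule.ne_bot_iff W).1 hW
  have he0 : e ≠ 0 := fun h => hw0 (by rw [← hefix w hw, h]; rfl)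
  have he1 : (1 : Module.End k V) - e ≠ 0 := fun h => hne (eq_top_iff.2 fun x _ => by
    have := LinearMap.congr_fun (sub_eq_zero.1 h) x
    rw [Module.End.one_apply] at this
    rw [this]; exact heW x)
  have hne' : e ≠ 1 - e := fun h => hw0 (by
    have := LinearMap.congr_fun h w
    rw [LinearMap.sub_apply, Module.End.one_apply, hefix w hw, sub_self] at this
    exact this)
  refine hD ⟨{e, 1 - e}, le_of_eq (Finset.card_pair hne').symm, ?_, ?_, ?_, ?_, ?_⟩
  · simp only [Finset.mem_insert, Finset.mem_singleton]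
    rintro f (rfl | rfl)
    · exact he0
    · exact he1
  · simp only [Finset.mem_insert, Finset.mem_singleton]
    rintro f (rfl | rfl)
    · exact hidem
    · rw [mul_sub, sub_mul, sub_mul, one_mul, mul_one, hidem]; abel
  · simp only [Finset.mem_insert, Finset.mem_singleton]
    rintro f (rfl | rfl) f' (rfl | rfl) hff
    · exact absurd rfl hff
    · rw [mul_sub, mul_one, hidem, sub_self]
    · rw [sub_mul, one_mul, hidem, sub_self]
    · exact absurd rfl hff
  · rw [Finset.sum_pair hne', add_sub_cancel]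
  · intro π hπ f hf
    refine ⟨f, hf, fun x hx => ?_⟩
    simp only [Finset.mem_insert, Finset.mem_singleton] at hf
    rcases hf with rfl | rfl
    · rw [hecomm ⟨π, hπ⟩ x, hx]
    · rw [LinearMap.sub_apply, Module.End.one_apply] at hx ⊢
      rw [hecomm ⟨π, hπ⟩ x, ← map_sub, hx]

theorem cast_ne_zero_coprime {q d n : ℕ} [Fact q.Prime] [CharP k q] (hn : (n : k) ≠ 0) :
    Nat.Coprime (q ^ d) n :=
  Nat.Coprime.pow_left _ (((Fact.out : q.Prime).coprime_iff_not_dvd).2 fun h =>
    hn ((CharP.cast_eq_zero_iff k q n).2 h))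

/-- The primitive case. -/
theorem isSolvable_of_not_hasDecomp [Finite k] [Finite A] [Finite V] {p : ℕ} [hp : Fact p.Prime]
    (ρ : A →* Module.End k V) (hinj : Function.Injective ρ) (hA : (Nat.card A : k) ≠ 0)
    (hO : Orb p ρ) (P : Sylow p A) (hD : ¬ HasDecomp ρ (P : Subgroup A))
    (IH : ∀ K : Subgroup A, K.Normal → K ≠ ⊤ → Group.IsSolvable K) : Group.IsSolvable A := by
  classical
  haveI := Fintype.ofFinite A
  haveI := Fintype.ofFinite k
  obtain ⟨q, hqc⟩ := CharP.exists k
  haveI := hqc
  haveI hqp := Fact.mk (CharP.char_is_prime k q)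
  obtain ⟨d, -, hcardk⟩ := FiniteField.card k q
  -- a trivial space
  rcases subsingleton_or_nontrivial V with hV | hV
  · haveI : Subsingleton A := ⟨fun a b => hinj (LinearMap.ext fun x => Subsingleton.elim _ _)⟩
    exact Group.isSolvable_of_comm fun a b => Subsingleton.elim _ _
  have hPcard : (Nat.card (P : Subgroup A) : k) ≠ 0 :=
    cast_card_ne_zero_of_dvd (card_subgroup_dvd_card _) hA
  -- a maximal abelian normal subgroup of the Sylow subgroup
  obtain ⟨U0, hU0n, hU0c, hU0cen, -⟩ :=
    Tech.exists_maximal_normal_abelian (p := p) (S := ↥(P : Subgroup A)) P.2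
  set U := U0.map (P : Subgroup A).subtype with hU
  have hUP : U ≤ P := map_subtype_le _
  have hUcomm : ∀ a ∈ U, ∀ b ∈ U, a * b = b * a := by
    rintro _ ⟨a, ha, rfl⟩ _ ⟨b, hb, rfl⟩
    exact congrArg Subtype.val (congrArg Subtype.val
      (hU0c.is_comm.comm (⟨a, ha⟩ : U0) (⟨b, hb⟩ : U0)))
  have hUconj : ∀ π ∈ (P : Subgroup A), ∀ a ∈ U, π * a * π⁻¹ ∈ U := by
    rintro π hπ _ ⟨a, ha, rfl⟩
    exact ⟨⟨π, hπ⟩ * a * ⟨π, hπ⟩⁻¹, hU0n.conj_mem a ha _, rfl⟩
  have hUcen : ∀ π ∈ (P : Subgroup A), (∀ a ∈ U, π * a = a * π) → π ∈ U := by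
    intro π hπ h
    refine ⟨⟨π, hπ⟩, hU0cen (mem_centralizer_iff.2 fun a ha => Subtype.ext ?_), rfl⟩
    exact (h (a : A) ⟨a, ha, rfl⟩).symm
  set R := Algebra.adjoin k (ρ '' (U : Set A)) with hR
  haveI : IsMulCommutative R := Algebra.isMulCommutative_adjoin k (by
    rintro _ ⟨a, ha, rfl⟩ _ ⟨b, hb, rfl⟩
    rw [← map_mul, ← map_mul, hUcomm a ha b hb])
  haveI : Finite (Module.End k V) := Finite.of_injective (fun f => (f : V → V)) DFunLike.coe_injective
  haveI : Finite R := Finite.of_injective Subtype.val Subtype.val_injective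
  haveI : Nontrivial R := ⟨⟨0, 1, fun h => by
    obtain ⟨x, hx⟩ := exists_ne (0 : V)
    exact hx (by simpa using (LinearMap.congr_fun (congrArg Subtype.val h) x).symm)⟩⟩
  have hUR : ∀ a ∈ U, ρ a ∈ R := fun a ha => Algebra.subset_adjoin (Set.mem_image_of_mem ρ ha)
  haveI : CharP R q := charP_of_injective_algebraMap (algebraMap k R).injective q
  -- a uniform Frobenius relation
  set c := Nat.card U with hc
  set f := Nat.totient c with hf
  set Q := q ^ ((d : ℕ) * f) with hQ
  have hQc : Q % c = 1 % c := by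
    rw [hQ, pow_mul]
    exact Nat.ModEq.pow_totient (cast_ne_zero_coprime (k := k)
      (cast_card_ne_zero_of_dvd (card_subgroup_dvd_card U) hA))
  have hQ2 : 2 ≤ Q := by
    refine le_trans hqp.out.two_le (Nat.le_self_pow ?_ q)
    exact Nat.mul_ne_zero (PNat.ne_zero d) (Nat.totient_pos.2 Nat.card_pos).ne'
  have hpowQ : ∀ r : R, r ^ Q = r := by
    rintro ⟨r, hr⟩
    induction hr using Algebra.adjoin_induction with
    | mem x hx =>
      obtain ⟨a, ha, rfl⟩ := hx
      apply Subtype.ext
      show (ρ a) ^ Q = ρ a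
      rw [← map_pow]
      congr 1
      have h1 : a ^ Q = a ^ (Q % c) := by
        conv_lhs => rw [← Nat.mod_add_div Q c, pow_add, pow_mul]
        rw [show a ^ c = 1 from congrArg Subtype.val (pow_card_eq_one' (x := (⟨a, ha⟩ : U))),
          one_pow, mul_one]
      rw [h1, hQc]
      conv_rhs => rw [← pow_one a, ← Nat.mod_add_div 1 c, pow_add, pow_mul]
      rw [show a ^ c = 1 from congrArg Subtype.val (pow_card_eq_one' (x := (⟨a, ha⟩ : U))),
        one_pow, mul_one]
    | algebraMap t =>
      show (algebraMap k R t) ^ Q = algebraMap k R t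
      rw [← map_pow]
      congr 1
      rw [hQ, pow_mul q, ← hcardk]
      exact FiniteField.pow_card_pow f t
    | add x y hx hy ihx ihy =>
      show ((⟨x, hx⟩ : R) + ⟨y, hy⟩) ^ Q = ⟨x, hx⟩ + ⟨y, hy⟩
      rw [hQ, add_pow_char_pow, ← hQ, ihx, ihy]
    | mul x y hx hy ihx ihy =>
      show ((⟨x, hx⟩ : R) * ⟨y, hy⟩) ^ Q = ⟨x, hx⟩ * ⟨y, hy⟩
      rw [mul_pow, ihx, ihy]
  -- conjugation by the Sylow subgroup
  have hconjR : ∀ π ∈ (P : Subgroup A), ∀ r : R, ρ π * (r : Module.End k V) * ρ π⁻¹ ∈ R := by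
    intro π hπ r
    let φ : Module.End k V →ₐ[k] Module.End k V :=
      { toFun := fun x => ρ π * x * ρ π⁻¹
        map_one' := by rw [mul_one, ← map_mul, mul_inv_cancel, map_one]
        map_mul' := fun x y => by
          rw [show ρ π * x * ρ π⁻¹ * (ρ π * y * ρ π⁻¹) = ρ π * x * (ρ π⁻¹ * ρ π) * y * ρ π⁻¹ by
            simp only [mul_assoc], ← map_mul ρ π⁻¹ π, inv_mul_cancel, map_one, mul_one]
          simp only [mul_assoc]
        map_zero' := by simp
        map_add' := fun x y => by rw [mul_add, add_mul]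
        commutes' := fun t => by
          rw [← Algebra.commutes t, mul_assoc, ← map_mul, mul_inv_cancel, map_one, mul_one] }
    have hle : R ≤ R.comap φ := Algebra.adjoin_le (by
      rintro _ ⟨a, ha, rfl⟩
      show ρ π * ρ a * ρ π⁻¹ ∈ R
      rw [← map_mul, ← map_mul]
      exact hUR _ (hUconj π hπ a ha))
    exact hle r.2
  let τ : ∀ π ∈ (P : Subgroup A), R →ₐ[k] R := fun π hπ =>
    { toFun := fun r => ⟨ρ π * (r : Module.End k V) * ρ π⁻¹, hconjR π hπ r⟩
      map_one' := Subtype.ext (by
        show ρ π * 1 * ρ π⁻¹ = 1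
        rw [mul_one, ← map_mul, mul_inv_cancel, map_one])
      map_mul' := fun x y => Subtype.ext (by
        show ρ π * ((x : Module.End k V) * y) * ρ π⁻¹
          = ρ π * x * ρ π⁻¹ * (ρ π * y * ρ π⁻¹)
        rw [show ρ π * (x : Module.End k V) * ρ π⁻¹ * (ρ π * y * ρ π⁻¹)
          = ρ π * x * (ρ π⁻¹ * ρ π) * y * ρ π⁻¹ by simp only [mul_assoc],
          ← map_mul ρ π⁻¹ π, inv_mul_cancel, map_one, mul_one]
        simp only [mul_assoc])
      map_zero' := Subtype.ext (by show ρ π * 0 * ρ π⁻¹ = 0; simp)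
      map_add' := fun x y => Subtype.ext (by
        show ρ π * ((x : Module.End k V) + y) * ρ π⁻¹ = _
        rw [mul_add, add_mul]; rfl)
      commutes' := fun t => Subtype.ext (by
        show ρ π * algebraMap k (Module.End k V) t * ρ π⁻¹ = algebraMap k (Module.End k V) t
        rw [← Algebra.commutes t, mul_assoc, ← map_mul, mul_inv_cancel, map_one, mul_one]) }
  have hτ : ∀ π (hπ : π ∈ (P : Subgroup A)) (r : R) x, ρ π (r • x) = τ π hπ r • ρ π x := by
    intro π hπ r x
    show ρ π ((r : Module.End k V) x) = (ρ π * (r : Module.End k V) * ρ π⁻¹) (ρ π x)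
    rw [Module.End.mul_apply, Module.End.mul_apply, ← Module.End.mul_apply (ρ π⁻¹), ← map_mul,
      inv_mul_cancel, map_one, Module.End.one_apply]
  -- `R` is a field
  have hidem1 : ∀ e : R, IsIdempotentElem e → e = 0 ∨ e = 1 := by
    intro e he
    by_contra hcon
    push Not at hcon
    haveI := Fintype.ofFinite R
    set atoms : Finset R := Finset.univ.filter fun a =>
      a ≠ 0 ∧ a * a = a ∧ ∀ b : R, b * b = b → a * b = 0 ∨ a * b = a with hat
    have hatm : ∀ a, a ∈ atoms ↔ a ≠ 0 ∧ a * a = a ∧ ∀ b : R, b * b = b → a * b = 0 ∨ a * b = a :=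
      fun a => by simp [hat]
    have horth : ∀ a ∈ atoms, ∀ b ∈ atoms, a ≠ b → a * b = 0 := by
      intro a ha b hb hab
      rw [hatm] at ha hb
      rcases ha.2.2 b hb.2.1 with h | h
      · exact h
      rcases hb.2.2 a ha.2.1 with h' | h'
      · rw [mul_comm, h']
      · exact absurd (h.symm.trans ((mul_comm a b).trans h')) hab
    have hbelow : ∀ t : R, t * t = t → t ≠ 0 → ∃ a ∈ atoms, a * t = a := by
      intro t ht ht0
      obtain ⟨g, hg, hmin⟩ := Finset.exists_min_image
        (Finset.univ.filter fun g : R => g ≠ 0 ∧ g * g = g ∧ g * t = g)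
        (fun g => (Finset.univ.filter fun x : R => g * x = x).card)
        ⟨t, by simp [ht, ht0]⟩
      simp only [Finset.mem_filter, Finset.mem_univ, true_and] at hg hmin
      refine ⟨g, (hatm g).2 ⟨hg.1, hg.2.1, fun b hb => ?_⟩, hg.2.2⟩
      by_cases h0 : g * b = 0
      · exact Or.inl h0
      right
      have hgb : (g * b) * (g * b) = g * b := by
        rw [mul_mul_mul_comm, hg.2.1, hb]
      have hsub : (Finset.univ.filter fun x : R => g * b * x = x)
          ⊆ (Finset.univ.filter fun x : R => g * x = x) := by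
        intro x hx
        simp only [Finset.mem_filter, Finset.mem_univ, true_and] at hx ⊢
        rw [← hx, ← mul_assoc, ← mul_assoc, hg.2.1]
      have := Finset.eq_of_subset_of_card_le hsub (hmin (g * b) ⟨h0, hgb, by
        rw [mul_assoc, mul_comm b t, ← mul_assoc, hg.2.2]⟩)
      have hgm : g ∈ (Finset.univ.filter fun x : R => g * b * x = x) := by
        rw [this]; simp [hg.2.1]
      simp only [Finset.mem_filter, Finset.mem_univ, true_and] at hgm
      rwa [mul_right_comm, hg.2.1] at hgm
    have hsum : ∑ a ∈ atoms, a = 1 := by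
      by_contra hne
      set t : R := 1 - ∑ a ∈ atoms, a with ht
      have hta : ∀ a ∈ atoms, a * t = 0 := by
        intro a ha
        rw [ht, mul_sub, mul_one, Finset.mul_sum, Finset.sum_eq_single a
          (fun b hb hba => horth a ha b hb (Ne.symm hba)) (fun h => absurd ha h),
          ((hatm a).1 ha).2.1, sub_self]
      have htt : t * t = t := by
        nth_rewrite 1 [ht]
        rw [sub_mul, one_mul, Finset.sum_mul, Finset.sum_eq_zero hta, sub_zero]
      have ht0 : t ≠ 0 := fun h0 => hne (sub_eq_zero.1 (ht ▸ h0)).symm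
      obtain ⟨a, ha, hat'⟩ := hbelow t htt ht0
      exact ((hatm a).1 ha).1 (by rw [← hat', hta a ha])
    refine hD ⟨atoms.image Subtype.val, ?_, ?_, ?_, ?_, ?_, ?_⟩
    · rw [Finset.card_image_of_injective _ Subtype.val_injective]
      obtain ⟨a, ha, hae⟩ := hbelow e he hcon.1
      obtain ⟨b, hb, hbe⟩ := hbelow (1 - e) he.one_sub (sub_ne_zero.2 (Ne.symm hcon.2))
      refine Finset.one_lt_card.2 ⟨a, ha, b, hb, fun hab => ((hatm a).1 ha).1 ?_⟩
      subst hab
      rw [← hbe, mul_sub, mul_one, hae, sub_self]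
    · simp only [Finset.mem_image, forall_exists_index, and_imp, forall_apply_eq_imp_iff₂]
      exact fun a ha h => ((hatm a).1 ha).1 (Subtype.ext h)
    · simp only [Finset.mem_image, forall_exists_index, and_imp, forall_apply_eq_imp_iff₂]
      exact fun a ha => congrArg Subtype.val ((hatm a).1 ha).2.1
    · simp only [Finset.mem_image, forall_exists_index, and_imp, forall_apply_eq_imp_iff₂]
      intro a ha b hb hab
      exact congrArg Subtype.val (horth a ha b hb fun h => hab (by rw [h]))
    · rw [Finset.sum_image (fun a _ b _ h => Subtype.ext h)]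
      exact ((map_sum R.val (fun a => a) atoms).symm).trans (by rw [hsum]; rfl)
    · intro π hπ f hf
      obtain ⟨a, ha, rfl⟩ := Finset.mem_image.1 hf
      have ha' := (hatm a).1 ha
      have hne0 : τ π hπ a ≠ 0 := fun h0 => ha'.1 (by
        apply Subtype.ext
        have h1 : ρ π⁻¹ * ((τ π hπ a : R) : Module.End k V) * ρ π = 0 := by rw [h0]; simp
        rw [ZeroMemClass.coe_zero, ← h1]
        show (a : Module.End k V) = ρ π⁻¹ * (ρ π * (a : Module.End k V) * ρ π⁻¹) * ρ π
        rw [show ρ π⁻¹ * (ρ π * (a : Module.End k V) * ρ π⁻¹) * ρ π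
          = (ρ π⁻¹ * ρ π) * (a : Module.End k V) * (ρ π⁻¹ * ρ π) by simp only [mul_assoc],
          ← map_mul, inv_mul_cancel, map_one, one_mul, mul_one])
      obtain ⟨b, hb, hbt⟩ := hbelow (τ π hπ a) (by rw [← map_mul, ha'.2.1]) hne0
      have hπ' : π⁻¹ ∈ (P : Subgroup A) := inv_mem hπ
      have hinvτ : ∀ r, τ π hπ (τ π⁻¹ hπ' r) = r := fun r => Subtype.ext (by
        show ρ π * (ρ π⁻¹ * (r : Module.End k V) * ρ π⁻¹⁻¹) * ρ π⁻¹ = r
        rw [inv_inv, show ρ π * (ρ π⁻¹ * (r : Module.End k V) * ρ π) * ρ π⁻¹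
          = (ρ π * ρ π⁻¹) * (r : Module.End k V) * (ρ π * ρ π⁻¹) by simp only [mul_assoc],
          ← map_mul, mul_inv_cancel, map_one, one_mul, mul_one])
      -- b = τ a
      have hbeq : b = τ π hπ a := by
        rcases ha'.2.2 (τ π⁻¹ hπ' b) (by rw [← map_mul, ((hatm b).1 hb).2.1]) with h | h
        · exfalso
          apply ((hatm b).1 hb).1
          have := congrArg (τ π hπ) h
          rw [map_mul, hinvτ, map_zero, mul_comm, hbt] at this
          exact this
        · have := congrArg (τ π hπ) h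
          rw [map_mul, hinvτ, mul_comm, hbt] at this
          exact this
      refine ⟨_, Finset.mem_image_of_mem _ hb, fun x hx => ?_⟩
      show b • ρ π x = ρ π x
      rw [hbeq, ← hτ π hπ]
      show ρ π ((a : Module.End k V) x) = _
      rw [hx]
  have hfield : IsField R :=
    { exists_pair_ne := ⟨0, 1, zero_ne_one⟩
      mul_comm := mul_comm
      mul_inv_cancel := fun {a} ha => by
        refine ⟨a ^ (Q - 2), ?_⟩
        have hid : IsIdempotentElem (a ^ (Q - 1)) := by
          show a ^ (Q - 1) * a ^ (Q - 1) = a ^ (Q - 1)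
          rw [← pow_add, show Q - 1 + (Q - 1) = Q + (Q - 2) by omega, pow_add, hpowQ, ← pow_succ',
            show Q - 2 + 1 = Q - 1 by omega]
        rcases hidem1 _ hid with h | h
        · exfalso
          apply ha
          rw [← hpowQ a, show Q = Q - 1 + 1 by omega, pow_succ, h, zero_mul]
        · rw [← pow_succ', show Q - 2 + 1 = Q - 1 by omega, h] }
  letI : Field R := hfield.toField
  haveI := Fintype.ofFinite R
  haveI : FiniteDimensional k R := Module.Finite.of_finite
  -- every element of the Sylow subgroup is semilinear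
  have hsemi : ∀ π ∈ (P : Subgroup A), ∃ j : ℕ, ∀ (r : R) x,
      ρ π (r • x) = r ^ (Fintype.card k ^ j) • ρ π x := by
    intro π hπ
    obtain ⟨n, hn⟩ := (FiniteField.bijective_frobeniusAlgHom_pow k R).2 (τ π hπ)
    refine ⟨n, fun r x => ?_⟩
    rw [hτ π hπ, ← hn]
    simp only [AlgHom.coe_pow, FiniteField.coe_frobeniusAlgHom, pow_iterate]
  set n := Module.finrank k R with hn
  have hcardR : Fintype.card R = Fintype.card k ^ n := Module.card_eq_pow_finrank
  have hn0 : 0 < n := Module.finrank_pos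
  have hperiod : ∀ (j : ℕ) (r : R), r ^ (Fintype.card k ^ (j + n)) = r ^ (Fintype.card k ^ j) := by
    intro j r
    rw [pow_add, pow_mul, ← hcardR, FiniteField.pow_card]
  -- the generator of `U`
  let Uhom : ↥U →* R :=
    { toFun := fun a => ⟨ρ (a : A), hUR _ a.2⟩
      map_one' := Subtype.ext (map_one ρ)
      map_mul' := fun a b => Subtype.ext (map_mul ρ (a : A) b) }
  have hUhom : Function.Injective Uhom := fun a b h => Subtype.ext (hinj (congrArg Subtype.val h))
  haveI : IsCyclic U := isCyclic_of_injective_ringHom Uhom hUhom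
  obtain ⟨u0, hu0⟩ := IsCyclic.exists_generator (α := U)
  set u : R := Uhom u0 with hu
  have huU : ∀ a : U, ∃ i : ℕ, Uhom a = u ^ i := fun a => by
    obtain ⟨i, hi⟩ := (IsOfFinOrder.mem_powers_iff_mem_zpowers (isOfFinOrder_of_finite u0)).mpr (hu0 a)
    exact ⟨i, by rw [← hi, map_pow]⟩
  have htopu : Algebra.adjoin k ({u} : Set R) = ⊤ := by
    apply Subalgebra.map_injective (f := R.val) Subtype.val_injective
    rw [Algebra.map_top, Subalgebra.range_val]
    refine le_antisymm ?_ (Algebra.adjoin_le ?_)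
    · rintro _ ⟨x, -, rfl⟩; exact x.2
    · rintro _ ⟨a, ha, rfl⟩
      obtain ⟨i, hi⟩ := huU ⟨a, ha⟩
      exact ⟨u ^ i, pow_mem (Algebra.subset_adjoin (Set.mem_singleton u)) i,
        (congrArg Subtype.val hi).symm⟩
  obtain ⟨M, hM⟩ : ∃ M, orderOf u = p ^ M := by
    have h1 : orderOf u = orderOf (u0 : A) := by rw [hu, orderOf_injective Uhom hUhom, orderOf_coe]
    obtain ⟨i, hi⟩ := P.2 ⟨(u0 : A), hUP u0.2⟩
    obtain ⟨M, -, hM⟩ := (Nat.dvd_prime_pow hp.out).1
      (orderOf_dvd_of_pow_eq_one (congrArg Subtype.val hi : (u0 : A) ^ p ^ i = 1))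
    exact ⟨M, h1.trans hM⟩
  have hu_ne : u ≠ 0 := fun h => by
    rw [h, orderOf_zero] at hM; exact pow_ne_zero M hp.out.ne_zero hM.symm
  -- elements of the Sylow subgroup inducing the identity lie in `U`
  have hlinU : ∀ π ∈ (P : Subgroup A), (∀ (r : R) x, ρ π (r • x) = r • ρ π x) → π ∈ U := by
    intro π hπ h
    refine hUcen π hπ fun a ha => hinj (LinearMap.ext fun x => ?_)
    rw [map_mul, map_mul, Module.End.mul_apply, Module.End.mul_apply]
    exact h ⟨ρ a, hUR a ha⟩ x
  -- exponents
  have hexJ : ∃ j, 0 < j ∧ ∃ π ∈ (P : Subgroup A), ∀ (r : R) x,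
      ρ π (r • x) = r ^ (Fintype.card k ^ j) • ρ π x :=
    ⟨n, hn0, 1, one_mem _, fun r x => by
      rw [map_one, Module.End.one_apply, Module.End.one_apply, ← hcardR, FiniteField.pow_card]⟩
  set j0 := Nat.find hexJ with hj0
  obtain ⟨hj0pos, g, hgP, hg⟩ := Nat.find_spec hexJ
  have hgpow : ∀ (i : ℕ) (r : R) x, ρ (g ^ i) (r • x)
      = r ^ (Fintype.card k ^ (j0 * i)) • ρ (g ^ i) x := by
    intro i
    induction i with
    | zero => intro r x; simp
    | succ i ih =>
      intro r x
      rw [pow_succ', map_mul, Module.End.mul_apply, ih, hg, Module.End.mul_apply, ← pow_mul,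
        ← pow_add, show j0 * i + j0 = j0 * (i + 1) by ring]
  have hperiodt : ∀ (t j : ℕ) (r : R),
      r ^ (Fintype.card k ^ (j + n * t)) = r ^ (Fintype.card k ^ j) := by
    intro t
    induction t with
    | zero => simp
    | succ t ih => intro j r; rw [show j + n * (t + 1) = (j + n * t) + n by ring, hperiod, ih]
  have hj0n : j0 ∣ n := by
    by_contra hnd
    have hpos : 0 < n % j0 := Nat.pos_of_ne_zero fun h => hnd (Nat.dvd_of_mod_eq_zero h)
    have hlt := Nat.mod_lt n hj0pos
    refine Nat.find_min hexJ hlt ⟨hpos, g ^ ((n - 1) * (n / j0)), pow_mem hgP _, fun r x => ?_⟩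
    rw [hgpow]
    congr 1
    have hdm := Nat.mod_add_div n j0
    have h2 : j0 * ((n - 1) * (n / j0)) + n = n % j0 + n * (j0 * (n / j0)) := by
      obtain ⟨n', hn'⟩ : ∃ n', n = n' + 1 := ⟨n - 1, by omega⟩
      generalize n / j0 = t at hdm ⊢
      generalize n % j0 = s at hdm ⊢
      rw [hn', Nat.add_sub_cancel]
      rw [hn'] at hdm
      rw [Nat.add_mul, one_mul, ← add_assoc, add_comm s, add_assoc]
      rw [← hdm]; ring
    rw [← hperiod, h2, hperiodt]
  obtain ⟨rr, hrr⟩ := hj0n
  have hrr0 : rr ≠ 0 := fun h => by rw [h, mul_zero] at hrr; omega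
  have hgU : g ^ rr ∈ U := hlinU _ (pow_mem hgP _) fun r x => by
    rw [hgpow, ← hrr, ← hcardR, FiniteField.pow_card]
  have hdec : ∀ π ∈ (P : Subgroup A), ∃ i : ℕ, (g ^ i)⁻¹ * π ∈ U := by
    intro π hπ
    obtain ⟨j, hj⟩ := hsemi π hπ
    have hdvd : j0 ∣ j := by
      by_contra hnd
      have hpos : 0 < j % j0 := Nat.pos_of_ne_zero fun h => hnd (Nat.dvd_of_mod_eq_zero h)
      refine Nat.find_min hexJ (Nat.mod_lt j hj0pos)
        ⟨hpos, g ^ ((n - 1) * (j / j0)) * π, mul_mem (pow_mem hgP _) hπ, fun r x => ?_⟩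
      rw [map_mul, Module.End.mul_apply, hj, hgpow, Module.End.mul_apply, ← pow_mul, ← pow_add]
      congr 1
      have hdm := Nat.mod_add_div j j0
      have h2 : j + j0 * ((n - 1) * (j / j0)) = j % j0 + n * (j0 * (j / j0)) := by
        obtain ⟨n', hn'⟩ : ∃ n', n = n' + 1 := ⟨n - 1, by omega⟩
        generalize j / j0 = t at hdm ⊢
        generalize j % j0 = s at hdm ⊢
        rw [hn', Nat.add_sub_cancel, ← hdm]; ring
      rw [h2, hperiodt]
    obtain ⟨i, rfl⟩ := hdvd
    refine ⟨i, hlinU _ (mul_mem (inv_mem (pow_mem hgP _)) hπ) fun r x => ?_⟩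
    apply apply_injective ρ (g ^ i)
    rw [← Module.End.mul_apply, ← map_mul, mul_inv_cancel_left, hj, hgpow, ← Module.End.mul_apply,
      ← map_mul, mul_inv_cancel_left]
  -- an invariant line
  set s := Fintype.card k ^ j0 with hs
  have hs2 : 2 ≤ s := le_trans Fintype.one_lt_card (Nat.le_self_pow hj0pos.ne' _)
  set w0 : R := Uhom ⟨g ^ rr, hgU⟩ with hw0def
  have hw0 : ∀ x, ρ (g ^ rr) x = w0 • x := fun x => rfl
  have hw0ne : w0 ≠ 0 := fun h => by
    obtain ⟨x, hx⟩ := exists_ne (0 : V)
    have := hw0 x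
    rw [h, zero_smul] at this
    exact hx (apply_injective ρ (g ^ rr) (by rw [this, map_zero]))
  have hw0fix : w0 ^ s = w0 := by
    apply Subtype.ext
    refine LinearMap.ext fun y => ?_
    have h1 := hg w0 (ρ g⁻¹ y)
    rw [← Module.End.mul_apply (ρ g) (ρ g⁻¹), ← map_mul, mul_inv_cancel, map_one,
      Module.End.one_apply, ← hw0] at h1
    show (w0 ^ s) • y = w0 • y
    rw [← h1, ← hw0, ← Module.End.mul_apply, ← Module.End.mul_apply, ← map_mul, ← map_mul,
      ← pow_succ', pow_succ, mul_inv_cancel_right]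
  obtain ⟨v, hv0, c1, hc1⟩ := exists_semilinear_eigen (L := R) (V := V) (ρ g).toAddMonoidHom hrr0 hs2
    (by rw [Nat.card_eq_fintype_card, hcardR, hrr, hs, ← pow_mul]) (fun r x => hg r x) w0 hw0ne
    (by
      have h2 : w0 ^ (s - 1) * w0 = 1 * w0 := by
        rw [← pow_succ, show s - 1 + 1 = s by omega, hw0fix, one_mul]
      exact mul_right_cancel₀ hw0ne h2)
    (fun x => by
      rw [← hw0]
      have : ∀ i, (⇑(ρ g).toAddMonoidHom)^[i] x = ρ (g ^ i) x := by
        intro i
        induction i with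
        | zero => simp
        | succ i ih => rw [Function.iterate_succ_apply', ih, pow_succ', map_mul]; rfl
      exact this rr)
  let line : R →ₗ[k] V :=
    { toFun := fun r => r • v
      map_add' := fun a b => add_smul a b v
      map_smul' := fun a b => smul_assoc a b v }
  have hWtop : LinearMap.range line = ⊤ := by
    refine eq_top_of_invariant ρ _ hPcard hD _ ((Submodule.ne_bot_iff _).2 ⟨v, ⟨1, one_smul R v⟩, hv0⟩) ?_
    intro π hπ x hx
    obtain ⟨r, rfl⟩ := hx
    obtain ⟨i, hi⟩ := hdec π hπ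
    have hgi : ∀ i : ℕ, ∃ r' : R, ρ (g ^ i) v = r' • v := by
      intro i
      induction i with
      | zero => exact ⟨1, by rw [pow_zero, map_one, Module.End.one_apply, one_smul]⟩
      | succ i ih =>
        obtain ⟨r', hr'⟩ := ih
        refine ⟨r' ^ s * c1, ?_⟩
        rw [pow_succ', map_mul, Module.End.mul_apply, hr', hg, show ρ g v = c1 • v from hc1,
          smul_smul]
    obtain ⟨r', hr'⟩ := hgi i
    refine ⟨((Uhom ⟨_, hi⟩) * r) ^ (Fintype.card k ^ (j0 * i)) * r', ?_⟩
    show (((Uhom ⟨_, hi⟩) * r) ^ (Fintype.card k ^ (j0 * i)) * r') • v = ρ π (r • v)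
    conv_rhs => rw [show π = g ^ i * ((g ^ i)⁻¹ * π) by group, map_mul, Module.End.mul_apply]
    rw [show ρ ((g ^ i)⁻¹ * π) (r • v) = (Uhom ⟨_, hi⟩ * r) • v by rw [← smul_smul]; rfl,
      hgpow, hr', smul_smul]
  have hbij : Function.Bijective fun r : R => r • v := by
    refine ⟨fun a b h => ?_, LinearMap.range_eq_top.1 hWtop⟩
    by_contra hne
    have h1 : (a - b) • v = 0 := by rw [sub_smul, sub_eq_zero]; exact h
    exact hv0 ((smul_eq_zero.1 h1).resolve_left (sub_ne_zero.2 hne))
  have hVn : Module.finrank k V = n :=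
    (LinearEquiv.ofBijective line hbij).finrank_eq.symm
  -- Kummer steps
  have hkum : ∀ c0 : ℕ, 1 ≤ c0 → (p = 2 → 2 ≤ c0) →
      ∀ j, (j + c0 ≤ M ∨ j = 0) → Algebra.adjoin k ({u ^ p ^ j} : Set R) = ⊤ := by
    intro c0 hc0 hc02 j
    induction j with
    | zero => intro; rwa [pow_zero, pow_one]
    | succ j ih =>
      intro hj
      have hjM : j + 1 + c0 ≤ M := hj.resolve_right (Nat.succ_ne_zero j)
      have htop := ih (Or.inl (by omega))
      set u' := u ^ p ^ j with hu'
      rw [show u ^ p ^ (j + 1) = u' ^ p by rw [hu', ← pow_mul, pow_succ]]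
      by_contra hne
      have hu'F : u' ∉ k⟮u' ^ p⟯ := by
        intro hmem
        apply hne
        rw [← IntermediateField.adjoin_simple_toSubalgebra_of_isAlgebraic
          (Algebra.IsAlgebraic.isAlgebraic (u' ^ p)), eq_top_iff, ← htop]
        exact Algebra.adjoin_le (Set.singleton_subset_iff.2 hmem)
      have hdvd : p ^ c0 ∣ Nat.card k⟮u' ^ p⟯ - 1 := by
        have hu'0 : u' ^ p ≠ 0 := pow_ne_zero _ (pow_ne_zero _ hu_ne)
        set x : k⟮u' ^ p⟯ := ⟨u' ^ p, IntermediateField.mem_adjoin_simple_self k _⟩ with hx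
        have hx0 : x ≠ 0 := fun h => hu'0 (congrArg Subtype.val h)
        haveI := Fintype.ofFinite k⟮u' ^ p⟯
        have h1 : orderOf x ∣ Nat.card k⟮u' ^ p⟯ - 1 := by
          rw [Nat.card_eq_fintype_card]
          exact orderOf_dvd_of_pow_eq_one (FiniteField.pow_card_sub_one_eq_one x hx0)
        have h2 : orderOf x = p ^ (M - (j + 1)) := by
          rw [← orderOf_injective (k⟮u' ^ p⟯.val : _ →+* R).toMonoidHom (RingHom.injective _) x]
          show orderOf (u' ^ p) = _
          rw [hu', ← pow_mul, ← pow_succ, orderOf_pow' _ (pow_ne_zero _ hp.out.ne_zero), hM,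
            Nat.gcd_eq_right (pow_dvd_pow p (by omega)), Nat.pow_div (by omega) hp.out.pos]
        exact (pow_dvd_pow p (show c0 ≤ M - (j + 1) by omega)).trans (h2 ▸ h1)
      refine hD (hasDecomp_kummer ρ P.2 v hbij (fun π hπ => ?_) u' htop hu'F ?_)
      · obtain ⟨i, hi⟩ := hsemi π hπ
        exact ⟨_, fun r h => pow_eq_zero_iff (pow_ne_zero i Fintype.card_ne_zero) |>.1 h, hi⟩
      · by_cases hp2 : p = 2
        · right
          refine ⟨hp2, ?_⟩
          have h4 : p ^ 2 ∣ p ^ c0 := pow_dvd_pow p (hc02 hp2)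
          have h5 := h4.trans hdvd
          subst hp2
          exact h5
        · exact Or.inl ⟨hp2, (dvd_pow_self p (by omega)).trans hdvd⟩
  -- bound on the dimension
  have hfin : ∀ (w : R) (F : k[X]), F.Monic → aeval w F = 0 → Algebra.adjoin k ({w} : Set R) = ⊤ →
      n ≤ F.natDegree := by
    intro w F hF hw htw
    let Ψ : Polynomial.degreeLT k F.natDegree →ₗ[k] R :=
      (aeval w).toLinearMap ∘ₗ (Submodule.subtype _)
    have hsurj : Function.Surjective Ψ := by
      intro y
      have hy : y ∈ Algebra.adjoin k ({w} : Set R) := htw ▸ Algebra.mem_top (R := k)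
      rw [Algebra.adjoin_singleton_eq_range_aeval] at hy
      obtain ⟨g', rfl⟩ := hy
      refine ⟨⟨g' %ₘ F, Polynomial.mem_degreeLT.2 ((degree_modByMonic_lt _ hF).trans_le
        degree_le_natDegree)⟩, ?_⟩
      show aeval w (g' %ₘ F) = aeval w g'
      conv_rhs => rw [← modByMonic_add_div g' F, map_add, map_mul, hw, zero_mul, add_zero]
    refine (LinearMap.finrank_le_finrank_of_surjective hsurj).trans (le_of_eq ?_)
    rw [(Polynomial.degreeLTEquiv k F.natDegree).finrank_eq, Module.finrank_fin_fun]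
  by_cases hp2 : p = 2
  · -- degree at most two
    have hn2 : n ≤ 2 := by
      set w := u ^ p ^ (M - 2) with hw
      have htw : Algebra.adjoin k ({w} : Set R) = ⊤ :=
        hkum 2 one_le_two (fun _ => le_rfl) (M - 2) (by omega)
      have hw4 : w ^ 4 = 1 := by
        rw [hw, ← pow_mul, ← orderOf_dvd_iff_pow_eq_one, hM, hp2, show 4 = 2 ^ 2 by norm_num,
          ← pow_add]
        exact pow_dvd_pow 2 (by omega)
      rcases eq_or_ne (w ^ 2) 1 with h2 | h2
      · refine (hfin w (X ^ 2 - C (1 : k)) (monic_X_pow_sub_C _ two_ne_zero) ?_ htw).trans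
          (le_of_eq (natDegree_X_pow_sub_C))
        simp [h2]
      · refine (hfin w (X ^ 2 + C (1 : k)) (monic_X_pow_add_C _ two_ne_zero) ?_ htw).trans
          (le_of_eq (natDegree_X_pow_add_C))
        have h3 : (w ^ 2 - 1) * (w ^ 2 + 1) = 0 := by ring_nf; rw [hw4]; ring
        simpa using (mul_eq_zero.1 h3).resolve_left (sub_ne_zero.2 h2)
    haveI : FiniteDimensional k V := Module.Finite.of_finite
    let δ : A →* kˣ := (Units.map (LinearMap.det : Module.End k V →* k)).comp ρ.toHomUnits
    have hfix1 : ∀ a ∈ δ.ker, ∀ x, x ≠ 0 → ρ a x = x → a = 1 := by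
      intro a ha x hx hax
      have hdet : LinearMap.det (ρ a) = 1 := congrArg Units.val ha
      have hN : (ρ a - 1) ^ 2 = 0 := by
        have hpos : 0 < n := hn0
        interval_cases n
        · -- dimension one
          have : ρ a = 1 := by
            refine LinearMap.ext fun y => ?_
            obtain ⟨t, rfl⟩ := exists_smul_eq_of_finrank_eq_one hVn hx y
            rw [map_smul, hax, Module.End.one_apply]
          rw [this, sub_self]; simp
        · let b := Module.finBasisOfFinrankEq k V hVn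
          set Mx := LinearMap.toMatrix b b (ρ a) with hMx
          have hchar : (ρ a).charpoly = X ^ 2 - C Mx.trace * X + C (1 : k) := by
            rw [← LinearMap.charpoly_toMatrix (ρ a) b, ← hMx, Matrix.charpoly_fin_two, hMx,
              LinearMap.det_toMatrix, hdet]
          have hroot : (ρ a).charpoly.IsRoot 1 := by
            rw [← Module.End.hasEigenvalue_iff_isRoot_charpoly]
            exact Module.End.hasEigenvalue_of_hasEigenvector
              (Module.End.hasEigenvector_iff.2 ⟨Module.End.mem_eigenspace_iff.2 (by rw [hax, one_smul]), hx⟩)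
          rw [hchar, IsRoot.def] at hroot
          simp only [eval_add, eval_sub, eval_pow, eval_X, eval_mul, eval_C, one_pow, mul_one] at hroot
          have htr : Mx.trace = 2 := by linear_combination -hroot
          have hCH := LinearMap.aeval_self_charpoly (ρ a)
          rw [hchar, htr, map_add, map_sub, map_pow, aeval_X, map_mul, aeval_X, aeval_C, aeval_C,
            map_one, map_ofNat] at hCH
          rw [← hCH, sq, sq, sub_mul, mul_sub, mul_sub, one_mul, mul_one, mul_one, two_mul]
          abel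
      have hq1 : ρ (a ^ q) = 1 := by
        haveI : CharP (Module.End k V) q := by
          haveI : Nontrivial (Module.End k V) := ⟨⟨0, 1, fun h => by
            obtain ⟨z, hz⟩ := exists_ne (0 : V)
            exact hz (by simpa using (LinearMap.congr_fun h z).symm)⟩⟩
          exact charP_of_injective_algebraMap (algebraMap k (Module.End k V)).injective q
        have h1 : (ρ a - 1) ^ q = ρ a ^ q - 1 ^ q := sub_pow_char_of_commute q (Commute.one_right (ρ a))
        have h2 : (ρ a - 1) ^ q = 0 := pow_eq_zero_of_le hqp.out.two_le hN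
        rw [h2, one_pow] at h1
        rw [map_pow]; exact (sub_eq_zero.1 h1.symm)
      rw [← map_one ρ] at hq1
      have h1 : orderOf a ∣ q := orderOf_dvd_of_pow_eq_one (hinj hq1)
      have h2 : Nat.Coprime q (orderOf a) := by
        have := cast_ne_zero_coprime (k := k) (q := q) (d := 1)
          (cast_card_ne_zero_of_dvd (orderOf_dvd_natCard a) hA)
        rwa [pow_one] at this
      exact orderOf_eq_one_iff.1 (Nat.eq_one_of_dvd_coprimes h2 h1 dvd_rfl)
    have hKp : IsPGroup p δ.ker := by
      refine IsPGroup.of_card (n := (Nat.card δ.ker).factorization p) ?_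
      refine Nat.eq_prime_pow_of_unique_prime_dvd (p := p) Nat.card_pos.ne' ?_ |> fun h => by
        rw [h]; congr 1; rw [h, Nat.Prime.factorization_pow hp.out, Finsupp.single_eq_same]
      intro r hr hrd
      by_contra hrp
      haveI := Fact.mk hr
      obtain ⟨a, ha⟩ := exists_prime_orderOf_dvd_card' r hrd
      obtain ⟨x, hx⟩ := exists_ne (0 : V)
      obtain ⟨e, he⟩ := hO x
      let S : Sylow r (stab ρ x) := default
      set S' := (S : Subgroup (stab ρ x)).map (stab ρ x).subtype with hS'
      have hScard : Nat.card S' = r ^ (Nat.card A).factorization r := by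
        rw [hS', card_map_of_injective (subtype_injective _), S.card_eq_multiplicity]
        congr 1
        rw [← (stab ρ x).card_mul_index, he, Nat.factorization_mul Nat.card_pos.ne'
          (pow_ne_zero _ hp.out.ne_zero), Finsupp.add_apply, hp.out.factorization_pow,
          Finsupp.single_eq_of_ne hrp, add_zero]
      let R0 : Sylow r A := Sylow.ofCard S' hScard
      have hap : IsPGroup r (zpowers (a : A)) := IsPGroup.of_card (n := 1) (by
        rw [Nat.card_zpowers, orderOf_coe, ha, pow_one])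
      obtain ⟨R1, hR1⟩ := hap.exists_le_sylow
      obtain ⟨c', hc'⟩ := MulAction.exists_smul_eq A R1 R0
      have hmem : c' * (a : A) * c'⁻¹ ∈ stab ρ x := by
        have h1 : c' * (a : A) * c'⁻¹ ∈ ((c' • R1 : Sylow r A) : Subgroup A) :=
          ⟨a, hR1 (mem_zpowers _), rfl⟩
        rw [hc'] at h1
        have h2 : c' * (a : A) * c'⁻¹ ∈ S' := h1
        exact map_subtype_le _ h2
      have := hfix1 _ (MonoidHom.normal_ker δ |>.conj_mem _ a.2 c') x hx hmem
      rw [conj_eq_one_iff] at this
      rw [← orderOf_eq_one_iff, orderOf_coe, ha] at this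
      exact hr.ne_one this
    haveI := hKp.isNilpotent
    exact Group.isSolvable_of_ker_le_range δ.ker.subtype δ (by rw [range_subtype])
  · -- cyclic
    have hp3 : 3 ≤ p := by have := hp.out.two_le; omega
    set w := u ^ p ^ (M - 1) with hw
    have htw : Algebra.adjoin k ({w} : Set R) = ⊤ :=
      hkum 1 le_rfl (fun h => absurd h hp2) (M - 1) (by omega)
    have hwp : w ^ p = 1 := by
      rw [hw, ← pow_mul, ← orderOf_dvd_iff_pow_eq_one, hM, ← pow_succ]
      exact pow_dvd_pow p (by omega)
    have hnp : n ≤ p - 1 := by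
      rcases eq_or_ne w 1 with h1 | h1
      · refine (hfin w (X - C (1 : k)) (monic_X_sub_C 1) (by simp [h1]) htw).trans ?_
        rw [natDegree_X_sub_C]; omega
      · refine (hfin w (∑ i ∈ Finset.range p, X ^ i) (monic_geom_sum_X hp.out.ne_zero) ?_ htw).trans ?_
        · rw [map_sum]
          simp only [map_pow, aeval_X]
          have := geom_sum_mul w p
          rw [hwp, sub_self] at this
          exact (mul_eq_zero.1 this).resolve_right (sub_ne_zero.2 h1)
        · refine natDegree_sum_le_of_forall_le _ _ fun i hi => ?_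
          rw [natDegree_X_pow]; have := Finset.mem_range.1 hi; omega
    have hgU' : g ∈ U := by
      obtain ⟨i, hi⟩ := P.2 ⟨g, hgP⟩
      have hgi : g ^ (p ^ i) = 1 := congrArg Subtype.val hi
      have hq1 : Nat.Coprime (p ^ i) rr := Nat.Coprime.pow_left _
        ((hp.out.coprime_iff_not_dvd).2 fun hd => by
          have := Nat.le_of_dvd hn0 (hd.trans (Dvd.intro_left j0 hrr.symm))
          omega)
      obtain ⟨l, hl⟩ := exists_pow_eq_self_of_coprime (x := g) (n := rr)
        (hq1.symm.coprime_dvd_right (orderOf_dvd_of_pow_eq_one hgi))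
      exact hl ▸ pow_mem hgU l
    have hPU : (P : Subgroup A) = U := le_antisymm (fun π hπ => by
      obtain ⟨i, hi⟩ := hdec π hπ
      have := mul_mem (pow_mem hgU' i) hi
      rwa [mul_inv_cancel_left] at this) hUP
    obtain ⟨m, hm⟩ : ∃ m, M = m + 1 ∨ M = 0 := ⟨M - 1, by omega⟩
    rcases hm with hm | hm
    · have hzp : (P : Subgroup A) = zpowers (u0 : A) := by
        rw [hPU]
        refine le_antisymm (fun a ha => ?_) (zpowers_le.2 u0.2)
        obtain ⟨i, hi⟩ := hu0 ⟨a, ha⟩
        exact ⟨i, congrArg Subtype.val hi⟩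
      refine isSolvable_cyclic hp2 ρ hinj hA hO P v hbij (u0 : A) hzp u (fun x => rfl) m
        (hm ▸ hM) ?_ hnp IH
      rwa [hw, hm, Nat.add_sub_cancel] at htw
    · -- trivial Sylow subgroup
      have hP1 : (P : Subgroup A) = ⊥ := by
        rw [hPU, eq_bot_iff]
        intro a ha
        rw [hm, pow_zero, orderOf_eq_one_iff] at hM
        obtain ⟨i, hi⟩ := huU ⟨a, ha⟩
        rw [hM, one_pow] at hi
        exact mem_bot.2 (hinj (by rw [map_one]; exact congrArg Subtype.val hi))
      refine Group.isSolvable_of_comm fun a b => ?_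
      have h1 : ∀ a : A, a = 1 := fun a => hinj (LinearMap.ext fun x => by
        obtain ⟨π, hπ, h⟩ := hO.exists_sylow P a x
        rw [hP1, mem_bot] at hπ
        rw [h, hπ])
      rw [h1 a, h1 b]

end Cfsg.Agent.FGB.PPow
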