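import Mathlib
import Cfsg.Agent.Lib.FGB.PPowerOrbits

/-!
A finite group acting faithfully and coprimely on a finite vector space so that every orbit has
`p`-power size is solvable.
-/

set_option autoImplicit false
set_option linter.all false

namespace Cfsg.Agent.FGB.PPow

open Subgroup

universe u v w

variable {k : Type w} [Field k] [Finite k]

theorem isSolvable_of_orb_aux {p : ℕ} [hp : Fact p.Prime] :
    ∀ (nV nA : ℕ) (A : Type u) [Group A] [Finite A] (V : Type v) [AddCommGroup V] [Module k V]
      [Finite V] (ρ : A →* Module.End k V), Nat.card V = nV → Nat.card A = nA →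
      Function.Injective ρ → (Nat.card A : k) ≠ 0 → Orb p ρ → Group.IsSolvable A := by
  intro nV
  induction nV using Nat.strong_induction_on with
  | _ nV ihV =>
  intro nA
  induction nA using Nat.strong_induction_on with
  | _ nA ihA =>
  intro A _ _ V _ _ _ ρ hV hA hinj hcop hO
  let P : Sylow p A := default
  by_cases hD : HasDecomp ρ (P : Subgroup A)
  · refine isSolvable_of_solvMod hinj (solvMod_of_hasDecomp ρ hO P hD ?_)
    intro B W τ hW hτ
    let f := τ.toHomUnits
    let ρ' : B ⧸ f.ker →* Module.End k W := (Units.coeHom _).comp (QuotientGroup.kerLift f)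
    have hρ' : Function.Injective ρ' :=
      fun a b h => QuotientGroup.kerLift_injective f (Units.ext h)
    have hcop' : (Nat.card (B ⧸ f.ker) : k) ≠ 0 := cast_card_ne_zero_of_dvd
      ((card_quotient_dvd_card f.ker).trans (card_subgroup_dvd_card B)) hcop
    have hO' : Orb p ρ' := by
      intro v
      obtain ⟨e, he⟩ := hτ v
      refine ⟨e, ?_⟩
      rw [← he, ← index_comap_of_surjective (stab ρ' v) (QuotientGroup.mk'_surjective f.ker)]
      rfl
    have hs : Group.IsSolvable (B ⧸ f.ker) :=
      ihV (Nat.card W) (hV ▸ hW) (Nat.card (B ⧸ f.ker)) (B ⧸ f.ker) W ρ' rfl rfl hρ' hcop' hO'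
    obtain ⟨n, hn⟩ := solvMod_of_isSolvable (QuotientGroup.mk' f.ker)
      (Group.isSolvable_of_isSolvable_injective
        (Subgroup.subtype_injective (QuotientGroup.mk' f.ker).range))
    refine ⟨n, fun a ha => congrArg Units.val (?_ : f a = 1)⟩
    exact MonoidHom.mem_ker.1 ((QuotientGroup.eq_one_iff a).1 (hn ha))
  · refine isSolvable_of_not_hasDecomp ρ hinj hcop hO P hD fun K hK hKne => ?_
    haveI := hK
    refine ihA (Nat.card K) ?_ K V (ρ.comp K.subtype) hV rfl
      (hinj.comp K.subtype_injective)
      (cast_card_ne_zero_of_dvd (card_subgroup_dvd_card K) hcop) (hO.comp_normal K)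
    rw [← hA]
    exact lt_of_le_of_ne (Nat.le_of_dvd Nat.card_pos (card_subgroup_dvd_card K))
      (fun h => hKne (K.eq_top_of_card_eq h))

/-- **All orbits of `p`-power size force solvability** (coprime faithful linear actions). -/
theorem isSolvable_of_orb {p : ℕ} [Fact p.Prime] {A : Type u} [Group A] [Finite A] {V : Type v}
    [AddCommGroup V] [Module k V] [Finite V] (ρ : A →* Module.End k V) (hinj : Function.Injective ρ)
    (hA : (Nat.card A : k) ≠ 0) (hO : Orb p ρ) : Group.IsSolvable A :=
  isSolvable_of_orb_aux (Nat.card V) (Nat.card A) A V ρ rfl rfl hinj hA hO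

end Cfsg.Agent.FGB.PPow
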