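import Mathlib
import Cfsg.Agent.Lib.FGB.WreathModel
import Cfsg.Agent.Lib.FGB.MaxClassExponent

/-! The group of order 81 and maximal class with an elementary abelian maximal subgroup. -/

set_option autoImplicit false

namespace Cfsg.Agent.FGB.Wreath

open Subgroup

universe u

variable [Fact (Nat.Prime 3)]

theorem card_W : Nat.card (W 3) = 81 := by
  rw [SemidirectProduct.card, Nat.card_congr Multiplicative.toAdd, Nat.card_congr Multiplicative.toAdd,
    Nat.card_pi]
  simp

/-- The imprimitive action. -/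
def toPerm : W 3 →* Equiv.Perm (ZMod 3 × ZMod 3) :=
  MonoidHom.mk' (fun g =>
    { toFun := fun q => (q.1 + g.right.toAdd, q.2 + g.left.toAdd (q.1 + g.right.toAdd))
      invFun := fun q => (q.1 - g.right.toAdd, q.2 - g.left.toAdd q.1)
      left_inv := fun q => by simp
      right_inv := fun q => by simp }) fun g h => by
    refine Equiv.ext fun q => Prod.ext ?_ ?_
    · show q.1 + (g.right.toAdd + h.right.toAdd) = q.1 + h.right.toAdd + g.right.toAdd
      abel
    · show q.2 + (g.left.toAdd + shift 3 g.right.toAdd h.left.toAdd) (q.1 + (g.right.toAdd + h.right.toAdd)) =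
        q.2 + h.left.toAdd (q.1 + h.right.toAdd) + g.left.toAdd (q.1 + h.right.toAdd + g.right.toAdd)
      rw [Pi.add_apply, shift_apply,
        show q.1 + (g.right.toAdd + h.right.toAdd) - g.right.toAdd = q.1 + h.right.toAdd by abel,
        show q.1 + (g.right.toAdd + h.right.toAdd) = q.1 + h.right.toAdd + g.right.toAdd by abel]
      abel

theorem toPerm_injective : Function.Injective toPerm := by
  rw [injective_iff_map_eq_one]
  intro g hg
  have h : ∀ q : ZMod 3 × ZMod 3,
      (q.1 + g.right.toAdd, q.2 + g.left.toAdd (q.1 + g.right.toAdd)) = q := fun q => Equiv.congr_fun hg q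
  have hr : g.right.toAdd = 0 := by simpa using congrArg Prod.fst (h (0, 0))
  refine SemidirectProduct.ext (Multiplicative.toAdd.injective (funext fun i => ?_)) (Multiplicative.toAdd.injective hr)
  have h2 := congrArg Prod.snd (h (i, 0))
  simp only [hr, add_zero, zero_add] at h2
  exact h2

theorem equiv_sylow : ∃ P : Sylow 3 (Equiv.Perm (Fin 9)), Nonempty (W 3 ≃* (P : Subgroup (Equiv.Perm (Fin 9)))) := by
  obtain ⟨e⟩ : Nonempty (ZMod 3 × ZMod 3 ≃ Fin 9) := ⟨Fintype.equivFinOfCardEq (by simp)⟩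
  let f : W 3 →* Equiv.Perm (Fin 9) := e.permCongrHom.toMonoidHom.comp toPerm
  have hf : Function.Injective f := e.permCongrHom.injective.comp toPerm_injective
  have hc : Nat.card f.range = 81 := (Nat.card_congr (MonoidHom.ofInjective hf).toEquiv).symm.trans card_W
  obtain ⟨P, hP⟩ := (IsPGroup.of_card (n := 4) (hc.trans (by norm_num) : Nat.card f.range = 3 ^ 4)).exists_le_sylow
  obtain ⟨m, hm⟩ := IsPGroup.iff_card.1 P.isPGroup'
  have hm4 : m ≤ 4 := by
    by_contra hgt
    have h1 : 3 ^ 5 ∣ Nat.card (Equiv.Perm (Fin 9)) :=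
      (pow_dvd_pow 3 (show 5 ≤ m by omega)).trans (hm ▸ Subgroup.card_subgroup_dvd_card _)
    rw [Nat.card_eq_fintype_card, Fintype.card_perm, Fintype.card_fin] at h1
    norm_num [Nat.factorial] at h1
  have heq : f.range = P := Subgroup.eq_of_le_of_card_ge hP
    (by rw [hm, hc]; exact (Nat.pow_le_pow_right (by norm_num) hm4).trans_eq (by norm_num))
  exact ⟨P, ⟨(MonoidHom.ofInjective hf).trans (MulEquiv.subgroupCongr heq)⟩⟩

/-- Recognition. -/
theorem equiv_of_elementary {S : Type u} [Group S] [Finite S] (hS : Nat.card S = 81)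
    (L : Subgroup S) (hL : Nat.card L = 9) (hLf : L ≤ frattini S)
    (A : Subgroup S) [A.Normal] (hA : Nat.card A = 27) (hLA : L ≤ A) [IsMulCommutative A]
    (hA3 : ∀ a ∈ A, a ^ 3 = 1) (x : S) (hx : x ∉ A) (hx3 : x ^ 3 = 1) : Nonempty (S ≃* W 3) := by
  classical
  obtain ⟨a, ha, haL⟩ : ∃ a ∈ A, a ∉ L := by
    by_contra hall
    push Not at hall
    have := card_le_of_le (show A ≤ L from hall)
    omega
  letI : CommGroup A := { (inferInstance : Group A) with mul_comm := (inferInstance : IsMulCommutative A).is_comm.comm }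
  let ai : ZMod 3 → A := fun i => ⟨x ^ i.val * a * (x ^ i.val)⁻¹, Normal.conj_mem inferInstance a ha _⟩
  have hai : ∀ i k : ZMod 3, x ^ k.val * (ai i : S) * (x ^ k.val)⁻¹ = ai (i + k) := by
    intro i k
    show x ^ k.val * (x ^ i.val * a * (x ^ i.val)⁻¹) * (x ^ k.val)⁻¹ = x ^ (i + k).val * a * (x ^ (i + k).val)⁻¹
    rw [add_comm i k, MaxClass.pow_val_add hx3]; group
  let F : Multiplicative (Vec 3) →* A := MonoidHom.mk' (fun v => ∏ i, ai i ^ (v.toAdd i).val) fun v w => by
    rw [← Finset.prod_mul_distrib]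
    refine Finset.prod_congr rfl fun i _ => ?_
    exact MaxClass.pow_val_add (Subtype.ext (by simpa using hA3 _ (ai i).2)) _ _
  let fg : Multiplicative (ZMod 3) →* S := MonoidHom.mk' (fun k => x ^ k.toAdd.val) fun k l =>
    MaxClass.pow_val_add hx3 _ _
  have hcompat : ∀ k, (A.subtype.comp F).comp (act 3 k).toMonoidHom =
      (MulAut.conj (fg k)).toMonoidHom.comp (A.subtype.comp F) := by
    intro k
    refine MonoidHom.ext fun v => ?_
    show ((∏ i, ai i ^ ((act 3 k v).toAdd i).val : A) : S) =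
      x ^ k.toAdd.val * ((∏ i, ai i ^ (v.toAdd i).val : A) : S) * (x ^ k.toAdd.val)⁻¹
    have hsub : (∏ i, ai i ^ ((act 3 k v).toAdd i).val : A) = ∏ i, ai (i + k.toAdd) ^ (v.toAdd i).val := by
      rw [← Equiv.prod_comp (Equiv.addRight k.toAdd)]
      refine Finset.prod_congr rfl fun i _ => ?_
      rw [Equiv.coe_addRight, act_apply, shift_apply, add_sub_cancel_right]
    rw [hsub, ← MulAut.conjNormal_apply (x ^ k.toAdd.val), map_prod]
    refine congrArg Subtype.val (Finset.prod_congr rfl fun i _ => ?_)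
    rw [map_pow]
    congr 1
    exact Subtype.ext ((MulAut.conjNormal_apply (x ^ k.toAdd.val) (ai i)).trans (hai i k.toAdd)).symm
  let ψ := SemidirectProduct.lift (A.subtype.comp F) fg hcompat
  have hxr : x ∈ ψ.range := ⟨top 3, by
    rw [show ψ (top 3) = fg (Multiplicative.ofAdd 1) from SemidirectProduct.lift_inr _ _ _ _]
    show x ^ (1 : ZMod 3).val = x
    rw [ZMod.val_one, pow_one]⟩
  have har : a ∈ ψ.range := ⟨gen 3, by
    rw [show ψ (gen 3) = (A.subtype.comp F) (Multiplicative.ofAdd (e0 3)) from SemidirectProduct.lift_inl _ _ _ _]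
    show ((∏ i, ai i ^ (e0 3 i).val : A) : S) = a
    rw [Finset.prod_eq_single (0 : ZMod 3)]
    · show ((ai 0 ^ ((Pi.single 0 1 : ZMod 3 → ZMod 3) 0).val : A) : S) = a
      rw [Pi.single_eq_same, ZMod.val_one, pow_one]
      simp [ai]
    · intro i _ hi
      rw [e0, Pi.single_eq_of_ne hi, ZMod.val_zero, pow_zero]
    · exact fun h => absurd (Finset.mem_univ _) h⟩
  have htop : ψ.range ⊔ L = ⊤ := by
    have hA' : A ≤ ψ.range ⊔ L := by
      have hlt : L < L ⊔ zpowers a := lt_of_le_of_ne le_sup_left fun he => haL (he ▸ mem_sup_right (mem_zpowers a))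
      have h1 := Basics.card_lt_of_lt hlt
      have hp81 : IsPGroup 3 S := IsPGroup.of_card (n := 4) (hS.trans (by norm_num))
      obtain ⟨e, he⟩ := IsPGroup.iff_card.1 (hp81.to_subgroup (L ⊔ zpowers a : Subgroup S))
      rw [hL, he, show (9 : ℕ) = 3 ^ 2 by norm_num, Nat.pow_lt_pow_iff_right (by norm_num)] at h1
      have heq : L ⊔ zpowers a = A := eq_of_le_of_card_ge (sup_le hLA (zpowers_le.2 ha))
        (by rw [hA, he]; exact le_trans (by norm_num) (Nat.pow_le_pow_right (by norm_num) (show 3 ≤ e by omega)))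
      rw [← heq]
      exact sup_le le_sup_right (zpowers_le.2 (mem_sup_left har))
    have hlt : A < ψ.range ⊔ L := lt_of_le_of_ne hA' fun he => hx (he ▸ mem_sup_left hxr)
    have hp81 : IsPGroup 3 S := IsPGroup.of_card (n := 4) (hS.trans (by norm_num))
    obtain ⟨e, he⟩ := IsPGroup.iff_card.1 (hp81.to_subgroup (ψ.range ⊔ L : Subgroup S))
    have h1 := Basics.card_lt_of_lt hlt
    rw [hA, he, show (27 : ℕ) = 3 ^ 3 by norm_num, Nat.pow_lt_pow_iff_right (by norm_num)] at h1
    refine eq_of_le_of_card_ge le_top ?_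
    rw [card_top, hS, he]
    exact le_trans (by norm_num) (Nat.pow_le_pow_right (by norm_num) (show 4 ≤ e by omega))
  have hsurj : ψ.range = ⊤ := by
    have hp81 : IsPGroup 3 S := IsPGroup.of_card (n := 4) (hS.trans (by norm_num))
    haveI := hp81.isNilpotent
    exact frattini_nongenerating (top_le_iff.1 (htop.symm.le.trans (sup_le_sup_left hLf _)))
  haveI : Finite (W 3) := Nat.finite_of_card_ne_zero (by rw [card_W]; norm_num)
  have hbij : Function.Bijective ψ := (Nat.bijective_iff_surjective_and_card _).2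
    ⟨MonoidHom.range_eq_top.1 hsurj, card_W.trans hS.symm⟩
  exact ⟨(MulEquiv.ofBijective ψ hbij).symm⟩

end Cfsg.Agent.FGB.Wreath
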