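import Mathlib
import Cfsg.Agent.Lib.FGB.MaxClassThree
import Cfsg.Agent.Lib.FGB.WreathSylow
import Cfsg.Agent.Lib.Fusion.EssentialFrame
import Cfsg.Agent.Lib.Fusion.RankTwoPrelim
import Cfsg.Agent.Lib.Fusion.RankTwoCube
import Cfsg.Agent.Lib.Fusion.Generation
import Cfsg.Agent.Lib.Fusion.EssentialSmall

/-! Fusion systems on 3-groups with a pearl. -/

set_option autoImplicit false

namespace Cfsg.Agent.FGB.PearlThree

open Subgroup
open scoped commutatorElement
open Cfsg.FusionSystem (centralizerIn normalizerIn)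
open Cfsg.Agent.Fusion

universe u

/-- A nonabelian group of order `27` of exponent 3 is extraspecial. -/
theorem extraspecial_of_card {G : Type u} [Group G] [Finite G] [Fact (Nat.Prime 3)] (hG : Nat.card G = 27)
    (hna : ¬ ∀ a b : G, a * b = b * a) : Cfsg.IsExtraspecial 3 G := by
  classical
  have hc27 : Nat.card G = 3 ^ 3 := hG.trans (by norm_num)
  have hGp : IsPGroup 3 G := IsPGroup.of_card hc27
  haveI := hGp.isNilpotent
  obtain ⟨hZ, hQ, hle⟩ := center_of_card_cube hc27 hna
  have hcomm : commutator G = center G := by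
    refine eq_of_le_of_card_ge hle ?_
    obtain ⟨m, hm⟩ := IsPGroup.iff_card.1 (hGp.to_subgroup (commutator G))
    rcases Nat.eq_zero_or_pos m with rfl | hm0
    · exfalso
      have h1 : commutator G = ⊥ := eq_bot_of_card_eq _ (hm.trans (pow_zero 3))
      exact hna fun a b => commutatorElement_eq_one_iff_mul_comm.1
        (mem_bot.1 (h1 ▸ commutator_mem_commutator (mem_top a) (mem_top b)))
    · rw [hZ, hm]
      exact Nat.le_self_pow (by omega) 3
  have hfr : frattini G = center G := by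
    refine (eq_of_le_of_card_ge (hcomm ▸ Basics.commutator_le_frattini) ?_).symm
    rw [hZ]
    obtain ⟨m, hm⟩ := IsPGroup.iff_card.1 (hGp.to_subgroup (frattini G))
    rw [hm]
    by_contra hgt
    rw [not_le] at hgt
    have hm2 : 2 ≤ m := by
      by_contra h2
      have := (Nat.pow_le_pow_right (show 0 < 3 by norm_num) (show m ≤ 1 by omega)).trans_lt' hgt
      norm_num at this
    have hidx : (frattini G).index ≤ 3 ^ 1 := by
      refine Nat.le_of_mul_le_mul_left ?_ (pow_pos (show 0 < 3 by norm_num) m)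
      rw [← hm, card_mul_index, hm, hc27, ← pow_add]
      exact Nat.pow_le_pow_right (by norm_num) (by omega)
    obtain ⟨T, hT, hTs⟩ := MaxClass.exists_generators_of_index hGp 1 (frattini G) hidx
    have htop := frattini_nongenerating hTs
    refine hna fun a b => ?_
    have hsub : ∃ g : G, closure (T : Set G) ≤ zpowers g := by
      rcases Finset.card_le_one_iff_subset_singleton.1 hT with ⟨g, hg⟩
      exact ⟨g, (Subgroup.closure_mono (Finset.coe_subset.2 hg)).trans (by simp [zpowers_eq_closure])⟩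
    obtain ⟨g, hg⟩ := hsub
    obtain ⟨i, rfl⟩ := hg (htop.ge (mem_top a))
    obtain ⟨j, rfl⟩ := hg (htop.ge (mem_top b))
    exact ((Commute.refl g).zpow_zpow i j).eq
  exact ⟨⟨hGp, hfr, hcomm⟩, hZ⟩

variable {Ω : Type u} [Group Ω] {S : Subgroup Ω} [Finite S] [Fact (Nat.Prime 3)]
  {F : Cfsg.FusionSystem S} {E : Subgroup Ω}

/-- The case `|S| = 27`. -/
theorem exponent_three (hS : IsPGroup 3 S) (hF : F.IsSaturated 3) (hE : F.IsEssential 3 E)
    (hS27 : Nat.card S = 27) (hE9 : Nat.card E = 9) (hE3 : ∀ x ∈ E, x ^ 3 = 1)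
    (hna : ¬ ∀ a b : S, a * b = b * a) : ∀ k ∈ S, k ^ 3 = 1 := by
  intro k hk
  by_cases hkE : k ∈ E
  · exact hE3 k hkE
  have hES : E ≤ S := hE.1.1
  haveI := finite_of_le hES
  have hcard : Nat.card E = 3 ^ 2 := hE9.trans (by norm_num)
  have hcomm : IsMulCommutative E := IsPGroup.isMulCommutative_of_card_eq_prime_sq hcard
  have hidx : (E.subgroupOf S).index = 3 := by
    have := card_mul_index (E.subgroupOf S)
    rw [Nat.card_congr (subgroupOfEquivOfLe hES).toEquiv, hE9, hS27] at this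
    omega
  have hEn : (E.subgroupOf S).Normal := normal_of_index_eq_minFac_card (by
    rw [hidx, hS27, show (27 : ℕ) = 3 ^ 3 by norm_num, Nat.pow_minFac (by norm_num), (Fact.out : Nat.Prime 3).minFac_eq])
  have hkN : k ∈ normalizerIn S E := ⟨hk, (normal_subgroupOf_iff_le_normalizer hES).1 hEn hk⟩
  obtain ⟨c, -, hc⟩ := exists_frame_neg hcomm (fun v => Subtype.ext (hE3 v v.2)) hcard hS hE
    (F.autGroup E).subtype (by rw [MonoidHom.ker_eq_bot_iff _ |>.2 (Subgroup.subtype_injective _)]; exact IsPGroup.of_bot)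
    (by norm_num)
  have hg := mapTo_of_mem_autGroup hES c.2
  have hneg : ∀ v ∈ E, autFun (c : MulAut E) v = v⁻¹ := fun v hv => by
    rw [autFun_apply _ hv, show (c : MulAut E) ⟨v, hv⟩ = (⟨v, hv⟩ : E)⁻¹ from hc ⟨v, hv⟩]
    rfl
  obtain ⟨e, he, heE, heu⟩ := exists_extension_zpowers hS hF hE.1 hg (img_autFun _) hkN hk fun v hv => by
    rw [hneg v hv, hneg _ (conj_mem_of_mem_normalizerIn hkN hv)]; group
  have hu : k⁻¹ * e k ∈ E := centralizerIn_le_of_isCentric hE.1 heu
  set u := k⁻¹ * e k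
  have hkQ : k ∈ E ⊔ zpowers k := mem_sup_right (mem_zpowers k)
  have hk3 : k ^ 3 ∈ E := by
    haveI := hEn
    have := (E.subgroupOf S).pow_index_mem ⟨k, hk⟩
    rwa [hidx, mem_subgroupOf] at this
  have hsq : e (k ^ 3) = (k * u) ^ 3 := by
    rw [show k * u = e k from mul_inv_cancel_left k (e k), pow_succ, pow_succ, pow_one, pow_succ, pow_succ, pow_one,
      he.map_mul (mul_mem hkQ hkQ) hkQ, he.map_mul hkQ hkQ]
  rw [heE _ hk3, hneg _ hk3] at hsq
  obtain ⟨hZ, -, hle⟩ := center_of_card_cube (p := 3) (hS27.trans (by norm_num)) hna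
  have hcom : ∀ y ∈ S, Commute ⁅u, k⁆ y := fun y hy => by
    have h1 := mem_center_iff.1 (hle (commutator_mem_commutator (mem_top (⟨u, hES hu⟩ : S)) (mem_top ⟨k, hk⟩)))
      ⟨y, hy⟩
    exact (congrArg Subtype.val h1).symm
  have hz3 : ⁅u, k⁆ ^ 3 = 1 := by
    have h1 : (⟨_, hle (commutator_mem_commutator (mem_top (⟨u, hES hu⟩ : S)) (mem_top ⟨k, hk⟩))⟩ : center S) ^ 3 = 1 := by
      have := pow_card_eq_one' (x := (⟨_, hle (commutator_mem_commutator (mem_top (⟨u, hES hu⟩ : S)) (mem_top ⟨k, hk⟩))⟩ : center S))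
      rwa [hZ] at this
    exact congrArg (fun z : center S => ((z : S) : Ω)) h1
  rw [Transfer.mul_pow_of_commute (hcom k hk) (hcom u (hES hu)), hE3 u hu, mul_one,
    show (3 : ℕ).choose 2 = 3 from rfl, hz3, mul_one] at hsq
  have h6 : k ^ 6 = 1 := by
    rw [show (6 : ℕ) = 3 + 3 by norm_num, pow_add]
    nth_rw 1 [← hsq]
    exact inv_mul_cancel _
  have h9 : k ^ 9 = 1 := by rw [show (9 : ℕ) = 3 * 3 by norm_num, pow_mul, hE3 _ hk3]
  calc k ^ 3 = k ^ 9 * (k ^ 6)⁻¹ := by group
    _ = 1 := by rw [h9, h6, inv_one, mul_one]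

/-- The trichotomy. -/
theorem trichotomy (hS : IsPGroup 3 S) (hF : F.IsSaturated 3) (hE : F.IsEssential 3 E)
    (hpearl : (Nat.card E = 9 ∧ ∀ x ∈ E, x ^ 3 = 1) ∨ (Nat.card E = 27 ∧ ¬ IsMulCommutative E))
    (hcl : ∀ n : ℕ, Nat.card S = 3 ^ n → Group.nilpotencyClass S = n - 1) :
    (Cfsg.IsExtraspecial 3 S ∧ Nat.card S = 27 ∧ Monoid.exponent S = 3) ∨
      (81 ≤ Nat.card S ∧ ∀ H : Subgroup Ω, H ≤ S → ∃ T : Finset Ω, T.card ≤ 2 ∧ closure (T : Set Ω) = H) ∨
      (∃ W : Sylow 3 (Equiv.Perm (Fin 9)), Nonempty (S ≃* (W : Subgroup (Equiv.Perm (Fin 9))))) := by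
  classical
  haveI := hS.isNilpotent
  obtain ⟨n, hn⟩ := hS.exists_card_eq
  have hES : E ≤ S := hE.1.1
  haveI := finite_of_le hES
  have hlt : E < S := ne_top_of_isEssential hS hF hE
  have hcs : Nat.card E < Nat.card S := by
    refine lt_of_le_of_ne (card_le_of_le hES) fun he => hlt.ne (eq_of_le_of_card_ge hES he.ge)
  have hc9 : 9 ≤ Nat.card E := by rcases hpearl with ⟨h, -⟩ | ⟨h, -⟩ <;> omega
  have hn3 : 3 ≤ n := by
    by_contra h
    have := Nat.pow_le_pow_right (show 0 < 3 by norm_num) (show n ≤ 2 by omega)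
    omega
  have hM := MaxClass.isMax_of_class (by omega) hn (hcl n hn)
  rcases (show n = 3 ∨ n = 4 ∨ 5 ≤ n by omega) with rfl | rfl | h5
  · -- order 27
    left
    have hS27 : Nat.card S = 27 := hn.trans (by norm_num)
    obtain ⟨hE9, hE3⟩ : Nat.card E = 9 ∧ ∀ x ∈ E, x ^ 3 = 1 := hpearl.resolve_right fun h => by omega
    have hna : ¬ ∀ a b : S, a * b = b * a := fun h => by
      have h1 : Group.nilpotencyClass S ≤ 1 := MaxClass.class_le_one_of_center
        (eq_top_iff.2 fun x _ => mem_center_iff.2 fun y => h y x)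
      rw [hcl 3 hn] at h1
      omega
    refine ⟨extraspecial_of_card hS27 hna, hS27, ?_⟩
    haveI : Nontrivial S := Finite.one_lt_card_iff_nontrivial.1 (by omega)
    refine (Monoid.exponent_eq_prime_iff (Fact.out : Nat.Prime 3)).2 fun g hg =>
      orderOf_eq_prime (Subtype.ext (exponent_three hS hF hE hS27 hE9 hE3 hna g g.2)) hg
  · -- order 81
    have hS81 : Nat.card S = 81 := hn.trans (by norm_num)
    by_cases hall : ∀ H : Subgroup S, (frattini H).index ≤ 3 ^ 2
    · refine Or.inr (Or.inl ⟨hS81.ge, fun H hH => ?_⟩)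
      obtain ⟨T, hT, hTs⟩ := MaxClass.exists_generators_of_index (hS.to_subgroup (H.subgroupOf S)) 2 _ (hall _)
      haveI := (hS.to_subgroup (H.subgroupOf S)).isNilpotent
      refine ⟨T.image ((S.subtype).comp (H.subgroupOf S).subtype), Finset.card_image_le.trans hT, ?_⟩
      rw [Finset.coe_image, ← MonoidHom.map_closure, frattini_nongenerating hTs, ← MonoidHom.range_eq_map,
        MonoidHom.range_comp, range_subtype, map_subgroupOf_eq_of_le hH]
    right; right
    push Not at hall
    obtain ⟨A, hA⟩ := hall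
    set L1 := (⊤ : Subgroup S).lowerCentralSeries 1 with hL1
    have hL1c : Nat.card L1 = 9 := (hM.lcs_card 1 le_rfl (by omega)).trans (by norm_num)
    have hL1f : L1 ≤ frattini S := by
      rw [hL1, top_lowerCentralSeries_one]; exact Basics.commutator_le_frattini
    obtain ⟨a, ha⟩ := IsPGroup.iff_card.1 (hS.to_subgroup A)
    have hAp := hS.to_subgroup A
    haveI := hAp.isNilpotent
    obtain ⟨b, hb⟩ := IsPGroup.iff_card.1 (hAp.to_subgroup (frattini A))
    have hAi := card_mul_index (frattini A)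
    rw [hb, ha] at hAi
    have hb1 : b + 3 ≤ a := by
      have h1 : 3 ^ b * 3 ^ 2 < 3 ^ a := hAi ▸ Nat.mul_lt_mul_of_pos_left hA (pow_pos (by norm_num) b)
      rw [← pow_add, Nat.pow_lt_pow_iff_right (by norm_num)] at h1
      omega
    have hAtop : A ≠ ⊤ := by
      rintro rfl
      rw [card_top, hn] at ha
      have ha4 : a = 4 := (Nat.pow_right_injective (le_refl 2 |>.trans (by norm_num : 2 ≤ 3)) ha).symm
      have h1 : (L1.subgroupOf ⊤) ≤ frattini (⊤ : Subgroup S) := by
        intro y hy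
        rw [mem_subgroupOf, hL1, top_lowerCentralSeries_one] at hy
        have h2 : commutator (⊤ : Subgroup S) = (commutator S).subgroupOf ⊤ := by
          refine map_injective (f := (⊤ : Subgroup S).subtype) (subtype_injective _) ?_
          rw [_root_.commutator_def, map_commutator, ← MonoidHom.range_eq_map, range_subtype,
            map_subgroupOf_eq_of_le le_top, _root_.commutator_def]
        exact Basics.commutator_le_frattini (h2.ge (mem_subgroupOf.2 hy))
      have h3 := card_le_of_le h1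
      rw [Nat.card_congr (subgroupOfEquivOfLe le_top).toEquiv, hL1c, hb] at h3
      have : 3 ^ b ≤ 3 ^ 1 := Nat.pow_le_pow_right (by norm_num) (by omega)
      omega
    have h4 := Basics.card_lt_of_lt (lt_top_iff_ne_top.2 hAtop)
    rw [card_top, hn, ha, Nat.pow_lt_pow_iff_right (by norm_num)] at h4
    have ha3 : a = 3 := by omega
    have hb0 : b = 0 := by omega
    subst ha3 hb0
    have hfb : frattini A = ⊥ := eq_bot_of_card_eq _ (hb.trans (pow_zero 3))
    have hAab : IsMulCommutative A := ⟨⟨fun u v => commutatorElement_eq_one_iff_mul_comm.1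
      (mem_bot.1 (hfb ▸ Basics.commutator_le_frattini (commutator_mem_commutator (mem_top u) (mem_top v))))⟩⟩
    have hA3 : ∀ u ∈ A, u ^ 3 = 1 := fun u hu => by
      have h1 := Basics.pow_mem_frattini hAp (⟨u, hu⟩ : A)
      rw [hfb, mem_bot] at h1
      exact congrArg Subtype.val h1
    have hAidx : A.index = 3 := by
      have := card_mul_index A
      rw [ha, hS81] at this
      omega
    haveI hAn : A.Normal := normal_of_index_eq_minFac_card (by
      rw [hAidx, hS81, show (81 : ℕ) = 3 ^ 4 by norm_num, Nat.pow_minFac (by norm_num), (Fact.out : Nat.Prime 3).minFac_eq])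
    have hLA : L1 ≤ A := by
      rw [hL1, top_lowerCentralSeries_one]
      haveI : IsCyclic (S ⧸ A) := isCyclic_of_prime_card (p := 3) hAidx
      rw [← Normal.quotient_commutative_iff_commutator_le]
      exact IsCyclic.isMulCommutative
    -- an element of the pearl outside `A`
    have hex : ∀ y ∈ E, y ^ 3 = 1 := by
      rcases hpearl with ⟨-, h⟩ | ⟨h27, hna⟩
      · exact h
      · rcases essential_card_cube hS hE (h27.trans (by norm_num)) with h | ⟨-, -, h⟩ | ⟨h, -⟩
        · exact absurd h.1 hna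
        · exact h
        · omega
    obtain ⟨x, hxE, hxA⟩ : ∃ x : S, (x : Ω) ∈ E ∧ x ∉ A := by
      by_contra hno
      push Not at hno
      have hEA : E.subgroupOf S ≤ A := fun y hy => hno y hy
      rcases hpearl with ⟨h9, -⟩ | ⟨h27, hna⟩
      · have hAE : A ≤ E.subgroupOf S := fun y hy => by
          refine mem_subgroupOf.2 (centralizerIn_le_of_isCentric hE.1 (mem_centralizerIn.2 ⟨y.2, fun w hw => ?_⟩))
          have := hAab.is_comm.comm (⟨⟨w, hES hw⟩, hEA (mem_subgroupOf.2 hw)⟩ : A) ⟨y, hy⟩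
          exact congrArg (fun z : A => ((z : S) : Ω)) this
        have := card_le_of_le hAE
        rw [ha, Nat.card_congr (subgroupOfEquivOfLe hES).toEquiv, h9] at this
        norm_num at this
      · refine hna ⟨⟨fun u v => ?_⟩⟩
        have := hAab.is_comm.comm (⟨⟨u, hES u.2⟩, hEA (mem_subgroupOf.2 u.2)⟩ : A) ⟨⟨v, hES v.2⟩, hEA (mem_subgroupOf.2 v.2)⟩
        exact Subtype.ext (by simpa using congrArg (fun z : A => ((z : S) : Ω)) this)
    obtain ⟨e⟩ := Wreath.equiv_of_elementary hS81 L1 hL1c hL1f A (ha.trans (by norm_num)) hLA hA3 x hxA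
      (Subtype.ext (hex _ hxE))
    obtain ⟨W, ⟨e'⟩⟩ := Wreath.equiv_sylow
    exact ⟨W, ⟨e.trans e'⟩⟩
  · refine Or.inr (Or.inl ⟨?_, fun H hH => ?_⟩)
    · rw [hn]; exact le_trans (by norm_num) (Nat.pow_le_pow_right (by norm_num) (show 4 ≤ n by omega))
    · obtain ⟨T, hT, hTs⟩ := MaxClass.three_two_generated hM h5 (H.subgroupOf S)
      refine ⟨T.image S.subtype, Finset.card_image_le.trans hT, ?_⟩
      rw [Finset.coe_image, ← MonoidHom.map_closure, hTs, map_subgroupOf_eq_of_le hH]

end Cfsg.Agent.FGB.PearlThree
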