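/-
Extensions of groups whose `π`-elements form a subgroup.
-/
import Mathlib
import Cfsg.Agent.Lib.Basics.CoprimeAction
import Cfsg.Agent.Lib.Transfer.Residual

set_option autoImplicit false
set_option linter.all false

namespace Cfsg.Agent.FGB

open Subgroup
open scoped Pointwise

/-- The order of the element only involves primes of `π`. -/
def PiEl {G : Type*} [Group G] (π : Set ℕ) (x : G) : Prop := ∀ p : ℕ, p.Prime → p ∣ orderOf x → p ∈ π

/-- The `π`-elements form a subgroup. -/
def PiClosed (G : Type*) [Group G] (π : Set ℕ) : Prop := ∃ K : Subgroup G, ∀ x : G, x ∈ K ↔ PiEl π x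

/-- A `π`-element normalizing a `π'`-subgroup centralizes it. -/
def PiHom (G : Type*) [Group G] (π : Set ℕ) : Prop :=
  ∀ H : Subgroup G, (∀ p : ℕ, p.Prime → p ∣ Nat.card H → p ∉ π) →
    ∀ x ∈ normalizer (H : Set G), PiEl π x → x ∈ centralizer (H : Set G)

variable {G : Type*} [Group G] [Finite G] {π : Set ℕ}

theorem piHom_of_index
    (h : ∀ H : Subgroup G, H ≠ ⊥ → (∀ p : ℕ, p.Prime → p ∣ Nat.card ↥H → p ∉ π) →
      ∀ p : ℕ, p.Prime → p ∣ (centralizer (H : Set G)).relIndex (normalizer (H : Set G)) → p ∉ π) :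
    PiHom G π := by
  intro H hH x hx hπ
  rcases eq_or_ne H ⊥ with rfl | hH1
  · simp [mem_centralizer_iff]
  set N := normalizer (H : Set G)
  set C := centralizer (H : Set G)
  haveI : (C.subgroupOf N).Normal := by
    simp only [C, N]
    rw [← normalizerMonoidHom_ker]
    exact MonoidHom.normal_ker _
  refine mem_subgroupOf.mp ((QuotientGroup.eq_one_iff (⟨x, hx⟩ : N)).mp ?_)
  rw [← orderOf_eq_one_iff]
  by_contra hne
  obtain ⟨p, hp, hpd⟩ := Nat.exists_prime_and_dvd hne
  refine h H hH1 hH p hp (hpd.trans ((_root_.orderOf_dvd_natCard _).trans (dvd_of_eq (index_eq_card _).symm))) ?_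
  exact hπ p hp (hpd.trans ((orderOf_map_dvd (QuotientGroup.mk' (C.subgroupOf N)) (⟨x, hx⟩ : N)).trans
    (by rw [Subgroup.orderOf_mk])))

theorem PiHom.subgroup (h : PiHom G π) (M : Subgroup G) : PiHom M π := by
  intro H hH x hx hπ
  have h1 := h (H.map M.subtype) (by rw [card_map_of_injective M.subtype_injective]; exact hH) x
    (le_normalizer_map M.subtype ⟨x, hx, rfl⟩)
    (fun p hp hd => hπ p hp (by rwa [Subgroup.orderOf_coe] at hd))
  rw [mem_centralizer_iff] at h1 ⊢
  intro y hy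
  exact Subtype.ext (h1 y ⟨y, hy, rfl⟩)

omit [Finite G] in
theorem PiClosed.of_mulEquiv {H : Type*} [Group H] (e : G ≃* H) (h : PiClosed G π) : PiClosed H π := by
  obtain ⟨K, hK⟩ := h
  refine ⟨K.map e.toMonoidHom, fun x => ?_⟩
  rw [mem_map_equiv, hK]
  unfold PiEl
  rw [orderOf_injective e.symm.toMonoidHom e.symm.injective x |>.symm]
  rfl

/-- If `L` contains the `π`-elements among the powers of `x`, the order of `x` modulo `L` is a `π'`-number. -/
theorem dvd_orderOf_not_mem {L : Subgroup G} [L.Normal] {x : G}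
    (hL : ∀ y ∈ zpowers x, PiEl π y → y ∈ L) {p : ℕ} (hp : p.Prime)
    (hd : p ∣ orderOf (x : G ⧸ L)) : p ∉ π := by
  intro hpπ
  haveI := Fact.mk hp
  obtain ⟨a, b, ha, hb, hab, ⟨k, hak⟩, hbc⟩ := Transfer.exists_pPart_mul (p := p) x
  have haL : a ∈ L := hL a ha fun r hr hrd => by
    have := (Nat.prime_dvd_prime_iff_eq hr hp).mp (hr.dvd_of_dvd_pow (hrd.trans hak))
    exact this ▸ hpπ
  rw [← hab, QuotientGroup.mk_mul, (QuotientGroup.eq_one_iff a).mpr haL, one_mul] at hd
  exact hp.not_dvd_one (hbc ▸ Nat.dvd_gcd (hd.trans (orderOf_map_dvd (QuotientGroup.mk' L) b)) dvd_rfl)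

/-- **Extension lemma.** A group with a `π`-closed normal subgroup and a `π`- or `π'`-quotient, in
which `π`-elements centralize the `π'`-subgroups they normalize, is `π`-closed. -/
theorem piClosed_of_normal (hhom : PiHom G π) (K : Subgroup G) [K.Normal] (hK : PiClosed K π)
    (hQ : (∀ x : G ⧸ K, PiEl π x) ∨ (∀ x : G ⧸ K, PiEl π x → x = 1)) : PiClosed G π := by
  classical
  obtain ⟨L0, hL0⟩ := hK
  set L : Subgroup G := L0.map K.subtype with hLdef
  have hLK : L ≤ K := map_subtype_le _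
  have hL : ∀ x, x ∈ L ↔ x ∈ K ∧ PiEl π x := by
    intro x
    constructor
    · rintro ⟨y, hy, rfl⟩
      refine ⟨y.2, fun p hp hd => (hL0 y).mp hy p hp ?_⟩
      rwa [coe_subtype, Subgroup.orderOf_coe] at hd
    · rintro ⟨hx, hxπ⟩
      exact ⟨⟨x, hx⟩, (hL0 ⟨x, hx⟩).mpr fun p hp hd => hxπ p hp (by rwa [Subgroup.orderOf_mk] at hd), rfl⟩
  rcases hQ with hQ | hQ
  swap
  · refine ⟨L, fun x => ⟨fun hx => ((hL x).mp hx).2, fun hx => (hL x).mpr ⟨?_, hx⟩⟩⟩
    rw [← QuotientGroup.eq_one_iff]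
    exact hQ _ fun p hp hd => hx p hp (hd.trans (orderOf_map_dvd (QuotientGroup.mk' K) x))
  haveI hLn : L.Normal := ⟨fun x hx g => by
    obtain ⟨hxK, hxπ⟩ := (hL x).mp hx
    refine (hL _).mpr ⟨(inferInstance : K.Normal).conj_mem x hxK g, fun p hp hd => hxπ p hp ?_⟩
    exact hd.trans (dvd_of_eq (orderOf_injective (MulAut.conj g).toMonoidHom (MulAut.conj g).injective x))⟩
  set φ := QuotientGroup.mk' L with hφ
  have hφs : Function.Surjective φ := QuotientGroup.mk'_surjective L
  set T := K.map φ with hT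
  haveI hTn : T.Normal := (inferInstance : K.Normal).map φ hφs
  have hTπ : ∀ p : ℕ, p.Prime → p ∣ Nat.card T → p ∉ π := by
    intro p hp hd
    haveI := Fact.mk hp
    obtain ⟨t, ht⟩ := exists_prime_orderOf_dvd_card' (G := T) p hd
    obtain ⟨k, hk, hkt⟩ := t.2
    refine dvd_orderOf_not_mem (x := k) (L := L) (fun y hy hyπ => (hL y).mpr ⟨zpowers_le.mpr hk hy, hyπ⟩) hp ?_
    show p ∣ orderOf (φ k)
    rw [hkt, Subgroup.orderOf_coe, ht]
  have hLπ : ∀ p : ℕ, p.Prime → p ∣ Nat.card L → p ∈ π := by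
    intro p hp hd
    haveI := Fact.mk hp
    obtain ⟨t, ht⟩ := exists_prime_orderOf_dvd_card' (G := L) p hd
    exact ((hL t).mp t.2).2 p hp (by rw [Subgroup.orderOf_coe, ht])
  -- lifting: an element over a `π`-element is a `π`-element
  have hlift : ∀ x : G, PiEl π (φ x) → PiEl π x := by
    intro x hx p hp hd
    have h1 : x ^ orderOf (φ x) ∈ L := by
      rw [← QuotientGroup.eq_one_iff, QuotientGroup.mk_pow]; exact pow_orderOf_eq_one _
    have h2 : orderOf x ∣ orderOf (φ x) * Nat.card L := by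
      refine orderOf_dvd_of_pow_eq_one ?_
      rw [pow_mul]
      exact congrArg Subtype.val (pow_card_eq_one' (x := (⟨_, h1⟩ : L)))
    exact (hp.dvd_mul.mp (hd.trans h2)).elim (hx p hp) (hLπ p hp)
  -- `π`-elements centralize `T`
  have hcent : ∀ x : G, PiEl π x → φ x ∈ centralizer (T : Set (G ⧸ L)) := by
    intro x hx
    set A := zpowers (φ x) with hA
    have hAπ : ∀ p : ℕ, p.Prime → p ∣ Nat.card A → p ∈ π := fun p hp hd => hx p hp
      ((by rwa [hA, Nat.card_zpowers] at hd : p ∣ orderOf (φ x)).trans (orderOf_map_dvd φ x))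
    have hcop : (Nat.card A).Coprime (Nat.card T) := by
      rw [Nat.coprime_iff_gcd_eq_one]
      by_contra hne
      obtain ⟨p, hp, hpd⟩ := Nat.exists_prime_and_dvd hne
      exact hTπ p hp (hpd.trans (Nat.gcd_dvd_right _ _)) (hAπ p hp (hpd.trans (Nat.gcd_dvd_left _ _)))
    have hAT : A ≤ normalizer (T : Set (G ⧸ L)) := by
      rw [normalizer_eq_top_iff.mpr hTn]; exact le_top
    set D := T ⊓ centralizer ({φ x} : Set (G ⧸ L)) with hD
    suffices hTD : T ≤ D by
      rw [mem_centralizer_iff]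
      intro t ht
      exact mem_centralizer_singleton_iff.mp (hTD ht).2
    rw [← relIndex_eq_one]
    by_contra hne
    obtain ⟨r, hr, hrd⟩ := Nat.exists_prime_and_dvd hne
    haveI := Fact.mk hr
    have hrT : r ∣ Nat.card T := hrd.trans (relIndex_dvd_card _ _)
    obtain ⟨S, hS, hAS⟩ := Basics.exists_invariant_isSylowIn A T hAT hcop (Or.inl inferInstance) r
    have hSc : ∀ s ∈ S, s * φ x = φ x * s := by
      set Y := S.comap φ with hY
      have hYK : Y ≤ K := by
        intro y hy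
        obtain ⟨k, hk, hky⟩ := hS.1 hy
        have h1 : k⁻¹ * y ∈ L := QuotientGroup.eq.mp hky
        have h2 := mul_mem hk (hLK h1)
        rwa [mul_inv_cancel_left] at h2
      obtain ⟨R⟩ : Nonempty (Sylow r Y) := inferInstance
      set R0 := (R : Subgroup Y).map Y.subtype with hR0
      have hR0Y : R0 ≤ Y := map_subtype_le _
      have hR0S : R0.map φ = S := by
        refine eq_of_le_of_card_ge (by rintro _ ⟨y, hy, rfl⟩; exact hR0Y hy) ?_
        have hinj : Function.Injective (φ.subgroupMap R0) := by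
          intro a b hab
          have h1 : (a : G)⁻¹ * b ∈ L := QuotientGroup.eq.mp (congrArg Subtype.val hab)
          refine Subtype.ext (inv_mul_eq_one.mp ?_)
          by_contra h2
          obtain ⟨e, he⟩ := IsPGroup.iff_orderOf.mp (R.2.map Y.subtype) ⟨_, mul_mem (inv_mem a.2) b.2⟩
          rw [Subgroup.orderOf_mk] at he
          have he1 : e ≠ 0 := fun h0 => h2 (orderOf_eq_one_iff.mp (by rw [he, h0, pow_zero]))
          exact hTπ r hr hrT (((hL _).mp h1).2 r hr (he ▸ dvd_pow_self r he1))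
        rw [← Nat.card_congr (Equiv.ofBijective _ ⟨hinj, φ.subgroupMap_surjective R0⟩), hR0,
          card_map_of_injective Y.subtype_injective, R.card_eq_multiplicity, hS.2]
        refine Nat.pow_le_pow_right hr.pos ?_
        have hYcard : Nat.card S ∣ Nat.card Y := by
          have h1 : Y.map φ = S := map_comap_eq_self_of_surjective hφs S
          rw [← h1]
          exact card_map_dvd _ _
        rw [hS.2] at hYcard
        exact (hr.pow_dvd_iff_le_factorization Nat.card_pos.ne').mp hYcard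
      -- Frattini inside `Y`
      have hxY : x ∈ normalizer (Y : Set G) := by
        rw [mem_normalizer_iff]
        intro y
        show φ y ∈ S ↔ φ (x * y * x⁻¹) ∈ S
        rw [map_mul, map_mul, map_inv]
        exact mem_normalizer_iff.mp (hAS (mem_zpowers _)) (φ y)
      have hR0in : Basics.IsSylowIn r Y R0 := Basics.isSylowIn_map R
      obtain ⟨y, hy, hyc⟩ := (hR0in.conj_smul hxY).exists_conj hR0in
      -- replace `y` by an element of `L`
      obtain ⟨s, hs, hsy⟩ : ∃ s ∈ R0, φ s = φ y := hR0S.ge (show φ y ∈ S from hy)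
      set n := s⁻¹ * (y * x) with hn
      have hnN : n ∈ normalizer (R0 : Set G) := by
        refine mul_mem (inv_mem (le_normalizer hs)) ?_
        rw [← Basics.conj_smul_eq_self_iff, map_mul, mul_smul]
        exact hyc
      have hφn : φ n = φ x := by
        rw [hn, map_mul, map_mul, map_inv, hsy, inv_mul_cancel_left]
      have hnπ : PiEl π n := hlift n fun p hp hd => hx p hp ((hφn ▸ hd).trans (orderOf_map_dvd φ x))
      have hnc := hhom R0 (fun p hp hd => by
        obtain ⟨e, he⟩ := (R.2.map Y.subtype).exists_card_eq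
        rw [he] at hd
        rw [(Nat.prime_dvd_prime_iff_eq hp hr).mp (hp.dvd_of_dvd_pow hd)]
        exact hTπ r hr hrT) n hnN hnπ
      intro t ht
      rw [← hR0S] at ht
      obtain ⟨u, hu, rfl⟩ := ht
      rw [← hφn, ← map_mul, ← map_mul, mem_centralizer_iff.mp hnc u hu]
    have hSD : S ≤ D := le_inf hS.1 fun s hs => mem_centralizer_singleton_iff.mpr (hSc s hs)
    have h1 : r ^ (Nat.card T).factorization r ∣ Nat.card D := hS.2 ▸ card_dvd_of_le hSD
    have h2 : Nat.card D * D.relIndex T = Nat.card T := by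
      have h3 := relIndex_mul_relIndex ⊥ D T bot_le inf_le_left
      rwa [relIndex_bot_left, relIndex_bot_left] at h3
    refine Nat.pow_succ_factorization_not_dvd (Nat.card_pos (α := T)).ne' hr ?_
    rw [pow_succ, ← h2]
    conv_lhs => rw [h2]
    exact mul_dvd_mul h1 hrd
  -- split off `T ∩ Z` from the centralizer `Z` of `T`
  set Z := centralizer (T : Set (G ⧸ L)) with hZ
  set Z0 : Subgroup Z := T.subgroupOf Z with hZ0
  have hZ0c : ∀ z ∈ Z0, ∀ w : Z, w * z = z * w := fun z hz w => Subtype.ext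
    (mem_centralizer_iff.mp w.2 z (mem_subgroupOf.mp hz)).symm
  have hidxπ : ∀ p : ℕ, p.Prime → p ∣ Z0.index → p ∈ π := by
    intro p hp hd
    have h1 : p ∣ T.index := hd.trans (relIndex_dvd_index_of_normal T Z)
    rw [hT, index_map_eq _ hφs (by rw [hφ, QuotientGroup.ker_mk']; exact hLK)] at h1
    haveI := Fact.mk hp
    rw [index_eq_card] at h1
    obtain ⟨q, hq⟩ := exists_prime_orderOf_dvd_card' (G := G ⧸ K) p h1
    exact hQ q p hp (hq ▸ dvd_rfl)
  have hcardπ : ∀ p : ℕ, p.Prime → p ∣ Nat.card Z0 → p ∉ π := fun p hp hd => hTπ p hp (hd.trans (by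
    rw [← card_map_of_injective (K := Z0) Z.subtype_injective]
    exact card_dvd_of_le (by rintro _ ⟨z, hz, rfl⟩; exact hz)))
  have hZcop : (Nat.card Z0).Coprime Z0.index := by
    rw [Nat.coprime_iff_gcd_eq_one]
    by_contra hne
    obtain ⟨p, hp, hpd⟩ := Nat.exists_prime_and_dvd hne
    exact hcardπ p hp (hpd.trans (Nat.gcd_dvd_left _ _)) (hidxπ p hp (hpd.trans (Nat.gcd_dvd_right _ _)))
  obtain ⟨W, hW⟩ := exists_right_complement'_of_coprime hZcop
  haveI hWn : W.Normal := ⟨fun k hk c => by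
    obtain ⟨⟨⟨z, hz⟩, ⟨k', hk'⟩⟩, hzk, -⟩ := hW.existsUnique c
    rw [← hzk]
    have h1 : k' * k * k'⁻¹ ∈ W := mul_mem (mul_mem hk' hk) (inv_mem hk')
    have h2 : z * k' * k * (z * k')⁻¹ = z * (k' * k * k'⁻¹) * z⁻¹ := by group
    rw [h2, ← hZ0c z hz, mul_inv_cancel_right]
    exact h1⟩
  refine ⟨(W.map Z.subtype).comap φ, fun x => ⟨fun hx => ?_, fun hx => ?_⟩⟩
  · obtain ⟨w, hw, hwx⟩ := hx
    refine hlift x fun p hp hd => hidxπ p hp ?_
    rw [hW.symm.index_eq_card]
    refine hd.trans ?_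
    rw [← hwx, coe_subtype, Subgroup.orderOf_coe, ← Subgroup.orderOf_mk w hw]
    exact _root_.orderOf_dvd_natCard _
  · refine ⟨⟨φ x, hcent x hx⟩, ?_, rfl⟩
    obtain ⟨⟨⟨z, hz⟩, ⟨k', hk'⟩⟩, hzk, -⟩ := hW.existsUnique ⟨φ x, hcent x hx⟩
    rw [SetLike.mem_coe, ← QuotientGroup.eq_one_iff, ← orderOf_eq_one_iff]
    by_contra hne
    obtain ⟨p, hp, hpd⟩ := Nat.exists_prime_and_dvd hne
    have h1 : p ∈ π := hx p hp (hpd.trans ((orderOf_map_dvd (QuotientGroup.mk' W) _).trans (by
      rw [Subgroup.orderOf_mk]; exact orderOf_map_dvd φ x)))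
    rw [← hzk, QuotientGroup.mk_mul, (QuotientGroup.eq_one_iff k').mpr hk', mul_one] at hpd
    refine hcardπ p hp ?_ h1
    refine hpd.trans ((orderOf_map_dvd (QuotientGroup.mk' W) z).trans ?_)
    rw [← Subgroup.orderOf_mk z hz]
    exact _root_.orderOf_dvd_natCard _

end Cfsg.Agent.FGB
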