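import Mathlib
import Cfsg.Agent.Lib.PermGp.AltIndex
import Cfsg.Agent.Lib.PermGp.HalfTrans

/-!
# Degree 7 with a 5-cycle and degree 13 with an 11-cycle

A transitive group of even permutations of degree `p + 2` containing a `p`-cycle, `p = 5, 11`, is
the alternating group (given Jordan's theorem for the prime 5 in degree 13).
-/

set_option autoImplicit false
set_option linter.style.haveILetI false

namespace Cfsg.Agent.FGB

open MulAction Equiv

variable {β : Type*} [Fintype β] [DecidableEq β]

theorem mem_powers_of_commute_cycle {p : ℕ} {a g : Perm β} (ha : a.IsCycle) (hap : a.support.card = p)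
    (hga : g * a = a * g) {o : β} (ho : o ∈ a.support) (hfix : ∀ x, x ∉ a.support → g x = x) :
    ∃ i : ℕ, g = a ^ i := by
  have hgo : g o ∈ a.support := by
    rw [Perm.mem_support, ← Perm.mul_apply, ← hga, Perm.mul_apply]
    exact fun h => Perm.mem_support.mp ho (g.injective h)
  obtain ⟨i, hi⟩ := ha.exists_pow_eq (Perm.mem_support.mp ho) (Perm.mem_support.mp hgo)
  refine ⟨i, Equiv.ext fun x => ?_⟩
  by_cases hx : x ∈ a.support
  · obtain ⟨j, rfl⟩ := ha.exists_pow_eq (Perm.mem_support.mp ho) (Perm.mem_support.mp hx)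
    have hc : Commute g (a ^ j) := (show Commute g a from hga).pow_right j
    rw [← Perm.mul_apply, hc.eq, Perm.mul_apply, ← hi, ← Perm.mul_apply, ← Perm.mul_apply,
      (Commute.pow_pow (Commute.refl a) j i).eq]
  · rw [hfix x hx, Perm.pow_apply_eq_self_of_apply_eq_self (Perm.notMem_support.mp hx)]

/-- The Jordan hypothesis in the form used below. -/
def JordanFive (β : Type*) [Fintype β] [DecidableEq β] : Prop :=
  ∀ K : Subgroup (Perm β), IsPreprimitive K β → ∀ t : Perm β, t ∈ K → t.IsCycle →
    t.support.card = 5 → alternatingGroup β ≤ K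

theorem eq_alternating_of_plus_two {p : ℕ} (hp : p = 5 ∨ p = 11) (hq : Fintype.card β = p + 2)
    (hJ : p = 11 → JordanFive β) (K : Subgroup (Perm β)) (hK : K ≤ alternatingGroup β)
    (htr : IsPretransitive K β) {a : Perm β} (haK : a ∈ K) (ha : a.IsCycle)
    (hap : a.support.card = p) : K = alternatingGroup β := by
  classical
  haveI := htr
  have hpp : p.Prime := by rcases hp with rfl | rfl <;> norm_num
  have hqp : (p + 2).Prime := by rcases hp with rfl | rfl <;> norm_num
  haveI := Fact.mk hpp
  have hord : orderOf a = p := ha.orderOf.trans hap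
  have hprim : IsPreprimitive K β := IsPreprimitive.of_prime_card (by
    rw [Nat.card_eq_fintype_card, hq]; exact hqp)
  -- the two fixed points of `a`
  have hcompl : a.supportᶜ.card = 2 := by rw [Finset.card_compl, hap, hq]; omega
  obtain ⟨c, c', hcc, hfixset⟩ := Finset.card_eq_two.mp hcompl
  have hnot : ∀ x : β, x ∉ a.support ↔ x = c ∨ x = c' := fun x => by
    rw [← Finset.mem_compl, hfixset, Finset.mem_insert, Finset.mem_singleton]
  have hac : a c = c := Perm.notMem_support.mp ((hnot c).mpr (Or.inl rfl))
  have hac' : a c' = c' := Perm.notMem_support.mp ((hnot c').mpr (Or.inr rfl))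
  let st : β → Subgroup (Perm β) := fun x => stabilizer (Perm β) x
  let Kc := K ⊓ st c
  let L := Kc ⊓ st c'
  have haKc : a ∈ Kc := ⟨haK, hac⟩
  have haL : a ∈ L := ⟨haKc, hac'⟩
  have horb : ∀ (H : Subgroup (Perm β)), a ∈ H → ∀ (x y : β), x ∈ a.support → y ∈ a.support →
      ∃ h ∈ H, h x = y := by
    intro H hH x y hx hy
    obtain ⟨i, hi⟩ := ha.exists_pow_eq (Perm.mem_support.mp hx) (Perm.mem_support.mp hy)
    exact ⟨a ^ i, H.pow_mem hH i, hi⟩
  have hcardK : Nat.card K = (p + 2) * Nat.card Kc := by
    rw [← PermGp.card_orbit_mul_card_inf K c]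
    congr 1
    rw [orbit_eq_univ, Nat.card_coe_set_eq, Set.ncard_univ, Nat.card_eq_fintype_card, hq]
  -- `Kc` moves `c'`
  have hmove : ∃ g ∈ Kc, g c' ≠ c' := by
    by_contra hcon
    push Not at hcon
    have hle : Kc ≤ K ⊓ st c' := fun g hg => ⟨hg.1, hcon g hg⟩
    have hcard' : Nat.card K = (p + 2) * Nat.card ↥(K ⊓ st c') := by
      rw [← PermGp.card_orbit_mul_card_inf K c']
      congr 1
      rw [orbit_eq_univ, Nat.card_coe_set_eq, Set.ncard_univ, Nat.card_eq_fintype_card, hq]
    have heq : Kc = K ⊓ st c' := Subgroup.eq_of_le_of_card_ge hle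
      (Nat.le_of_eq (Nat.eq_of_mul_eq_mul_left (by omega) (hcard'.symm.trans hcardK)))
    haveI : Nontrivial β := ⟨⟨c, c', hcc⟩⟩
    have hmax := IsPreprimitive.isCoatom_stabilizer_of_isPreprimitive (G := K) c
    obtain ⟨g, hg⟩ := exists_smul_eq K c c'
    have hgN : g ∈ Subgroup.normalizer (stabilizer K c : Set K) := by
      rw [Subgroup.mem_normalizer_iff]
      intro h
      have e : ∀ k : K, k • c = c ↔ k • c' = c' := fun k => by
        constructor
        · intro hk
          exact (heq.le (show (k : Perm β) ∈ Kc from ⟨k.2, hk⟩)).2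
        · intro hk
          exact (heq.ge (show (k : Perm β) ∈ K ⊓ st c' from ⟨k.2, hk⟩)).2
      rw [mem_stabilizer_iff, mem_stabilizer_iff, e (g * h * g⁻¹), ← hg, smul_smul,
        inv_mul_cancel_right, mul_smul, smul_left_cancel_iff]
    rcases hmax.le_iff.mp (Subgroup.le_normalizer : stabilizer K c ≤ _) with h | h
    · haveI := Subgroup.normalizer_eq_top_iff.mp h
      have : (⟨a, haK⟩ : K) = 1 := by
        refine Subtype.ext (Equiv.ext fun x => ?_)
        obtain ⟨k, hk⟩ := exists_smul_eq K c x
        have := (inferInstance : (stabilizer K c).Normal).conj_mem _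
          (show (⟨a, haK⟩ : K) ∈ stabilizer K c from hac) k⁻¹
        rw [mem_stabilizer_iff, inv_inv, mul_smul, mul_smul, hk, inv_smul_eq_iff] at this
        rw [hk] at this
        exact this
      exact ha.ne_one (congrArg Subtype.val this)
    · rw [h] at hgN
      exact hcc (hgN.symm.trans hg)
  have horbKc : ∀ x, x ≠ c → ∃ g ∈ Kc, g c' = x := by
    obtain ⟨g, hgK, hg⟩ := hmove
    have hgc : g c' ≠ c := fun h => hcc (g.injective (h.trans hgK.2.symm)).symm
    have hgs : g c' ∈ a.support := by
      by_contra h
      rcases (hnot _).mp h with h | h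
      · exact hgc h
      · exact hg h
    intro x hx
    by_cases hxs : x ∈ a.support
    · obtain ⟨k, hk, hkx⟩ := horb Kc haKc _ x hgs hxs
      exact ⟨k * g, mul_mem hk hgK, hkx⟩
    · rcases (hnot x).mp hxs with h | h
      · exact absurd h hx
      · exact ⟨1, one_mem _, h.symm⟩
  have hcardKc : Nat.card Kc = (p + 1) * Nat.card L := by
    rw [← PermGp.card_orbit_mul_card_inf Kc c']
    congr 1
    have : orbit Kc c' = ({c}ᶜ : Set β) := by
      ext x
      simp only [Set.mem_compl_iff, Set.mem_singleton_iff]
      constructor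
      · rintro ⟨g, rfl⟩ h
        exact hcc ((g : Perm β).injective ((g.2.2 : (g : Perm β) c = c).trans h.symm))
      · intro hx
        obtain ⟨g, hg, hgx⟩ := horbKc x hx
        exact ⟨⟨g, hg⟩, hgx⟩
    rw [this, Nat.card_coe_set_eq, Set.ncard_compl, Set.ncard_singleton, Nat.card_eq_fintype_card, hq]
    omega
  have hsuppL : ∀ g ∈ L, ∀ x ∈ a.support, g x ∈ a.support := by
    intro g hg x hx
    by_contra h
    rcases (hnot _).mp h with h | h
    · have := g.injective (h.trans (hg.1.2 : g c = c).symm)
      exact (hnot x).mpr (Or.inl this) hx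
    · have := g.injective (h.trans (hg.2 : g c' = c').symm)
      exact (hnot x).mpr (Or.inr this) hx
  obtain ⟨o0, ho0⟩ : ∃ o, o ∈ a.support := Finset.card_pos.mp (by omega)
  have hcardL : ∀ o ∈ a.support, Nat.card L = p * Nat.card ↥(L ⊓ st o) := by
    intro o ho
    rw [← PermGp.card_orbit_mul_card_inf L o]
    congr 1
    have : orbit L o = (a.support : Set β) := by
      ext x
      constructor
      · rintro ⟨g, rfl⟩
        exact hsuppL _ g.2 o ho
      · intro hx
        obtain ⟨g, hg, hgx⟩ := horb L haL o x ho hx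
        exact ⟨⟨g, hg⟩, hgx⟩
    rw [this, Nat.card_coe_set_eq, Set.ncard_coe_finset, hap]
  -- elements of `L` commuting with `a` are powers of `a`
  have hfixL : ∀ g ∈ L, ∀ x, x ∉ a.support → g x = x := by
    intro g hg x hx
    rcases (hnot x).mp hx with rfl | rfl
    · exact hg.1.2
    · exact hg.2
  have hcentL : ∀ g ∈ L, g * a = a * g → g ∈ Subgroup.zpowers a := by
    intro g hg hga
    obtain ⟨i, rfl⟩ := mem_powers_of_commute_cycle ha hap hga ho0 (hfixL g hg)
    exact Subgroup.pow_mem _ (Subgroup.mem_zpowers a) i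
  set P := Subgroup.zpowers a with hP
  have hPL : P ≤ L := Subgroup.zpowers_le.mpr haL
  have hPcard : Nat.card P = p := (Nat.card_zpowers a).trans hord
  have hPidx : ¬ p ∣ P.relIndex L := by
    intro hd
    have h1 := (P.subgroupOf L).card_mul_index
    rw [Nat.card_congr (Subgroup.subgroupOfEquivOfLe hPL).toEquiv, hPcard] at h1
    have h2 : p * p ∣ Nat.card L := h1 ▸ mul_dvd_mul_left p hd
    have h3 : p * p ∣ (p + 2).factorial := by
      rw [← hq, ← Fintype.card_perm, ← Nat.card_eq_fintype_card]
      exact h2.trans (Subgroup.card_subgroup_dvd_card L)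
    rcases hp with rfl | rfl <;> norm_num [Nat.factorial] at h3
  let PL : Sylow p L := ((IsPGroup.of_card (n := 1) (by rw [hPcard, pow_one]) : IsPGroup p P).comap_subtype
    (K := L)).toSylow hPidx
  have hPLmem : ∀ g : L, g ∈ (PL : Subgroup L) ↔ (g : Perm β) ∈ P := fun g => Iff.rfl
  by_cases hN : ∀ n ∈ L, n * a * n⁻¹ ∈ P → n * a = a * n
  · -- the normaliser of `⟨a⟩` centralises it
    exfalso
    have hNC : Subgroup.normalizer (PL : Set L) ≤ Subgroup.centralizer (PL : Set L) := by
      intro n hn
      have hna : (n : Perm β) * a * (n : Perm β)⁻¹ ∈ P :=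
        (Subgroup.mem_normalizer_iff.mp hn ⟨a, haL⟩).mp
          ((hPLmem _).mpr (Subgroup.mem_zpowers a))
      have hcomm := hN n n.2 hna
      rw [Subgroup.mem_centralizer_iff]
      intro y hy
      obtain ⟨i, hi⟩ := Subgroup.mem_zpowers_iff.mp ((hPLmem y).mp hy)
      apply Subtype.ext
      show (y : Perm β) * n = n * y
      rw [← hi]
      exact ((show Commute (n : Perm β) a from hcomm).zpow_right i).eq.symm
    haveI : IsMulCommutative (PL : Subgroup L) :=
      ⟨⟨fun x y => Subtype.ext ((Subgroup.mem_centralizer_iff.mp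
        (hNC (Subgroup.le_normalizer y.2))) _ x.2)⟩⟩
    set M := (MonoidHom.transferSylow PL hNC).ker with hM
    have hcomp := MonoidHom.ker_transferSylow_isComplement' PL hNC
    have hMidx : M.index = p := by
      rw [hcomp.symm.index_eq_card]
      exact (Nat.card_congr (Subgroup.subgroupOfEquivOfLe hPL).toEquiv).trans hPcard
    have hMle : ∀ o ∈ a.support, (L ⊓ st o).subgroupOf L = M := by
      intro o ho
      have hc : Nat.card ((L ⊓ st o).subgroupOf L) = Nat.card M := by
        have h1 := M.card_mul_index
        rw [hMidx, hcardL o ho, mul_comm] at h1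
        rw [Nat.card_congr (Subgroup.subgroupOfEquivOfLe inf_le_left).toEquiv]
        exact (Nat.eq_of_mul_eq_mul_left hpp.pos h1).symm
      refine Subgroup.eq_of_le_of_card_ge (fun g hg => ?_) hc.ge
      have hcop : (orderOf g).Coprime p := by
        refine Nat.Coprime.coprime_dvd_left
          ((Subgroup.orderOf_dvd_natCard _ hg).trans hc.dvd) ?_
        exact (hpp.coprime_iff_not_dvd.mpr (MonoidHom.not_dvd_card_ker_transferSylow PL hNC)).symm
      obtain ⟨i, hi⟩ := exists_pow_eq_self_of_coprime (x := g) hcop.symm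
      rw [← hi]
      exact M.pow_mem (hMidx ▸ Subgroup.pow_index_mem M g) i
    have hLtriv : ∀ o ∈ a.support, L ⊓ st o = ⊥ := by
      intro o ho
      rw [eq_bot_iff]
      intro g hg
      rw [Subgroup.mem_bot]
      refine Equiv.ext fun x => ?_
      by_cases hx : x ∈ a.support
      · have : (⟨g, hg.1⟩ : L) ∈ (L ⊓ st x).subgroupOf L := by rw [hMle x hx, ← hMle o ho]; exact hg
        exact this.2
      · exact hfixL g hg.1 x hx
    have hLcard : Nat.card L = p := by rw [hcardL o0 ho0, hLtriv o0 ho0, Subgroup.card_bot, mul_one]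
    have hLP : L = P := (Subgroup.eq_of_le_of_card_ge hPL (by rw [hLcard, hPcard])).symm
    -- now the stabiliser of `c` has a normal `p`-complement of order `p + 1`
    have hNorm : ∀ g ∈ Kc, g * a * g⁻¹ ∈ P → g ∈ P := by
      intro g hg hga
      suffices hgc : g c' = c' by rw [← hLP]; exact ⟨hg, hgc⟩
      obtain ⟨i, hi⟩ := Subgroup.mem_zpowers_iff.mp hga
      have e : a (g⁻¹ c') = g⁻¹ c' := by
        have h1 : (g * a * g⁻¹) c' = c' := by
          rw [← hi]
          exact Perm.zpow_apply_eq_self_of_apply_eq_self hac' i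
        rw [Perm.mul_apply, Perm.mul_apply] at h1
        calc a (g⁻¹ c') = g⁻¹ (g (a (g⁻¹ c'))) := by simp
          _ = g⁻¹ c' := by rw [h1]
      rcases (hnot _).mp (Perm.notMem_support.mpr e) with h | h
      · have : g c = c' := by rw [← h]; simp
        exact absurd ((hg.2 : g c = c).symm.trans this) hcc
      · conv_lhs => rw [← h]
        simp
    have hKcard : Nat.card Kc = (p + 1) * p := by rw [hcardKc, hLcard]
    have hPKc : P ≤ Kc := hPL.trans inf_le_left
    have hPidx' : ¬ p ∣ P.relIndex Kc := by
      have h1 := (P.subgroupOf Kc).card_mul_index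
      rw [Nat.card_congr (Subgroup.subgroupOfEquivOfLe hPKc).toEquiv, hPcard, hKcard, mul_comm (p+1)] at h1
      have h2 : P.relIndex Kc = p + 1 := Nat.eq_of_mul_eq_mul_left hpp.pos h1
      rw [h2]
      rcases hp with rfl | rfl <;> norm_num
    let PK : Sylow p Kc := ((IsPGroup.of_card (n := 1) (by rw [hPcard, pow_one]) : IsPGroup p P).comap_subtype
      (K := Kc)).toSylow hPidx'
    have hNC' : Subgroup.normalizer (PK : Set Kc) ≤ Subgroup.centralizer (PK : Set Kc) := by
      intro n hn
      have hnP := hNorm n n.2 ((Subgroup.mem_normalizer_iff.mp hn ⟨a, haKc⟩).mp (Subgroup.mem_zpowers a))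
      rw [Subgroup.mem_centralizer_iff]
      intro y hy
      exact Subtype.ext (show ((y : Perm β)) * n = n * y from
        congrArg Subtype.val (mul_comm' (⟨(y : Perm β), hy⟩ : P) ⟨_, hnP⟩))
    haveI : IsMulCommutative (PK : Subgroup Kc) :=
      ⟨⟨fun x y => Subtype.ext ((Subgroup.mem_centralizer_iff.mp
        (hNC' (Subgroup.le_normalizer y.2))) _ x.2)⟩⟩
    set M' := (MonoidHom.transferSylow PK hNC').ker with hM'
    have hM'card : Nat.card M' = p + 1 := by
      have h1 := (MonoidHom.ker_transferSylow_isComplement' PK hNC').card_mul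
      rw [show Nat.card (PK : Subgroup Kc) = p from
        (Nat.card_congr (Subgroup.subgroupOfEquivOfLe hPKc).toEquiv).trans hPcard, hKcard] at h1
      exact Nat.eq_of_mul_eq_mul_right hpp.pos h1
    obtain ⟨s, hs, hs2, hsd⟩ : ∃ s : ℕ, s.Prime ∧ s ≠ 2 ∧ s ∣ p + 1 := by
      rcases hp with rfl | rfl <;> exact ⟨3, by norm_num, by norm_num, by norm_num⟩
    haveI := Fact.mk hs
    obtain ⟨m2, hm2⟩ := exists_prime_orderOf_dvd_card' (G := M') 2 (by
      rw [hM'card]; rcases hp with rfl | rfl <;> norm_num)
    obtain ⟨ms, hms⟩ := exists_prime_orderOf_dvd_card' (G := M') s (hM'card ▸ hsd)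
    let aK : Kc := ⟨a, haKc⟩
    -- the conjugates of `m2` under `⟨a⟩` are all the non-identity elements of `M'`
    let φ : Fin p → {m : M' // m ≠ 1} := fun i =>
      ⟨⟨aK ^ (i : ℕ) * (m2 : Kc) * (aK ^ (i : ℕ))⁻¹, (MonoidHom.normal_ker _).conj_mem _ m2.2 _⟩,
        fun h => by
          have h' := congrArg Subtype.val h
          rw [OneMemClass.coe_one] at h'
          have : (m2 : Kc) = 1 := conj_eq_one_iff.mp h'
          have e : m2 = 1 := Subtype.ext this
          rw [e, orderOf_one] at hm2
          omega⟩
    have hφ : Function.Injective φ := by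
      intro i j h
      by_contra hne
      have h' : aK ^ (i : ℕ) * (m2 : Kc) * (aK ^ (i : ℕ))⁻¹ = aK ^ (j : ℕ) * (m2 : Kc) * (aK ^ (j : ℕ))⁻¹ :=
        congrArg (fun z : {m : M' // m ≠ 1} => ((z : M') : Kc)) h
      set d : Kc := (aK ^ (j : ℕ))⁻¹ * aK ^ (i : ℕ) with hd
      have hdm : d * (m2 : Kc) = (m2 : Kc) * d := by
        calc d * (m2 : Kc) = (aK ^ (j : ℕ))⁻¹ * (aK ^ (i : ℕ) * (m2 : Kc) * (aK ^ (i : ℕ))⁻¹) * aK ^ (i : ℕ) := by
              rw [hd]; group
          _ = (m2 : Kc) * d := by rw [h', hd]; group
      have hdP : (d : Perm β) ∈ P := by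
        show (a ^ (j : ℕ))⁻¹ * a ^ (i : ℕ) ∈ P
        exact P.mul_mem (P.inv_mem (P.pow_mem (Subgroup.mem_zpowers a) _)) (P.pow_mem (Subgroup.mem_zpowers a) _)
      have hd1 : (d : Perm β) ≠ 1 := by
        intro h1
        have h2 : a ^ (j : ℕ) = a ^ (i : ℕ) := inv_mul_eq_one.mp h1
        exact hne (Fin.ext (pow_injOn_Iio_orderOf (by simp [hord, i.2]) (by simp [hord, j.2]) h2.symm))
      have hgen : Subgroup.zpowers (d : Perm β) = P := Subgroup.eq_of_le_of_card_ge
        (Subgroup.zpowers_le.mpr hdP) (by
          rw [hPcard, Nat.card_zpowers]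
          have h2 : orderOf (d : Perm β) ∣ p := hPcard ▸ Subgroup.orderOf_dvd_natCard P hdP
          rcases hpp.eq_one_or_self_of_dvd _ h2 with h3 | h3
          · exact absurd (orderOf_eq_one_iff.mp h3) hd1
          · rw [h3])
      have hm2P : ((m2 : Kc) : Perm β) ∈ P := by
        refine hNorm _ (m2 : Kc).2 ?_
        obtain ⟨k, hk⟩ := Subgroup.mem_zpowers_iff.mp (hgen.symm ▸ Subgroup.mem_zpowers a : a ∈ Subgroup.zpowers (d : Perm β))
        rw [← hk, (Commute.zpow_right (show Commute ((m2 : Kc) : Perm β) d from
          (congrArg Subtype.val hdm).symm) k).eq, mul_inv_cancel_right, hk]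
        exact Subgroup.mem_zpowers a
      have := Subgroup.disjoint_def.mp (MonoidHom.ker_transferSylow_isComplement' PK hNC').disjoint m2.2 hm2P
      have e : m2 = 1 := Subtype.ext this
      rw [e, orderOf_one] at hm2
      omega
    have hcardne : Nat.card {m : M' // m ≠ 1} = p := by
      haveI := Fintype.ofFinite M'
      rw [Nat.card_eq_fintype_card, Fintype.card_subtype_compl, Fintype.card_subtype_eq,
        ← Nat.card_eq_fintype_card, hM'card, Nat.add_sub_cancel]
    have hsurj := ((Nat.bijective_iff_injective_and_card φ).mpr ⟨hφ, by rw [hcardne, Nat.card_fin]⟩).2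
    obtain ⟨i, hi⟩ := hsurj ⟨ms, fun h => hs.one_lt.ne (by rw [← hms, h, orderOf_one])⟩
    have hi' : aK ^ (i : ℕ) * (m2 : Kc) * (aK ^ (i : ℕ))⁻¹ = (ms : Kc) :=
      congrArg (fun z : {m : M' // m ≠ 1} => ((z : M') : Kc)) hi
    apply hs2
    rw [← hms, ← Subgroup.orderOf_coe, ← hi', ← hm2, ← Subgroup.orderOf_coe m2]
    exact MulEquiv.orderOf_eq (MulAut.conj (aK ^ (i : ℕ))) (m2 : Kc)
  · -- a non-trivial automorphism of `⟨a⟩` is induced
    push Not at hN
    obtain ⟨n, hnL, hna, hne⟩ := hN
    let N : Subgroup (Perm β) := L ⊓ Subgroup.normalizer (P : Set (Perm β))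
    have hnN : n ∈ N := by
      refine ⟨hnL, Subgroup.mem_normalizer_iff_map_conj_eq.mpr (Subgroup.eq_of_le_of_card_ge ?_ ?_)⟩
      · rw [hP, MonoidHom.map_zpowers, Subgroup.zpowers_le]
        exact hna
      · rw [Subgroup.card_map_of_injective (MulEquiv.injective _)]
    have hPN : P ≤ N := le_inf hPL Subgroup.le_normalizer
    have hnotP : n ∉ P := fun h => hne (by
      obtain ⟨i, rfl⟩ := Subgroup.mem_zpowers_iff.mp h
      exact ((Commute.refl a).zpow_left i).eq)
    obtain ⟨l, hl, hld⟩ := Nat.exists_prime_and_dvd (n := P.relIndex N) fun h =>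
      hnotP (Subgroup.relIndex_eq_one.mp h hnN)
    haveI := Fact.mk hl
    have hlp : l ≠ p := fun h => hPidx (h ▸ hld.trans
      ⟨N.relIndex L, (Subgroup.relIndex_mul_relIndex P N L hPN inf_le_left).symm⟩)
    have hlN : l ∣ Nat.card N := hld.trans (Subgroup.index_dvd_card _)
    obtain ⟨v, hv⟩ := exists_prime_orderOf_dvd_card' l hlN
    have hvo : orderOf (v : Perm β) = l := by rw [Subgroup.orderOf_coe]; exact hv
    have hvL : (v : Perm β) ∈ L := v.2.1
    have hvP : (v : Perm β) ∉ P := fun h => hlp ((Nat.prime_dvd_prime_iff_eq hl hpp).mp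
      (hPcard ▸ hvo ▸ Subgroup.orderOf_dvd_natCard P h))
    obtain ⟨j, -, hj⟩ : ∃ j : ℕ, j < p ∧ (v : Perm β) * a * (v : Perm β)⁻¹ = a ^ j := by
      have h := (Subgroup.mem_normalizer_iff.mp v.2.2 a).mp (Subgroup.mem_zpowers a)
      rw [mem_zpowers_iff_mem_range_orderOf, Finset.mem_image] at h
      obtain ⟨j, hj, hj'⟩ := h
      exact ⟨j, hord ▸ Finset.mem_range.mp hj, hj'.symm⟩
    have hjne : ¬ a ^ j = a := fun h => hvP (hcentL _ hvL (by
      calc (v : Perm β) * a = (v : Perm β) * a * (v : Perm β)⁻¹ * v := by group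
        _ = a * v := by rw [hj, h]))
    -- `l` divides `p - 1`
    have hlp1 : l ∣ p - 1 := by
      have hconj : ∀ k : ℕ, (v : Perm β) ^ k * a * ((v : Perm β) ^ k)⁻¹ = a ^ (j ^ k) := by
        intro k
        induction k with
        | zero => simp
        | succ k ih =>
          calc (v : Perm β) ^ (k + 1) * a * ((v : Perm β) ^ (k + 1))⁻¹
              = (v : Perm β) * ((v : Perm β) ^ k * a * ((v : Perm β) ^ k)⁻¹) * (v : Perm β)⁻¹ := by
                rw [pow_succ']; group
            _ = (v : Perm β) * a ^ (j ^ k) * (v : Perm β)⁻¹ := by rw [ih]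
            _ = ((v : Perm β) * a * (v : Perm β)⁻¹) ^ (j ^ k) := (conj_pow).symm
            _ = a ^ (j ^ (k + 1)) := by rw [hj, ← pow_mul, pow_succ']
      have h1 := hconj l
      rw [← hvo, pow_orderOf_eq_one, one_mul, inv_one, mul_one, hvo] at h1
      have h2 : ((j : ZMod p)) ^ l = 1 := by
        have h3 : a ^ (1 : ℕ) = a ^ (j ^ l) := by rw [pow_one]; exact h1
        rw [pow_eq_pow_iff_modEq, hord, ← ZMod.natCast_eq_natCast_iff, Nat.cast_one, Nat.cast_pow] at h3
        exact h3.symm
      have hj0 : (j : ZMod p) ≠ 0 := fun h => by simp [h, zero_pow hl.ne_zero] at h2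
      have hj1 : (j : ZMod p) ≠ 1 := fun h => hjne (by
        conv_rhs => rw [← pow_one a]
        rw [pow_eq_pow_iff_modEq, hord, ← ZMod.natCast_eq_natCast_iff, h, Nat.cast_one])
      rw [← orderOf_eq_prime h2 hj1]
      exact ZMod.orderOf_dvd_card_sub_one hj0
    -- a fixed point in the support
    have hvc : (v : Perm β) c = c := hvL.1.2
    have hvc' : (v : Perm β) c' = c' := hvL.2
    obtain ⟨o, hos, hvo'⟩ : ∃ o ∈ a.support, (v : Perm β) o = o := by
      by_contra hcon
      push Not at hcon
      have hs : (v : Perm β).support = a.support := by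
        ext x
        rw [Perm.mem_support]
        refine ⟨fun hx => ?_, fun hx => hcon x hx⟩
        by_contra hxs
        exact hx (hfixL _ hvL x hxs)
      have h1 : l ∣ (v : Perm β).support.card := by
        have h2 := Perm.card_compl_support_modEq (p := l) (n := 1) (σ := (v : Perm β))
          (by rw [pow_one, ← hvo]; exact pow_orderOf_eq_one _)
        rw [hs, hcompl, hq] at h2
        rw [hs, hap]
        have := (Nat.modEq_iff_dvd' (by omega)).mp h2
        simpa using this
      rw [hs, hap] at h1
      exact hlp ((Nat.prime_dvd_prime_iff_eq hl hpp).mp h1)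
    have hfixv : ∀ x, (v : Perm β) x = x → x = c ∨ x = c' ∨ x = o := by
      intro x hx
      by_cases hxs : x ∈ a.support
      · refine Or.inr (Or.inr ?_)
        obtain ⟨i, rfl⟩ := ha.exists_pow_eq (Perm.mem_support.mp hos) (Perm.mem_support.mp hxs)
        have h1 : (v : Perm β) * a ^ i = a ^ (j * i) * v := by
          calc (v : Perm β) * a ^ i = ((v : Perm β) * a ^ i * (v : Perm β)⁻¹) * v := by group
            _ = a ^ (j * i) * v := by rw [← conj_pow, hj, ← pow_mul]
        have h2 : (a ^ (j * i)) o = (a ^ i) o := by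
          have := congrArg (fun f : Perm β => f o) h1
          simp only [Perm.mul_apply, hvo'] at this
          rw [← this, hx]
        have h3 : a ^ (j * i) = a ^ i := ha.pow_eq_pow_iff.mpr ⟨o, Perm.mem_support.mp hos, h2⟩
        rw [pow_eq_pow_iff_modEq, hord, ← ZMod.natCast_eq_natCast_iff, Nat.cast_mul] at h3
        have hi0 : (i : ZMod p) = 0 := by
          by_contra hi0
          apply hjne
          conv_rhs => rw [← pow_one a]
          rw [pow_eq_pow_iff_modEq, hord, ← ZMod.natCast_eq_natCast_iff, Nat.cast_one]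
          exact mul_right_cancel₀ hi0 (by rw [one_mul]; exact h3)
        rw [orderOf_dvd_iff_pow_eq_one.mp (hord ▸ (ZMod.natCast_eq_zero_iff _ _).mp hi0 : orderOf a ∣ i)]
        rfl
      · rcases (hnot x).mp hxs with h | h
        · exact Or.inl h
        · exact Or.inr (Or.inl h)
    have hoc : o ≠ c := fun h => (hnot o).mpr (Or.inl h) hos
    have hoc' : o ≠ c' := fun h => (hnot o).mpr (Or.inr h) hos
    have hvsupp : (v : Perm β).supportᶜ = {c, c', o} := by
      ext x
      simp only [Finset.mem_compl, Perm.notMem_support, Finset.mem_insert, Finset.mem_singleton]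
      refine ⟨hfixv x, ?_⟩
      rintro (rfl | rfl | rfl) <;> assumption
    have hvcard : (v : Perm β).support.card = p - 1 := by
      have h := Finset.card_compl (v : Perm β).support
      rw [hvsupp, Finset.card_eq_three.mpr ⟨c, c', o, hcc, hoc.symm, hoc'.symm, rfl⟩, hq] at h
      have := (v : Perm β).support.card_le_univ
      omega
    have hsign : Perm.sign (v : Perm β) = 1 := hK (hvL.1.1)
    rcases hp with rfl | rfl
    · -- degree 7
      have hl2 : l = 2 := by
        have : l ∣ 2 ^ 2 := hlp1
        exact (Nat.prime_dvd_prime_iff_eq hl Nat.prime_two).mp (hl.dvd_of_dvd_pow this)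
      have h2R : 2 ∣ Nat.card ↥(L ⊓ st o) := by
        rw [← hl2, ← hvo]
        exact Subgroup.orderOf_dvd_natCard (L ⊓ st o) ⟨hvL, hvo'⟩
      have hge : 420 ≤ Nat.card K := by
        rw [hcardK, hcardKc, hcardL o hos]
        have := Nat.le_of_dvd Nat.card_pos h2R
        omega
      by_contra hne'
      have := PermGp.card_le_of_le_alternating (by omega) hK hne'
      rw [hq, show Nat.factorial (5 + 2) = 5040 from rfl] at this
      omega
    · -- degree 13
      have hl5 : l = 5 := by
        have h : l ∣ 2 * 5 := hlp1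
        rcases (Nat.Prime.dvd_mul hl).mp h with h | h
        · exfalso
          have hl2 : l = 2 := (Nat.prime_dvd_prime_iff_eq hl Nat.prime_two).mp h
          have hct := Perm.cycleType_prime_order (hvo ▸ hl : (orderOf (v : Perm β)).Prime)
          obtain ⟨m, hm⟩ := hct
          rw [hvo, hl2] at hm
          have hsum := Perm.sum_cycleType (v : Perm β)
          rw [hm, hvcard, Multiset.sum_replicate, smul_eq_mul] at hsum
          have hm4 : m = 4 := by omega
          rw [Perm.sign_of_cycleType, hm, hm4] at hsign
          revert hsign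
          decide
        · exact (Nat.prime_dvd_prime_iff_eq hl (by norm_num)).mp h
      refine le_antisymm hK ?_
      haveI : Fact (Nat.Prime 5) := ⟨by norm_num⟩
      have hv5 : (v : Perm β) ^ 5 = 1 := by rw [← hl5, ← hvo]; exact pow_orderOf_eq_one _
      by_cases hcyc : ∃ t ∈ K, t.IsCycle ∧ t.support.card = 5
      · obtain ⟨t, ht, htc, ht5⟩ := hcyc
        exact hJ rfl K hprim t ht htc ht5
      push Not at hcyc
      -- the two orbits of `v`
      set V := (v : Perm β) with hV
      obtain ⟨u, hu⟩ : V.support.Nonempty := Finset.card_pos.mp (by omega)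
      let A := V.cycleOf u
      have hA5 : A.support.card = 5 := by
        have h1 : A.support.card ∈ V.cycleType := by
          rw [Perm.cycleType_def, Multiset.mem_map]
          exact ⟨A, Perm.cycleOf_mem_cycleFactorsFinset_iff.mpr hu, rfl⟩
        exact Perm.pow_prime_eq_one_iff.mp hv5 _ h1
      have hAmem : ∀ x, x ∈ A.support ↔ ∃ i : ℕ, (V ^ i) u = x := by
        intro x
        rw [Perm.mem_support_cycleOf_iff' (Perm.mem_support.mp hu)]
        exact ⟨fun h => (Perm.SameCycle.exists_pow_eq' h).imp fun i hi => hi.2,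
          fun ⟨i, hi⟩ => ⟨(i : ℤ), by rw [zpow_natCast]; exact hi⟩⟩
      have hAV : A.support ⊆ V.support := Perm.support_cycleOf_le V u
      -- an element commuting with `V` that fixes `u` fixes its orbit
      have hfixorb : ∀ g : Perm β, g * V = V * g → ∀ y, g y = y → ∀ i : ℕ, g ((V ^ i) y) = (V ^ i) y := by
        intro g hg y hy i
        rw [← Perm.mul_apply, ((show Commute g V from hg).pow_right i).eq, Perm.mul_apply, hy]
      let B := V.support \ A.support
      have hB5 : B.card = 5 := by
        rw [Finset.card_sdiff_of_subset hAV, hvcard, hA5]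
      obtain ⟨u', hu'⟩ : B.Nonempty := Finset.card_pos.mp (by omega)
      have hu'V : u' ∈ V.support := (Finset.mem_sdiff.mp hu').1
      let A' := V.cycleOf u'
      have hA'5 : A'.support.card = 5 := by
        have h1 : A'.support.card ∈ V.cycleType := by
          rw [Perm.cycleType_def, Multiset.mem_map]
          exact ⟨A', Perm.cycleOf_mem_cycleFactorsFinset_iff.mpr hu'V, rfl⟩
        exact Perm.pow_prime_eq_one_iff.mp hv5 _ h1
      have hA'mem : ∀ x, x ∈ A'.support ↔ ∃ i : ℕ, (V ^ i) u' = x := by
        intro x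
        rw [Perm.mem_support_cycleOf_iff' (Perm.mem_support.mp hu'V)]
        exact ⟨fun h => (Perm.SameCycle.exists_pow_eq' h).imp fun i hi => hi.2,
          fun ⟨i, hi⟩ => ⟨(i : ℤ), by rw [zpow_natCast]; exact hi⟩⟩
      have hA'B : A'.support = B := by
        refine Finset.eq_of_subset_of_card_le (fun x hx => ?_) (by rw [hB5, hA'5])
        refine Finset.mem_sdiff.mpr ⟨Perm.support_cycleOf_le V u' hx, fun hxA => ?_⟩
        obtain ⟨i, hi⟩ := (hA'mem x).mp hx
        obtain ⟨k, hk⟩ := (hAmem x).mp hxA
        refine (Finset.mem_sdiff.mp hu').2 ?_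
        have e : V.SameCycle u u' := by
          refine Perm.SameCycle.trans (y := x) ⟨(k : ℤ), by rw [zpow_natCast]; exact hk⟩ ?_
          exact Perm.SameCycle.symm ⟨(i : ℤ), by rw [zpow_natCast]; exact hi⟩
        exact (Perm.mem_support_cycleOf_iff' (Perm.mem_support.mp hu)).mpr e
      -- an element commuting with `V` permutes `V.support` and its two orbits
      have hsuppc : ∀ g : Perm β, g * V = V * g → ∀ x, g x ∈ V.support ↔ x ∈ V.support := by
        intro g hg x
        rw [Perm.mem_support, Perm.mem_support, ← Perm.mul_apply, ← hg, Perm.mul_apply]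
        exact g.injective.ne_iff
      -- the square of such an element fixes each orbit, so its tenth power fixes the support
      have hten : ∀ g : Perm β, g * V = V * g → ∀ x ∈ V.support, (g ^ 10) x = x := by
        intro g hg
        have hgc : Commute g V := hg
        have himg : ∀ y z : β, y ∈ V.support → z ∈ V.support → ∀ i : ℕ,
            g y = z → g ((V ^ i) y) = (V ^ i) z := by
          intro y z _ _ i hyz
          rw [← Perm.mul_apply, (hgc.pow_right i).eq, Perm.mul_apply, hyz]
        have hclass : ∀ y ∈ V.support, y ∈ A.support ∨ y ∈ A'.support := fun y hy => by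
          rw [hA'B]
          by_cases h : y ∈ A.support
          · exact Or.inl h
          · exact Or.inr (Finset.mem_sdiff.mpr ⟨hy, h⟩)
        -- `g²` sends each of `u`, `u'` into its own orbit
        have hsq : ∀ y ∈ V.support, ∃ i : ℕ, (g ^ 2) y = (V ^ i) y := by
          intro y hy
          have hgy := (hsuppc g hg y).mpr hy
          have hggy := (hsuppc g hg _).mpr hgy
          have same : ∀ z w : β, (z ∈ A.support ↔ w ∈ A.support) → z ∈ V.support → w ∈ V.support →
              V.SameCycle z w := by
            intro z w hzw hz hw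
            rcases hclass z hz with hzA | hzA
            · exact ((Perm.mem_support_cycleOf_iff' (Perm.mem_support.mp hu)).mp hzA).symm.trans
                ((Perm.mem_support_cycleOf_iff' (Perm.mem_support.mp hu)).mp (hzw.mp hzA))
            · have hzA0 : z ∉ A.support := (Finset.mem_sdiff.mp (hA'B ▸ hzA)).2
              have hwA : w ∈ A'.support := by
                rw [hA'B]; exact Finset.mem_sdiff.mpr ⟨hw, fun h => hzA0 (hzw.mpr h)⟩
              exact ((Perm.mem_support_cycleOf_iff' (Perm.mem_support.mp hu'V)).mp hzA).symm.trans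
                ((Perm.mem_support_cycleOf_iff' (Perm.mem_support.mp hu'V)).mp hwA)
          suffices hsc : V.SameCycle y (g (g y)) by
            obtain ⟨i, -, hi⟩ := Perm.SameCycle.exists_pow_eq' hsc
            exact ⟨i, by rw [pow_two, Perm.mul_apply]; exact hi.symm⟩
          have hmap : ∀ z w : β, V.SameCycle z w → V.SameCycle (g z) (g w) := by
            intro z w h
            obtain ⟨i, -, hi⟩ := Perm.SameCycle.exists_pow_eq' h
            exact ⟨(i : ℤ), by rw [zpow_natCast, ← Perm.mul_apply, ← (hgc.pow_right i).eq, Perm.mul_apply, hi]⟩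
          by_cases h1 : y ∈ A.support ↔ g y ∈ A.support
          · have s1 := same y (g y) h1 hy hgy
            exact s1.trans (hmap _ _ s1)
          · by_cases h2 : g y ∈ A.support ↔ g (g y) ∈ A.support
            · exfalso
              have s2 := hmap _ _ (same (g y) (g (g y)) h2 hgy hggy)
              have s3 := same (g y) (g (g y)) h2 hgy hggy
              apply h1
              have s4 : V.SameCycle y (g y) := by
                obtain ⟨i, -, hi⟩ := Perm.SameCycle.exists_pow_eq' s3
                refine ⟨(i : ℤ), g.injective ?_⟩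
                rw [zpow_natCast, ← Perm.mul_apply, (hgc.pow_right i).eq, Perm.mul_apply, hi]
              rw [Perm.mem_support_cycleOf_iff' (Perm.mem_support.mp hu),
                Perm.mem_support_cycleOf_iff' (Perm.mem_support.mp hu)]
              exact ⟨fun h => h.trans s4, fun h => h.trans s4.symm⟩
            · exact same y (g (g y)) (by tauto) hy hggy
        intro x hx
        obtain ⟨i, hi⟩ := hsq x hx
        have hc2 : Commute (g ^ 2) V := hgc.pow_left 2
        have h5 : ∀ k : ℕ, ((g ^ 2) ^ k) x = (V ^ (i * k)) x := by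
          intro k
          induction k with
          | zero => simp
          | succ k ih =>
            rw [pow_succ', Perm.mul_apply, ih, ← Perm.mul_apply, (hc2.pow_right _).eq, Perm.mul_apply,
              hi, ← Perm.mul_apply, ← pow_add]
            congr 2
        rw [show (10 : ℕ) = 2 * 5 from rfl, pow_mul, h5 5, mul_comm, pow_mul, hv5, one_pow]
        rfl
      let R := L ⊓ st o
      have hVR : V ∈ R := ⟨hvL, hvo'⟩
      have hfixR : ∀ g ∈ R, ∀ x, x ∉ V.support → g x = x := by
        intro g hg x hx
        rcases hfixv x (Perm.notMem_support.mp hx) with rfl | rfl | rfl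
        · exact hg.1.1.2
        · exact hg.1.2
        · exact hg.2
      -- `⟨V⟩` is a Sylow subgroup of `R`
      let Q := Subgroup.zpowers V
      have hQR : Q ≤ R := Subgroup.zpowers_le.mpr hVR
      have hQ5 : Nat.card Q = 5 := by rw [Nat.card_zpowers, hvo, hl5]
      have hQp : IsPGroup 5 (Q.subgroupOf R) :=
        (IsPGroup.of_card (n := 1) (by rw [hQ5, pow_one]) : IsPGroup 5 Q).comap_subtype
      obtain ⟨S, hS⟩ := hQp.exists_le_sylow
      have hSQ : (S : Subgroup R) = Q.subgroupOf R := by
        by_contra hne'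
        -- an element of `S` commuting with `V` and not a power of it
        obtain ⟨s, hsS, hsV, hsQ⟩ : ∃ s ∈ (S : Subgroup R), Commute (s : Perm β) V ∧ (s : Perm β) ∉ Q := by
          haveI := S.2.isNilpotent
          by_cases hcen : ∀ s ∈ (S : Subgroup R), Commute (s : Perm β) V
          · obtain ⟨s, hsS, hsQ⟩ := SetLike.exists_of_lt (lt_of_le_of_ne hS (Ne.symm hne'))
            exact ⟨s, hsS, hcen s hsS, hsQ⟩
          · push Not at hcen
            obtain ⟨s0, hs0, hs0V⟩ := hcen
            haveI : Nontrivial (S : Subgroup R) := ⟨⟨⟨s0, hs0⟩, 1, fun h => hs0V (by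
              have e := congrArg (fun z : (S : Subgroup R) => ((z : R) : Perm β)) h
              simp only [OneMemClass.coe_one] at e
              rw [e]; exact Commute.one_left V)⟩⟩
            haveI : Nontrivial (Subgroup.center (S : Subgroup R)) := S.2.center_nontrivial
            obtain ⟨z, hz⟩ := exists_ne (1 : Subgroup.center (S : Subgroup R))
            have hVS : (⟨V, hVR⟩ : R) ∈ (S : Subgroup R) := hS (Subgroup.mem_zpowers V)
            have hzc : ∀ w ∈ (S : Subgroup R), Commute (((z : (S : Subgroup R)) : R) : Perm β) (w : Perm β) :=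
              fun w hw => congrArg (fun y : (S : Subgroup R) => ((y : R) : Perm β))
                (Subgroup.mem_center_iff.mp z.2 ⟨w, hw⟩).symm
            refine ⟨_, (z : (S : Subgroup R)).2, hzc _ hVS, fun hzQ => ?_⟩
            apply hs0V
            have hz1 : (((z : (S : Subgroup R)) : R) : Perm β) ≠ 1 := fun h =>
              hz (Subtype.ext (Subtype.ext (Subtype.ext h)))
            have hgen : Subgroup.zpowers (((z : (S : Subgroup R)) : R) : Perm β) = Q :=
              Subgroup.eq_of_le_of_card_ge (Subgroup.zpowers_le.mpr hzQ) (by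
                rw [hQ5, Nat.card_zpowers]
                have h2 := Subgroup.orderOf_dvd_natCard Q hzQ
                rw [hQ5] at h2
                rcases (Nat.Prime.eq_one_or_self_of_dvd (by norm_num) _ h2) with h3 | h3
                · exact absurd (orderOf_eq_one_iff.mp h3) hz1
                · rw [h3])
            obtain ⟨k, hk⟩ := Subgroup.mem_zpowers_iff.mp (hgen.symm ▸ Subgroup.mem_zpowers V :
              V ∈ Subgroup.zpowers (((z : (S : Subgroup R)) : R) : Perm β))
            rw [← hk]
            exact ((hzc s0 hs0).symm).zpow_right k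
        set t := (s : Perm β) with ht
        have hsR : t ∈ R := s.2
        have hfixs : ∀ x, x ∉ V.support → t x = x := hfixR t hsR
        -- `t` has order five
        obtain ⟨k, hk⟩ := IsPGroup.iff_orderOf.mp S.2 ⟨s, hsS⟩
        rw [Subgroup.orderOf_mk, ← Subgroup.orderOf_coe] at hk
        have h10 : t ^ 10 = 1 := Equiv.ext fun x => by
          by_cases hx : x ∈ V.support
          · exact hten t hsV.eq x hx
          · exact Perm.pow_apply_eq_self_of_apply_eq_self (hfixs x hx) 10
        have ht5 : t ^ 5 = 1 := by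
          refine orderOf_dvd_iff_pow_eq_one.mp ?_
          have h := orderOf_dvd_of_pow_eq_one h10
          rw [hk, show (10 : ℕ) = 5 * 2 from rfl] at h
          rw [hk]
          exact (Nat.Coprime.pow_left k (by norm_num : Nat.Coprime 5 2)).dvd_of_dvd_mul_right h
        -- `t` maps each orbit to itself
        have hsame : ∀ y ∈ V.support, V.SameCycle y (t y) := by
          intro y hy
          by_contra hns
          -- two orbits: `t²` fixes them, so odd powers move them
          have hodd : ∀ i : ℕ, V.SameCycle y ((t ^ (2 * i)) y) ∧ ¬ V.SameCycle y ((t ^ (2 * i + 1)) y) := by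
            intro i
            induction i with
            | zero => exact ⟨by simp [Perm.SameCycle.refl], by simpa using hns⟩
            | succ i ih =>
              have hmap : ∀ z w : β, V.SameCycle z w → V.SameCycle (t z) (t w) := by
                intro z w h
                obtain ⟨i, -, hi⟩ := Perm.SameCycle.exists_pow_eq' h
                exact ⟨(i : ℤ), by rw [zpow_natCast, ← Perm.mul_apply, ← (hsV.pow_right i).eq, Perm.mul_apply, hi]⟩
              have htwo : ∀ z ∈ V.support, ∀ w ∈ V.support, ¬ V.SameCycle y z → ¬ V.SameCycle y w →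
                  V.SameCycle z w := by
                intro z hz w hw hyz hyw
                have key : ∀ r : β, r ∈ V.support → (r ∈ A.support ↔ V.SameCycle u r) := fun r _ =>
                  Perm.mem_support_cycleOf_iff' (Perm.mem_support.mp hu)
                have key' : ∀ r : β, r ∈ V.support → r ∉ A.support → V.SameCycle u' r := fun r hr hrA =>
                  (Perm.mem_support_cycleOf_iff' (Perm.mem_support.mp hu'V)).mp
                    (hA'B ▸ Finset.mem_sdiff.mpr ⟨hr, hrA⟩)
                by_cases hyA : y ∈ A.support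
                · have hz' : z ∉ A.support := fun h => hyz (((key y hy).mp hyA).symm.trans ((key z hz).mp h))
                  have hw' : w ∉ A.support := fun h => hyw (((key y hy).mp hyA).symm.trans ((key w hw).mp h))
                  exact (key' z hz hz').symm.trans (key' w hw hw')
                · have hz' : z ∈ A.support := by
                    by_contra h; exact hyz ((key' y hy hyA).symm.trans (key' z hz h))
                  have hw' : w ∈ A.support := by
                    by_contra h; exact hyw ((key' y hy hyA).symm.trans (key' w hw h))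
                  exact ((key z hz).mp hz').symm.trans ((key w hw).mp hw')
              have hmem : ∀ n : ℕ, (t ^ n) y ∈ V.support := fun n =>
                (hsuppc _ (hsV.pow_left n).eq y).mpr hy
              have h1 : ¬ V.SameCycle (t y) ((t ^ (2 * i + 1 + 1)) y) := by
                intro h
                apply ih.2
                rw [pow_succ' t (2 * i + 1), Perm.mul_apply] at h
                obtain ⟨k, -, hk⟩ := Perm.SameCycle.exists_pow_eq' h
                refine ⟨(k : ℤ), t.injective ?_⟩
                rw [zpow_natCast, ← Perm.mul_apply, (hsV.pow_right k).eq, Perm.mul_apply, hk]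
              have h2 : V.SameCycle y ((t ^ (2 * (i + 1))) y) := by
                rw [show 2 * (i + 1) = 2 * i + 1 + 1 by ring]
                by_contra h
                exact h1 (htwo _ (by simpa using hmem 1) _ (hmem _) hns h)
              refine ⟨h2, fun h => hns ?_⟩
              rw [pow_succ', Perm.mul_apply] at h
              exact h.trans (hmap _ _ h2).symm
          have := (hodd 2).2
          rw [show 2 * 2 + 1 = 5 from rfl, ht5] at this
          exact this (Perm.SameCycle.refl _ _)
        obtain ⟨i, -, hi⟩ := Perm.SameCycle.exists_pow_eq' (hsame u hu)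
        let t' := (V ^ i)⁻¹ * t
        have ht'c : t' * V = V * t' :=
          ((((Commute.refl V).pow_left i).inv_left).mul_left hsV).eq
        have ht'u : t' u = u := by
          show (V ^ i)⁻¹ (t u) = u
          rw [← hi]; simp
        have ht'1 : t' ≠ 1 := fun h => hsQ (by
          rw [show t = V ^ i from (inv_mul_eq_one.mp h).symm]
          exact Subgroup.pow_mem _ (Subgroup.mem_zpowers V) i)
        have ht'supp : t'.support ⊆ B := by
          intro x hx
          rw [Perm.mem_support] at hx
          refine Finset.mem_sdiff.mpr ⟨?_, fun hxA => ?_⟩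
          · by_contra hxV
            apply hx
            show (V ^ i)⁻¹ (t x) = x
            rw [hfixs x hxV]
            have := Perm.pow_apply_eq_self_of_apply_eq_self (Perm.notMem_support.mp hxV) i
            conv_lhs => rw [← this]
            simp
          · obtain ⟨k, rfl⟩ := (hAmem x).mp hxA
            exact hx (hfixorb t' ht'c u ht'u k)
        have ht'5 : orderOf t' = 5 := orderOf_eq_prime (by
          show ((V ^ i)⁻¹ * t) ^ 5 = 1
          rw [(Commute.inv_left ((hsV.symm.pow_left i))).mul_pow, ht5, mul_one, inv_pow, ← pow_mul,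
            mul_comm, pow_mul, hv5, one_pow, inv_one]) ht'1
        have hle5 := (Finset.card_le_card ht'supp).trans hB5.le
        have hcyc' : t'.IsCycle := Perm.isCycle_of_prime_order (by rw [ht'5]; norm_num) (by rw [ht'5]; omega)
        refine hcyc t' ?_ hcyc' (by rw [← hcyc'.orderOf, ht'5])
        exact K.mul_mem (K.inv_mem (K.pow_mem hvL.1.1 i)) hsR.1.1.1
      -- a permutation in `K` cycling the three fixed points of `V`
      have hto : ∀ x y z : β, x ≠ y → x ≠ z → y ≠ z → ∃ g ∈ K, g x = c ∧ g y = c' ∧ g z = o := by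
        intro x y z hxy hxz hyz
        obtain ⟨g1, hg1⟩ := exists_smul_eq K x c
        have e1 : (g1 : Perm β) x = c := hg1
        obtain ⟨g2, hg2, hg2'⟩ := horbKc ((g1 : Perm β) y) (fun h => hxy ((g1 : Perm β).injective (e1.trans h.symm)))
        let g3 := g2⁻¹ * (g1 : Perm β)
        have hg3 : g3 ∈ K := K.mul_mem (K.inv_mem hg2.1) g1.2
        have e3 : g3 x = c := by
          show g2⁻¹ ((g1 : Perm β) x) = c
          rw [e1]
          conv_lhs => rw [← (hg2.2 : g2 c = c)]
          simp
        have e4 : g3 y = c' := by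
          show g2⁻¹ ((g1 : Perm β) y) = c'
          rw [← hg2']; simp
        have hz : g3 z ∈ a.support := by
          by_contra h
          rcases (hnot _).mp h with h | h
          · exact hxz (g3.injective (e3.trans h.symm))
          · exact hyz (g3.injective (e4.trans h.symm))
        obtain ⟨g4, hg4, hg4'⟩ := horb L haL _ o hz hos
        refine ⟨g4 * g3, K.mul_mem hg4.1.1 hg3, ?_, ?_, ?_⟩
        · rw [Perm.mul_apply, e3]; exact hg4.1.2
        · rw [Perm.mul_apply, e4]; exact hg4.2
        · rw [Perm.mul_apply, hg4']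
      obtain ⟨w, hwK, hw1, hw2, hw3⟩ := hto c' o c hoc'.symm hcc.symm hoc
      -- correct it to normalise `⟨V⟩`
      have hwR : ∀ g ∈ R, w * g * w⁻¹ ∈ R := by
        intro g hg
        have hfix3 : ∀ x y : β, w x = y → g x = x → (w * g * w⁻¹) y = y := by
          intro x y hxy hgx
          rw [← hxy]
          simp [hgx]
        exact ⟨⟨⟨K.mul_mem (K.mul_mem hwK hg.1.1.1) (K.inv_mem hwK), hfix3 _ _ hw1 hg.1.2⟩,
          hfix3 _ _ hw2 hg.2⟩, hfix3 _ _ hw3 hg.1.1.2⟩
      let V' : R := ⟨w * V * w⁻¹, hwR V hVR⟩
      have hV'p : IsPGroup 5 (Subgroup.zpowers V') := IsPGroup.of_card (n := 1) (by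
        rw [Nat.card_zpowers, ← Subgroup.orderOf_coe, pow_one]
        show orderOf (w * V * w⁻¹) = 5
        rw [← MulAut.conj_apply, MulEquiv.orderOf_eq, hvo, hl5])
      obtain ⟨S', hS'⟩ := hV'p.exists_le_sylow
      obtain ⟨r, hr⟩ := MulAction.exists_smul_eq R S' S
      have hrV : (r : R) * V' * r⁻¹ ∈ (S : Subgroup R) := by
        rw [← hr, Sylow.coe_subgroup_smul]
        exact ⟨V', hS' (Subgroup.mem_zpowers V'), rfl⟩
      rw [hSQ] at hrV
      let n := (r : Perm β) * w
      have hnV : n * V * n⁻¹ ∈ Q := by
        have : n * V * n⁻¹ = (((r : R) * V' * r⁻¹ : R) : Perm β) := by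
          show (r : Perm β) * w * V * ((r : Perm β) * w)⁻¹ = (r : Perm β) * (w * V * w⁻¹) * (r : Perm β)⁻¹
          group
        rw [this]; exact hrV
      obtain ⟨e, he⟩ := (Subgroup.mem_zpowers_iff.mp hnV)
      have hnK : n ∈ K := K.mul_mem r.2.1.1.1 hwK
      have hn1 : n c' = c := by show (r : Perm β) (w c') = c; rw [hw1]; exact r.2.1.1.2
      have hn2 : n o = c' := by show (r : Perm β) (w o) = c'; rw [hw2]; exact r.2.1.2
      have hn3 : n c = o := by show (r : Perm β) (w c) = o; rw [hw3]; exact r.2.2
      -- the fourth power centralises `V`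
      have hn4 : n ^ 4 * V = V * n ^ 4 := by
        have h1 : ∀ k : ℕ, n ^ k * V * (n ^ k)⁻¹ = V ^ (e ^ k) := by
          intro k
          induction k with
          | zero => simp
          | succ k ih =>
            calc n ^ (k + 1) * V * (n ^ (k + 1))⁻¹ = n * (n ^ k * V * (n ^ k)⁻¹) * n⁻¹ := by
                  rw [pow_succ']; group
              _ = n * V ^ (e ^ k) * n⁻¹ := by rw [ih]
              _ = (n * V * n⁻¹) ^ (e ^ k) := (conj_zpow).symm
              _ = V ^ (e ^ (k + 1)) := by rw [← he, ← zpow_mul, pow_succ']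
        have h4 : V ^ (e ^ 4) = V := by
          conv_rhs => rw [← zpow_one V]
          rw [zpow_eq_zpow_iff_modEq, hvo, hl5, ← ZMod.intCast_eq_intCast_iff, Int.cast_pow, Int.cast_one]
          refine ZMod.pow_card_sub_one_eq_one (p := 5) fun h0 => ?_
          have hV1 : n * V * n⁻¹ = 1 := by
            rw [← he, ← orderOf_dvd_iff_zpow_eq_one, hvo, hl5]
            exact (ZMod.intCast_zmod_eq_zero_iff_dvd _ _).mp h0
          have hV0 : V = 1 := conj_eq_one_iff.mp hV1
          rw [hV0, orderOf_one] at hvo
          omega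
        calc n ^ 4 * V = (n ^ 4 * V * (n ^ 4)⁻¹) * n ^ 4 := by group
          _ = V * n ^ 4 := by rw [h1 4, h4]
      set t := (n ^ 4) ^ 10 with ht
      have htfix : ∀ x ∈ V.support, t x = x := hten (n ^ 4) hn4
      have hcube : ∀ x, x = c ∨ x = c' ∨ x = o → (n ^ 3) x = x := by
        rintro x (rfl | rfl | rfl) <;>
          simp [pow_succ, Perm.mul_apply, hn1, hn2, hn3]
      have htval : ∀ x, x = c ∨ x = c' ∨ x = o → t x = n x := by
        intro x hx
        rw [ht, ← pow_mul, show 4 * 10 = 1 + 3 * 13 from rfl, pow_add, pow_one, pow_mul, Perm.mul_apply,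
          Perm.pow_apply_eq_self_of_apply_eq_self (hcube x hx)]
      have htsupp : t.support = {c, c', o} := by
        ext x
        rw [Perm.mem_support, Finset.mem_insert, Finset.mem_insert, Finset.mem_singleton]
        constructor
        · intro hx
          exact hfixv x (by
            by_contra hne'
            exact hx (htfix x (Perm.mem_support.mpr hne')))
        · intro hx
          rw [htval x hx]
          rcases hx with rfl | rfl | rfl
          · rw [hn3]; exact hoc
          · rw [hn1]; exact hcc
          · rw [hn2]; exact hoc'.symm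
      exact Perm.alternatingGroup_le_of_isPreprimitive_of_isThreeCycle_mem hprim
        (card_support_eq_three_iff.mp (by
          rw [htsupp]
          exact Finset.card_eq_three.mpr ⟨c, c', o, hcc, hoc.symm, hoc'.symm, rfl⟩))
        (K.pow_mem (K.pow_mem hnK 4) 10)

end Cfsg.Agent.FGB
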