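import Mathlib
import Cfsg.Agent.S4037
import Cfsg.Agent.Lib.Basics.SchurZassenhaus
import Cfsg.Agent.Lib.Basics.Solvability
import Cfsg.Agent.Lib.Basics.CoprimeAction
import Cfsg.Agent.Lib.FGB.PPowerSolvable

/-!
Baer's theorem on `q`-elements with prime power class size.
-/

set_option autoImplicit false
set_option linter.all false

namespace Cfsg.Agent.FGB.QBaer

open Subgroup Cfsg
open scoped commutatorElement Pointwise IsMulCommutative

universe u

variable {G : Type u} [Group G] [Finite G] {q : ℕ} [hq : Fact q.Prime]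

/-- The `q'`-core. -/
local notation "KK" => Cfsg.pPrimeCore q G

theorem orderOf_dvd_of_mem {x : G} (Q : Sylow q G) (hx : x ∈ (Q : Subgroup G)) :
    ∃ j, orderOf x = q ^ j := by
  obtain ⟨j, hj⟩ := Q.2 ⟨x, hx⟩
  obtain ⟨i, -, hi⟩ := (Nat.dvd_prime_pow hq.out).1
    (orderOf_dvd_of_pow_eq_one (congrArg Subtype.val hj : x ^ q ^ j = 1))
  exact ⟨i, hi⟩

theorem index_centralizer_conj (g x : G) :
    (centralizer ({g * x * g⁻¹} : Set G)).index = (centralizer ({x} : Set G)).index := by
  rw [← FGB.ncard_carrier_eq_index_centralizer, ← FGB.ncard_carrier_eq_index_centralizer,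
    ConjClasses.mk_eq_mk_iff_isConj.2 (isConj_iff.2 ⟨g, rfl⟩ : IsConj x (g * x * g⁻¹))]

/-- A subgroup of index prime to `q` contains a Sylow `q`-subgroup. -/
theorem exists_sylow_le {C : Subgroup G} (h : ¬ q ∣ C.index) :
    ∃ S : Sylow q G, (S : Subgroup G) ≤ C := by
  let T : Sylow q C := default
  have hc : Nat.card ((T : Subgroup C).map C.subtype) = q ^ (Nat.card G).factorization q := by
    rw [card_map_of_injective C.subtype_injective, T.card_eq_multiplicity]
    congr 1
    rw [← C.card_mul_index, Nat.factorization_mul Nat.card_pos.ne' index_ne_zero_of_finite,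
      Finsupp.add_apply, Nat.factorization_eq_zero_of_not_dvd h, add_zero]
  exact ⟨Sylow.ofCard _ hc, by rw [Sylow.coe_ofCard]; exact map_subtype_le _⟩

theorem disjoint_pPrimeCore {y : G} {j : ℕ} (hy : y ^ q ^ j = 1) (hK : y ∈ KK) : y = 1 := by
  have h1 : orderOf y ∣ q ^ j := orderOf_dvd_of_pow_eq_one hy
  have h2 : orderOf y ∣ Nat.card KK := orderOf_dvd_natCard (G := KK) ⟨y, hK⟩ |> fun h => by
    rwa [Subgroup.orderOf_mk] at h
  exact orderOf_eq_one_iff.1 (Nat.eq_one_of_dvd_coprimes
    ((Basics.pPrimeCore_coprime (G := G) q).pow_right j) h2 h1)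

theorem index_map_centralizer {H : Type*} [Group H] [Finite H] (f : G →* H)
    (hf : Function.Surjective f) {x : G} {r a : ℕ} (hr : r.Prime)
    (h : (centralizer ({x} : Set G)).index = r ^ a) :
    ∃ b, (centralizer ({f x} : Set H)).index = r ^ b := by
  have hle : (centralizer ({x} : Set G)).map f ≤ centralizer ({f x} : Set H) := by
    rintro _ ⟨g, hg, rfl⟩
    rw [mem_centralizer_singleton_iff, ← map_mul, ← map_mul, mem_centralizer_singleton_iff.1 hg]
  have h2 := (index_dvd_of_le hle).trans (index_map_dvd _ hf)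
  rw [h] at h2
  obtain ⟨b, -, hb⟩ := (Nat.dvd_prime_pow hr).1 h2
  exact ⟨b, hb⟩

/-- With trivial `q'`-core, a `q`-element of prime power class size is in the `q`-core. -/
theorem mem_pCore_of_bot (hbot : KK = ⊥) {x : G} {r a : ℕ} (hr : r.Prime) {j : ℕ}
    (hxo : orderOf x = q ^ j) (hx : (centralizer ({x} : Set G)).index = r ^ a) :
    x ∈ Cfsg.pCore q G := by
  rcases eq_or_ne r q with rfl | hrq
  · exact FGS.Kazarin.mem_pCore_of_pElement ⟨j, dvd_of_eq hxo⟩ ⟨a, hx⟩
  obtain ⟨S, hS⟩ := exists_sylow_le (q := q) (C := centralizer ({x} : Set G)) (by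
    rw [hx]; intro hd
    exact hrq ((Nat.prime_dvd_prime_iff_eq hq.out hr).1 (hq.out.dvd_of_dvd_pow hd)).symm)
  set M := normalClosure ({x} : Set G) with hM
  haveI : Group.IsSolvable M := S4037.result x hr a (by rw [FGB.ncard_carrier_eq_index_centralizer, hx])
  haveI : M.Normal := normalClosure_normal
  -- the cores of `M`
  haveI : (Cfsg.pPrimeCore q M).Characteristic := characteristic_iff_map_le.2 fun φ => by
    haveI := Basics.normal_map_equiv (inferInstance : (Cfsg.pPrimeCore q M).Normal) φ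
    refine Basics.le_pPrimeCore ?_
    rw [card_map_of_injective φ.injective]
    exact Basics.pPrimeCore_coprime q
  haveI : (Cfsg.pCore q M).Characteristic := characteristic_iff_map_le.2 fun φ => by
    haveI := Basics.normal_map_equiv (inferInstance : (Cfsg.pCore q M).Normal) φ
    exact Basics.le_pCore (Basics.isPGroup_map_equiv (Basics.pCore_isPGroup q) φ)
  haveI : ((Cfsg.pPrimeCore q M).map M.subtype).Normal := ConjAct.normal_of_characteristic_of_normal
  haveI : ((Cfsg.pCore q M).map M.subtype).Normal := ConjAct.normal_of_characteristic_of_normal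
  have h1 : Cfsg.pPrimeCore q M = ⊥ := by
    have h2 : (Cfsg.pPrimeCore q M).map M.subtype ≤ KK := Basics.le_pPrimeCore (by
      rw [card_map_of_injective M.subtype_injective]; exact Basics.pPrimeCore_coprime q)
    rwa [hbot, le_bot_iff, map_eq_bot_iff_of_injective _ M.subtype_injective] at h2
  have hxM : x ∈ M := subset_normalClosure rfl
  have h3 : (Cfsg.pCore q M).map M.subtype ≤ Cfsg.pCore q G :=
    Basics.le_pCore ((Basics.pCore_isPGroup q).map _)
  have hmem : (⟨x, hxM⟩ : M) ∈ centralizer (Cfsg.pCore q M : Set M) := by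
    rw [mem_centralizer_iff]
    intro y hy
    have hyS : (y : G) ∈ centralizer ({x} : Set G) :=
      hS (Basics.pCore_le_sylow q S (h3 ⟨y, hy, rfl⟩))
    exact Subtype.ext (mem_centralizer_singleton_iff.1 hyS)
  exact h3 ⟨_, Basics.centralizer_pCore_le h1 hmem, rfl⟩

/-- The hypothesis of the theorem. -/
def IsBaer (q : ℕ) (G : Type u) [Group G] : Prop :=
  ∀ x : G, (∃ j : ℕ, orderOf x = q ^ j) → ∃ (r : ℕ) (a : ℕ), r.Prime ∧
    (centralizer ({x} : Set G)).index = r ^ a

theorem map_sylow_eq_pCore (hB : IsBaer q G) (Q : Sylow q G) :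
    (Q : Subgroup G).map (QuotientGroup.mk' KK) = Cfsg.pCore q (G ⧸ KK) := by
  set π := QuotientGroup.mk' KK with hπ
  have hsurj := QuotientGroup.mk'_surjective (KK)
  refine le_antisymm ?_ ?_
  · rintro _ ⟨x, hx, rfl⟩
    obtain ⟨j, hj⟩ := orderOf_dvd_of_mem Q hx
    obtain ⟨r, a, hr, ha⟩ := hB x ⟨j, hj⟩
    obtain ⟨b, hb⟩ := index_map_centralizer π hsurj hr ha
    obtain ⟨i, -, hi⟩ := (Nat.dvd_prime_pow hq.out).1 (hj ▸ orderOf_map_dvd π x)
    exact mem_pCore_of_bot (Basics.pPrimeCore_quotient_eq_bot q) hr hi hb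
  · exact Basics.pCore_le_sylow q (Q.mapSurjective hsurj)

theorem map_sylow_eq (hB : IsBaer q G) (Q Q' : Sylow q G) :
    (Q : Subgroup G).map (QuotientGroup.mk' KK) = (Q' : Subgroup G).map (QuotientGroup.mk' KK) := by
  rw [map_sylow_eq_pCore hB Q, map_sylow_eq_pCore hB Q']

/-- Part one: `q`-length one. -/
theorem qLength_one (hB : IsBaer q G) (Q : Sylow q G) :
    (KK ⊔ (Q : Subgroup G)).Normal ∧ (∃ m : ℕ, (KK).relIndex (KK ⊔ (Q : Subgroup G)) = q ^ m) ∧
      (KK ⊔ (Q : Subgroup G)).index.Coprime q := by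
  refine ⟨?_, ?_, ?_⟩
  · have h := map_sylow_eq_pCore hB Q
    have : KK ⊔ (Q : Subgroup G) = (Cfsg.pCore q (G ⧸ KK)).comap (QuotientGroup.mk' KK) := by
      rw [← h, comap_map_eq, QuotientGroup.ker_mk', sup_comm]
    rw [this]; infer_instance
  · rw [sup_comm, relIndex_sup_right]
    obtain ⟨n, hn⟩ := IsPGroup.iff_card.1 Q.2
    obtain ⟨i, -, hi⟩ := (Nat.dvd_prime_pow hq.out).1 (hn ▸ relIndex_dvd_card KK (Q : Subgroup G))
    exact ⟨i, hi⟩
  · refine ((hq.out.coprime_iff_not_dvd).2 fun hd => ?_).symm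
    exact Q.not_dvd_index (hd.trans (index_dvd_of_le le_sup_right))

/-- A `q`-element of Sylow `Q` whose class size is prime to `q` is central in `Q`. -/
theorem mem_center_of_index (hB : IsBaer q G) (Q : Sylow q G) {x : G} (hx : x ∈ (Q : Subgroup G))
    (hind : ¬ q ∣ (centralizer ({x} : Set G)).index) :
    ∀ y ∈ (Q : Subgroup G), x * y = y * x := by
  obtain ⟨S, hS⟩ := exists_sylow_le hind
  intro y hy
  obtain ⟨s, hs, hsy⟩ : QuotientGroup.mk' KK y ∈ (S : Subgroup G).map (QuotientGroup.mk' KK) :=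
    map_sylow_eq hB Q S ▸ mem_map_of_mem _ hy
  have hxs : x * s = s * x := (mem_centralizer_singleton_iff.1 (hS hs)).symm
  have h1 : QuotientGroup.mk' KK ⁅x, y⁆ = 1 := by
    rw [map_commutatorElement, ← hsy, ← map_commutatorElement,
      commutatorElement_eq_one_iff_mul_comm.2 hxs, map_one]
  have h2 : ⁅x, y⁆ ∈ (Q : Subgroup G) :=
    mul_mem (mul_mem (mul_mem hx hy) (inv_mem hx)) (inv_mem hy)
  obtain ⟨j, hj⟩ := Q.2 ⟨_, h2⟩
  exact commutatorElement_eq_one_iff_mul_comm.1
    (disjoint_pPrimeCore (congrArg Subtype.val hj) ((QuotientGroup.eq_one_iff _).1 h1))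

/-- The case `p = q`: `Q` is a direct factor. -/
theorem direct_factor (Q : Sylow q G) (S : Set G) (hSQ : S ⊆ (Q : Subgroup G))
    (hS : ∀ x ∈ S, ∃ a, (centralizer ({x} : Set G)).index = q ^ a)
    (hgen : ∀ M : Subgroup G, M < (Q : Subgroup G) → ∃ x ∈ S, x ∉ M)
    (hQn : (Q : Subgroup G).Normal) :
    ∃ N : Subgroup G, N.Normal ∧ N.IsComplement' (Q : Subgroup G) ∧
      ∀ x ∈ (Q : Subgroup G), ∃ a, (centralizer ({x} : Set G)).index = q ^ a := by
  haveI := hQn
  obtain ⟨H, hH⟩ := exists_right_complement'_of_coprime (Q.card_coprime_index)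
  have hHcard : (Q : Subgroup G).index = Nat.card H := hH.symm.index_eq_card
  haveI hQsol : Group.IsSolvable (Q : Subgroup G) := by
    haveI := Q.2.isNilpotent; infer_instance
  -- every element of `S` is conjugate into `C(H)`
  have hconj : ∀ x ∈ S, ∃ n ∈ (Q : Subgroup G), n⁻¹ * x * n ∈ centralizer (H : Set G) := by
    intro x hx
    obtain ⟨a, ha⟩ := hS x hx
    set C := centralizer ({x} : Set G) with hC
    have hrel : (Q : Subgroup G).relIndex C = (Q : Subgroup G).index := by
      refine Nat.dvd_antisymm (relIndex_dvd_index_of_normal _ _) ?_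
      have h1 : ((Q : Subgroup G) ⊓ C).index = (Q : Subgroup G).relIndex C * C.index := by
        rw [← inf_relIndex_right, relIndex_mul_index inf_le_right]
      have h2 : ((Q : Subgroup G) ⊓ C).index = C.relIndex (Q : Subgroup G) * (Q : Subgroup G).index := by
        rw [← inf_relIndex_left, relIndex_mul_index inf_le_left]
      have h3 : (Q : Subgroup G).index ∣ (Q : Subgroup G).relIndex C * q ^ a :=
        ⟨C.relIndex (Q : Subgroup G), by rw [← ha, ← h1, h2, mul_comm]⟩
      refine Nat.Coprime.dvd_of_dvd_mul_right (Nat.Coprime.pow_right a ?_) h3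
      exact ((hq.out.coprime_iff_not_dvd).2 Q.not_dvd_index).symm
    haveI : ((Q : Subgroup G).subgroupOf C).Normal := normal_subgroupOf
    have hcop : (Nat.card ((Q : Subgroup G).subgroupOf C)).Coprime
        ((Q : Subgroup G).subgroupOf C).index := by
      rw [show ((Q : Subgroup G).subgroupOf C).index = (Q : Subgroup G).relIndex C from rfl, hrel]
      refine Nat.Coprime.coprime_dvd_left ?_ Q.card_coprime_index
      rw [← card_map_of_injective C.subtype_injective, subgroupOf_map_subtype]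
      exact card_dvd_of_le inf_le_left
    obtain ⟨H1, hH1⟩ := exists_right_complement'_of_coprime hcop
    set H2 := H1.map C.subtype with hH2
    have hH2card : Nat.card H2 = Nat.card H := by
      rw [card_map_of_injective C.subtype_injective, ← hH1.symm.index_eq_card, ← hHcard]
      exact hrel
    obtain ⟨n, hn, hnH⟩ := Basics.exists_conj_eq_of_coprime (Q : Subgroup G) H H2
      le_normalizer_of_normal (hHcard ▸ Q.card_coprime_index) (by rw [hH.sup_eq_top]; exact le_top)
      hH2card (Or.inl hQsol)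
    refine ⟨n, hn, mem_centralizer_iff.2 fun h hh => ?_⟩
    have h1 : n * h * n⁻¹ ∈ C := by
      have h2 : n * h * n⁻¹ ∈ H2 := hnH ▸ smul_mem_pointwise_smul h (MulAut.conj n) H hh
      exact map_subtype_le _ h2
    have h3 := mem_centralizer_singleton_iff.1 h1
    calc h * (n⁻¹ * x * n) = n⁻¹ * ((n * h * n⁻¹) * x) * n := by group
      _ = n⁻¹ * (x * (n * h * n⁻¹)) * n := by rw [h3]
      _ = n⁻¹ * x * n * h := by group
  have hQC : (Q : Subgroup G) ≤ centralizer (H : Set G) := by
    by_contra hne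
    set Qs := (Q : Subgroup G)
    set M0 := (centralizer (H : Set G)).subgroupOf Qs with hM0
    have hM0ne : M0 ≠ ⊤ := fun h => hne (subgroupOf_eq_top.1 h)
    obtain ⟨M, hM, hM0M⟩ := (eq_top_or_exists_le_coatom M0).resolve_left hM0ne
    haveI := Q.2.isNilpotent
    haveI hMn : M.Normal :=
      NormalizerCondition.normal_of_coatom M Group.normalizerCondition_of_isNilpotent hM
    have hlt : M.map Qs.subtype < Qs := by
      refine lt_of_le_of_ne (map_subtype_le _) fun h => hM.1 ?_
      rw [eq_top_iff]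
      intro z _
      obtain ⟨w, hw, hwz⟩ : (z : G) ∈ M.map Qs.subtype := h.symm ▸ z.2
      rwa [← Subtype.ext hwz]
    obtain ⟨x, hx, hxM⟩ := hgen _ hlt
    obtain ⟨n, hn, hnx⟩ := hconj x hx
    apply hxM
    have h1 : (⟨n⁻¹ * x * n, mul_mem (mul_mem (inv_mem hn) (hSQ hx)) hn⟩ : Qs) ∈ M :=
      hM0M (mem_subgroupOf.2 hnx)
    have h2 := hMn.conj_mem _ h1 ⟨n, hn⟩
    refine ⟨_, h2, ?_⟩
    show n * (n⁻¹ * x * n) * n⁻¹ = x
    group
  haveI hHn : H.Normal := by
    refine normalizer_eq_top_iff.1 (eq_top_iff.2 ?_)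
    rw [← hH.sup_eq_top, sup_le_iff]
    refine ⟨fun y hy => ?_, le_normalizer⟩
    exact centralizer_le_normalizer _ (hQC hy)
  refine ⟨H, hHn, hH.symm, fun x hx => ?_⟩
  have hle : H ≤ centralizer ({x} : Set G) := fun h hh =>
    mem_centralizer_singleton_iff.2 (mem_centralizer_iff.1 (hQC hx) h hh)
  obtain ⟨n, hn⟩ := IsPGroup.iff_card.1 Q.2
  have hd : (centralizer ({x} : Set G)).index ∣ q ^ n := by
    rw [← hn, ← hH.index_eq_card]
    exact index_dvd_of_le hle
  obtain ⟨i, -, hi⟩ := (Nat.dvd_prime_pow hq.out).1 hd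
  exact ⟨i, hi⟩

/-- Commutators with the `q'`-core lie in the `p`-core. -/
theorem comm_mem_pCore {p : ℕ} [hp : Fact p.Prime] {x : G} {j a : ℕ} (hxo : orderOf x = q ^ j)
    (hx : (centralizer ({x} : Set G)).index = p ^ a) : ∀ k ∈ KK, ⁅x, k⁆ ∈ Cfsg.pCore p G := by
  set A := zpowers x with hA
  have hcop : (Nat.card A).Coprime (Nat.card KK) := by
    rw [hA, Nat.card_zpowers, hxo]
    exact ((Basics.pPrimeCore_coprime (G := G) q).pow_right j).symm
  obtain ⟨P0, hP0, hP0x⟩ := Basics.exists_invariant_isSylowIn A (KK) le_normalizer_of_normal hcop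
    (Or.inl inferInstance) p
  have hxn : x ∈ normalizer (P0 : Set G) := hP0x (mem_zpowers x)
  have hidx : ∃ b, (KK ⊓ centralizer ({x} : Set G)).relIndex KK = p ^ b := by
    rw [inf_relIndex_left]
    obtain ⟨b, -, hb⟩ := (Nat.dvd_prime_pow hp.out).1
      (hx ▸ PPow.relIndex_dvd_index (centralizer ({x} : Set G)) (KK))
    exact ⟨b, hb⟩
  obtain ⟨b, hb⟩ := hidx
  have hmem : ∀ k ∈ KK, ⁅x, k⁆ ∈ P0 := by
    intro k hk
    obtain ⟨π, hπ, hc⟩ := FGS.Kazarin.exists_mul_mem inf_le_left hP0 hb hk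
    have hcx := mem_centralizer_singleton_iff.1 hc.2
    have : ⁅x, k⁆ = (x * π * x⁻¹) * π⁻¹ := by
      rw [commutatorElement_def]
      calc x * k * x⁻¹ * k⁻¹ = x * π * ((π⁻¹ * k) * x⁻¹) * k⁻¹ := by group
        _ = x * π * (x⁻¹ * (π⁻¹ * k)) * k⁻¹ := by
          rw [(show Commute (π⁻¹ * k) x from hcx).inv_right.eq]
        _ = _ := by group
    rw [this]
    exact mul_mem ((mem_normalizer_iff.1 hxn π).1 hπ) (inv_mem hπ)
  set X := closure ((fun k => ⁅x, k⁆) '' (KK : Set G)) with hX
  have hXP : X ≤ P0 := (closure_le _).2 (by rintro _ ⟨k, hk, rfl⟩; exact hmem k hk)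
  have hXK : X ≤ KK := hXP.trans hP0.1
  have hnorm : ∀ k ∈ KK, ∀ z ∈ X, k * z * k⁻¹ ∈ X := by
    intro k hk z hz
    induction hz using Subgroup.closure_induction with
    | mem z hz =>
      obtain ⟨l, hl, rfl⟩ := hz
      rw [show k * ⁅x, l⁆ * k⁻¹ = ⁅x, k⁆⁻¹ * ⁅x, k * l⁆ by
        simp only [commutatorElement_def]; group]
      exact mul_mem (inv_mem (subset_closure ⟨k, hk, rfl⟩)) (subset_closure ⟨k * l, mul_mem hk hl, rfl⟩)
    | one => rw [mul_one, mul_inv_cancel]; exact one_mem _
    | mul y z _ _ hy hz =>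
      rw [show k * (y * z) * k⁻¹ = (k * y * k⁻¹) * (k * z * k⁻¹) by group]
      exact mul_mem hy hz
    | inv y _ hy =>
      rw [show k * y⁻¹ * k⁻¹ = (k * y * k⁻¹)⁻¹ by group]
      exact inv_mem hy
  haveI : (X.subgroupOf KK).Normal := ⟨fun z hz k => hnorm k k.2 z hz⟩
  haveI : (Cfsg.pCore p KK).Characteristic := characteristic_iff_map_le.2 fun φ => by
    haveI := Basics.normal_map_equiv (inferInstance : (Cfsg.pCore p KK).Normal) φ
    exact Basics.le_pCore (Basics.isPGroup_map_equiv (Basics.pCore_isPGroup p) φ)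
  haveI : ((Cfsg.pCore p KK).map (KK).subtype).Normal := ConjAct.normal_of_characteristic_of_normal
  have h1 : X.subgroupOf KK ≤ Cfsg.pCore p KK := Basics.le_pCore
    ((hP0.isPGroup.to_le hXP).comap_of_injective (KK).subtype (KK).subtype_injective)
  have h2 : (Cfsg.pCore p KK).map (KK).subtype ≤ Cfsg.pCore p G :=
    Basics.le_pCore ((Basics.pCore_isPGroup p).map _)
  intro k hk
  have h3 : ⁅x, k⁆ ∈ X := subset_closure ⟨k, hk, rfl⟩
  exact h2 ⟨⟨_, hXK h3⟩, h1 h3, rfl⟩

/-- The key exclusion: `x`, `y`, `x * y` cannot have `p`-, `r`-, `p`-power class sizes. -/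
theorem not_mixed (hB : IsBaer q G) (Q : Sylow q G) {x y : G} (hx : x ∈ (Q : Subgroup G))
    (hy : y ∈ (Q : Subgroup G)) (hxy : x * y = y * x) {p r : ℕ} (hp : p.Prime) (hr : r.Prime)
    (hpr : p ≠ r) (hpq : p ≠ q) {a b c : ℕ}
    (ha : (centralizer ({x} : Set G)).index = p ^ a) (hb : (centralizer ({y} : Set G)).index = r ^ b)
    (hb0 : b ≠ 0) (hc : (centralizer ({x * y} : Set G)).index = p ^ c) : False := by
  haveI := Fact.mk hp
  haveI := Fact.mk hr
  obtain ⟨j, hj⟩ := orderOf_dvd_of_mem Q hx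
  obtain ⟨i, hi⟩ := orderOf_dvd_of_mem Q hy
  obtain ⟨l, hl⟩ := orderOf_dvd_of_mem Q (mul_mem hx hy)
  -- `y` centralises the q'-core
  have hyK : ∀ k ∈ KK, y * k = k * y := by
    intro k hk
    refine commutatorElement_eq_one_iff_mul_comm.1 ?_
    have h1 := comm_mem_pCore hj ha k hk
    have h2 := comm_mem_pCore hl hc k hk
    have h3 : ⁅y, k⁆ ∈ Cfsg.pCore r G := comm_mem_pCore hi hb k hk
    have h4 : ⁅y, k⁆ ∈ Cfsg.pCore p G := by
      rw [show ⁅y, k⁆ = x⁻¹ * (⁅x * y, k⁆ * ⁅x, k⁆⁻¹) * x⁻¹⁻¹ by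
        simp only [commutatorElement_def]; group]
      exact (Cfsg.pCore_normal p G).conj_mem _ (mul_mem h2 (inv_mem h1)) x⁻¹
    exact mem_bot.1 ((IsPGroup.disjoint_of_ne (G := G) p r hpr (H₁ := Cfsg.pCore p G)
      (H₂ := Cfsg.pCore r G) (Basics.pCore_isPGroup p) (Basics.pCore_isPGroup r)).le_bot ⟨h4, h3⟩)
  set π := QuotientGroup.mk' KK with hπ
  have hsurj := QuotientGroup.mk'_surjective (KK)
  -- `y` is not central modulo the core
  obtain ⟨b', hb'⟩ := index_map_centralizer π hsurj hr hb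
  obtain ⟨a', ha'⟩ := index_map_centralizer π hsurj hp ha
  obtain ⟨c', hc'⟩ := index_map_centralizer π hsurj hp hc
  have hb'0 : b' ≠ 0 := by
    intro h0
    rw [h0, pow_zero, index_eq_one] at hb'
    have hall : centralizer ({y} : Set G) = ⊤ := by
      rw [eq_top_iff]
      intro g _
      have h1 : π (g * y * g⁻¹) = π y := by
        have h1 := mem_centralizer_singleton_iff.1 (hb'.symm ▸ mem_top (π g))
        rw [map_mul, map_mul, h1, map_inv, mul_inv_cancel_right]
      set k := y⁻¹ * (g * y * g⁻¹) with hk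
      have hkK : k ∈ KK := by
        rw [← QuotientGroup.eq_one_iff]
        show π k = 1
        rw [hk, map_mul, h1, map_inv, inv_mul_cancel]
      have hky : Commute y k := hyK k hkK
      have hg : g * y * g⁻¹ = y * k := by rw [hk]; group
      have h2 : (y * k) ^ q ^ i = 1 := by
        rw [← hg, conj_pow, ← hi, pow_orderOf_eq_one, mul_one, mul_inv_cancel]
      rw [hky.mul_pow, ← hi, pow_orderOf_eq_one, one_mul, hi] at h2
      have h3 := disjoint_pPrimeCore h2 hkK
      rw [h3, mul_one] at hg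
      rw [mem_centralizer_singleton_iff]
      exact mul_inv_eq_iff_eq_mul.1 hg
    rw [hall, index_top] at hb
    exact (Nat.one_lt_pow hb0 hr.one_lt).ne hb
  set X := (ConjClasses.mk (π x)).carrier with hX
  set S := (ConjClasses.mk (π x * π y)).carrier with hS
  have hc'' : (centralizer ({π x * π y} : Set _)).index = p ^ c' := by rw [← map_mul]; exact hc'
  have hco1 : ((centralizer ({π x} : Set _)).index).Coprime ((centralizer ({π y} : Set _)).index) := by
    rw [ha', hb']; exact Nat.Coprime.pow _ _ ((Nat.coprime_primes hp hr).2 hpr)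
  have hco2 : ((centralizer ({π y} : Set _)).index).Coprime
      ((centralizer ({π x * π y} : Set _)).index) := by
    rw [hb', hc'']; exact Nat.Coprime.pow _ _ ((Nat.coprime_primes hr hp).2 hpr.symm)
  have hcomm : π x * π y = π y * π x := by rw [← map_mul, ← map_mul, hxy]
  have hinf : centralizer ({π x} : Set _) ⊓ centralizer ({π y} : Set _)
      = centralizer ({π y} : Set _) ⊓ centralizer ({π x * π y} : Set _) := by
    ext g
    simp only [mem_inf, mem_centralizer_singleton_iff]
    constructor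
    · rintro ⟨h1, h2⟩
      exact ⟨h2, by rw [← mul_assoc, h1, mul_assoc, h2, ← mul_assoc]⟩
    · rintro ⟨h2, h3⟩
      refine ⟨?_, h2⟩
      apply mul_right_cancel (b := π y)
      rw [mul_assoc g, h3, mul_assoc, ← h2, ← mul_assoc]
  have hac : a' = c' := by
    have h1 := Basics.index_inf_of_coprime hco1
    have h2 := Basics.index_inf_of_coprime hco2
    rw [hinf, h2, ha', hb', hc'', mul_comm] at h1
    exact (Nat.pow_right_injective hp.two_le
      (Nat.eq_of_mul_eq_mul_right (pow_pos hr.pos b') h1)).symm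
  have hXcard : X.ncard = p ^ a' := by rw [hX, FGB.ncard_carrier_eq_index_centralizer, ha']
  have hScard : S.ncard = p ^ a' := by rw [hS, FGB.ncard_carrier_eq_index_centralizer, hc'', hac]
  have hprod : ∀ u ∈ X, ∀ g, u * (g * π y * g⁻¹) ∈ S := by
    intro u hu g
    obtain ⟨g1, rfl⟩ : ∃ g1, g1 * π x * g1⁻¹ = u :=
      isConj_iff.1 (ConjClasses.mk_eq_mk_iff_isConj.1 (ConjClasses.mem_carrier_iff_mk_eq.1 hu).symm)
    obtain ⟨c1, hc1, d1, hd1, he⟩ := Basics.exists_mul_of_coprime_index hco1 (g1⁻¹ * g)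
    rw [ConjClasses.mem_carrier_iff_mk_eq, ConjClasses.mk_eq_mk_iff_isConj, isConj_comm, isConj_iff]
    refine ⟨g1 * c1, ?_⟩
    have hx' : c1 * π x * c1⁻¹ = π x := by
      rw [mem_centralizer_singleton_iff.1 hc1, mul_inv_cancel_right]
    have hy' : d1 * π y * d1⁻¹ = π y := by
      rw [mem_centralizer_singleton_iff.1 hd1, mul_inv_cancel_right]
    have hg' : g = g1 * c1 * d1 := by rw [mul_assoc, ← he]; group
    calc g1 * c1 * (π x * π y) * (g1 * c1)⁻¹
        = g1 * (c1 * π x * c1⁻¹) * g1⁻¹ * (g1 * c1 * (π y) * (g1 * c1)⁻¹) := by group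
      _ = g1 * π x * g1⁻¹ * (g1 * c1 * (d1 * π y * d1⁻¹) * (g1 * c1)⁻¹) := by rw [hx', hy']
      _ = g1 * π x * g1⁻¹ * (g * π y * g⁻¹) := by rw [hg']; group
  obtain ⟨g0, hg0⟩ : ∃ g, g * π y * g⁻¹ ≠ π y := by
    by_contra hcon
    push Not at hcon
    have : centralizer ({π y} : Set _) = ⊤ := eq_top_iff.2 fun g _ =>
      mem_centralizer_singleton_iff.2 (mul_inv_eq_iff_eq_mul.1 (hcon g))
    rw [this, index_top] at hb'
    exact (Nat.one_lt_pow hb'0 hr.one_lt).ne hb'
  set d := g0 * π y * g0⁻¹ * (π y)⁻¹ with hd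
  have hd1 : d ≠ 1 := fun h => hg0 (mul_inv_eq_one.1 h)
  have himg : ∀ g, (fun u => u * (g * π y * g⁻¹)) '' X = S := fun g =>
    Set.eq_of_subset_of_ncard_le (by rintro _ ⟨u, hu, rfl⟩; exact hprod u hu g)
      (by rw [Set.ncard_image_of_injective _ (mul_left_injective _), hScard, hXcard])
  have hXd : (fun u => u * d) '' X = X := by
    have h1 : (fun u => u * d) '' X
        = (fun u => u * (π y)⁻¹) '' ((fun u => u * (g0 * π y * g0⁻¹)) '' X) := by
      rw [← Set.image_comp]
      refine Set.image_congr' fun u => ?_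
      simp only [Function.comp, hd, mul_assoc]
    rw [h1, himg g0, ← himg 1, ← Set.image_comp]
    simp [Function.comp]
  have hXD : ∀ z ∈ zpowers d, ∀ u ∈ X, u * z ∈ X := by
    intro z hz
    obtain ⟨n, rfl⟩ := (IsOfFinOrder.mem_powers_iff_mem_zpowers (isOfFinOrder_of_finite d)).mpr hz
    induction n with
    | zero => intro u hu; simpa using hu
    | succ n ih =>
      intro u hu
      show u * d ^ (n + 1) ∈ X
      rw [pow_succ, ← mul_assoc, ← hXd]
      exact ⟨_, ih (pow_mem (mem_zpowers d) n) u hu, rfl⟩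
  have hpre : X = QuotientGroup.mk ⁻¹' ((QuotientGroup.mk (s := zpowers d)) '' X) := by
    refine Set.Subset.antisymm (Set.subset_preimage_image _ _) ?_
    rintro v ⟨u, hu, huv⟩
    have := hXD _ (QuotientGroup.eq.1 huv) u hu
    rwa [mul_inv_cancel_left] at this
  have hdvd : orderOf d ∣ p ^ a' := by
    rw [← hXcard, ← Nat.card_coe_set_eq, hpre, Nat.card_congr
      (QuotientGroup.preimageMkEquivSubgroupProdSet _ _), Nat.card_prod, Nat.card_zpowers]
    exact Dvd.intro _ rfl
  have hdq : ∃ e, orderOf d ∣ q ^ e := by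
    have hPq : IsPGroup q (Cfsg.pCore q (G ⧸ KK)) := Basics.pCore_isPGroup q
    have hym : π y ∈ Cfsg.pCore q (G ⧸ KK) := map_sylow_eq_pCore hB Q ▸ mem_map_of_mem _ hy
    obtain ⟨e, he⟩ := hPq ⟨d, mul_mem ((Cfsg.pCore_normal q _).conj_mem _ hym g0) (inv_mem hym)⟩
    exact ⟨e, orderOf_dvd_of_pow_eq_one (congrArg Subtype.val he)⟩
  obtain ⟨e, he⟩ := hdq
  exact hd1 (orderOf_eq_one_iff.1 (Nat.eq_one_of_dvd_coprimes
    (Nat.Coprime.pow a' e ((Nat.coprime_primes hp hq.out).2 hpq)) hdvd he))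

/-- In an abelian `Q` all class sizes of elements of `Q` are powers of one prime. -/
theorem one_prime (hB : IsBaer q G) (Q : Sylow q G)
    (hab : ∀ x ∈ (Q : Subgroup G), ∀ y ∈ (Q : Subgroup G), x * y = y * x)
    {x0 : G} (hx0 : x0 ∈ (Q : Subgroup G)) {p a0 : ℕ} (hp : p.Prime)
    (ha0 : (centralizer ({x0} : Set G)).index = p ^ a0) (ha00 : a0 ≠ 0) :
    ∀ y ∈ (Q : Subgroup G), ∃ b, (centralizer ({y} : Set G)).index = p ^ b := by
  have hnq : ∀ x ∈ (Q : Subgroup G), ¬ q ∣ (centralizer ({x} : Set G)).index := fun x hx hd =>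
    Q.not_dvd_index (hd.trans (index_dvd_of_le fun y hy =>
      mem_centralizer_singleton_iff.2 (hab y hy x hx)))
  have hne : ∀ {x : G}, x ∈ (Q : Subgroup G) → ∀ {r a : ℕ}, r.Prime →
      (centralizer ({x} : Set G)).index = r ^ a → a ≠ 0 → r ≠ q := by
    intro x hx r a hr h ha hrq
    exact hnq x hx (h ▸ hrq ▸ dvd_pow_self r ha)
  intro y hy
  obtain ⟨r, b, hr, hb⟩ := hB y (orderOf_dvd_of_mem Q hy)
  rcases eq_or_ne b 0 with rfl | hb0
  · exact ⟨0, by rw [hb, pow_zero, pow_zero]⟩
  rcases eq_or_ne r p with rfl | hrp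
  · exact ⟨b, hb⟩
  exfalso
  have hpq := hne hx0 hp ha0 ha00
  have hrq := hne hy hr hb hb0
  have hcom := hab x0 hx0 y hy
  obtain ⟨s, c, hs, hc⟩ := hB (x0 * y) (orderOf_dvd_of_mem Q (mul_mem hx0 hy))
  rcases eq_or_ne s p with rfl | hsp
  · exact not_mixed hB Q hx0 hy hcom hs hr hrp.symm hpq ha0 hb hb0 hc
  rcases eq_or_ne s r with rfl | hsr
  · exact not_mixed hB Q hy hx0 hcom.symm hs hp hrp hrq hb ha0 ha00 (hcom ▸ hc)
  -- `s` is a third prime
  have hinf : centralizer ({x0} : Set G) ⊓ centralizer ({y} : Set G)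
      = centralizer ({x0} : Set G) ⊓ centralizer ({x0 * y} : Set G) := by
    ext g
    simp only [mem_inf, mem_centralizer_singleton_iff]
    constructor
    · rintro ⟨h1, h2⟩
      exact ⟨h1, by rw [← mul_assoc, h1, mul_assoc, h2, ← mul_assoc]⟩
    · rintro ⟨h1, h3⟩
      refine ⟨h1, ?_⟩
      apply mul_left_cancel (a := x0)
      rw [← mul_assoc, ← h1, mul_assoc, h3, mul_assoc]
  have h1 := Basics.index_inf_of_coprime (H := centralizer ({x0} : Set G))
    (K := centralizer ({y} : Set G)) (by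
      rw [ha0, hb]; exact Nat.Coprime.pow _ _ ((Nat.coprime_primes hp hr).2 hrp.symm))
  have h2 := Basics.index_inf_of_coprime (H := centralizer ({x0} : Set G))
    (K := centralizer ({x0 * y} : Set G)) (by
      rw [ha0, hc]; exact Nat.Coprime.pow _ _ ((Nat.coprime_primes hp hs).2 hsp.symm))
  rw [hinf, h2, ha0, hb, hc] at h1
  have h3 := Nat.eq_of_mul_eq_mul_left (pow_pos hp.pos a0) h1
  have h4 : r ∣ s ^ c := h3.symm ▸ dvd_pow_self r hb0
  exact hsr ((Nat.prime_dvd_prime_iff_eq hr hs).1 (hr.dvd_of_dvd_pow h4)).symm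

/-- `O_p(G) Q` is normal when `Q` is abelian with `p`-power class sizes. -/
theorem pCore_sup_normal (hB : IsBaer q G) (Q : Sylow q G) {p : ℕ} (hp : p.Prime)
    (hQ : ∀ x ∈ (Q : Subgroup G), ∃ a, (centralizer ({x} : Set G)).index = p ^ a) :
    (Cfsg.pCore p G ⊔ (Q : Subgroup G)).Normal := by
  haveI := Fact.mk hp
  set M := Cfsg.pCore p G ⊔ (Q : Subgroup G) with hM
  obtain ⟨hLn, -, -⟩ := qLength_one hB Q
  have hK : KK ≤ normalizer (M : Set G) := by
    intro k hk
    refine mem_normalizer_iff.2 fun z => ?_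
    have key : ∀ k ∈ KK, ∀ z ∈ M, k * z * k⁻¹ ∈ M := by
      intro k hk z hz
      have hle : M ≤ M.comap (MulAut.conj k).toMonoidHom := by
        refine sup_le (fun w hw => mem_sup_left ((Cfsg.pCore_normal p G).conj_mem w hw k))
          (fun w hw => ?_)
        obtain ⟨a, ha⟩ := hQ w hw
        obtain ⟨j, hj⟩ := orderOf_dvd_of_mem Q hw
        have h1 := comm_mem_pCore hj ha k hk
        show k * w * k⁻¹ ∈ M
        rw [show k * w * k⁻¹ = ⁅w, k⁆⁻¹ * w by simp only [commutatorElement_def]; group]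
        exact mul_mem (inv_mem (mem_sup_left h1)) (mem_sup_right hw)
      exact hle hz
    refine ⟨key k hk z, fun h => ?_⟩
    have := key k⁻¹ (inv_mem hk) _ h
    rwa [show k⁻¹ * (k * z * k⁻¹) * k⁻¹⁻¹ = z by group] at this
  haveI := hLn
  have htop : normalizer ((Q : Subgroup G) : Set G) ⊔ (KK ⊔ (Q : Subgroup G)) = ⊤ :=
    Sylow.normalizer_sup_eq_top' Q le_sup_right
  refine normalizer_eq_top_iff.1 (eq_top_iff.2 ?_)
  rw [← htop, sup_le_iff, sup_le_iff]
  refine ⟨?_, hK, le_sup_right.trans le_normalizer⟩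
  intro g hg
  refine mem_normalizer_iff.2 fun z => ?_
  have key : ∀ g ∈ normalizer ((Q : Subgroup G) : Set G), ∀ z ∈ M, g * z * g⁻¹ ∈ M := by
    intro g hg z hz
    have hle : M ≤ M.comap (MulAut.conj g).toMonoidHom :=
      sup_le (fun w hw => mem_sup_left ((Cfsg.pCore_normal p G).conj_mem w hw g))
        (fun w hw => mem_sup_right ((mem_normalizer_iff.1 hg w).1 hw))
    exact hle hz
  refine ⟨key g hg z, fun h => ?_⟩
  have := key g⁻¹ (inv_mem hg) _ h
  rwa [show g⁻¹ * (g * z * g⁻¹) * g⁻¹⁻¹ = z by group] at this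

/-- A coprime action on a `ZMod q`-space with `p`-power orbits has solvable image. -/
theorem isSolvable_of_action {V : Type*} [AddCommGroup V] [Module (ZMod q) V] [Finite V]
    (f : G →* AddMonoid.End V) (N : Subgroup G) (hN : ∀ g, g ∈ N ↔ ∀ v, f g v = v)
    (hsol : Group.IsSolvable N) (hidx : ¬ q ∣ N.index) {p : ℕ} [Fact p.Prime]
    (horb : ∀ v : V, ∃ x : G, (∀ g ∈ centralizer ({x} : Set G), f g v = v) ∧
      ∃ a, (centralizer ({x} : Set G)).index = p ^ a) : Group.IsSolvable G := by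
  let ρ : G →* Module.End (ZMod q) V :=
    { toFun := fun h => AddMonoidHom.toZModLinearMap q (f h : V →+ V)
      map_one' := LinearMap.ext fun v => by
        show f 1 v = v
        rw [map_one]; rfl
      map_mul' := fun a b => LinearMap.ext fun v => by
        show f (a * b) v = f a (f b v)
        rw [map_mul]; rfl }
  have happ : ∀ g v, ρ g v = f g v := fun g v => rfl
  have hkeq : ρ.toHomUnits.ker = N := by
    ext g
    rw [hN, MonoidHom.mem_ker]
    constructor
    · intro h v
      exact (happ g v).symm.trans (LinearMap.congr_fun (congrArg Units.val h) v)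
    · intro h
      exact Units.ext (LinearMap.ext fun v => (happ g v).trans (h v))
  haveI : Finite ρ.toHomUnits.range := Finite.of_surjective ρ.toHomUnits.rangeRestrict
    ρ.toHomUnits.rangeRestrict_surjective
  let ρ' : ρ.toHomUnits.range →* Module.End (ZMod q) V :=
    (Units.coeHom _).comp ρ.toHomUnits.range.subtype
  have hcop' : (Nat.card ρ.toHomUnits.range : ZMod q) ≠ 0 := by
    rw [← index_ker, hkeq, Ne, ZMod.natCast_eq_zero_iff]
    exact hidx
  have hO : PPow.Orb p ρ' := by
    intro v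
    obtain ⟨x, hx, a, ha⟩ := horb v
    have hle : centralizer ({x} : Set G)
        ≤ (PPow.stab ρ' v).comap ρ.toHomUnits.rangeRestrict := fun g hg => hx g hg
    have hd := index_dvd_of_le hle
    rw [index_comap_of_surjective _ ρ.toHomUnits.rangeRestrict_surjective, ha] at hd
    obtain ⟨i, -, hi⟩ := (Nat.dvd_prime_pow (Fact.out : p.Prime)).1 hd
    exact ⟨i, hi⟩
  haveI : Group.IsSolvable ρ.toHomUnits.range :=
    PPow.isSolvable_of_orb (p := p) ρ' (fun a b h => Subtype.ext (Units.ext h)) hcop' hO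
  haveI := hsol
  exact Group.isSolvable_of_ker_le_range N.subtype ρ.toHomUnits.rangeRestrict
    (by rw [MonoidHom.ker_rangeRestrict, hkeq, range_subtype])

/-- A group with an abelian normal Sylow `q`-subgroup, trivial `q'`-core, all `q`-elements of
`p`-power class size, is solvable. -/
theorem isSolvable_of_abelian (hbot : KK = ⊥) (Q : Sylow q G) (hQn : (Q : Subgroup G).Normal)
    (hab : ∀ x ∈ (Q : Subgroup G), ∀ y ∈ (Q : Subgroup G), x * y = y * x)
    {p : ℕ} (hp : p.Prime)
    (hQ : ∀ x ∈ (Q : Subgroup G), ∃ a, (centralizer ({x} : Set G)).index = p ^ a) :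
    Group.IsSolvable G := by
  classical
  haveI := Fact.mk hp
  haveI := hQn
  set Qs := (Q : Subgroup G) with hQs
  -- the centraliser is `Q`
  have hcen : centralizer (Qs : Set G) ≤ Qs := by
    set C := centralizer (Qs : Set G) with hC
    have hQC : Qs ≤ C := fun x hx => mem_centralizer_iff.2 fun y hy => hab y hy x hx
    haveI : (Qs.subgroupOf C).Normal := normal_subgroupOf
    have hcop : (Nat.card (Qs.subgroupOf C)).Coprime (Qs.subgroupOf C).index := by
      refine (Nat.Coprime.coprime_dvd_left ?_ Q.card_coprime_index).coprime_dvd_right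
        (relIndex_dvd_index_of_normal Qs C)
      rw [← card_map_of_injective C.subtype_injective, map_subgroupOf_eq_of_le hQC]
    obtain ⟨H, hH⟩ := exists_right_complement'_of_coprime hcop
    haveI hHn : H.Normal := by
      refine normalizer_eq_top_iff.1 (eq_top_iff.2 ?_)
      rw [← hH.sup_eq_top, sup_le_iff]
      refine ⟨fun w hw => centralizer_le_normalizer _ (mem_centralizer_iff.2 fun h _ => ?_), le_normalizer⟩
      exact Subtype.ext (mem_centralizer_iff.1 h.2 (w : G) hw).symm
    haveI : (Cfsg.pPrimeCore q C).Characteristic := characteristic_iff_map_le.2 fun φ => by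
      haveI := Basics.normal_map_equiv (inferInstance : (Cfsg.pPrimeCore q C).Normal) φ
      refine Basics.le_pPrimeCore ?_
      rw [card_map_of_injective φ.injective]
      exact Basics.pPrimeCore_coprime q
    haveI : ((Cfsg.pPrimeCore q C).map C.subtype).Normal := ConjAct.normal_of_characteristic_of_normal
    have hHq : (Nat.card H).Coprime q := by
      rw [← hH.symm.index_eq_card]
      exact (((hq.out.coprime_iff_not_dvd).2 Q.not_dvd_index).symm).coprime_dvd_left
        (relIndex_dvd_index_of_normal Qs C)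
    have h1 : (Cfsg.pPrimeCore q C).map C.subtype = ⊥ := le_bot_iff.1 (hbot ▸ Basics.le_pPrimeCore (by
      rw [card_map_of_injective C.subtype_injective]; exact Basics.pPrimeCore_coprime q))
    rw [map_eq_bot_iff_of_injective _ C.subtype_injective] at h1
    have hH1 : H = ⊥ := le_bot_iff.1 (h1 ▸ Basics.le_pPrimeCore hHq)
    have := hH.sup_eq_top
    rw [hH1, sup_bot_eq, subgroupOf_eq_top] at this
    exact this
  -- the socle
  let W : Subgroup G :=
    { carrier := {x | x ∈ Qs ∧ x ^ q = 1}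
      one_mem' := ⟨one_mem _, one_pow _⟩
      mul_mem' := fun {a b} ha hb => ⟨mul_mem ha.1 hb.1, by
        rw [(show Commute a b from hab a ha.1 b hb.1).mul_pow, ha.2, hb.2, one_mul]⟩
      inv_mem' := fun {a} ha => ⟨inv_mem ha.1, by rw [inv_pow, ha.2, inv_one]⟩ }
  have hWmem : ∀ x, x ∈ W ↔ x ∈ Qs ∧ x ^ q = 1 := fun x => Iff.rfl
  haveI : IsMulCommutative W := ⟨⟨fun a b => Subtype.ext (hab a a.2.1 b b.2.1)⟩⟩
  have hWconj : ∀ g : G, ∀ x ∈ W, g * x * g⁻¹ ∈ W := fun g x hx =>
    ⟨hQn.conj_mem x hx.1 g, by rw [conj_pow, hx.2, mul_one, mul_inv_cancel]⟩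
  let cj : G →* AddMonoid.End (Additive W) :=
    { toFun := fun g =>
        { toFun := fun a => Additive.ofMul ⟨g * (a.toMul : G) * g⁻¹, hWconj g _ a.toMul.2⟩
          map_zero' := by
            apply Additive.toMul.injective; apply Subtype.ext
            simp
          map_add' := fun a b => by
            apply Additive.toMul.injective; apply Subtype.ext
            show g * ((a.toMul : G) * (b.toMul : G)) * g⁻¹
              = (g * (a.toMul : G) * g⁻¹) * (g * (b.toMul : G) * g⁻¹)
            group }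
      map_one' := AddMonoidHom.ext fun a => by
        apply Additive.toMul.injective; apply Subtype.ext
        show 1 * (a.toMul : G) * 1⁻¹ = (a.toMul : G)
        group
      map_mul' := fun g h => AddMonoidHom.ext fun a => by
        apply Additive.toMul.injective; apply Subtype.ext
        show (g * h) * (a.toMul : G) * (g * h)⁻¹ = g * (h * (a.toMul : G) * h⁻¹) * g⁻¹
        group }
  have happ : ∀ g x (hx : x ∈ W),
      (((cj g (Additive.ofMul ⟨x, hx⟩)).toMul : W) : G) = g * x * g⁻¹ := fun g x hx => rfl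
  have hρ : ∀ g x (hx : x ∈ W), (∀ v, cj g v = v) → g * x * g⁻¹ = x := by
    intro g x hx hg
    rw [← happ g x hx, hg]; rfl
  -- the kernel is `Q`
  have hker : ∀ g, (∀ v, cj g v = v) → g ∈ Qs := by
    intro g hg
    refine hcen (mem_centralizer_iff.2 ?_)
    -- coprime order: trivial action
    have hcop : ∀ h : G, (∀ v, cj h v = v) → ¬ q ∣ orderOf h → ∀ x ∈ Qs, h * x * h⁻¹ = x := by
      intro h hh hqo
      have hstep : ∀ e : ℕ, ∀ x ∈ Qs, x ^ q ^ e = 1 → h * x * h⁻¹ = x := by
        intro e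
        induction e with
        | zero =>
          intro x _ hx
          rw [pow_zero, pow_one] at hx
          rw [hx, mul_one, mul_inv_cancel]
        | succ e ih =>
          intro x hx hxe
          have hxq : h * x ^ q * h⁻¹ = x ^ q := ih _ (pow_mem hx q)
            (by rw [← pow_mul, ← pow_succ', hxe])
          set d := x⁻¹ * (h * x * h⁻¹) with hd
          have hdQ : d ∈ Qs := mul_mem (inv_mem hx) (hQn.conj_mem x hx h)
          have hdq : d ^ q = 1 := by
            rw [hd, (show Commute x⁻¹ (h * x * h⁻¹) from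
              hab _ (inv_mem hx) _ (hQn.conj_mem x hx h)).mul_pow, conj_pow, hxq, inv_pow,
              inv_mul_cancel]
          have hdfix : h * d * h⁻¹ = d := hρ h d ⟨hdQ, hdq⟩ hh
          have hiter : ∀ n : ℕ, h ^ n * x * (h ^ n)⁻¹ = x * d ^ n := by
            intro n
            induction n with
            | zero => simp
            | succ n ihn =>
              rw [show h ^ (n + 1) * x * (h ^ (n + 1))⁻¹ = h * (h ^ n * x * (h ^ n)⁻¹) * h⁻¹ by group,
                ihn, show h * (x * d ^ n) * h⁻¹ = (h * x * h⁻¹) * (h * d ^ n * h⁻¹) by group,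
                ← conj_pow, hdfix, show h * x * h⁻¹ = x * d by rw [hd]; group, mul_assoc,
                ← pow_succ']
          have h1 := hiter (orderOf h)
          rw [pow_orderOf_eq_one, one_mul, inv_one, mul_one] at h1
          have hd0 : d = 1 := by
            have h2 : orderOf d ∣ orderOf h :=
              orderOf_dvd_of_pow_eq_one (mul_eq_left.1 h1.symm)
            rcases (Nat.dvd_prime hq.out).1 (orderOf_dvd_of_pow_eq_one hdq) with h3 | h3
            · exact orderOf_eq_one_iff.1 h3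
            · exact absurd (h3 ▸ h2) hqo
          rw [hd] at hd0
          exact (inv_mul_eq_one.1 hd0).symm
      intro x hx
      obtain ⟨e, he⟩ := Q.2 ⟨x, hx⟩
      exact hstep e x hx (congrArg Subtype.val he)
    set o := orderOf g with ho
    set e := o.factorization q with he
    set m := ordCompl[q] o with hm
    intro x hx
    have ho0 : o ≠ 0 := (orderOf_pos g).ne'
    have h1 : Commute (g ^ q ^ e) x := by
      refine mul_inv_eq_iff_eq_mul.1 (hcop (g ^ q ^ e) ?_ ?_ x hx)
      · generalize q ^ e = N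
        intro v
        induction N with
        | zero => rw [pow_zero, map_one]; rfl
        | succ N ih =>
          rw [pow_succ, map_mul]
          show cj (g ^ N) (cj g v) = v
          rw [hg, ih]
      · rw [orderOf_pow' _ (pow_ne_zero _ hq.out.ne_zero), ← ho,
          Nat.gcd_eq_right (Nat.ordProj_dvd o q)]
        exact Nat.not_dvd_ordCompl hq.out ho0
    have h2 : Commute (g ^ m) x := by
      have hpg : IsPGroup q (zpowers (g ^ m)) := by
        obtain ⟨i, -, hi⟩ := (Nat.dvd_prime_pow hq.out).1 (orderOf_dvd_of_pow_eq_one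
          (show (g ^ m) ^ q ^ e = 1 by
            rw [← pow_mul, mul_comm, hm, he, Nat.ordProj_mul_ordCompl_eq_self, ho, pow_orderOf_eq_one]))
        exact IsPGroup.of_card (n := i) (by rw [Nat.card_zpowers, hi])
      obtain ⟨T, hT⟩ := hpg.exists_le_sylow
      haveI := Sylow.unique_of_normal Q hQn
      have hTQ : T = Q := Subsingleton.elim _ _
      exact hab _ ((hTQ ▸ hT) (mem_zpowers _)) x hx
    obtain ⟨u, v, huv⟩ : ∃ u v : ℤ, (1 : ℤ) = ((q ^ e : ℕ) : ℤ) * u + (m : ℤ) * v := by
      refine ⟨Nat.gcdA (q ^ e) m, Nat.gcdB (q ^ e) m, ?_⟩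
      rw [← Nat.gcd_eq_gcd_ab]
      have : Nat.Coprime (q ^ e) m := (Nat.coprime_ordCompl hq.out ho0).pow_left e
      rw [this.gcd_eq_one]; rfl
    have h3 : Commute g x := by
      have h4 := (h1.zpow_left u).mul_left (h2.zpow_left v)
      rwa [← zpow_natCast g (q ^ e), ← zpow_natCast g m, ← zpow_mul, ← zpow_mul, ← zpow_add, ← huv,
        zpow_one] at h4
    exact h3.eq.symm
  have hQker : ∀ g ∈ Qs, ∀ v, cj g v = v := by
    intro g hg a
    apply Additive.toMul.injective; apply Subtype.ext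
    show g * (a.toMul : G) * g⁻¹ = (a.toMul : G)
    rw [hab g hg _ a.toMul.2.1, mul_inv_cancel_right]
  letI : Module (ZMod q) (Additive W) := AddCommGroup.zmodModule (n := q) fun a => by
    apply Additive.toMul.injective
    exact Subtype.ext a.toMul.2.2
  refine isSolvable_of_action (q := q) (p := p) cj Qs (fun g => ⟨hQker g, hker g⟩)
    (Group.isSolvable_of_comm fun a b => Subtype.ext (hab a a.2 b b.2)) Q.not_dvd_index fun v => ?_
  refine ⟨((v.toMul : W) : G), fun g hg => ?_, hQ _ v.toMul.2.1⟩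
  apply Additive.toMul.injective; apply Subtype.ext
  show g * (v.toMul : G) * g⁻¹ = (v.toMul : G)
  rw [mem_centralizer_singleton_iff.1 hg, mul_inv_cancel_right]

theorem main (hB : IsBaer q G) (Q : Sylow q G) :
    (∃ K L : Subgroup G, K.Normal ∧ L.Normal ∧ K ≤ L ∧ (Nat.card K).Coprime q ∧
      (∃ m : ℕ, K.relIndex L = q ^ m) ∧ L.index.Coprime q) ∧
    ∃ p : ℕ, p.Prime ∧
      (∀ x : G, (∃ j : ℕ, orderOf x = q ^ j) → ∃ a : ℕ,
        (centralizer ({x} : Set G)).index = p ^ a) ∧
      (p = q → (Q : Subgroup G).Normal ∧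
        ∃ N : Subgroup G, N.Normal ∧ N.IsComplement' (Q : Subgroup G)) ∧
      (p ≠ q → IsMulCommutative (Q : Subgroup G) ∧ (Cfsg.pCore p G ⊔ (Q : Subgroup G)).Normal ∧
        ∀ _h : (KK).Normal, Group.IsSolvable (G ⧸ KK)) := by
  obtain ⟨hLn, hLm, hLc⟩ := qLength_one hB Q
  refine ⟨⟨KK, KK ⊔ Q, inferInstance, hLn, le_sup_left, Basics.pPrimeCore_coprime q, hLm, hLc⟩, ?_⟩
  -- reduction to the elements of `Q`
  have hred : ∀ p, (∀ x ∈ (Q : Subgroup G), ∃ a, (centralizer ({x} : Set G)).index = p ^ a) →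
      ∀ x : G, (∃ j : ℕ, orderOf x = q ^ j) → ∃ a, (centralizer ({x} : Set G)).index = p ^ a := by
    rintro p h x ⟨j, hj⟩
    obtain ⟨T, hT⟩ :=
      (IsPGroup.of_card (G := zpowers x) (n := j) (by rw [Nat.card_zpowers, hj])).exists_le_sylow
    obtain ⟨g, rfl⟩ := MulAction.exists_smul_eq G T Q
    obtain ⟨a, ha⟩ := h (g * x * g⁻¹) ⟨x, hT (mem_zpowers x), rfl⟩
    exact ⟨a, by rw [← index_centralizer_conj g x, ha]⟩
  by_cases hab : ∀ x ∈ (Q : Subgroup G), ∀ y ∈ (Q : Subgroup G), x * y = y * x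
  · by_cases hcen : ∀ x ∈ (Q : Subgroup G), centralizer ({x} : Set G) = ⊤
    · -- `Q` is central
      have hzero : ∀ x ∈ (Q : Subgroup G), ∃ a, (centralizer ({x} : Set G)).index = q ^ a :=
        fun x hx => ⟨0, by rw [hcen x hx, index_top, pow_zero]⟩
      have hQn : (Q : Subgroup G).Normal := ⟨fun x hx g => by
        have hg : g ∈ centralizer ({x} : Set G) := by rw [hcen x hx]; exact mem_top g
        rw [mem_centralizer_singleton_iff.1 hg, mul_inv_cancel_right]
        exact hx⟩
      obtain ⟨N, hNn, hNc, -⟩ := direct_factor Q ((Q : Subgroup G) : Set G) le_rfl hzero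
        (fun M hM => SetLike.exists_of_lt hM) hQn
      exact ⟨q, hq.out, hred q hzero, fun _ => ⟨hQn, N, hNn, hNc⟩, fun h => absurd rfl h⟩
    · push Not at hcen
      obtain ⟨x0, hx0, hx0c⟩ := hcen
      obtain ⟨p, a0, hp, ha0⟩ := hB x0 (orderOf_dvd_of_mem Q hx0)
      have ha00 : a0 ≠ 0 := fun h => hx0c (index_eq_one.1 (by rw [ha0, h, pow_zero]))
      have hall := one_prime hB Q hab hx0 hp ha0 ha00
      refine ⟨p, hp, hred p hall, fun hpq => ?_, fun _ => ⟨⟨⟨fun a b =>
        Subtype.ext (hab a a.2 b b.2)⟩⟩, pCore_sup_normal hB Q hp hall, fun _ => ?_⟩⟩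
      · exfalso
        exact Q.not_dvd_index (dvd_trans (hpq ▸ ha0 ▸ dvd_pow_self p ha00)
          (index_dvd_of_le fun y hy => mem_centralizer_singleton_iff.2 (hab y hy x0 hx0)))
      · have hsurj := QuotientGroup.mk'_surjective (KK)
        refine isSolvable_of_abelian (q := q) (Basics.pPrimeCore_quotient_eq_bot q)
          (Q.mapSurjective hsurj) ?_ ?_ hp ?_
        · show ((Q : Subgroup G).map (QuotientGroup.mk' KK)).Normal
          rw [map_sylow_eq_pCore hB Q]; infer_instance
        · rintro _ ⟨x, hx, rfl⟩ _ ⟨y, hy, rfl⟩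
          rw [← map_mul, ← map_mul, hab x hx y hy]
        · rintro _ ⟨x, hx, rfl⟩
          obtain ⟨a, ha⟩ := hall x hx
          exact index_map_centralizer _ hsurj hp ha
  · -- nonabelian `Q`
    have hnc : ∀ x ∈ (Q : Subgroup G), (∃ y ∈ (Q : Subgroup G), x * y ≠ y * x) →
        ∃ a, (centralizer ({x} : Set G)).index = q ^ a := by
      rintro x hx ⟨y, hy, hne⟩
      obtain ⟨r, a, hr, ha⟩ := hB x (orderOf_dvd_of_mem Q hx)
      rcases eq_or_ne r q with rfl | hrq
      · exact ⟨a, ha⟩
      · exact absurd (mem_center_of_index hB Q hx (by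
          rw [ha]; intro hd
          exact hrq ((Nat.prime_dvd_prime_iff_eq hq.out hr).1 (hq.out.dvd_of_dvd_pow hd)).symm) y hy) hne
    set S : Set G := {x | x ∈ (Q : Subgroup G) ∧ ∃ y ∈ (Q : Subgroup G), x * y ≠ y * x} with hS
    have hgen : ∀ M : Subgroup G, M < (Q : Subgroup G) → ∃ x ∈ S, x ∉ M := by
      intro M hM
      by_contra hcon
      push Not at hcon hab
      obtain ⟨x, hx, y, hy, hxy⟩ := hab
      refine hM.not_ge fun z hz => ?_
      by_cases hzS : ∃ w ∈ (Q : Subgroup G), z * w ≠ w * z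
      · exact hcon z ⟨hz, hzS⟩
      · push Not at hzS
        have hxz : x * z ∈ S := ⟨mul_mem hx hz, y, hy, fun h => hxy (mul_right_cancel (b := z) (by
          rw [mul_assoc x y, ← hzS y hy, ← mul_assoc, h, mul_assoc]))⟩
        have := mul_mem (inv_mem (hcon x ⟨hx, y, hy, hxy⟩)) (hcon _ hxz)
        rwa [inv_mul_cancel_left] at this
    have hQn : (Q : Subgroup G).Normal := by
      have hle : (Q : Subgroup G) = Cfsg.pCore q G := by
        refine le_antisymm ?_ (Basics.pCore_le_sylow q Q)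
        by_contra hnle
        obtain ⟨x, hx, hxM⟩ := hgen (Cfsg.pCore q G)
          (lt_of_le_of_ne (Basics.pCore_le_sylow q Q) fun h => hnle h.ge)
        obtain ⟨j, hj⟩ := orderOf_dvd_of_mem Q hx.1
        exact hxM (FGS.Kazarin.mem_pCore_of_pElement ⟨j, dvd_of_eq hj⟩ (hnc x hx.1 hx.2))
      rw [hle]; infer_instance
    obtain ⟨N, hNn, hNc, hall⟩ := direct_factor Q S (fun x hx => hx.1)
      (fun x hx => hnc x hx.1 hx.2) hgen hQn
    exact ⟨q, hq.out, hred q hall, fun _ => ⟨hQn, N, hNn, hNc⟩, fun h => absurd rfl h⟩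

end Cfsg.Agent.FGB.QBaer
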