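import Cfsg.Agent.Lib.FGB.UnitriRank
import Cfsg.Agent.Lib.FGB.PGroupBasic
import Cfsg.Agent.Lib.Transfer.ClassTwo
import Cfsg.Agent.Lib.Basics.Frattini

/-!
# The rank of a `p`-group, from the rank of its normal abelian subgroups
-/

set_option autoImplicit false
set_option linter.all false

namespace Cfsg.Agent.FGB.RankBound

open Subgroup Module
open scoped commutatorElement

universe u

variable {p : ℕ} [hp : Fact p.Prime]

theorem commute_conj_of_pcentral {K : Type u} [Group K] [Finite K] :
    ∀ n : ℕ, ∀ H : Subgroup K, Nat.card H ≤ n → IsPGroup p K → p ≠ 2 →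
      (∀ x : K, x ^ p = 1 → x ∈ center K) → ∀ x ∈ H, x ^ p ^ 2 = 1 → ∀ g ∈ H, ⁅g, x⁆ ^ p = 1 := by
  intro n
  induction n with
  | zero => intro H hH; exact absurd hH (not_le.mpr Nat.card_pos)
  | succ n ih =>
    intro H hH hK hp2 hpc x hx hxp g hg
    have hHp : IsPGroup p H := hK.to_subgroup H
    rcases eq_top_or_exists_le_coatom (zpowers (⟨x, hx⟩ : H)) with htop | ⟨M, hM, hxM⟩
    · obtain ⟨i, hi⟩ := htop.ge (mem_top (⟨g, hg⟩ : H))
      have : g = x ^ i := (congrArg Subtype.val hi).symm
      rw [this, commutatorElement_eq_one_iff_mul_comm.mpr ((Commute.self_zpow x i).symm.eq), one_pow]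
    obtain ⟨hMn, hMi⟩ := FGB.coatom_normal_and_index hHp hM
    set M' : Subgroup K := M.map H.subtype with hM'
    have hlt : Nat.card M' ≤ n := by
      have h1 := M.card_mul_index
      rw [hMi] at h1
      rw [hM', card_map_of_injective H.subtype_injective]
      have h2 : 2 ≤ p := hp.out.two_le
      have h3 : 0 < Nat.card M := Nat.card_pos
      nlinarith
    have hxM' : x ∈ M' := ⟨⟨x, hx⟩, hxM (mem_zpowers _), rfl⟩
    have haM' : g * x * g⁻¹ ∈ M' :=
      ⟨_, hMn.conj_mem _ (hxM (mem_zpowers _)) ⟨g, hg⟩, rfl⟩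
    have hap : (g * x * g⁻¹) ^ p ^ 2 = 1 := by rw [conj_pow, hxp, mul_one, mul_inv_cancel]
    have hbp : x⁻¹ ^ p ^ 2 = 1 := by rw [inv_pow, hxp, inv_one]
    have hd : ⁅x⁻¹, g * x * g⁻¹⁆ ∈ center K :=
      hpc _ (ih M' hlt hK hp2 hpc _ haM' hap _ (inv_mem hxM'))
    have hdp : ⁅x⁻¹, g * x * g⁻¹⁆ ^ p = 1 := ih M' hlt hK hp2 hpc _ haM' hap _ (inv_mem hxM')
    have hxpc : x ^ p ∈ center K := hpc _ (by rw [← pow_mul, ← pow_two, hxp])
    rw [show ⁅g, x⁆ = g * x * g⁻¹ * x⁻¹ by rw [commutatorElement_def],
      Transfer.mul_pow_of_commute (mem_center_iff.mp hd _).symm (mem_center_iff.mp hd _).symm]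
    obtain ⟨t, ht⟩ : p ∣ p.choose 2 :=
      hp.out.dvd_choose_self two_ne_zero (lt_of_le_of_ne hp.out.two_le (Ne.symm hp2))
    rw [ht, pow_mul, hdp, one_pow, mul_one, conj_pow, mem_center_iff.mp hxpc g, mul_inv_cancel_right,
      inv_pow, mul_inv_cancel]

/-- The elements of order `p` of a group in which they are central. -/
def omega (K : Type u) [Group K] (p : ℕ) (h : ∀ x : K, x ^ p = 1 → x ∈ center K) : Subgroup K where
  carrier := {x | x ^ p = 1}
  one_mem' := one_pow p
  mul_mem' := fun {a b} ha hb => by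
    show (a * b) ^ p = 1
    rw [(show Commute a b from (mem_center_iff.mp (h a ha) b).symm).mul_pow, show a ^ p = 1 from ha,
      show b ^ p = 1 from hb, mul_one]
  inv_mem' := fun {a} (ha : a ^ p = 1) => show a⁻¹ ^ p = 1 by rw [inv_pow, ha, inv_one]

/-- A `p`-central group, `p` odd, is generated by as many elements as the rank of `Ω₁`. -/
theorem exists_generators_pcentral (hp2 : p ≠ 2) : ∀ (n : ℕ) (K : Type u) [Group K] [Finite K],
    Nat.card K ≤ n → IsPGroup p K → ∀ h : (∀ x : K, x ^ p = 1 → x ∈ center K), ∀ e : ℕ,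
      Nat.card (omega K p h) ≤ p ^ e → ∃ S : Finset K, S.card ≤ e ∧ Subgroup.closure (S : Set K) = ⊤ := by
  classical
  intro n
  induction n with
  | zero => intro K _ _ hK; exact absurd hK (not_le.mpr Nat.card_pos)
  | succ n ih =>
    intro K _ _ hK hKp hpc e he
    haveI := hKp.isNilpotent
    set Ω := omega K p hpc with hΩ
    haveI hΩn : Ω.Normal := ⟨fun a ha g => by
      show (g * a * g⁻¹) ^ p = 1
      rw [conj_pow, show a ^ p = 1 from ha, mul_one, mul_inv_cancel]⟩
    by_cases hbot : Ω = ⊥
    · refine ⟨∅, Nat.zero_le _, ?_⟩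
      rw [Finset.coe_empty, Subgroup.closure_empty]
      refine ((eq_top_iff' _).mpr fun x => ?_)
      by_contra hx
      haveI : Nontrivial K := ⟨⟨x, 1, fun h => hx (h ▸ one_mem _)⟩⟩
      have hdvd : p ∣ Nat.card K := (hKp.card_eq_or_dvd).resolve_left Finite.one_lt_card.ne'
      obtain ⟨z, hz⟩ := exists_prime_orderOf_dvd_card' p hdvd
      have hzΩ : z ∈ Ω := show z ^ p = 1 by rw [← hz, pow_orderOf_eq_one]
      rw [hbot, mem_bot] at hzΩ
      rw [hzΩ, orderOf_one] at hz
      exact hp.out.one_lt.ne hz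
    by_cases hΦ : Ω ≤ frattini K
    · -- pass to the quotient
      have hpcQ : ∀ q : K ⧸ Ω, q ^ p = 1 → q ∈ center (K ⧸ Ω) := by
        intro q hq
        induction q using QuotientGroup.induction_on with
        | H x =>
          rw [← QuotientGroup.mk_pow, QuotientGroup.eq_one_iff] at hq
          have hxp : x ^ p ^ 2 = 1 := by rw [pow_two, pow_mul]; exact hq
          rw [mem_center_iff]
          intro q'
          induction q' using QuotientGroup.induction_on with
          | H g =>
            rw [← commutatorElement_eq_one_iff_mul_comm]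
            exact (QuotientGroup.eq_one_iff (N := Ω) ⁅g, x⁆).mpr
              (commute_conj_of_pcentral _ ⊤ le_rfl hKp hp2 hpc x (mem_top x) hxp g (mem_top g))
      have hcard : Nat.card (omega (K ⧸ Ω) p hpcQ) ≤ Nat.card Ω := by
        have hlift : ∀ q : omega (K ⧸ Ω) p hpcQ, ∃ x : K, QuotientGroup.mk x = (q : K ⧸ Ω) :=
          fun q => QuotientGroup.mk_surjective _
        choose r hr using hlift
        have hrmem : ∀ q, r q ^ p ∈ Ω := fun q => by
          rw [← QuotientGroup.eq_one_iff, QuotientGroup.mk_pow, hr]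
          exact q.2
        refine Nat.card_le_card_of_injective (fun q => (⟨r q ^ p, hrmem q⟩ : Ω)) fun a b hab => ?_
        have hab' : r a ^ p = r b ^ p := congrArg Subtype.val hab
        refine Subtype.ext ?_
        rw [← hr a, ← hr b, QuotientGroup.eq]
        show ((r a)⁻¹ * r b) ^ p = 1
        have hxp : (r a) ^ p ^ 2 = 1 := by rw [pow_two, pow_mul]; exact hrmem a
        have hd := commute_conj_of_pcentral _ ⊤ le_rfl hKp hp2 hpc (r a)⁻¹ (mem_top _)
          (by rw [inv_pow, hxp, inv_one]) (r b) (mem_top _)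
        have hdc := hpc _ hd
        rw [Transfer.mul_pow_of_commute (mem_center_iff.mp hdc _).symm (mem_center_iff.mp hdc _).symm]
        obtain ⟨t, ht⟩ : p ∣ p.choose 2 :=
          hp.out.dvd_choose_self two_ne_zero (lt_of_le_of_ne hp.out.two_le (Ne.symm hp2))
        rw [ht, pow_mul, hd, one_pow, mul_one, inv_pow, hab', inv_mul_cancel]
      have hQlt : Nat.card (K ⧸ Ω) ≤ n := by
        have h1 := card_eq_card_quotient_mul_card_subgroup Ω
        have h2 : 2 ≤ Nat.card Ω := (one_lt_card_iff_ne_bot Ω).mpr hbot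
        have h3 : 0 < Nat.card (K ⧸ Ω) := Nat.card_pos
        nlinarith
      obtain ⟨S, hS, hgen⟩ := ih (K ⧸ Ω) hQlt (hKp.to_quotient Ω) hpcQ e (hcard.trans he)
      have hl : ∀ q : K ⧸ Ω, ∃ x : K, QuotientGroup.mk x = q := fun q => QuotientGroup.mk_surjective q
      choose l hl using hl
      refine ⟨S.image l, Finset.card_image_le.trans hS, ?_⟩
      refine frattini_nongenerating (top_le_iff.mp ?_)
      refine le_trans ?_ (sup_le_sup_left hΦ _)
      intro x _
      have hx : QuotientGroup.mk' Ω x ∈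
          (Subgroup.closure ((S.image l : Finset K) : Set K)).map (QuotientGroup.mk' Ω) := by
        rw [MonoidHom.map_closure, Finset.coe_image, ← Set.image_comp]
        have hle : (⊤ : Subgroup (K ⧸ Ω)) ≤ Subgroup.closure ((⇑(QuotientGroup.mk' Ω) ∘ l) '' (S : Set (K ⧸ Ω))) := by
          rw [← hgen]
          exact Subgroup.closure_mono fun q hq => ⟨q, hq, hl q⟩
        exact hle (mem_top _)
      have := (map_le_map_iff' (f := QuotientGroup.mk' Ω) (H := zpowers x)
        (K := Subgroup.closure ((S.image l : Finset K) : Set K))).mp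
          (by rw [MonoidHom.map_zpowers, zpowers_le]; exact hx)
      rw [QuotientGroup.ker_mk'] at this
      exact this (mem_sup_left (mem_zpowers x))
    · -- split off a central element
      obtain ⟨z, hzΩ, hzΦ⟩ := Set.not_subset.mp hΦ
      obtain ⟨M, hM, hzM⟩ : ∃ M : Subgroup K, IsCoatom M ∧ z ∉ M := by
        by_contra hall
        push Not at hall
        exact hzΦ (by
          show z ∈ frattini K
          simp only [frattini, Order.radical, Subgroup.mem_iInf]
          exact fun M hM => hall M hM)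
      obtain ⟨hMn, hMi⟩ := FGB.coatom_normal_and_index hKp hM
      have hpcM : ∀ x : M, x ^ p = 1 → x ∈ center M := fun x hx => mem_center_iff.mpr fun y =>
        Subtype.ext (mem_center_iff.mp (hpc (x : K) (by simpa using congrArg Subtype.val hx)) y)
      have he1 : 1 ≤ e := by
        by_contra h0
        rw [show e = 0 by omega, pow_zero] at he
        exact absurd ((one_lt_card_iff_ne_bot Ω).mpr hbot) (not_lt.mpr he)
      have hMΩ : Nat.card (omega M p hpcM) ≤ p ^ (e - 1) := by
        set A := (omega M p hpcM).map M.subtype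
        have hA : A < Ω := by
          refine lt_of_le_of_ne ?_ fun h => ?_
          · rintro _ ⟨y, hy, rfl⟩
            exact (by simpa using congrArg Subtype.val (show y ^ p = 1 from hy) : (y : K) ^ p = 1)
          · obtain ⟨y, -, hy⟩ := h.ge hzΩ
            exact hzM (hy ▸ y.2)
        obtain ⟨b, hb⟩ := IsPGroup.iff_card.mp (hKp.to_subgroup Ω)
        obtain ⟨a, ha⟩ := IsPGroup.iff_card.mp (hKp.to_subgroup A)
        have h1 : Nat.card A < Nat.card Ω :=
          Set.ncard_lt_ncard (SetLike.coe_ssubset_coe.mpr hA) (Set.toFinite _)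
        rw [hb, ha, Nat.pow_lt_pow_iff_right hp.out.one_lt] at h1
        rw [hb, Nat.pow_le_pow_iff_right hp.out.one_lt] at he
        rw [← card_map_of_injective M.subtype_injective, show Nat.card A = p ^ a from ha]
        exact Nat.pow_le_pow_right hp.out.pos (by omega)
      have hMlt : Nat.card M ≤ n := by
        have h1 := M.card_mul_index
        rw [hMi] at h1
        have h2 : 2 ≤ p := hp.out.two_le
        have h3 : 0 < Nat.card M := Nat.card_pos
        nlinarith
      obtain ⟨S, hS, hgen⟩ := ih M hMlt (hKp.to_subgroup M) hpcM (e - 1) hMΩ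
      refine ⟨insert z (S.image M.subtype), ?_, ?_⟩
      · exact (Finset.card_insert_le _ _).trans (by have := Finset.card_image_le (s := S) (f := M.subtype); omega)
      · refine hM.2 _ (lt_of_le_of_ne ?_ fun h => hzM (h.ge (subset_closure (by simp))))
        calc M = (⊤ : Subgroup M).map M.subtype := by rw [← MonoidHom.range_eq_map, range_subtype]
          _ ≤ _ := by
            rw [← hgen, MonoidHom.map_closure]
            exact Subgroup.closure_mono (by rw [Finset.coe_insert, Finset.coe_image]; exact Set.subset_insert _ _)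

/-- A basis in which a `p`-group of linear maps is unitriangular. -/
theorem exists_flag {K : Type u} [Group K] [Finite K] (hK : IsPGroup p K) {V : Type u} [AddCommGroup V]
    [Module (ZMod p) V] [Finite V] (ρ : K →* Module.End (ZMod p) V) :
    ∃ (e : ℕ) (b : Basis (Fin e) (ZMod p) V), ∀ g j,
      ρ g (b j) - b j ∈ Submodule.span (ZMod p) (Set.range fun i : {i // i < j} => b i) := by
  classical
  haveI : Module.Finite (ZMod p) V := Module.Finite.of_finite
  have key : ∀ k, k ≤ finrank (ZMod p) V → ∃ f : Fin k → V, LinearIndependent (ZMod p) f ∧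
      ∀ g j, ρ g (f j) - f j ∈ Submodule.span (ZMod p) (f '' {i | i < j}) := by
    intro k
    induction k with
    | zero => intro _; exact ⟨Fin.elim0, linearIndependent_empty_type, fun g j => j.elim0⟩
    | succ k ih =>
      intro hk
      obtain ⟨f, hf, hinv⟩ := ih (by omega)
      set W := Submodule.span (ZMod p) (Set.range f) with hW
      have hWinv : ∀ g, ∀ w ∈ W, ρ g w ∈ W := by
        intro g w hw
        refine (Submodule.span_le.mpr ?_ : W ≤ W.comap (ρ g)) hw
        rintro _ ⟨j, rfl⟩
        show ρ g (f j) ∈ W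
        have h := W.add_mem (Submodule.span_mono (Set.image_subset_range f _) (hinv g j))
          (Submodule.subset_span ⟨j, rfl⟩)
        rwa [sub_add_cancel] at h
      haveI : Finite (V ⧸ W) := Finite.of_surjective _ (Submodule.mkQ_surjective W)
      let act : K → (V ⧸ W) → (V ⧸ W) := fun g => W.mapQ W (ρ g) (hWinv g)
      letI : MulAction K (V ⧸ W) :=
        { smul := act
          one_smul := fun q => by
            induction q using Submodule.Quotient.induction_on with
            | _ v => show W.mapQ W (ρ 1) _ (Submodule.Quotient.mk v) = _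
                     rw [Submodule.mapQ_apply, map_one]; rfl
          mul_smul := fun g h q => by
            induction q using Submodule.Quotient.induction_on with
            | _ v => show W.mapQ W (ρ (g * h)) _ (Submodule.Quotient.mk v) =
                       W.mapQ W (ρ g) _ (W.mapQ W (ρ h) _ (Submodule.Quotient.mk v))
                     rw [Submodule.mapQ_apply, Submodule.mapQ_apply, Submodule.mapQ_apply, map_mul]; rfl }
      have hdvd : p ∣ Nat.card (V ⧸ W) := by
        rw [Module.natCard_eq_pow_finrank (K := ZMod p), Nat.card_zmod]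
        refine dvd_pow_self p ?_
        have h1 := Submodule.finrank_quotient_add_finrank W
        have h2 : finrank (ZMod p) W = k := by rw [hW, finrank_span_eq_card hf, Fintype.card_fin]
        omega
      obtain ⟨q, hq, hq0⟩ := hK.exists_fixed_point_of_prime_dvd_card_of_fixed_point (V ⧸ W) hdvd
        (a := 0) (fun g => map_zero (W.mapQ W (ρ g) (hWinv g)))
      obtain ⟨v, rfl⟩ := Submodule.Quotient.mk_surjective W q
      have hv : v ∉ W := fun h => hq0 ((Submodule.Quotient.mk_eq_zero W).mpr h).symm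
      have hset : ∀ j : Fin k, (Fin.snoc f v : Fin (k + 1) → V) '' {i | i < j.castSucc} =
          f '' {i | i < j} := by
        intro j
        ext x
        constructor
        · rintro ⟨i, hi, rfl⟩
          cases i using Fin.lastCases with
          | last => exact absurd hi (by simp [Fin.lt_def])
          | cast i => exact ⟨i, Fin.castSucc_lt_castSucc_iff.mp hi, by rw [Fin.snoc_castSucc]⟩
        · rintro ⟨i, hi, rfl⟩
          exact ⟨i.castSucc, Fin.castSucc_lt_castSucc_iff.mpr hi, by rw [Fin.snoc_castSucc]⟩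
      refine ⟨Fin.snoc f v, linearIndependent_finSnoc.mpr ⟨hf, hv⟩, fun g j => ?_⟩
      cases j using Fin.lastCases with
      | last =>
        rw [Fin.snoc_last]
        have h := hq g
        change W.mapQ W (ρ g) (hWinv g) (Submodule.Quotient.mk v) = _ at h
        rw [Submodule.mapQ_apply, Submodule.Quotient.eq] at h
        refine Submodule.span_mono ?_ h
        rintro _ ⟨i, rfl⟩
        exact ⟨i.castSucc, Fin.castSucc_lt_last i, by rw [Fin.snoc_castSucc]⟩
      | cast j => rw [hset, Fin.snoc_castSucc]; exact hinv g j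
  obtain ⟨f, hf, hinv⟩ := key _ le_rfl
  refine ⟨_, basisOfLinearIndependentOfCardEqFinrank' f hf (by simp), fun g j => ?_⟩
  rw [coe_basisOfLinearIndependentOfCardEqFinrank']
  convert hinv g j using 3
  ext x
  exact ⟨fun ⟨⟨i, hi⟩, h⟩ => ⟨i, hi, h⟩, fun ⟨i, hi, h⟩ => ⟨⟨i, hi⟩, h⟩⟩

/-- A `p`-group with every normal abelian subgroup `k`-generated, `p` odd. -/
theorem exists_generators {P : Type u} [Group P] [Finite P] (hp2 : p ≠ 2) (hP : IsPGroup p P) (k : ℕ)
    (hab : ∀ A : Subgroup P, A.Normal → IsMulCommutative A →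
      ∃ S : Finset P, S.card ≤ k ∧ Subgroup.closure (S : Set P) = A)
    (hS0130 : ∀ (A : Subgroup P) [A.Normal], IsMulCommutative A → (∀ a ∈ A, a ^ p ^ 1 = 1) →
      (∀ B : Subgroup P, B.Normal → IsMulCommutative B → (∀ b ∈ B, b ^ p ^ 1 = 1) → A ≤ B → B = A) →
      ∀ x ∈ centralizer (A : Set P), x ^ p ^ 1 = 1 → x ∈ A) (H : Subgroup P) :
    ∃ S : Finset P, S.card ≤ k * (k + 4) / 4 ∧ Subgroup.closure (S : Set P) = H := by
  classical
  obtain ⟨E, -, ⟨hEn, hEc, hEexp⟩, hEmax⟩ := Finite.exists_le_maximal
    (p := fun A : Subgroup P => A.Normal ∧ IsMulCommutative A ∧ ∀ a ∈ A, a ^ p = 1) (a := ⊥)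
    ⟨inferInstance, inferInstance, fun a ha => by rw [mem_bot.mp ha, one_pow]⟩
  haveI := hEn
  letI : CommGroup E := { (inferInstance : Group E) with mul_comm := hEc.is_comm.comm }
  haveI : Module (ZMod p) (Additive E) := AddCommGroup.zmodModule fun x =>
    Subtype.ext (show ((x.toMul : E) ^ p : E).1 = 1 by
      rw [SubmonoidClass.coe_pow]; exact hEexp _ x.toMul.2)
  let ρ : P →* Module.End (ZMod p) (Additive E) :=
    { toFun := fun g => (MonoidHom.toAdditive (MulAut.conjNormal g : E ≃* E).toMonoidHom).toZModLinearMap p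
      map_one' := LinearMap.ext fun v => Additive.toMul.injective (Subtype.ext (by
        show (1 : P) * ((v.toMul : E) : P) * (1 : P)⁻¹ = _
        simp))
      map_mul' := fun g h => LinearMap.ext fun v => Additive.toMul.injective (Subtype.ext (by
        show g * h * ((v.toMul : E) : P) * (g * h)⁻¹ = g * (h * ((v.toMul : E) : P) * h⁻¹) * g⁻¹
        group)) }
  obtain ⟨e, b, hb⟩ := exists_flag hP ρ
  -- the rank of `E`
  have hek : e ≤ k := by
    obtain ⟨S, hS, hgen⟩ := hab E hEn hEc
    have hSE : ∀ s ∈ S, s ∈ E := fun s hs => hgen ▸ subset_closure hs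
    let s : S → Additive E := fun x => Additive.ofMul ⟨x.1, hSE _ x.2⟩
    have hspan : ⊤ ≤ Submodule.span (ZMod p) (Set.range s) := by
      rintro v -
      have key : ∀ x (hx : x ∈ Subgroup.closure (S : Set P)) (hxE : x ∈ E),
          Additive.ofMul (⟨x, hxE⟩ : E) ∈ Submodule.span (ZMod p) (Set.range s) := by
        intro x hx
        induction hx using Subgroup.closure_induction with
        | mem x hx => intro _; exact Submodule.subset_span ⟨⟨x, hx⟩, rfl⟩
        | one => intro _; exact Submodule.zero_mem _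
        | mul x y hx hy ihx ihy =>
          intro _
          exact Submodule.add_mem _ (ihx (hgen ▸ hx)) (ihy (hgen ▸ hy))
        | inv x hx ih => intro _; exact Submodule.neg_mem _ (ih (hgen ▸ hx))
      exact key _ (hgen.symm ▸ v.toMul.2) v.toMul.2
    have h1 := finrank_range_le_card (R := ZMod p) s
    rw [Set.finrank, top_le_iff.mp hspan, finrank_top, finrank_eq_card_basis b, Fintype.card_fin,
      Fintype.card_coe] at h1
    omega
  -- the centralizer
  set C := centralizer (E : Set P) with hC
  have hΩ : ∀ x ∈ C, x ^ p = 1 → x ∈ E := fun x hx hxp =>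
    hS0130 E hEc (fun a ha => by rw [pow_one]; exact hEexp a ha)
      (fun B h1 h2 h3 hle => le_antisymm
        (hEmax ⟨h1, h2, fun c hc => by simpa using h3 c hc⟩ hle) hle) x hx (by rw [pow_one]; exact hxp)
  set K := H ⊓ C
  have hpcK : ∀ x : K, x ^ p = 1 → x ∈ center K := fun x hx => mem_center_iff.mpr fun y =>
    Subtype.ext (mem_centralizer_iff.mp y.2.2 x (hΩ x x.2.2 (by simpa using congrArg Subtype.val hx))).symm
  have hcardE : Nat.card E = p ^ e := by
    rw [← Nat.card_congr Additive.ofMul.symm, Module.natCard_eq_pow_finrank (K := ZMod p),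
      finrank_eq_card_basis b, Fintype.card_fin, Nat.card_zmod]
  have hΩK : Nat.card (omega K p hpcK) ≤ p ^ e := by
    rw [← hcardE]
    refine Nat.card_le_card_of_injective
      (fun x => (⟨((x : K) : P), hΩ _ (x : K).2.2 (by simpa using congrArg Subtype.val x.2)⟩ : E))
      fun a c h => Subtype.ext (Subtype.ext (congrArg (fun z : E => (z : P)) h))
  obtain ⟨S1, hS1, hgen1⟩ := exists_generators_pcentral hp2 _ K le_rfl (hP.to_subgroup K) hpcK e hΩK
  -- the image
  let τ : P →* Matrix (Fin e) (Fin e) (ZMod p) :=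
    ((LinearMap.toMatrixAlgEquiv b).toAlgHom.toRingHom.toMonoidHom).comp ρ
  have hlow : ∀ g : P, UT.Low 0 (τ g) := by
    intro g
    have hrepr : ∀ i j, j ≤ i → b.repr (ρ g (b j) - b j) i = 0 := fun i j hji => by
      refine (Submodule.span_le.mpr ?_ : _ ≤ LinearMap.ker ((Finsupp.lapply i).comp b.repr.toLinearMap)) (hb g j)
      rintro _ ⟨⟨l, hl⟩, rfl⟩
      show b.repr (b l) i = 0
      rw [b.repr_self, Finsupp.single_eq_of_ne (hl.trans_le hji).ne']
    have hent : ∀ i j, j ≤ i → τ g i j = if i = j then 1 else 0 := fun i j hji => by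
      show LinearMap.toMatrixAlgEquiv b (ρ g) i j = _
      have := hrepr i j hji
      rw [map_sub, Finsupp.sub_apply, sub_eq_zero, b.repr_self] at this
      rw [LinearMap.toMatrixAlgEquiv_apply, this, Finsupp.single_apply]
      simp only [eq_comm]
    exact ⟨fun i => by rw [hent i i le_rfl, if_pos rfl],
      fun i j h => by rw [hent i j h.le, if_neg h.ne'], fun i j _ h => absurd h (Nat.not_lt_zero _)⟩
  let τu := τ.toHomUnits
  obtain ⟨S2, hS2, hgen2⟩ := UT.exists_generators (H.map τu) (by
    rintro _ ⟨g, -, rfl⟩; exact hlow g)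
  have hl : ∀ u : (Matrix (Fin e) (Fin e) (ZMod p))ˣ, ∃ g : P, u ∈ H.map τu → g ∈ H ∧ τu g = u := fun u => by
    by_cases hu : u ∈ H.map τu
    · obtain ⟨g, hg, he⟩ := hu; exact ⟨g, fun _ => ⟨hg, he⟩⟩
    · exact ⟨1, fun h => absurd h hu⟩
  choose l hl using hl
  set T := S1.image K.subtype ∪ S2.image l with hT
  refine ⟨T, ?_, ?_⟩
  · have h1 : T.card ≤ e + e ^ 2 / 4 := (Finset.card_union_le _ _).trans
      (Nat.add_le_add (Finset.card_image_le.trans hS1) (Finset.card_image_le.trans hS2))
    have h2 : e * (e + 4) ≤ k * (k + 4) := Nat.mul_le_mul hek (by omega)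
    have h3 : e + e ^ 2 / 4 = e * (e + 4) / 4 := by
      rw [show e * (e + 4) = e ^ 2 + e * 4 by ring, Nat.add_mul_div_right _ _ (by norm_num)]; ring
    exact h1.trans (h3.le.trans (Nat.div_le_div_right h2))
  have hS2H : ∀ u ∈ S2, u ∈ H.map τu := fun u hu => hgen2 ▸ subset_closure hu
  refine le_antisymm ((closure_le _).mpr fun g hg => ?_) fun h hh => ?_
  · rcases Finset.mem_union.mp hg with h | h <;> obtain ⟨x, hx, rfl⟩ := Finset.mem_image.mp h
    · exact x.2.1
    · exact (hl x (hS2H x hx)).1
  set L := Subgroup.closure (T : Set P)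
  have hmap : τu h ∈ L.map τu := by
    have h1 : τu h ∈ Subgroup.closure (S2 : Set _) := hgen2.symm ▸ mem_map_of_mem τu hh
    refine (closure_le _).mpr ?_ h1
    intro u hu
    exact ⟨l u, subset_closure (Finset.mem_union_right _ (Finset.mem_image_of_mem l hu)), (hl u (hS2H u hu)).2⟩
  obtain ⟨g, hg, hgh⟩ := hmap
  have hgH : g ∈ H := by
    refine (closure_le _).mpr ?_ hg
    intro y hy
    rcases Finset.mem_union.mp hy with h | h <;> obtain ⟨x, hx, rfl⟩ := Finset.mem_image.mp h
    · exact x.2.1
    · exact (hl x (hS2H x hx)).1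
  have hker : g⁻¹ * h ∈ K := by
    refine ⟨H.mul_mem (H.inv_mem hgH) hh, mem_centralizer_iff.mpr fun a ha => ?_⟩
    have h1 : τu (g⁻¹ * h) = 1 := by rw [map_mul, map_inv, hgh, inv_mul_cancel]
    have h2 : ρ (g⁻¹ * h) = 1 := (LinearMap.toMatrixAlgEquiv b).injective
      ((congrArg Units.val h1).trans (map_one (LinearMap.toMatrixAlgEquiv b)).symm)
    have h3 := congrArg (fun f : Module.End (ZMod p) (Additive E) =>
      ((f (Additive.ofMul (⟨a, ha⟩ : E))).toMul : E).1) h2
    change g⁻¹ * h * a * (g⁻¹ * h)⁻¹ = a at h3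
    exact (mul_inv_eq_iff_eq_mul.mp h3).symm
  have hKL : (g⁻¹ * h) ∈ L := by
    have h1 : (⟨g⁻¹ * h, hker⟩ : K) ∈ Subgroup.closure (S1 : Set K) := hgen1.symm ▸ mem_top _
    have h2 := mem_map_of_mem K.subtype h1
    rw [MonoidHom.map_closure] at h2
    refine Subgroup.closure_mono ?_ h2
    intro y hy
    rw [← Finset.coe_image] at hy
    exact Finset.mem_union_left _ hy
  simpa using L.mul_mem hg hKL

end Cfsg.Agent.FGB.RankBound
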