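/-
A finite group without non-trivial real elements of odd order has a normal Sylow 2-subgroup.
-/
import Mathlib
import Cfsg.Agent.Lib.Invol.BaerSuzuki
import Cfsg.Agent.Lib.Transfer.Fusion
import Cfsg.Agent.Lib.Basics.SchurZassenhaus

set_option autoImplicit false
set_option linter.all false

namespace Cfsg.Agent.FGB

open scoped Pointwise

universe u

theorem sylow_two_normal_of_no_real_odd : ∀ (n : ℕ) (G : Type u) [Group G] [Finite G], Nat.card G = n →
    (∀ z g : G, (orderOf z).Coprime 2 → g * z * g⁻¹ = z⁻¹ → z = 1) →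
    ∀ P : Sylow 2 G, (P : Subgroup G).Normal := by
  haveI : Fact (Nat.Prime 2) := ⟨Nat.prime_two⟩
  intro n
  induction n using Nat.strong_induction_on with
  | _ n ih =>
  intro G _ _ hn h P
  subst hn
  by_cases hP1 : (P : Subgroup G) = ⊥
  · rw [hP1]; infer_instance
  by_cases hL : ∃ L : Subgroup G, L.Normal ∧ IsPGroup 2 L ∧ L ≠ ⊥
  · obtain ⟨L, hLn, hL2, hL1⟩ := hL
    haveI := hLn
    have hlt : Nat.card (G ⧸ L) < Nat.card G := by
      rw [L.card_eq_card_quotient_mul_card_subgroup]
      have := (Subgroup.one_lt_card_iff_ne_bot L).mpr hL1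
      have := Nat.card_pos (α := G ⧸ L)
      nlinarith
    have hq : ∀ z g : G ⧸ L, (orderOf z).Coprime 2 → g * z * g⁻¹ = z⁻¹ → z = 1 := by
      intro z g hzc hgz
      obtain ⟨z₀, rfl⟩ := QuotientGroup.mk_surjective z
      obtain ⟨g, rfl⟩ := QuotientGroup.mk_surjective g
      obtain ⟨a, b, ha, hb, hab, ⟨k, hak⟩, hbc⟩ := Transfer.exists_pPart_mul (p := 2) z₀
      have haL : a ∈ L := by
        rw [← QuotientGroup.eq_one_iff]
        obtain ⟨i, hi⟩ := Subgroup.mem_zpowers_iff.mp ha
        refine orderOf_eq_one_iff.mp (Nat.eq_one_of_dvd_coprimes (hzc.pow_right k) ?_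
          ((orderOf_map_dvd (QuotientGroup.mk' L) a).trans hak))
        exact orderOf_dvd_of_mem_zpowers (Subgroup.mem_zpowers_iff.mpr ⟨i, by rw [← QuotientGroup.mk_zpow, hi]⟩)
      have hzb : ((z₀ : G) : G ⧸ L) = (b : G ⧸ L) := by
        rw [← hab, QuotientGroup.mk_mul, (QuotientGroup.eq_one_iff a).mpr haL, one_mul]
      rw [hzb] at hgz ⊢
      obtain ⟨m, hm⟩ := hL2.exists_card_eq
      have hcop : (Nat.card L).Coprime (orderOf b) := hm ▸ Nat.Coprime.pow_left m hbc.symm
      have hK : g * b * g⁻¹ ∈ L ⊔ Subgroup.zpowers b := by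
        have h1 : g * b * g⁻¹ * b ∈ L := by
          rw [← QuotientGroup.eq_one_iff, QuotientGroup.mk_mul, QuotientGroup.mk_mul, QuotientGroup.mk_mul,
            QuotientGroup.mk_inv, hgz, inv_mul_cancel]
        have h2 := Subgroup.mul_mem_sup h1 (Subgroup.inv_mem _ (Subgroup.mem_zpowers b))
        simpa using h2
      obtain ⟨c, hc, hcK⟩ := Basics.exists_conj_eq_of_coprime L (Subgroup.zpowers b)
        (Subgroup.zpowers (g * b * g⁻¹)) (fun z _ => by rw [Subgroup.normalizer_eq_top]; exact Subgroup.mem_top z)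
        (by rwa [Nat.card_zpowers]) (Subgroup.zpowers_le.mpr hK)
        (by
          rw [Nat.card_zpowers, Nat.card_zpowers]
          exact orderOf_injective (MulAut.conj g).toMonoidHom (MulAut.conj g).injective b)
        (Or.inr inferInstance)
      have hmem : (c⁻¹ * g) * b * (c⁻¹ * g)⁻¹ ∈ Subgroup.zpowers b := by
        have h1 : g * b * g⁻¹ ∈ MulAut.conj c • Subgroup.zpowers b := hcK ▸ Subgroup.mem_zpowers _
        rw [Subgroup.mem_pointwise_smul_iff_inv_smul_mem] at h1
        simpa [mul_assoc] using h1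
      have hdisj : ∀ w ∈ Subgroup.zpowers b, w ∈ L → w = 1 := by
        intro w hw hwL
        refine orderOf_eq_one_iff.mp (Nat.eq_one_of_dvd_coprimes hcop ?_ (orderOf_dvd_of_mem_zpowers hw))
        rw [← Subgroup.orderOf_mk w hwL]; exact orderOf_dvd_natCard _
      have hinv : (c⁻¹ * g) * b * (c⁻¹ * g)⁻¹ * b = 1 := by
        refine hdisj _ (mul_mem hmem (Subgroup.mem_zpowers b)) ?_
        rw [← QuotientGroup.eq_one_iff]
        simp only [QuotientGroup.mk_mul, QuotientGroup.mk_inv, (QuotientGroup.eq_one_iff c).mpr hc,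
          inv_one, one_mul, mul_inv_rev, mul_one]
        rw [hgz, inv_mul_cancel]
      rw [h b (c⁻¹ * g) hbc (eq_inv_of_mul_eq_one_left hinv), QuotientGroup.mk_one]
    have hPn := ih _ hlt (G ⧸ L) rfl hq (P.mapSurjective (QuotientGroup.mk'_surjective L))
    rw [Sylow.coe_mapSurjective] at hPn
    have hLP : L ≤ (P : Subgroup G) := by
      have := P.3 (IsPGroup.to_sup_of_normal_left hL2 P.2) le_sup_right
      exact this ▸ le_sup_left
    have := hPn.comap (QuotientGroup.mk' L)
    rwa [Subgroup.comap_map_eq_self (by rwa [QuotientGroup.ker_mk'])] at this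
  · exfalso
    push Not at hL
    obtain ⟨⟨t, htP⟩, ht⟩ := exists_prime_orderOf_dvd_card' (G := (P : Subgroup G)) 2 (by
      obtain ⟨k, hk⟩ := P.2.exists_card_eq
      rcases Nat.eq_zero_or_pos k with rfl | hk0
      · exact absurd (Subgroup.card_eq_one.mp (hk.trans (pow_zero 2))) hP1
      · exact hk ▸ dvd_pow_self 2 hk0.ne')
    rw [Subgroup.orderOf_mk] at ht
    have ht2 : t * t = 1 := by
      have := pow_orderOf_eq_one t
      rwa [ht, sq] at this
    have htinv : t⁻¹ = t := inv_eq_of_mul_eq_one_left ht2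
    have ht1 : t ≠ 1 := fun h1 => by rw [h1, orderOf_one] at ht; omega
    obtain ⟨N, hNn, hN2, htN⟩ := Invol.baerSuzuki_element (p := 2) (x := t) (fun g => by
      set y := t * (g * t * g⁻¹) with hy
      have htt : (g * t * g⁻¹) * (g * t * g⁻¹) = 1 := by
        calc (g * t * g⁻¹) * (g * t * g⁻¹) = g * (t * t) * g⁻¹ := by group
          _ = 1 := by rw [ht2, mul_one, mul_inv_cancel]
      have hty : t * y * t⁻¹ = y⁻¹ := by
        rw [htinv, hy, mul_inv_rev, inv_eq_of_mul_eq_one_left htt, htinv, ← mul_assoc t t, ht2, one_mul]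
      obtain ⟨a, b, ha, hb, hab, ⟨k, hak⟩, hbc⟩ := Transfer.exists_pPart_mul (p := 2) y
      have hb1 : b = 1 := by
        refine h b t hbc ?_
        obtain ⟨i, hi⟩ := Subgroup.mem_zpowers_iff.mp hb
        rw [← hi, ← conj_zpow, hty, inv_zpow]
      rw [hb1, mul_one] at hab
      subst hab
      have hpy : IsPGroup 2 (Subgroup.zpowers y) :=
        IsPGroup.of_card_dvd_pow (n := k) (by rwa [Nat.card_zpowers])
      have hpt : IsPGroup 2 (Subgroup.zpowers t) :=
        IsPGroup.of_card (n := 1) (by rw [Nat.card_zpowers, ht, pow_one])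
      have hnorm : Subgroup.zpowers t ≤ Subgroup.normalizer (Subgroup.zpowers y : Set G) := by
        rw [Subgroup.zpowers_le, Subgroup.mem_normalizer_iff]
        have hfwd : ∀ w ∈ Subgroup.zpowers y, t * w * t⁻¹ ∈ Subgroup.zpowers y := by
          intro w hw
          obtain ⟨i, rfl⟩ := Subgroup.mem_zpowers_iff.mp hw
          rw [← conj_zpow, hty]
          exact Subgroup.zpow_mem _ (Subgroup.inv_mem _ (Subgroup.mem_zpowers y)) i
        intro w
        refine ⟨hfwd w, fun hw => ?_⟩
        have := hfwd _ hw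
        rw [htinv] at this
        simpa [← mul_assoc, ht2, mul_assoc _ t t] using this
      refine (IsPGroup.to_sup_of_normal_right' hpt hpy hnorm).to_le ?_
      rw [Subgroup.closure_le]
      intro w hw
      rcases hw with rfl | rfl
      · exact Subgroup.mem_sup_left (Subgroup.mem_zpowers _)
      · have h1 := Subgroup.mul_mem_sup (Subgroup.mem_zpowers t) (Subgroup.mem_zpowers y)
        rwa [hy, ← mul_assoc t t, ht2, one_mul] at h1)
    exact ht1 ((Subgroup.eq_bot_iff_forall N).mp (hL N hNn hN2) t htN)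

end Cfsg.Agent.FGB
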