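import Cfsg.Agent.Lib.FGB.S3Data

/-!
`Sym(3)` acting without fixed points: an invariant abelian normal subgroup is central.
-/

set_option autoImplicit false

namespace Cfsg.Agent.FGB.S3Data

universe u v w z

variable {k : Type v} [Field k] {W : Type w} [AddCommGroup W] [Module k W]
  {A : Type z} [Group A] {K : Type u} [Group K] [Finite K] (d : S3Data k W A K)

theorem conj_rel {Q : Subgroup K} [Q.Normal] (hQi : Fpf.Inv d.φ Q) (α : A) (x : K) :
    Fpf.restrict Q hQi α * (MulAut.conjNormal x : MulAut Q) * (Fpf.restrict Q hQi α)⁻¹ =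
      MulAut.conjNormal (d.φ α x) := by
  rw [mul_inv_eq_iff_eq_mul]
  refine MulEquiv.ext fun q => Subtype.ext ?_
  show d.φ α ((MulAut.conjNormal x q : Q) : K) =
    ((MulAut.conjNormal (d.φ α x) (Fpf.restrict Q hQi α q) : Q) : K)
  simp only [MulAut.conjNormal_apply, map_mul, map_inv]
  rfl

theorem IsWt.conj {Q : Subgroup K} [Q.Normal] {χ : WFun Q k} {v : W} (h : d.IsWt Q χ v) (m : K) :
    d.IsWt Q ((MulAut.conjNormal m : MulAut Q) • χ) (d.R m v) := by
  intro q
  rw [wfun_smul_apply, ← map_smul, ← h, d.R_apply, d.R_apply]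
  congr 2
  rw [← _root_.map_inv, MulAut.conjNormal_apply]; group

/-- fixed elements of `a` fix every weight -/
theorem conj_fixed_wt {Q : Subgroup K} [Q.Normal] (hQi : Fpf.Inv d.φ Q)
    (hab : ∀ p q : Q, p * q = q * p) {χ : WFun Q k} {v : W} (h : d.IsWt Q χ v) (hv : v ≠ 0)
    {m : K} (hm : d.φ d.a m = m) : (MulAut.conjNormal m : MulAut Q) • χ = χ := by
  set σ := Fpf.restrict Q hQi with hσ
  set c : MulAut Q := MulAut.conjNormal m with hc
  have hconj : ∀ α, σ α * c * (σ α)⁻¹ = MulAut.conjNormal (d.φ α m) := fun α => d.conj_rel hQi α m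
  have hcomm : Commute (σ d.a) c := by
    have := hconj d.a
    rw [hm, mul_inv_eq_iff_eq_mul] at this
    exact this
  have hχ := h.mul hv
  by_cases hs : σ d.a • χ = χ
  · funext q
    show (c • χ) q = χ q
    have eA := wfun_apply_of_fixed hs
    have hroot : ∀ p : Q, χ p ^ 3 = χ (p * σ d.a p * σ d.a (σ d.a p)) := by
      intro p
      rw [hχ, hχ, eA, eA, eA]; ring
    rw [wfun_smul_apply]
    set N := q * σ d.a q * σ d.a (σ d.a q) with hN
    have hNfix : d.φ d.a (N : K) = N := by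
      letI : CommGroup Q := { (inferInstance : Group Q) with mul_comm := hab }
      have h3 : ∀ p, σ d.a (σ d.a (σ d.a p)) = p := fun p => by
        rw [← MulAut.mul_apply, ← map_mul, ← MulAut.mul_apply, ← map_mul, mul_assoc, d.aaa,
          _root_.map_one]
        rfl
      have : σ d.a N = N := by rw [hN]; simp only [map_mul, h3]; ac_rfl
      exact congrArg Subtype.val this
    have hcN : c⁻¹ N = N := by
      refine Subtype.ext ?_
      rw [hc, ← _root_.map_inv, MulAut.conjNormal_apply, inv_inv, mul_assoc,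
        ← d.fixed_comm hm hNfix, inv_mul_cancel_left]
    have hcomm2 : ∀ r, c⁻¹ (σ d.a r) = σ d.a (c⁻¹ r) := fun r =>
      (DFunLike.congr_fun hcomm.inv_right.eq r).symm
    have e : χ (c⁻¹ q) ^ 3 = χ q ^ 3 := by
      rw [hroot, hroot, ← hcomm2, ← hcomm2, ← map_mul, ← map_mul, ← hN, hcN]
    have h0 := h.ne_zero hv q
    have : χ (c⁻¹ q) / χ q = 1 := root_eq_one
      (by rw [div_pow, h.pow_card hv, h.pow_card hv, div_one])
      (by rw [div_pow, e, div_self (pow_ne_zero 3 h0)]) (d.coprime_three Q)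
    exact (div_eq_one_iff_eq h0).mp this
  -- every reflection inverts `m`
  have hrefl : ∀ j : ℕ, σ (d.a ^ j * d.t) * c = c⁻¹ * σ (d.a ^ j * d.t) := by
    intro j
    have h1 : ∀ l : ℕ, d.φ (d.a ^ l) m⁻¹ = m⁻¹ := by
      intro l
      induction l with
      | zero => simp
      | succ l ihl => rw [pow_succ, map_mul, MulAut.mul_apply, _root_.map_inv, hm, ihl]
    have := hconj (d.a ^ j * d.t)
    rw [mul_inv_eq_iff_eq_mul] at this
    rw [this, map_mul d.φ, MulAut.mul_apply, d.inverts hm, h1, hc, ← _root_.map_inv]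
  have hstab : ∀ (ψ : WFun Q k) (w : W), d.IsWt Q ψ w → w ≠ 0 →
      σ d.a • ψ = ψ ∨ ∃ i : ℕ, σ (d.a ^ i * d.t) • ψ = ψ := by
    intro ψ w hw hw0
    rcases hw.stab_cases hw0 hQi with e | e | e | e
    · exact Or.inl e
    · exact Or.inr ⟨0, by rwa [pow_zero, one_mul]⟩
    · exact Or.inr ⟨1, by rwa [pow_one]⟩
    · exact Or.inr ⟨2, e⟩
  rcases hstab χ v h hv with e | ⟨i, hi⟩
  · exact absurd e hs
  rcases hstab _ _ (IsWt.conj d h m) (d.R_ne_zero hv m) with e | ⟨l, hl⟩
  · rw [← hc, ← mul_smul, hcomm.eq, mul_smul] at e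
    exact absurd (MulAction.injective _ e) hs
  rw [← hc, ← mul_smul, hrefl, mul_smul, inv_smul_eq_iff, ← mul_smul] at hl
  have h3 : σ (d.a ^ l * d.t * (d.a ^ i * d.t)) • χ = (c * c) • χ := by
    rw [map_mul, mul_smul, hi, hl]
  -- a product of two reflections is a power of `a`
  have hrot : d.a ^ l * d.t * (d.a ^ i * d.t) = d.a ^ l * (d.a⁻¹) ^ i := by
    have : (d.a⁻¹) ^ i = d.t * d.a ^ i * d.t⁻¹ := by rw [← d.hta, conj_pow]
    rw [this, inv_eq_of_mul_eq_one_right d.ht]; group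
  rw [hrot] at h3
  set g := σ (d.a ^ l * (d.a⁻¹) ^ i) with hg
  have hg3 : g ^ 3 = 1 := by
    rw [hg, ← map_pow, Commute.mul_pow (by
      rw [inv_pow]; exact ((Commute.refl d.a).pow_pow l i).inv_right), ← pow_mul, ← pow_mul,
      mul_comm l, mul_comm i, pow_mul, pow_mul, inv_pow, d.ha, inv_one, one_pow, one_pow, one_mul,
      _root_.map_one]
  have hgc : Commute g c := by
    rw [hg, map_mul, map_pow, map_pow, _root_.map_inv]
    exact (hcomm.pow_left l).mul_left (hcomm.inv_left.pow_left i)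
  have h6 : c ^ 6 • χ = χ := by
    have e1 : ∀ j : ℕ, (g ^ j) • χ = (c ^ (2 * j)) • χ := by
      intro j
      induction j with
      | zero => simp
      | succ j ihj =>
        rw [pow_succ' g, mul_smul, ihj, ← mul_smul, (hgc.pow_right _).eq, mul_smul, h3, ← mul_smul,
          ← pow_two, ← pow_add]
        congr 2
    have := e1 3
    rw [hg3, one_smul] at this
    exact this.symm
  obtain ⟨e, he⟩ := exists_pow_eq_self_of_coprime (x := c) (n := 6)
    (d.cop.coprime_dvd_left ((orderOf_map_dvd (MulAut.conjNormal (H := Q)) m).trans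
      (orderOf_dvd_natCard m))).symm
  rw [← he]
  have : ∀ j : ℕ, (c ^ 6) ^ j • χ = χ := by
    intro j
    induction j with
    | zero => simp
    | succ j ihj => rw [pow_succ, mul_smul, h6, ihj]
  exact this e

variable [IsAlgClosed k]

/-- An invariant abelian normal subgroup is central. -/
theorem abelian_le_center (Q : Subgroup K) [Q.Normal] (hQi : Fpf.Inv d.φ Q)
    (hab : ∀ p ∈ Q, ∀ q ∈ Q, p * q = q * p) (hQk : (Nat.card Q : k) ≠ 0)
    (hfaith : ∀ q ∈ Q, d.R q = 1 → q = 1) : Q ≤ Subgroup.center K := by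
  classical
  set σ := Fpf.restrict Q hQi with hσ
  set c : K →* MulAut Q := MulAut.conjNormal with hc
  have hab' : ∀ p q : Q, p * q = q * p := fun p q => Subtype.ext (hab p p.2 q q.2)
  let D : Set (WFun Q k) := {χ | ∃ v : W, v ≠ 0 ∧ d.IsWt Q χ v}
  have hconj : ∀ α x, σ α * c x * (σ α)⁻¹ = c (d.φ α x) := fun α x => d.conj_rel hQi α x
  have hDM : ∀ m : K, ∀ χ ∈ D, c m • χ ∈ D := by
    rintro m χ ⟨v, hv, h⟩
    exact ⟨d.R m v, d.R_ne_zero hv m, IsWt.conj d h m⟩
  have hDα : ∀ α, ∀ χ ∈ D, σ α • χ ∈ D := by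
    rintro α χ ⟨v, hv, h⟩
    exact ⟨d.T α v, d.T_ne_zero hv α, h.twist hQi α⟩
  have hfaith' : ∀ m : K, (∀ χ ∈ D, c m • χ = χ) → c m = 1 := by
    intro m hm
    refine MulEquiv.ext fun q => ?_
    rw [MulAut.one_apply]
    have hR : d.R ((c m q : Q) : K) = d.R q := by
      refine LinearMap.ext fun v => ?_
      refine mem_of_eigenvectors (fun p : Q => d.R p) (Nat.card Q) hQk
        (fun p => by rw [← map_pow, ← Subgroup.coe_pow, pow_card_eq_one']; simp)
        (fun p r => by
          rw [Commute, SemiconjBy, ← map_mul, ← map_mul, hab p p.2 r r.2])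
        (LinearMap.eqLocus (d.R ((c m q : Q) : K)) (d.R q)) (fun v χ hv => ?_) v
      show d.R ((c m q : Q) : K) v = d.R q v
      by_cases hv0 : v = 0
      · rw [hv0, map_zero, map_zero]
      rw [hv, hv]
      have h1 : χ ((c m)⁻¹ (c m q)) = χ (c m q) :=
        congr_fun (hm χ ⟨v, hv0, hv⟩) (c m q)
      rw [MulAut.inv_apply, MulEquiv.symm_apply_apply] at h1
      rw [h1]
    refine Subtype.ext (mul_inv_eq_one.mp (hfaith _ (Q.mul_mem (c m q).2 (Q.inv_mem q.2)) ?_))
    rw [map_mul, hR, ← map_mul, mul_inv_cancel, _root_.map_one]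
  have hM : (c.range : Subgroup (MulAut Q)) = ⊥ := by
    haveI : Finite c.range := Finite.of_surjective _ c.rangeRestrict_surjective
    have hnorm : ∀ α, ∀ m ∈ c.range, σ α * m * (σ α)⁻¹ ∈ c.range := by
      rintro α _ ⟨m, rfl⟩
      exact ⟨_, (hconj α m).symm⟩
    refine eq_bot_of_weights c.range (σ d.a) (σ d.t) D
      (by rw [← map_pow, d.ha, _root_.map_one]) (by rw [← map_mul, d.ht, _root_.map_one])
      (by rw [← _root_.map_inv, ← map_mul, ← map_mul, d.hta, _root_.map_inv])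
      (hnorm d.a) (hnorm d.t) ?_ ?_ (hDα d.a) ?_ ?_ ?_ ?_
    · rintro _ ⟨m, rfl⟩ h
      rw [hconj] at h
      have hkinv : Fpf.Inv d.φ c.ker := fun α g hg => by
        show c (d.φ α g) = 1
        rw [← hconj, show c g = 1 from hg, mul_one, mul_inv_cancel]
      obtain ⟨y, hy, hyfix⟩ := d.exists_fixed c.ker hkinv (g := m) (by
        show c (m⁻¹ * d.φ d.a m) = 1
        rw [map_mul, _root_.map_inv, h, inv_mul_cancel])
      have hcy : c y = c m := by
        have : c (m⁻¹ * y) = 1 := hy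
        rwa [map_mul, _root_.map_inv, inv_mul_eq_one, eq_comm] at this
      refine hfaith' m fun χ hχ => ?_
      obtain ⟨v, hv, hw⟩ := hχ
      rw [← hcy]
      exact d.conj_fixed_wt hQi hab' hw hv hyfix
    · rintro _ ⟨m, rfl⟩
      exact hDM m
    · rintro _ ⟨m, rfl⟩
      exact hfaith' m
    · rintro χ ⟨v, hv, h⟩
      have := h.stab_cases hv hQi
      rwa [map_mul, map_mul, map_pow, ← hσ] at this
    · rintro χ ⟨v, hv, h⟩ h1 h2 _ ⟨m, rfl⟩
      have hone' := d.fun_eq_one hQi hab' (h.mul hv) (h.pow_card hv) h1 h2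
      funext q
      show (c m • χ) q = χ q
      rw [wfun_smul_apply, hone', hone']
    · rintro _ ⟨m, rfl⟩ x ⟨vx, hvx, hx⟩ y ⟨vy, hvy, hy⟩ hux huy h1 h2
      -- the product over an orbit of `σ a` is trivial
      have hprod : ∀ (z : WFun Q k) (vz : W), d.IsWt Q z vz → vz ≠ 0 → σ d.t • z = z → ∀ q,
          z q * (σ d.a • z) q * (σ d.a ^ 2 • z) q = 1 := by
        intro z vz hz hvz huz
        have hz1 := hz.twist hQi d.a
        have hz2 : d.IsWt Q (σ d.a ^ 2 • z) (d.T (d.a ^ 2) vz) := by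
          rw [← map_pow]; exact hz.twist hQi _
        have hne1 := d.T_ne_zero hvz d.a
        have hne2 := d.T_ne_zero hvz (d.a ^ 2)
        have hs3 : σ d.a ^ 3 = 1 := by rw [← map_pow, d.ha, _root_.map_one]
        refine d.fun_eq_one hQi hab'
          (f := fun q => z q * (σ d.a • z) q * (σ d.a ^ 2 • z) q) (fun p q => ?_) (fun q => ?_) ?_ ?_
        · show z (p * q) * (σ d.a • z) (p * q) * (σ d.a ^ 2 • z) (p * q) = _
          rw [hz.mul hvz, hz1.mul hne1, hz2.mul hne2]; ring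
        · show (z q * (σ d.a • z) q * (σ d.a ^ 2 • z) q) ^ _ = 1
          rw [mul_pow, mul_pow, hz.pow_card hvz, hz1.pow_card hne1, hz2.pow_card hne2, one_mul,
            one_mul]
        · funext q
          show z ((σ d.a)⁻¹ q) * (σ d.a • z) ((σ d.a)⁻¹ q) * (σ d.a ^ 2 • z) ((σ d.a)⁻¹ q) = _
          rw [← wfun_smul_apply (σ d.a) z, ← wfun_smul_apply (σ d.a) (σ d.a • z),
            ← wfun_smul_apply (σ d.a) (σ d.a ^ 2 • z), ← mul_smul, ← mul_smul, ← pow_two,
            ← pow_succ', hs3, one_smul]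
          ring
        · funext q
          show z ((σ d.t)⁻¹ q) * (σ d.a • z) ((σ d.t)⁻¹ q) * (σ d.a ^ 2 • z) ((σ d.t)⁻¹ q) = _
          have e1 : σ d.t • (σ d.a • z) = σ d.a ^ 2 • z := by
            rw [← mul_smul, ← map_mul, d.ta, map_mul, map_pow, mul_smul, huz]
          have e2 : σ d.t • (σ d.a ^ 2 • z) = σ d.a • z := by
            rw [← e1, ← mul_smul, ← map_mul, d.ht, _root_.map_one, one_smul]
          rw [← wfun_smul_apply (σ d.t) z, ← wfun_smul_apply (σ d.t) (σ d.a • z),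
            ← wfun_smul_apply (σ d.t) (σ d.a ^ 2 • z), huz, e1, e2]
          ring
      funext q
      show (c m • x) q = y q
      have e := hprod x vx hx hvx hux ((c m)⁻¹ q)
      rw [← wfun_smul_apply (c m) x, ← wfun_smul_apply (c m) (σ d.a • x),
        ← wfun_smul_apply (c m) (σ d.a ^ 2 • x), h1, h2] at e
      have e' := hprod y vy hy hvy huy q
      have hy1 := (hy.twist hQi d.a).ne_zero (d.T_ne_zero hvy d.a) q
      have hy2 : (σ d.a ^ 2 • y) q ≠ 0 := by
        rw [← map_pow]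
        exact (hy.twist hQi _).ne_zero (d.T_ne_zero hvy _) q
      exact mul_right_cancel₀ hy1 (mul_right_cancel₀ hy2 (e.trans e'.symm))
  intro q hq
  rw [Subgroup.mem_center_iff]
  intro g
  have : c g = 1 := Subgroup.mem_bot.mp (hM ▸ ⟨g, rfl⟩)
  have h2 := congrArg Subtype.val (DFunLike.congr_fun this (⟨q, hq⟩ : Q))
  rw [hc, MulAut.conjNormal_apply, MulAut.one_apply] at h2
  exact mul_inv_eq_iff_eq_mul.mp h2

end Cfsg.Agent.FGB.S3Data
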