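import Cfsg.Agent.Lib.FGB.S3Central

/-!
`Sym(3)` acting without fixed points: faithful invariant `s`-subgroups are abelian.
-/

set_option autoImplicit false

namespace Cfsg.Agent.FGB.S3Data

open scoped commutatorElement

universe u v w z

variable {k : Type v} [Field k] [IsAlgClosed k] {W : Type w} [AddCommGroup W] [Module k W]
  {A : Type z} [Group A] {K : Type u} [Group K] [Finite K] (d : S3Data k W A K)

theorem commutator_le_center {s : ℕ} [Fact s.Prime] (hK : IsPGroup s K) (hsk : (s : k) ≠ 0)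
    (hfaith : ∀ x, d.R x = 1 → x = 1) : _root_.commutator K ≤ Subgroup.center K := by
  haveI := hK.isNilpotent
  set Z := Subgroup.center K with hZ
  set Z2 := (Subgroup.center (K ⧸ Z)).comap (QuotientGroup.mk' Z) with hZ2
  have hmem2 : ∀ m ∈ Z2, ∀ g, ⁅m, g⁆ ∈ Z := by
    intro m hm g
    rw [← QuotientGroup.eq_one_iff, ← QuotientGroup.mk'_apply, map_commutatorElement,
      commutatorElement_eq_one_iff_mul_comm]
    exact (Subgroup.mem_center_iff.mp hm _).symm
  haveI hZ2n : Z2.Normal := by rw [hZ2]; infer_instance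
  have hcomm : ∀ m ∈ Z2, ∀ g ∈ _root_.commutator K, m * g = g * m := by
    intro m hm g hg
    let f : K →* Z :=
      MonoidHom.mk' (fun g => ⟨⁅m, g⁆, hmem2 m hm g⟩) fun p q => Subtype.ext (by
        show ⁅m, p * q⁆ = ⁅m, p⁆ * ⁅m, q⁆
        rw [commutatorElement_def m (p * q), commutatorElement_def m p]
        calc m * (p * q) * m⁻¹ * (p * q)⁻¹
            = m * p * m⁻¹ * (⁅m, q⁆ * p⁻¹) := by rw [commutatorElement_def]; group
          _ = _ := by rw [← Subgroup.mem_center_iff.mp (hmem2 m hm q) p⁻¹, ← mul_assoc])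
    have h2 : f g = 1 := by
      have hle : _root_.commutator K ≤ f.ker := by
        rw [_root_.commutator_def, Subgroup.commutator_le]
        intro p _ q _
        rw [MonoidHom.mem_ker, map_commutatorElement, commutatorElement_eq_one_iff_mul_comm]
        exact Subtype.ext (Subgroup.mem_center_iff.mp (f q).2 _)
      exact hle hg
    exact commutatorElement_eq_one_iff_mul_comm.mp (congrArg Subtype.val h2)
  set M := Z2 ⊓ _root_.commutator K with hM
  have hMi : Fpf.Inv d.φ M := by
    intro α g hg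
    refine ⟨?_, Fpf.inv_char d.φ _ α g hg.2⟩
    show QuotientGroup.mk' Z (d.φ α g) ∈ Subgroup.center (K ⧸ Z)
    rw [Subgroup.mem_center_iff]
    intro b
    obtain ⟨b, rfl⟩ := QuotientGroup.mk'_surjective Z b
    obtain ⟨c, rfl⟩ := (d.φ α).surjective b
    simp only [QuotientGroup.mk'_apply, ← QuotientGroup.mk_mul, ← map_mul]
    rw [QuotientGroup.eq, ← map_inv, ← map_mul]
    refine Fpf.inv_char d.φ Z α _ (QuotientGroup.eq.mp ?_)
    exact Subgroup.mem_center_iff.mp hg.1 (QuotientGroup.mk' Z c)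
  have hMle : M ≤ Z := by
    refine d.abelian_le_center M hMi (fun p hp q hq => hcomm p hp.1 q hq.2) ?_
      fun q _ hq => hfaith q hq
    obtain ⟨j, hj⟩ := IsPGroup.iff_card.mp (hK.to_subgroup M)
    rw [hj, Nat.cast_pow]
    exact pow_ne_zero j hsk
  by_contra hnot
  set L := (_root_.commutator K).map (QuotientGroup.mk' Z) with hL
  haveI : L.Normal := Subgroup.Normal.map inferInstance _ (QuotientGroup.mk'_surjective Z)
  have hLne : L ≠ ⊥ := fun h => hnot (by
    have := (Subgroup.map_eq_bot_iff _).mp h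
    rwa [QuotientGroup.ker_mk'] at this)
  obtain ⟨l, ⟨hlL, hlc⟩, hl1⟩ : ∃ l ∈ L ⊓ Subgroup.center (K ⧸ Z), l ≠ 1 := by
    -- a fixed point of the conjugation action on `L`
    let act : MulAction (K ⧸ Z) L := MulAction.compHom L (MulAut.conjNormal (H := L))
    haveI : Nontrivial L := L.nontrivial_iff_ne_bot.mpr hLne
    have hd : s ∣ Nat.card L := by
      obtain ⟨n, hn, hcard⟩ := ((hK.to_quotient Z).to_subgroup L).nontrivial_iff_card.mp inferInstance
      exact hcard ▸ dvd_pow_self s hn.ne'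
    obtain ⟨l, hl, hne⟩ := (hK.to_quotient Z).exists_fixed_point_of_prime_dvd_card_of_fixed_point
      L hd (a := (1 : L)) (fun g => map_one (MulAut.conjNormal g : MulAut L))
    refine ⟨l, ⟨l.2, Subgroup.mem_center_iff.mpr fun g => ?_⟩, fun h1 => hne (Subtype.ext h1.symm)⟩
    have h2 : ((MulAut.conjNormal g l : L) : K ⧸ Z) = l := congrArg Subtype.val (hl g)
    rw [MulAut.conjNormal_apply] at h2
    exact mul_inv_eq_iff_eq_mul.mp h2
  obtain ⟨g, hg, rfl⟩ := hlL
  exact hl1 ((QuotientGroup.eq_one_iff g).mpr (hMle ⟨hlc, hg⟩))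

/-- A faithful invariant `s`-group is abelian. -/
theorem commute_of_pgroup {s : ℕ} [hs : Fact s.Prime] (hK : IsPGroup s K) (hs2 : s ≠ 2)
    (hs3 : s ≠ 3) (hsk : (s : k) ≠ 0) (hfaith : ∀ x, d.R x = 1 → x = 1) (x y : K) :
    x * y = y * x := by
  classical
  have hcl := d.commutator_le_center hK hsk hfaith
  set Z := Subgroup.center K with hZ
  have hZk : (Nat.card Z : k) ≠ 0 := by
    obtain ⟨j, hj⟩ := IsPGroup.iff_card.mp (hK.to_subgroup Z)
    rw [hj, Nat.cast_pow]
    exact pow_ne_zero j hsk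
  have hmem : ∀ p q : K, ⁅p, q⁆ ∈ Z := fun p q => hcl (Subgroup.commutator_mem_commutator
    (Subgroup.mem_top p) (Subgroup.mem_top q))
  have hZab : ∀ p q : Z, p * q = q * p := fun p q =>
    Subtype.ext (Subgroup.mem_center_iff.mp q.2 p)
  have hZi : Fpf.Inv d.φ Z := Fpf.inv_char d.φ Z
  rw [← commutatorElement_eq_one_iff_mul_comm]
  refine hfaith _ (LinearMap.ext fun v => ?_)
  refine mem_of_eigenvectors (fun z : Z => d.R z) (Nat.card Z) hZk
    (fun z => by rw [← map_pow, ← Subgroup.coe_pow, pow_card_eq_one']; simp)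
    (fun p q => by rw [Commute, SemiconjBy, ← map_mul, ← map_mul, Subgroup.mem_center_iff.mp q.2 p])
    (LinearMap.eqLocus (d.R ⁅x, y⁆) 1) (fun v χ₀ hv₀ => ?_) v
  show d.R ⁅x, y⁆ v = v
  by_cases hv0 : v = 0
  · rw [hv0, map_zero]
  obtain ⟨χ, hwt, -⟩ : ∃ χ : WFun Z k, d.IsWt Z χ v ∧ χ = χ₀ := ⟨χ₀, hv₀, rfl⟩
  suffices χ ⟨⁅x, y⁆, hmem x y⟩ = 1 by
    have h1 := hwt ⟨⁅x, y⁆, hmem x y⟩
    rwa [this, one_smul] at h1
  -- the weight space
  let U : Submodule k W :=
    { carrier := {w | d.IsWt Z χ w}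
      add_mem' := fun {p q} hp hq z => by rw [map_add, hp z, hq z, smul_add]
      zero_mem' := fun z => by rw [map_zero, smul_zero]
      smul_mem' := fun r p hp z => by rw [map_smul, hp z, smul_comm] }
  have hUR : ∀ g : K, ∀ w ∈ U, d.R g w ∈ U := fun g w hw z => by
    rw [d.R_apply, ← Subgroup.mem_center_iff.mp z.2 g, ← d.R_apply, hw z, map_smul]
  set σ := Fpf.restrict Z hZi with hσ
  let β : K → K → k := fun p q => χ ⟨⁅p, q⁆, hmem p q⟩
  show β x y = 1
  have hβ : ∀ p q : K, ∀ w ∈ U, d.R ⁅p, q⁆ w = β p q • w := fun p q w hw => hw ⟨_, hmem p q⟩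
  have hn6 : (Nat.card Z).Coprime 6 := d.cop.coprime_dvd_left Z.card_subgroup_dvd_card
  by_cases hA : σ d.a • χ = χ
  · by_cases hT : σ d.t • χ = χ
    · exact d.fun_eq_one hZi hZab (hwt.mul hv0) (hwt.pow_card hv0) hA hT _
    -- the stabiliser has order three
    have hA2 : σ (d.a ^ 2) • χ = χ := by rw [map_pow, pow_two, mul_smul, hA, hA]
    have hfil : (Finset.univ : Finset (Fin 6)).filter
        (fun j => Fpf.restrict Z hZi (d.elems j) • χ = χ) = {0, 1, 2} := by
      ext j
      simp only [Finset.mem_filter, Finset.mem_univ, true_and, Finset.mem_insert,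
        Finset.mem_singleton, ← hσ]
      fin_cases j <;> simp [elems, -map_pow, -map_mul, hA, hA2, hT]
      · intro h
        rw [map_mul, mul_smul] at h
        exact hT (MulAction.injective (σ d.a) (h.trans hA.symm))
      · intro h
        rw [map_mul, mul_smul] at h
        exact hT (MulAction.injective (σ (d.a ^ 2)) (h.trans hA2.symm))
    have hquad : ∀ w : U, (w : W) + d.T d.a w + d.T d.a (d.T d.a w) = 0 := by
      intro w
      have h1 := IsWt.class_sum (d := d) (w.2 : d.IsWt Z χ w) hZi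
      rw [hfil, Finset.sum_insert (by decide), Finset.sum_insert (by decide),
        Finset.sum_singleton] at h1
      simpa [elems, pow_two, add_assoc] using h1
    let RU : K →* Module.End k U :=
      { toFun := fun g => (d.R g).restrict (hUR g)
        map_one' := LinearMap.ext fun w => Subtype.ext (by simp)
        map_mul' := fun p q => LinearMap.ext fun w => Subtype.ext (by simp) }
    have hTU : ∀ w ∈ U, d.T d.a w ∈ U := fun w hw => by
      have := IsWt.twist (d := d) (hw : d.IsWt Z χ w) hZi d.a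
      rw [← hσ, hA] at this
      exact this
    let E : Module.End k U := (d.T d.a).restrict hTU
    have hE := quadratic_centralizes hK hs2 hs3 hsk (d.φ d.a) (fun g => by
      rw [← MulAut.mul_apply, ← map_mul, ← MulAut.mul_apply, ← map_mul, mul_assoc, d.aaa,
        _root_.map_one]
      rfl) RU E (fun w => Subtype.ext (hquad w))
      (fun g w => Subtype.ext (d.compat d.a g w))
      (fun p q => ⟨β p q, fun w => Subtype.ext (hβ p q w w.2)⟩)
    -- every element agrees on `U` with a fixed element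
    have hlift : ∀ g, ∃ g', d.φ d.a g' = g' ∧ RU g' = RU g := by
      intro g
      haveI : Fact (Nat.Prime 3) := ⟨Nat.prime_three⟩
      have hA3 : IsPGroup 3 (Subgroup.zpowers d.a) := by
        rintro ⟨b, hb⟩
        obtain ⟨i, rfl⟩ := Subgroup.mem_zpowers_iff.mp hb
        refine ⟨1, Subtype.ext ?_⟩
        show (d.a ^ i) ^ 3 ^ 1 = 1
        rw [pow_one, ← zpow_natCast, ← zpow_mul, mul_comm, zpow_mul, zpow_natCast, d.ha, one_zpow]
      let Tw : Subgroup A :=
        { carrier := {α | ∀ g, RU (d.φ α g) = RU g}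
          one_mem' := by simp
          mul_mem' := fun {α α'} hα hα' g => by rw [map_mul, MulAut.mul_apply, hα, hα']
          inv_mem' := fun {α} hα g => by
            conv_rhs => rw [← show d.φ α (d.φ α⁻¹ g) = g by
              rw [← MulAut.mul_apply, ← map_mul, mul_inv_cancel, _root_.map_one, MulAut.one_apply]]
            rw [hα] }
      have hTwa : ∀ b : Subgroup.zpowers d.a, ∀ g, RU (d.φ (b : A) g) = RU g :=
        fun b => (Subgroup.zpowers_le (H := Tw)).mpr (show d.a ∈ Tw from hE) b.2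
      obtain ⟨g', hg', hfix⟩ := Fpf.exists_fixed_in_coset
        (φ := d.φ.comp (Subgroup.zpowers d.a).subtype) hA3 (H := RU.ker)
        (fun b z hz => by
          show RU (d.φ (b : A) z) = 1
          rw [hTwa]; exact hz)
        (fun hd => absurd
          (Nat.Coprime.eq_one_of_dvd (d.coprime_three RU.ker).symm hd) (by norm_num)) (g := g)
        (fun b => by
          show RU (g⁻¹ * d.φ (b : A) g) = 1
          rw [map_mul, hTwa, ← map_mul, inv_mul_cancel, _root_.map_one])
      refine ⟨g', hfix ⟨d.a, Subgroup.mem_zpowers _⟩, ?_⟩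
      have h1 : RU (g⁻¹ * g') = 1 := hg'
      calc RU g' = RU g * RU (g⁻¹ * g') := by rw [← map_mul, mul_inv_cancel_left]
        _ = RU g := by rw [h1, mul_one]
    obtain ⟨x', hx', hxx⟩ := hlift x
    obtain ⟨y', hy', hyy⟩ := hlift y
    have hswp : RU (x * y) = RU (y * x) := by
      rw [map_mul, map_mul, ← hxx, ← hyy, ← map_mul, ← map_mul, d.fixed_comm hx' hy']
    have h1 : RU ⁅x, y⁆ = 1 := by
      rw [show ⁅x, y⁆ = (x * y) * (y * x)⁻¹ by rw [commutatorElement_def]; group, map_mul, hswp,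
        ← map_mul, mul_inv_cancel, _root_.map_one]
    have h2 : d.R ⁅x, y⁆ v = v := congrArg Subtype.val (LinearMap.congr_fun h1 ⟨v, hwt⟩)
    refine smul_left_injective k hv0 ?_
    show β x y • v = (1 : k) • v
    rw [← hβ x y v hwt, h2, one_smul]
  -- the stabiliser is generated by a reflection
  obtain ⟨e, hea, heφ, heR, heT, het⟩ : ∃ e : S3Data k W A K, e.a = d.a ∧ e.φ = d.φ ∧ e.R = d.R ∧
      e.T = d.T ∧ σ e.t • χ = χ := by
    rcases hwt.stab_cases hv0 hZi with h | h | h | h
    · exact absurd h hA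
    · exact ⟨d, rfl, rfl, rfl, rfl, h⟩
    · exact ⟨d.shift, rfl, rfl, rfl, rfl, h⟩
    · refine ⟨d.shift.shift, rfl, rfl, rfl, rfl, ?_⟩
      rwa [show d.shift.shift.t = d.a * (d.a * d.t) from rfl, ← mul_assoc, ← pow_two]
  have hA' : σ (d.a ^ 2) • χ ≠ χ := fun h => by
    letI : MulAction A (WFun Z k) := MulAction.compHom _ σ
    exact hA (fixed_a_of_a2 (d := d) (x := χ) h)
  have hneg : ∀ w ∈ U, w + d.T e.t w = 0 := by
    intro w hw
    have h1 := sum_eigenclass_eq_zero (ι := Z) (fun z : Z => d.R z) Finset.univ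
      (fun j => (σ (e.elems j) • χ : WFun Z k)) (fun j => d.T (e.elems j) w)
      (fun j _ z => IsWt.twist (d := d) (hw : d.IsWt Z χ w) hZi _ z)
      (by
        have := e.sum w
        rw [heT] at this
        simpa [Fin.sum_univ_six, elems] using this) χ
    have hfil : (Finset.univ : Finset (Fin 6)).filter
        (fun j => σ (e.elems j) • χ = χ) = {0, 3} := by
      ext j
      simp only [Finset.mem_filter, Finset.mem_univ, true_and, Finset.mem_insert,
        Finset.mem_singleton]
      fin_cases j <;> simp [elems, hea, -map_pow, -map_mul, het, hA, hA']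
      · rw [map_mul, mul_smul, het]; exact hA
      · rw [map_mul, mul_smul, het]; exact hA'
    have h2 : ∑ j ∈ ({0, 3} : Finset (Fin 6)), d.T (e.elems j) w = 0 := by
      rw [← hfil]
      convert h1 using 2; ext; simp only [Finset.mem_filter]; exact Iff.rfl
    rw [Finset.sum_insert (by decide), Finset.sum_singleton] at h2
    simpa [elems] using h2
  have htR : ∀ g, ∀ w ∈ U, d.R (d.φ e.t g) w = d.R g w := by
    intro g w hw
    have h1 := d.compat e.t g w
    rw [eq_neg_of_add_eq_zero_right (hneg _ (hUR g w hw)),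
      eq_neg_of_add_eq_zero_right (hneg w hw), map_neg] at h1
    exact (neg_injective h1).symm
  have hmulr : ∀ p q r, β (p * q) r = β p r * β q r := by
    intro p q r
    show χ _ = χ _ * χ _
    rw [← hwt.mul hv0]
    congr 1
    refine Subtype.ext ?_
    show ⁅p * q, r⁆ = ⁅p, r⁆ * ⁅q, r⁆
    rw [show ⁅p * q, r⁆ = p * ⁅q, r⁆ * p⁻¹ * ⁅p, r⁆ by simp only [commutatorElement_def]; group,
      Subgroup.mem_center_iff.mp (hmem q r) p, mul_inv_cancel_right,
      Subgroup.mem_center_iff.mp (hmem p r)]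
  have htl : ∀ p q, β (d.φ e.t p) q = β p q := by
    intro p q
    refine smul_left_injective k hv0 ?_
    show β (d.φ e.t p) q • v = β p q • v
    rw [← hβ _ _ v hwt, ← hβ _ _ v hwt]
    simp only [commutatorElement_def, ← d.R_apply, ← _root_.map_inv]
    rw [htR p⁻¹ _ (hUR _ v hwt), htR p _ (hUR _ _ (hUR _ _ (hUR _ v hwt)))]
  have hanti : ∀ p q, β p q = (β q p)⁻¹ := by
    intro p q
    refine eq_inv_of_mul_eq_one_left ?_
    show χ _ * χ _ = 1
    rw [← hwt.mul hv0]
    refine smul_left_injective k hv0 ?_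
    show χ _ • v = (1 : k) • v
    rw [← hwt]
    simp [commutatorElement_def, mul_assoc]
  -- orbit products are central
  have hsum3 : ∀ p q, β (d.φ d.a p) q * β (d.φ d.a (d.φ e.t p)) q = (β p q)⁻¹ := by
    intro p q
    set p1 := d.φ d.a p with hp1
    set p2 := d.φ d.a p1 with hp2
    set r := d.φ e.t p with hr
    set r1 := d.φ d.a r with hr1
    set r2 := d.φ d.a r1 with hr2
    set w := p * p1 * p2 * (r * r1 * r2) with hw
    have h3 : ∀ g, d.φ d.a (d.φ d.a (d.φ d.a g)) = g := fun g => by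
      rw [← MulAut.mul_apply, ← map_mul, ← MulAut.mul_apply, ← map_mul, mul_assoc, d.aaa,
        _root_.map_one]
      rfl
    have h2 : ∀ g, d.φ e.t (d.φ e.t g) = g := fun g => by
      rw [← MulAut.mul_apply, ← map_mul, e.ht, _root_.map_one]; rfl
    have hswap : ∀ g, d.φ e.t (d.φ d.a g) = d.φ d.a (d.φ d.a (d.φ e.t g)) := fun g => by
      rw [← MulAut.mul_apply, ← map_mul, ← MulAut.mul_apply, ← map_mul, ← MulAut.mul_apply,
        ← map_mul, ← pow_two, ← hea, ← e.ta]
    letI : CommGroup (K ⧸ Z) := { (inferInstance : Group (K ⧸ Z)) with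
      mul_comm := fun p q => by
        obtain ⟨p, rfl⟩ := QuotientGroup.mk_surjective p
        obtain ⟨q, rfl⟩ := QuotientGroup.mk_surjective q
        rw [← commutatorElement_eq_one_iff_mul_comm]
        exact (QuotientGroup.eq_one_iff _).mpr (hmem p q) }
    have hwa : w⁻¹ * d.φ d.a w ∈ Z := by
      rw [← QuotientGroup.eq, hw]
      simp only [hp1, hp2, hr1, hr2, map_mul, h3, QuotientGroup.mk_mul]
      ac_rfl
    have hwt' : w⁻¹ * d.φ e.t w ∈ Z := by
      rw [← QuotientGroup.eq, hw]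
      simp only [hp1, hp2, hr1, hr2, hr, map_mul, h2, h3, hswap, QuotientGroup.mk_mul]
      ac_rfl
    have hwZ : w ∈ Z := e.free_coset Z (heφ ▸ hZi) (by rw [heφ, hea]; exact hwa)
      (by rw [heφ]; exact hwt')
    have h1 : β w q = 1 := by
      refine smul_left_injective k hv0 ?_
      show β w q • v = (1 : k) • v
      rw [← hβ _ _ v hwt, commutatorElement_eq_one_iff_mul_comm.mpr
        (Subgroup.mem_center_iff.mp hwZ q).symm]
      simp
    have e1 : β r2 q = β p1 q := by
      rw [hr2, hr1, hr, ← hswap, htl]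
    have e2 : β p2 q = β r1 q := by
      have : r1 = d.φ e.t p2 := by rw [hp2, hp1, hswap, hswap, h3]
      rw [this, htl]
    rw [hw, hmulr, hmulr, hmulr, hmulr, hmulr, e1, e2, hr, htl] at h1
    have h4 : (β p q * (β p1 q * β r1 q)) ^ 2 = 1 := by linear_combination h1
    have h5 : β p q * (β p1 q * β r1 q) = 1 := by
      refine root_eq_one h4 (n := Nat.card Z) ?_ (hn6.coprime_dvd_right (show 2 ∣ 6 by norm_num)).symm
      simp only [β, mul_pow, hwt.pow_card hv0, one_mul]
    exact eq_inv_of_mul_eq_one_right h5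
  -- evaluate on translates
  set x' := x * d.φ e.t x with hx'
  set y' := y * d.φ e.t y with hy'
  have hxa : ∀ q, β (d.φ d.a x') q = (β x q)⁻¹ := fun q => by
    rw [hx', map_mul, hmulr, hsum3]
  have hxb : ∀ q, β (d.φ d.a (d.φ d.a x')) q = (β x q)⁻¹ := fun q => by
    have h0 : d.φ d.a (d.φ d.a (d.φ e.t x)) = d.φ e.t (d.φ d.a x) := by
      rw [← MulAut.mul_apply, ← map_mul, ← MulAut.mul_apply, ← map_mul, ← MulAut.mul_apply,
        ← map_mul, ← pow_two, ← hea, ← e.ta]
    have h3 : d.φ d.a (d.φ d.a x) = d.φ e.t (d.φ d.a (d.φ e.t x)) := by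
      rw [← MulAut.mul_apply, ← map_mul, ← MulAut.mul_apply, ← map_mul, ← MulAut.mul_apply,
        ← map_mul]
      congr 2
      rw [← hea, e.ta, mul_assoc, e.ht, mul_one, pow_two]
    rw [hx', map_mul, map_mul, hmulr, h0, h3, htl, htl, mul_comm, hsum3]
  have hxx : ∀ q, β x' q = β x q ^ 2 := fun q => by rw [hx', hmulr, htl, pow_two]
  have hya : ∀ p, β p (d.φ d.a y') = (β p y)⁻¹ := by
    intro p
    rw [hanti p, hanti p y, hy', map_mul, hmulr, hsum3]
  have hyb : ∀ p, β p (d.φ d.a (d.φ d.a y')) = (β p y)⁻¹ := by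
    intro p
    have h0 : d.φ d.a (d.φ d.a (d.φ e.t y)) = d.φ e.t (d.φ d.a y) := by
      rw [← MulAut.mul_apply, ← map_mul, ← MulAut.mul_apply, ← map_mul, ← MulAut.mul_apply,
        ← map_mul, ← pow_two, ← hea, ← e.ta]
    have h3 : d.φ d.a (d.φ d.a y) = d.φ e.t (d.φ d.a (d.φ e.t y)) := by
      rw [← MulAut.mul_apply, ← map_mul, ← MulAut.mul_apply, ← map_mul, ← MulAut.mul_apply,
        ← map_mul]
      congr 2
      rw [← hea, e.ta, mul_assoc, e.ht, mul_one, pow_two]
    rw [hanti p, hanti p y, hy', map_mul, map_mul, hmulr, h0, h3, htl, htl, mul_comm, hsum3]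
  have hyy : ∀ p, β p y' = β p y ^ 2 := fun p => by
    rw [hanti p, hanti p y, hy', hmulr, htl, pow_two, mul_inv]
  -- the product over an orbit of `a` on commutators
  have horb : β x' y' * β (d.φ d.a x') (d.φ d.a y') *
      β (d.φ d.a (d.φ d.a x')) (d.φ d.a (d.φ d.a y')) = 1 := by
    set ζ : Z := ⟨⁅x', y'⁆, hmem _ _⟩ with hζ
    have ea : ∀ p q : K, (⟨⁅d.φ d.a p, d.φ d.a q⁆, hmem _ _⟩ : Z) = σ d.a ⟨⁅p, q⁆, hmem p q⟩ :=
      fun p q => Subtype.ext (map_commutatorElement (d.φ d.a) p q).symm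
    have et : σ e.t ζ = ζ := by
      refine Subtype.ext ?_
      show d.φ e.t ⁅x', y'⁆ = ⁅x', y'⁆
      rw [map_commutatorElement]
      have ht2 : ∀ g : K, d.φ e.t (g * d.φ e.t g) = d.φ e.t g * g := fun g => by
        rw [map_mul, ← MulAut.mul_apply, ← map_mul, e.ht, _root_.map_one, MulAut.one_apply]
      rw [hx', hy', ht2, ht2]
      have hsw : ∀ g h : K, g * h = ⁅g, h⁆ * (h * g) := fun g h => by
        rw [commutatorElement_def]; group
      have hcl' : ∀ g h c c' : K, c ∈ Z → c' ∈ Z → ⁅c * g, c' * h⁆ = ⁅g, h⁆ := by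
        intro g h c c' hc hc'
        have h4 : ∀ u, u * c = c * u := fun u => Subgroup.mem_center_iff.mp hc u
        have h5 : ∀ u, u * c' = c' * u := fun u => Subgroup.mem_center_iff.mp hc' u
        calc ⁅c * g, c' * h⁆ = c * (g * c') * (h * g⁻¹ * c⁻¹) * h⁻¹ * c'⁻¹ := by
              rw [commutatorElement_def]; group
          _ = c * (c' * g) * (c⁻¹ * (h * g⁻¹)) * h⁻¹ * c'⁻¹ := by
              rw [h5, (show (h * g⁻¹) * c⁻¹ = c⁻¹ * (h * g⁻¹) from
                (Subgroup.mem_center_iff.mp (Z.inv_mem hc) _))]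
          _ = (c * c' * (g * c⁻¹)) * (h * g⁻¹ * h⁻¹ * c'⁻¹) := by group
          _ = (c * c' * (c⁻¹ * g)) * (c'⁻¹ * (h * g⁻¹ * h⁻¹)) := by
              rw [Subgroup.mem_center_iff.mp (Z.inv_mem hc) g,
                Subgroup.mem_center_iff.mp (Z.inv_mem hc') (h * g⁻¹ * h⁻¹)]
          _ = (c * (c' * c⁻¹)) * (g * c'⁻¹) * (h * g⁻¹ * h⁻¹) := by group
          _ = ⁅g, h⁆ := by
              rw [Subgroup.mem_center_iff.mp (Z.inv_mem hc) c',
                Subgroup.mem_center_iff.mp (Z.inv_mem hc') g, commutatorElement_def]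
              group
      conv_rhs => rw [hsw x, hsw y, hcl' _ _ _ _ (hmem _ _) (hmem _ _)]
    have h3 : σ d.a (σ d.a (σ d.a ζ)) = ζ := by
      rw [← MulAut.mul_apply, ← map_mul, ← MulAut.mul_apply, ← map_mul, mul_assoc, d.aaa,
        _root_.map_one]
      rfl
    letI : CommGroup Z := { (inferInstance : Group Z) with mul_comm := hZab }
    set w := ζ * σ d.a ζ * σ d.a (σ d.a ζ) with hw
    have hwa : σ d.a w = w := by rw [hw, map_mul, map_mul, h3]; ac_rfl
    have hwt2 : σ e.t w = w := by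
      have hswap : ∀ g, σ e.t (σ d.a g) = σ d.a (σ d.a (σ e.t g)) := fun g => by
        rw [← MulAut.mul_apply, ← map_mul, ← MulAut.mul_apply, ← map_mul, ← MulAut.mul_apply,
          ← map_mul, ← pow_two, ← hea, ← e.ta]
      rw [hw, map_mul, map_mul, hswap, hswap, hswap, et]
      have h4 : σ d.a (σ d.a (σ d.a (σ d.a ζ))) = σ d.a ζ := by rw [h3]
      rw [h4]; ac_rfl
    have hw1 : (w : K) = 1 := e.free _ (by rw [heφ, hea]; exact congrArg Subtype.val hwa)
      (by rw [heφ]; exact congrArg Subtype.val hwt2)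
    show χ _ * χ _ * χ _ = 1
    rw [← hwt.mul hv0, ← hwt.mul hv0, ea x' y', ea, ea x' y', ← hζ, ← hw,
      show w = 1 from Subtype.ext hw1, hwt.map_one hv0]
  rw [hxx, hyy, hxa, hya, hxb, hyb] at horb
  simp only [inv_inv] at horb
  have h6 : β x y ^ 6 = 1 := by linear_combination horb
  exact root_eq_one (hwt.pow_card hv0 _) h6 hn6

end Cfsg.Agent.FGB.S3Data
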