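import Cfsg.Agent.Lib.FGB.S3Quad
import Cfsg.Agent.Lib.Fpf.Action

/-!
`Sym(3)` acting compatibly on a group and a module without fixed points: basic properties and
weights of abelian invariant subgroups.
-/

set_option autoImplicit false

namespace Cfsg.Agent.FGB

universe u v w z

/-- Functions on a group, carrying the action of its automorphisms. -/
def WFun (Q : Type u) (k : Type v) : Type (max u v) := Q → k

instance {Q : Type u} {k : Type v} [Group Q] : MulAction (MulAut Q) (WFun Q k) where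
  smul f χ := fun q => χ (f⁻¹ q)
  one_smul _ := rfl
  mul_smul _ _ _ := rfl

theorem wfun_smul_apply {Q : Type u} {k : Type v} [Group Q] (f : MulAut Q) (χ : WFun Q k) (q : Q) :
    (f • χ) q = χ (f⁻¹ q) := rfl

theorem wfun_apply_of_fixed {Q : Type u} {k : Type v} [Group Q] {f : MulAut Q} {χ : WFun Q k}
    (h : f • χ = χ) (q : Q) : χ (f q) = χ q := by
  have h1 := congr_fun h (f q)
  rw [wfun_smul_apply, MulAut.inv_apply, MulEquiv.symm_apply_apply] at h1
  exact h1.symm

/-- The data of `Sym(3)` acting compatibly on a group and a module, without fixed points. -/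
structure S3Data (k : Type v) [Field k] (W : Type w) [AddCommGroup W] [Module k W]
    (A : Type z) [Group A] (K : Type u) [Group K] where
  a : A
  t : A
  ha : a ^ 3 = 1
  ht : t * t = 1
  hta : t * a * t⁻¹ = a⁻¹
  φ : A →* MulAut K
  free : ∀ x, φ a x = x → φ t x = x → x = 1
  R : K →* Module.End k W
  T : A →* Module.End k W
  compat : ∀ α x v, T α (R x v) = R (φ α x) (T α v)
  sum : ∀ v, v + T a v + T (a ^ 2) v + T t v + T (a * t) v + T (a ^ 2 * t) v = 0
  cop : (Nat.card K).Coprime 6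

namespace S3Data

variable {k : Type v} [Field k] {W : Type w} [AddCommGroup W] [Module k W] {A : Type z} [Group A]
  {K : Type u} [Group K] (d : S3Data k W A K)

theorem aaa : d.a * (d.a * d.a) = 1 := by rw [← d.ha, pow_succ, pow_two, mul_assoc]

theorem ta : d.t * d.a = d.a ^ 2 * d.t := by
  have h1 : d.a⁻¹ = d.a ^ 2 := inv_eq_of_mul_eq_one_right (by rw [← pow_succ', d.ha])
  rw [← h1, ← d.hta]; group

theorem ta2 : d.t * d.a ^ 2 = d.a * d.t := by
  calc d.t * d.a ^ 2 = (d.t * d.a) * d.a := by rw [pow_two, mul_assoc]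
    _ = d.a ^ 2 * (d.t * d.a) := by rw [d.ta, mul_assoc, ← d.ta]
    _ = d.a ^ 2 * d.a ^ 2 * d.t := by rw [d.ta, mul_assoc]
    _ = d.a * d.t := by rw [← pow_add, show 2 + 2 = 3 + 1 from rfl, pow_add, d.ha, one_mul, pow_one]

/-- restriction to an invariant subgroup -/
noncomputable def res [Finite K] (H : Subgroup K) (hH : Fpf.Inv d.φ H) : S3Data k W A H where
  a := d.a
  t := d.t
  ha := d.ha
  ht := d.ht
  hta := d.hta
  φ := Fpf.restrict H hH
  free x h1 h2 := Subtype.ext (d.free x (congrArg Subtype.val h1) (congrArg Subtype.val h2))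
  R := d.R.comp H.subtype
  T := d.T
  compat α x v := d.compat α x v
  sum := d.sum
  cop := d.cop.coprime_dvd_left H.card_subgroup_dvd_card

/-- another choice of the reflection -/
def shift : S3Data k W A K where
  a := d.a
  t := d.a * d.t
  ha := d.ha
  ht := by
    rw [mul_assoc, ← mul_assoc d.t, d.ta, mul_assoc, d.ht, mul_one, ← pow_succ', d.ha]
  hta := by
    have : d.a * d.t * d.a * (d.a * d.t)⁻¹ = d.a * (d.t * d.a * d.t⁻¹) * d.a⁻¹ := by group
    rw [this, d.hta]; group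
  φ := d.φ
  free x h1 h2 := d.free x h1 (by
    rw [map_mul, MulAut.mul_apply] at h2
    exact (d.φ d.a).injective (h2.trans h1.symm))
  R := d.R
  T := d.T
  compat := d.compat
  sum v := by
    have h := d.sum v
    rw [← mul_assoc d.a d.a, ← pow_two, ← mul_assoc (d.a ^ 2) d.a, ← pow_succ, d.ha, one_mul]
    linear_combination (norm := abel) h
  cop := d.cop

variable [Finite K]

include d in
theorem coprime_three (H : Subgroup K) : (Nat.card H).Coprime 3 :=
  (d.cop.coprime_dvd_left H.card_subgroup_dvd_card).coprime_dvd_right (show 3 ∣ 6 by norm_num)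

theorem inverts {x : K} (hx : d.φ d.a x = x) : d.φ d.t x = x⁻¹ := by
  let F := Fpf.fix d.φ d.a
  have hinv : ∀ y ∈ F, d.φ d.t y ∈ F := by
    intro y hy
    show d.φ d.a (d.φ d.t y) = d.φ d.t y
    have h2 : d.φ (d.a ^ 2) y = y := by
      rw [pow_two, map_mul, MulAut.mul_apply, show d.φ d.a y = y from hy]; exact hy
    rw [← MulAut.mul_apply, ← map_mul]
    conv_rhs => rw [← h2, ← MulAut.mul_apply, ← map_mul, d.ta2]
  have htt : ∀ y, d.φ d.t (d.φ d.t y) = y := fun y => by
    rw [← MulAut.mul_apply, ← map_mul, d.ht, map_one]; rfl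
  have hsurj : Function.Surjective
      (fun y : F => (⟨(y : K)⁻¹ * d.φ d.t y, F.mul_mem (F.inv_mem y.2) (hinv y y.2)⟩ : F)) := by
    refine Finite.injective_iff_surjective.mp fun y y' h => ?_
    have h' : (y : K)⁻¹ * d.φ d.t y = (y' : K)⁻¹ * d.φ d.t y' := congrArg Subtype.val h
    have hm : (y' : K) * (y : K)⁻¹ ∈ F := F.mul_mem y'.2 (F.inv_mem y.2)
    refine Subtype.ext (mul_inv_eq_one.mp (d.free _ hm ?_)).symm
    rw [map_mul, map_inv, mul_inv_eq_iff_eq_mul, mul_assoc, h', mul_inv_cancel_left]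
  obtain ⟨y, hy⟩ := hsurj ⟨x, hx⟩
  have hy' : (y : K)⁻¹ * d.φ d.t y = x := congrArg Subtype.val hy
  rw [← hy', map_mul, map_inv, htt, mul_inv_rev, inv_inv]

theorem fixed_comm {x y : K} (hx : d.φ d.a x = x) (hy : d.φ d.a y = y) : x * y = y * x := by
  have h1 := d.inverts (x := x * y) (by rw [map_mul, hx, hy])
  rw [map_mul, d.inverts hx, d.inverts hy, mul_inv_rev] at h1
  simpa using congrArg (·⁻¹) h1.symm

/-- a coset invariant under `a` contains a fixed element -/
theorem exists_fixed (N : Subgroup K) (hN : Fpf.Inv d.φ N) {g : K} (hg : g⁻¹ * d.φ d.a g ∈ N) :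
    ∃ y, g⁻¹ * y ∈ N ∧ d.φ d.a y = y := by
  haveI : Fact (Nat.Prime 3) := ⟨Nat.prime_three⟩
  have hA : IsPGroup 3 (Subgroup.zpowers d.a) := by
    rintro ⟨b, hb⟩
    obtain ⟨i, rfl⟩ := Subgroup.mem_zpowers_iff.mp hb
    refine ⟨1, Subtype.ext ?_⟩
    show (d.a ^ i) ^ 3 ^ 1 = 1
    rw [pow_one, ← zpow_natCast, ← zpow_mul, mul_comm, zpow_mul, zpow_natCast, d.ha, one_zpow]
  have hnd : ¬ 3 ∣ Nat.card N := fun hd =>
    absurd (Nat.Coprime.eq_one_of_dvd (d.coprime_three N).symm hd) (by norm_num)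
  let Tw : Subgroup A :=
    { carrier := {α | g⁻¹ * d.φ α g ∈ N}
      one_mem' := by simp
      mul_mem' := fun {α β} hα hβ => by
        show g⁻¹ * d.φ (α * β) g ∈ N
        rw [map_mul, MulAut.mul_apply,
          show g⁻¹ * d.φ α (d.φ β g) = (g⁻¹ * d.φ α g) * d.φ α (g⁻¹ * d.φ β g) by simp [mul_assoc]]
        exact N.mul_mem hα (hN _ _ hβ)
      inv_mem' := fun {α} hα => by
        show g⁻¹ * d.φ α⁻¹ g ∈ N
        have h4 := N.inv_mem (hN α⁻¹ _ hα)
        rwa [map_mul, map_inv (d.φ α⁻¹), ← MulAut.mul_apply, ← map_mul, inv_mul_cancel, map_one,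
          MulAut.one_apply, mul_inv_rev, inv_inv] at h4 }
  obtain ⟨y, hy, hyfix⟩ := Fpf.exists_fixed_in_coset (φ := d.φ.comp (Subgroup.zpowers d.a).subtype)
    hA (H := N) (fun b x hx => hN _ x hx) hnd (g := g)
    (fun b => (Subgroup.zpowers_le (H := Tw)).mpr (show d.a ∈ Tw from hg) b.2)
  exact ⟨y, hy, hyfix ⟨d.a, Subgroup.mem_zpowers _⟩⟩

/-- fixed-point-freeness passes to invariant cosets -/
theorem free_coset (N : Subgroup K) (hN : Fpf.Inv d.φ N) {x : K} (h1 : x⁻¹ * d.φ d.a x ∈ N)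
    (h2 : x⁻¹ * d.φ d.t x ∈ N) : x ∈ N := by
  obtain ⟨y, hy, hyfix⟩ := d.exists_fixed N hN h1
  have h3 : y⁻¹ * d.φ d.t y ∈ N := by
    have := N.mul_mem (N.mul_mem (N.inv_mem hy) h2) (hN d.t _ hy)
    rwa [show (x⁻¹ * y)⁻¹ * (x⁻¹ * d.φ d.t x) * d.φ d.t (x⁻¹ * y) = y⁻¹ * d.φ d.t y by
      simp [mul_assoc]] at this
  rw [d.inverts hyfix] at h3
  have h4 : y ^ 2 ∈ N := by
    have := N.inv_mem h3
    rwa [mul_inv_rev, inv_inv, ← pow_two] at this
  obtain ⟨j, hj⟩ := exists_pow_eq_self_of_coprime (x := y) (n := 2)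
    ((d.cop.coprime_dvd_left (orderOf_dvd_natCard y)).coprime_dvd_right (by norm_num)).symm
  have hyN : y ∈ N := hj ▸ N.pow_mem h4 j
  have := N.mul_mem hyN (N.inv_mem hy)
  rwa [mul_inv_rev, inv_inv, mul_inv_cancel_left] at this

/-- `χ` is the weight of `Q` on `v` -/
def IsWt (Q : Subgroup K) (χ : WFun Q k) (v : W) : Prop := ∀ q : Q, d.R q v = χ q • v

variable {Q : Subgroup K}

theorem R_apply (x y : K) (v : W) : d.R x (d.R y v) = d.R (x * y) v := by rw [map_mul]; rfl

theorem R_ne_zero {v : W} (hv : v ≠ 0) (x : K) : d.R x v ≠ 0 := fun h0 => hv (by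
  have := congrArg (d.R x⁻¹) h0
  simpa [R_apply] using this)

theorem T_ne_zero {v : W} (hv : v ≠ 0) (α : A) : d.T α v ≠ 0 := fun h0 => hv (by
  have := congrArg (d.T α⁻¹) h0
  simpa [← Module.End.mul_apply, ← map_mul] using this)

variable {d}

theorem IsWt.mul {χ : WFun Q k} {v : W} (h : d.IsWt Q χ v) (hv : v ≠ 0) (p q : Q) :
    χ (p * q) = χ p * χ q := by
  refine smul_left_injective k hv ?_
  show χ (p * q) • v = (χ p * χ q) • v
  rw [← h, Subgroup.coe_mul, map_mul, Module.End.mul_apply, h q, map_smul, h p, smul_smul,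
    mul_comm]

theorem IsWt.map_one {χ : WFun Q k} {v : W} (h : d.IsWt Q χ v) (hv : v ≠ 0) : χ 1 = 1 := by
  refine smul_left_injective k hv ?_
  show χ 1 • v = (1 : k) • v
  rw [← h]; simp

theorem IsWt.pow_card {χ : WFun Q k} {v : W} (h : d.IsWt Q χ v) (hv : v ≠ 0) (q : Q) :
    χ q ^ Nat.card Q = 1 := by
  have : ∀ m : ℕ, χ (q ^ m) = χ q ^ m := by
    intro m
    induction m with
    | zero => rw [pow_zero, pow_zero, h.map_one hv]
    | succ m ihm => rw [pow_succ, h.mul hv, ihm, pow_succ]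
  rw [← this, pow_card_eq_one', h.map_one hv]

theorem IsWt.ne_zero {χ : WFun Q k} {v : W} (h : d.IsWt Q χ v) (hv : v ≠ 0) (q : Q) : χ q ≠ 0 :=
  fun h0 => by
    have := h.pow_card hv q
    simp [h0, Nat.card_pos.ne'] at this

theorem IsWt.twist {χ : WFun Q k} {v : W} (h : d.IsWt Q χ v) (hQi : Fpf.Inv d.φ Q) (α : A) :
    d.IsWt Q (Fpf.restrict Q hQi α • χ) (d.T α v) := by
  intro q
  rw [wfun_smul_apply, ← map_smul, ← h, d.compat]
  congr 2
  show (q : K) = d.φ α ((((Fpf.restrict Q hQi α)⁻¹) q : Q) : K)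
  rw [← _root_.map_inv (Fpf.restrict Q hQi) α, Fpf.restrict_coe, ← MulAut.mul_apply, ← map_mul,
    mul_inv_cancel, _root_.map_one, MulAut.one_apply]

/-- the six elements -/
def elems (d : S3Data k W A K) : Fin 6 → A :=
  ![1, d.a, d.a ^ 2, d.t, d.a * d.t, d.a ^ 2 * d.t]

open scoped Classical in
/-- each weight class in the six-term sum vanishes -/
theorem IsWt.class_sum {χ : WFun Q k} {v : W} (h : d.IsWt Q χ v) (hQi : Fpf.Inv d.φ Q) :
    ∑ j ∈ (Finset.univ : Finset (Fin 6)).filter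
      (fun j => Fpf.restrict Q hQi (d.elems j) • χ = χ), d.T (d.elems j) v = 0 :=
  sum_eigenclass_eq_zero (ι := Q) (fun q : Q => d.R q) Finset.univ
    (fun j => (Fpf.restrict Q hQi (d.elems j) • χ : WFun Q k)) (fun j => d.T (d.elems j) v)
    (fun j _ q => h.twist hQi _ q)
    (by have := d.sum v; simpa [Fin.sum_univ_six, elems] using this) χ

theorem fixed_a_of_a2 {X : Type*} [MulAction A X] {x : X} (h : d.a ^ 2 • x = x) : d.a • x = x := by
  have h1 : d.a • d.a ^ 2 • x = x := by rw [← mul_smul, ← pow_succ', d.ha, one_smul]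
  rwa [h] at h1

/-- every weight is fixed by one of the four subgroups of prime order -/
theorem IsWt.stab_cases {χ : WFun Q k} {v : W} (h : d.IsWt Q χ v) (hv : v ≠ 0)
    (hQi : Fpf.Inv d.φ Q) :
    Fpf.restrict Q hQi d.a • χ = χ ∨ Fpf.restrict Q hQi d.t • χ = χ ∨
      Fpf.restrict Q hQi (d.a * d.t) • χ = χ ∨ Fpf.restrict Q hQi (d.a ^ 2 * d.t) • χ = χ := by
  classical
  by_contra hcon
  push Not at hcon
  have hA2 : Fpf.restrict Q hQi (d.a ^ 2) • χ ≠ χ := by
    intro h2
    letI : MulAction A (WFun Q k) := MulAction.compHom _ (Fpf.restrict Q hQi)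
    exact hcon.1 (fixed_a_of_a2 (d := d) (x := χ) h2)
  have hfil : (Finset.univ : Finset (Fin 6)).filter
      (fun j => Fpf.restrict Q hQi (d.elems j) • χ = χ) = {0} := by
    ext j
    simp only [Finset.mem_filter, Finset.mem_univ, true_and, Finset.mem_singleton]
    fin_cases j <;> simp [elems, -map_mul, -map_pow]
    exacts [hcon.1, hA2, hcon.2.1, hcon.2.2.1, hcon.2.2.2]
  have h1 := h.class_sum hQi
  rw [hfil, Finset.sum_singleton] at h1
  exact hv (by simpa [elems] using h1)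

variable (d)

/-- multiplicative functions fixed by both generators are trivial -/
theorem fun_eq_one (hQi : Fpf.Inv d.φ Q) (hab : ∀ p q : Q, p * q = q * p) {f : WFun Q k}
    (hf : ∀ p q : Q, f (p * q) = f p * f q) (hfn : ∀ q : Q, f q ^ Nat.card Q = 1)
    (hfa : Fpf.restrict Q hQi d.a • f = f) (hft : Fpf.restrict Q hQi d.t • f = f) (q : Q) :
    f q = 1 := by
  set σ := Fpf.restrict Q hQi
  letI : CommGroup Q := { (inferInstance : Group Q) with mul_comm := hab }
  set w := q * σ d.a q * σ d.a (σ d.a q) *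
    (σ d.t q * σ d.a (σ d.t q) * σ d.a (σ d.a (σ d.t q))) with hw
  have h3 : ∀ p, σ d.a (σ d.a (σ d.a p)) = p := fun p => by
    rw [← MulAut.mul_apply, ← map_mul, ← MulAut.mul_apply, ← map_mul, mul_assoc, d.aaa,
      _root_.map_one]
    rfl
  have h2 : ∀ p, σ d.t (σ d.t p) = p := fun p => by
    rw [← MulAut.mul_apply, ← map_mul, d.ht, _root_.map_one]; rfl
  have hswap : ∀ p, σ d.t (σ d.a p) = σ d.a (σ d.a (σ d.t p)) := fun p => by
    rw [← MulAut.mul_apply, ← map_mul, ← MulAut.mul_apply, ← map_mul, ← MulAut.mul_apply,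
      ← map_mul, ← pow_two, ← d.ta]
  have hwa : σ d.a w = w := by
    rw [hw]; simp only [map_mul, h3]; ac_rfl
  have hwt : σ d.t w = w := by
    rw [hw]; simp only [map_mul, h2, hswap, h3]; ac_rfl
  have hw1 : w = 1 := Subtype.ext (d.free _ (congrArg Subtype.val hwa) (congrArg Subtype.val hwt))
  have hf1 : f 1 = 1 := by
    have h := hf 1 1
    rw [one_mul] at h
    have hne : f 1 ≠ 0 := fun h0 => by
      have := hfn 1
      simp [h0, Nat.card_pos.ne'] at this
    exact mul_left_cancel₀ hne (h.symm.trans (mul_one _).symm)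
  have h6 : f q ^ 6 = 1 := by
    have := congrArg f (hw.symm.trans hw1)
    rw [hf1] at this
    simp only [hf, wfun_apply_of_fixed hfa, wfun_apply_of_fixed hft] at this
    linear_combination this
  exact root_eq_one (hfn q) h6 (d.cop.coprime_dvd_left Q.card_subgroup_dvd_card)

end S3Data

end Cfsg.Agent.FGB
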