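import Cfsg.Agent.Lib.FGB.S3Comm
import Cfsg.Agent.Lib.Fpf.Prime

/-!
`Sym(3)` acting coprimely and without non-trivial fixed points on a solvable group: the derived
subgroup is nilpotent.
-/

set_option autoImplicit false

namespace Cfsg.Agent.FGB

open Cfsg
open scoped commutatorElement IsMulCommutative

universe u z

theorem isNilpotent_commutator_of_s3 {A : Type z} [Group A] (a t : A) (ha : a ^ 3 = 1)
    (ht : t * t = 1) (hta : t * a * t⁻¹ = a⁻¹) {G : Type u} [Group G] [Finite G]
    [Group.IsSolvable G] (φ : A →* MulAut G) (hfree : ∀ x, φ a x = x → φ t x = x → x = 1)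
    (hcop : (Nat.card G).Coprime 6) : Group.IsNilpotent (_root_.commutator G) := by
  induction hc : Nat.card G using Nat.strong_induction_on generalizing G with
  | _ n ih =>
    subst hc
    rcases subsingleton_or_nontrivial G with hG | hG
    · infer_instance
    let d₀ : S3Data ℚ PUnit.{1} A G :=
      { a := a, t := t, ha := ha, ht := ht, hta := hta, φ := φ, free := hfree, R := 1, T := 1
        compat := fun _ _ _ => rfl, sum := fun _ => Subsingleton.elim _ _, cop := hcop }
    obtain ⟨V, r, hVn, hi, hne, hr, hab, hexp, hmin⟩ := Fpf.exists_minimal φ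
    haveI := Fact.mk hr
    have hfreeQ : ∀ (N : Subgroup G) [N.Normal] (hN : Fpf.Inv φ N) (x : G ⧸ N),
        Fpf.quot N hN a x = x → Fpf.quot N hN t x = x → x = 1 := by
      intro N _ hN x h1 h2
      obtain ⟨g, rfl⟩ := QuotientGroup.mk_surjective x
      exact (QuotientGroup.eq_one_iff g).mpr
        (d₀.free_coset N hN (QuotientGroup.eq.mp h1.symm) (QuotientGroup.eq.mp h2.symm))
    have hQnil : Group.IsNilpotent (_root_.commutator (G ⧸ V)) := by
      refine ih _ ?_ (Fpf.quot V hi) (fun x => hfreeQ V hi x)
        (hcop.coprime_dvd_left (Subgroup.card_quotient_dvd_card V)) rfl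
      rw [V.card_eq_card_quotient_mul_card_subgroup]
      exact lt_mul_of_one_lt_right Nat.card_pos ((Subgroup.one_lt_card_iff_ne_bot V).mpr hne)
    set C := Subgroup.centralizer (V : Set G) with hC
    -- the dual module
    let k := AlgebraicClosure (ZMod r)
    let ρ := Fpf.quotRep (G := G) V
    let S := Fpf.actRep φ V hi
    let R : (G ⧸ C) →* Module.End k (Additive V →+ k) :=
      { toFun := fun x =>
          { toFun := fun f => f.comp (ρ x⁻¹)
            map_add' := fun _ _ => rfl
            map_smul' := fun _ _ => rfl }
        map_one' := LinearMap.ext fun f => AddMonoidHom.ext fun v => by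
          show f (ρ 1⁻¹ v) = f v
          rw [inv_one, Fpf.one_apply']
        map_mul' := fun x y => LinearMap.ext fun f => AddMonoidHom.ext fun v => by
          show f (ρ (x * y)⁻¹ v) = f (ρ y⁻¹ (ρ x⁻¹ v))
          rw [mul_inv_rev, Fpf.mul_apply'] }
    let T : A →* Module.End k (Additive V →+ k) :=
      { toFun := fun α =>
          { toFun := fun f => f.comp (S α⁻¹)
            map_add' := fun _ _ => rfl
            map_smul' := fun _ _ => rfl }
        map_one' := LinearMap.ext fun f => AddMonoidHom.ext fun v => by
          show f (S 1⁻¹ v) = f v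
          rw [inv_one, Fpf.one_apply']
        map_mul' := fun x y => LinearMap.ext fun f => AddMonoidHom.ext fun v => by
          show f (S (x * y)⁻¹ v) = f (S y⁻¹ (S x⁻¹ v))
          rw [mul_inv_rev, Fpf.mul_apply'] }
    let d : S3Data k (Additive V →+ k) A (G ⧸ C) :=
      { a := a, t := t, ha := ha, ht := ht, hta := hta
        φ := Fpf.quot C hi.centralizer
        free := hfreeQ C hi.centralizer
        R := R, T := T
        compat := fun α x f => AddMonoidHom.ext fun v => by
          show f (ρ x⁻¹ (S α⁻¹ v)) = f (S α⁻¹ (ρ (Fpf.quot C hi.centralizer α x)⁻¹ v))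
          have e : Fpf.quot C hi.centralizer α⁻¹ (Fpf.quot C hi.centralizer α x)⁻¹ = x⁻¹ := by
            rw [map_inv (Fpf.quot C hi.centralizer α⁻¹), ← MulAut.mul_apply, ← map_mul,
              inv_mul_cancel, map_one, MulAut.one_apply]
          refine ((congrArg f (Fpf.compat_quotRep V hi α⁻¹ _ v)).trans ?_).symm
          exact congrArg (fun y => f (ρ y (S α⁻¹ v))) e
        sum := fun f => AddMonoidHom.ext fun v => by
          set u := v + S a v + S (a ^ 2) v + S t v + S (a * t) v + S (a ^ 2 * t) v with hu
          have ha2 : a⁻¹ = a ^ 2 := inv_eq_of_mul_eq_one_right (by rw [← pow_succ', ha])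
          have hta' : t * a = a ^ 2 * t := d₀.ta
          have hta2 : t * a ^ 2 = a * t := d₀.ta2
          have hu0 : u = 0 := by
            refine Additive.toMul.injective (Subtype.ext ?_)
            have p1 : a * a = a ^ 2 := (pow_two a).symm
            have p2 : a * a ^ 2 = 1 := by rw [← pow_succ', ha]
            have p3 : a * (a * t) = a ^ 2 * t := by rw [← mul_assoc, p1]
            have p4 : a * (a ^ 2 * t) = t := by rw [← mul_assoc, p2, one_mul]
            have q3 : t * (a * t) = a ^ 2 := by rw [← mul_assoc, hta', mul_assoc, ht, mul_one]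
            have q4 : t * (a ^ 2 * t) = a := by rw [← mul_assoc, hta2, mul_assoc, ht, mul_one]
            refine hfree _ ?_ ?_
            · rw [← Fpf.actRep_apply φ V hi a u]
              congr 2
              show S a u = u
              rw [hu]
              simp only [map_add, ← Fpf.mul_apply', p1, p2, p3, p4, Fpf.one_apply']
              abel
            · rw [← Fpf.actRep_apply φ V hi t u]
              congr 2
              show S t u = u
              rw [hu]
              simp only [map_add, ← Fpf.mul_apply', hta', hta2, q3, q4, ht, Fpf.one_apply']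
              abel
          have e3 : t⁻¹ = t := inv_eq_of_mul_eq_one_right ht
          have e4 : (a ^ 2)⁻¹ = a := by rw [← ha2, inv_inv]
          have e1 : (a * t)⁻¹ = a * t := by rw [mul_inv_rev, e3, ha2, hta2]
          have e2 : (a ^ 2 * t)⁻¹ = a ^ 2 * t := by rw [mul_inv_rev, e3, e4, hta']
          show f v + f (S a⁻¹ v) + f (S (a ^ 2)⁻¹ v) + f (S t⁻¹ v) + f (S (a * t)⁻¹ v) +
            f (S (a ^ 2 * t)⁻¹ v) = 0
          rw [e1, e2, e3, e4, ha2]
          have := congrArg f hu0
          rw [hu, map_zero] at this
          simp only [map_add] at this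
          linear_combination this
        cop := hcop.coprime_dvd_left (Subgroup.card_quotient_dvd_card C) }
    -- functionals separate
    have hsep : ∀ v : Additive V, (∀ f : Additive V →+ k, f v = 0) → v = 0 := by
      have hr0 : ∀ x : Additive V, r • x = 0 := fun x =>
        Additive.toMul.injective (Subtype.ext (hexp _ (Additive.toMul x : V).2))
      letI : Module (ZMod r) (Additive V) := AddCommGroup.zmodModule hr0
      intro v hv
      let b := Module.Basis.ofVectorSpace (ZMod r) (Additive V)
      refine b.forall_coord_eq_zero_iff.mp fun i => ?_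
      exact (algebraMap (ZMod r) k).injective
        ((hv ((algebraMap (ZMod r) k).toAddMonoidHom.comp
          (LinearMap.toAddMonoidHom (b.coord i)))).trans (map_zero _).symm)
    have hfaith : ∀ x : G ⧸ C, R x = 1 → x = 1 := by
      intro x hx
      have h1 : ∀ v, ρ x⁻¹ v = v := fun v => sub_eq_zero.mp (hsep _ fun f => by
        have := DFunLike.congr_fun (LinearMap.congr_fun hx f) v
        rw [map_sub, sub_eq_zero]
        exact this)
      exact inv_eq_one.mp (Fpf.quotRep_eq_one V (AddMonoidHom.ext h1))
    -- the acting group is abelian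
    have hnot := Fpf.not_dvd_card_fitting V hne hi hmin hexp
    have hcentral : ∀ s : ℕ, s.Prime → pCore s (G ⧸ C) ≤ Subgroup.center (G ⧸ C) := by
      intro s hs
      haveI := Fact.mk hs
      set Q := pCore s (G ⧸ C) with hQ
      by_cases hQ1 : Q = ⊥
      · rw [hQ1]; exact bot_le
      have hQs : IsPGroup s Q := Basics.pCore_isPGroup s
      obtain ⟨m, hm0, hm⟩ : ∃ m, m > 0 ∧ Nat.card Q = s ^ m :=
        hQs.nontrivial_iff_card.mp (Q.nontrivial_iff_ne_bot.mpr hQ1)
      have hsQ : s ∣ Nat.card Q := hm ▸ dvd_pow_self s hm0.ne'
      have hs6 := d.cop.coprime_dvd_left (hsQ.trans Q.card_subgroup_dvd_card)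
      have hs2 : s ≠ 2 := by rintro rfl; norm_num at hs6
      have hs3 : s ≠ 3 := by rintro rfl; norm_num at hs6
      have hsr : s ≠ r := by
        rintro rfl
        exact hnot (hsQ.trans (Subgroup.card_dvd_of_le (Basics.pCore_le_fittingSubgroup s)))
      have hsk : (s : k) ≠ 0 := by
        rw [Ne, CharP.cast_eq_zero_iff k r]
        exact fun h => hsr ((Nat.prime_dvd_prime_iff_eq hr hs).mp h).symm
      have hQi : Fpf.Inv d.φ Q := Fpf.inv_char d.φ Q
      refine d.abelian_le_center Q hQi (fun p hp q hq => ?_) ?_ (fun q _ hq => hfaith q hq)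
      · exact congrArg Subtype.val ((d.res Q hQi).commute_of_pgroup hQs hs2 hs3 hsk
          (fun x hx => Subtype.ext (hfaith x hx)) ⟨p, hp⟩ ⟨q, hq⟩)
      · rw [hm, Nat.cast_pow]
        exact pow_ne_zero m hsk
    have hFc : fittingSubgroup (G ⧸ C) ≤ Subgroup.center (G ⧸ C) := by
      rw [Basics.fittingSubgroup_eq_iSup_pCore]
      exact iSup_le fun p => hcentral p p.2
    have hKab : ∀ x y : G ⧸ C, x * y = y * x := by
      intro x y
      have hx : x ∈ fittingSubgroup (G ⧸ C) := Basics.centralizer_fittingSubgroup_le
        (Subgroup.mem_centralizer_iff.mpr fun z hz =>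
          (Subgroup.mem_center_iff.mp (hFc hz) x).symm)
      exact (Subgroup.mem_center_iff.mp (hFc hx) y).symm
    have hle : _root_.commutator G ≤ C := by
      rw [_root_.commutator_def, Subgroup.commutator_le]
      intro p _ q _
      rw [← QuotientGroup.eq_one_iff, ← QuotientGroup.mk'_apply, map_commutatorElement,
        commutatorElement_eq_one_iff_mul_comm]
      exact hKab _ _
    -- conclude
    let f : _root_.commutator G →* _root_.commutator (G ⧸ V) :=
      ((QuotientGroup.mk' V).comp (_root_.commutator G).subtype).codRestrict _ fun x => by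
        have := Subgroup.mem_map_of_mem (QuotientGroup.mk' V) x.2
        have e : (_root_.commutator G).map (QuotientGroup.mk' V) = _root_.commutator (G ⧸ V) := by
          rw [_root_.commutator_def, _root_.commutator_def, Subgroup.map_commutator,
            Subgroup.map_top_of_surjective _ (QuotientGroup.mk'_surjective V)]
        exact e.le this
    refine Subgroup.isNilpotent_of_ker_le_center f fun x hx => ?_
    have hxV : (x : G) ∈ V := (QuotientGroup.eq_one_iff _).mp (congrArg Subtype.val hx)
    rw [Subgroup.mem_center_iff]
    intro y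
    exact Subtype.ext (Subgroup.mem_centralizer_iff.mp (hle y.2) (x : G) hxV).symm

end Cfsg.Agent.FGB
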