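import Cfsg.Agent.Lib.FGB.S3Weights

/-!
A quadratic operator of order three centralises an `s`-group with scalar commutators.
-/

set_option autoImplicit false

namespace Cfsg.Agent.FGB

open scoped commutatorElement

universe u v w

theorem root_eq_one {k : Type v} [Field k] {x : k} {m n : ℕ} (hm : x ^ m = 1) (hn : x ^ n = 1)
    (h : m.Coprime n) : x = 1 := by
  have := pow_gcd_eq_one.mpr ⟨hm, hn⟩
  rwa [Nat.Coprime.gcd_eq_one h, pow_one] at this

/-- A quadratic operator of order three centralises an `s`-group with scalar commutators. -/
theorem quadratic_centralizes {k : Type v} [Field k] [IsAlgClosed k] {U : Type w} [AddCommGroup U]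
    [Module k U] {S : Type u} [Group S] [Finite S] {s : ℕ} [hs : Fact s.Prime] (hS : IsPGroup s S)
    (hs2 : s ≠ 2) (hs3 : s ≠ 3) (hsk : (s : k) ≠ 0) (ψ : MulAut S) (hψ : ∀ x, ψ (ψ (ψ x)) = x)
    (R : S →* Module.End k U) (E : Module.End k U) (hE : ∀ v, v + E v + E (E v) = 0)
    (hcE : ∀ x v, E (R x v) = R (ψ x) (E v))
    (hscal : ∀ x y : S, ∃ c : k, ∀ v, R ⁅x, y⁆ v = c • v) : ∀ x, R (ψ x) = R x := by
  classical
  rcases subsingleton_or_nontrivial U with hU | hU
  · exact fun x => LinearMap.ext fun v => Subsingleton.elim _ _
  obtain ⟨v0, hv0⟩ := exists_ne (0 : U)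
  have hE3 : ∀ v, E (E (E v)) = v := by
    intro v
    have h1 := hE v
    have h2 := hE (E v)
    linear_combination (norm := abel) h2 - h1
  have happ : ∀ (x y : S) (v : U), R x (R y v) = R (x * y) v := fun x y v => by rw [map_mul]; rfl
  intro x
  induction hn : orderOf x using Nat.strong_induction_on generalizing x with
  | _ n ih =>
    subst hn
    by_cases hx1 : x = 1
    · subst hx1; rw [map_one, map_one]
    have hlt : orderOf (x ^ s) < orderOf x := by
      obtain ⟨j, hj⟩ := (IsPGroup.iff_orderOf.mp hS) x
      have hj0 : j ≠ 0 := by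
        rintro rfl
        rw [pow_zero, orderOf_eq_one_iff] at hj
        exact hx1 hj
      rw [orderOf_pow' x hs.out.ne_zero, hj, Nat.gcd_eq_right (dvd_pow_self s hj0)]
      exact Nat.div_lt_self (pow_pos hs.out.pos j) hs.out.one_lt
    have hxs := ih _ hlt (x ^ s) rfl
    set g := x * (ψ x)⁻¹ with hg
    set h := ψ g with hh
    have hghi : g * h * ψ h = 1 := by
      simp only [hh, hg, map_mul, map_inv, hψ]
      group
    -- the commutator scalar of `x` and the inverse of `ψ x`
    obtain ⟨d, hd⟩ := hscal (ψ x)⁻¹ x
    have hBA : ∀ v, R (ψ x)⁻¹ (R x v) = d • R x (R (ψ x)⁻¹ v) := by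
      intro v
      rw [happ, happ, ← hd, happ]
      congr 2
      rw [commutatorElement_def]; group
    have hBnA : ∀ (m : ℕ) (v : U), R ((ψ x)⁻¹ ^ m) (R x v) = d ^ m • R x (R ((ψ x)⁻¹ ^ m) v) := by
      intro m
      induction m with
      | zero => intro v; simp
      | succ m ihm =>
        intro v
        rw [pow_succ', map_mul, Module.End.mul_apply, Module.End.mul_apply, ihm, map_smul, hBA,
          smul_smul, ← pow_succ]
    have hABn : ∀ (m : ℕ) (v : U),
        R (g ^ m) v = d ^ m.choose 2 • R (x ^ m) (R ((ψ x)⁻¹ ^ m) v) := by
      intro m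
      induction m with
      | zero => intro v; simp
      | succ m ihm =>
        intro v
        rw [pow_succ g m, map_mul, Module.End.mul_apply, ihm]
        have h1 : R g v = R x (R (ψ x)⁻¹ v) := by rw [hg, map_mul, Module.End.mul_apply]
        rw [h1, hBnA, map_smul, smul_smul, happ (x ^ m), ← pow_succ, happ ((ψ x)⁻¹ ^ m), ← pow_succ,
          ← pow_add, Nat.choose_succ_succ' m 1, Nat.choose_one_right, add_comm m (m.choose _)]
    have hds : d ^ s = 1 := by
      have h1 : ∀ v, R ((ψ x)⁻¹ ^ s) (R x v) = R x (R ((ψ x)⁻¹ ^ s) v) := by
        intro v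
        have hx2 : R ((ψ x)⁻¹ ^ s) * R x = R x * R ((ψ x)⁻¹ ^ s) := by
          have h2 : R ((ψ x)⁻¹ ^ s) = R ((x ^ s)⁻¹) := by
            have h4 : R ((ψ x) ^ s) = R (x ^ s) := by rw [← map_pow, hxs]
            calc R ((ψ x)⁻¹ ^ s) = R ((ψ x)⁻¹ ^ s) * (R (x ^ s) * R ((x ^ s)⁻¹)) := by
                  rw [← map_mul R (x ^ s), mul_inv_cancel, map_one, mul_one]
              _ = R ((x ^ s)⁻¹) := by
                  rw [← h4, ← mul_assoc, ← map_mul, inv_pow, inv_mul_cancel, map_one, one_mul]
          rw [h2, ← map_mul, ← map_mul]
          congr 1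
          group
        exact LinearMap.congr_fun hx2 v
      have h2 := hBnA s v0
      rw [h1] at h2
      have hne : R x (R ((ψ x)⁻¹ ^ s) v0) ≠ 0 := by
        intro h0
        rw [happ] at h0
        have := congrArg (R (x * (ψ x)⁻¹ ^ s)⁻¹) h0
        rw [map_zero, happ, inv_mul_cancel, map_one] at this
        exact hv0 this
      exact smul_left_injective k hne (by simpa using h2.symm)
    have hgs : R (g ^ s) = 1 := by
      refine LinearMap.ext fun v => ?_
      obtain ⟨q, hq⟩ := hs.out.odd_of_ne_two hs2
      rw [hABn, show s.choose 2 = s * q by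
          rw [Nat.choose_two_right, hq, Nat.add_sub_cancel, ← mul_assoc, mul_comm _ 2, mul_assoc,
            Nat.mul_div_cancel_left _ two_pos],
        pow_mul, hds, one_pow, one_smul, happ]
      have h4 : R ((ψ x) ^ s) = R (x ^ s) := by rw [← map_pow, hxs]
      rw [map_mul, ← h4, ← map_mul, inv_pow, mul_inv_cancel, map_one]
    have hhs : R (h ^ s) = 1 := by
      refine LinearMap.ext fun v => ?_
      conv_lhs => rw [← hE3 v, hh, ← map_pow, ← hcE, hgs]
      exact hE3 v
    -- fixed vectors of `g` are fixed by `h`
    have hfixE : ∀ v, R g v = v → R g (E v) = E v := by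
      intro v hv
      set P := R x⁻¹ with hP
      have hP' : ∀ w, R (ψ x)⁻¹ (E w) = E (P w) := fun w => by rw [hP, hcE, map_inv ψ]
      have h1 : R (ψ x)⁻¹ v = P v := by
        conv_rhs => rw [← hv]
        rw [hP, hg, happ]
        congr 2
        group
      have h2 : E (P (E (E v))) = P v := by rw [← hP', hE3, h1]
      have h3 : E (E v) = -v - E v := by
        have := hE v
        linear_combination (norm := abel) this
      have h4 : E (P (E v)) = E (E (P v)) := by
        have h5 := hE (P v)
        rw [h3, map_sub, map_neg, map_sub, map_neg] at h2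
        linear_combination (norm := abel) -h5 - h2
      have h6 : P (E v) = E (P v) := by
        have := congrArg (fun w => E (E w)) h4
        simpa [hE3] using this
      rw [hg, map_mul, Module.End.mul_apply, hP', ← h6, hP, happ, mul_inv_cancel, map_one]
      rfl
    have hGs : R g ^ s = 1 := by rw [← map_pow, hgs]
    have hHs : R h ^ s = 1 := by rw [← map_pow, hhs]
    -- `g` and `h` commute as operators
    have hGH : Commute (R g) (R h) := by
      obtain ⟨ζ, hζ⟩ := hscal g h
      have hcom : ∀ v, R g (R h v) = ζ • R h (R g v) := by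
        intro v
        rw [happ, happ, ← hζ, happ]
        congr 2
        rw [commutatorElement_def]; group
      by_cases hζ1 : ζ = 1
      · refine LinearMap.ext fun v => ?_
        show R g (R h v) = R h (R g v)
        rw [hcom, hζ1, one_smul]
      exfalso
      have hgm : ∀ (m : ℕ) (v : U), (R g ^ m) (R h v) = ζ ^ m • R h ((R g ^ m) v) := by
        intro m
        induction m with
        | zero => intro v; simp
        | succ m ihm =>
          intro v
          rw [pow_succ', Module.End.mul_apply, Module.End.mul_apply, ihm, map_smul, hcom, smul_smul,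
            ← pow_succ]
      have hζs : ζ ^ s = 1 := by
        have h1 := hgm s v0
        rw [hGs] at h1
        have hne : R h v0 ≠ 0 := by
          intro h0
          have := congrArg (R h⁻¹) h0
          rw [map_zero, happ, inv_mul_cancel, map_one] at this
          exact hv0 this
        exact (smul_left_injective k hne (by simpa using h1)).symm
      have hprim : IsPrimitiveRoot ζ s := by
        rw [IsPrimitiveRoot.iff_orderOf]
        exact orderOf_eq_prime hζs hζ1
      have hghj : ∀ (j m : ℕ) (v : U),
          (R g ^ m) ((R h ^ j) v) = (ζ ^ m) ^ j • (R h ^ j) ((R g ^ m) v) := by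
        intro j
        induction j with
        | zero => intro m v; simp
        | succ j ihj =>
          intro m v
          rw [pow_succ', Module.End.mul_apply, Module.End.mul_apply, hgm, ihj, map_smul, smul_smul,
            ← pow_succ']
      -- a non-zero fixed vector of `g`
      obtain ⟨v, hv, hvne⟩ : ∃ v, R g v = v ∧ v ≠ 0 := by
        by_contra hcon
        push Not at hcon
        have hsum0 : ∀ v, ∑ m ∈ Finset.range s, (R g ^ m) v = 0 := by
          intro v
          refine hcon _ ?_
          rw [map_sum]
          have h1 := Finset.sum_range_succ' (fun m => (R g ^ m) v) s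
          rw [Finset.sum_range_succ (fun m => (R g ^ m) v) s, hGs] at h1
          simp only [pow_zero] at h1
          refine Eq.trans (Finset.sum_congr rfl fun m _ => ?_) (add_right_cancel h1).symm
          rw [pow_succ', Module.End.mul_apply]
        have h2 : ∀ j, ∑ m ∈ Finset.range s, (ζ ^ m) ^ j • (R g ^ m) v0 = 0 := by
          intro j
          have h3 := hsum0 ((R h ^ j) v0)
          have h3' : (R h ^ j) (∑ m ∈ Finset.range s, (ζ ^ m) ^ j • (R g ^ m) v0) = 0 := by
            rw [map_sum, ← h3]
            exact Finset.sum_congr rfl fun m _ => by rw [map_smul, hghj]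
          have hinv : Function.Injective (R h ^ j) := by
            rw [← map_pow]
            intro p q hpq
            have := congrArg (R (h ^ j)⁻¹) hpq
            simpa [← map_pow, happ] using this
          exact hinv (h3'.trans (map_zero _).symm)
        have h4 : ∑ j ∈ Finset.range s, ∑ m ∈ Finset.range s, (ζ ^ m) ^ j • (R g ^ m) v0 = 0 :=
          Finset.sum_eq_zero fun j _ => h2 j
        rw [Finset.sum_comm, Finset.sum_eq_single 0] at h4
        · simp only [pow_zero, one_pow, one_smul, Module.End.one_apply, Finset.sum_const,
            Finset.card_range, ← Nat.cast_smul_eq_nsmul k] at h4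
          exact hv0 ((smul_eq_zero.mp h4).resolve_left hsk)
        · intro m hm hm0
          rw [← Finset.sum_smul, geom_sum_eq (hprim.pow_ne_one_of_pos_of_lt hm0
            (Finset.mem_range.mp hm)), ← pow_mul, mul_comm, pow_mul, hζs, one_pow, sub_self,
            zero_div, zero_smul]
        · intro hh'
          exact absurd (Finset.mem_range.mpr hs.out.pos) hh'
      have hw1 : R g (E v) = E v := hfixE v hv
      have hw2 : R h (E v) = E v := by rw [hh, ← hcE, hv]
      have hwne : E v ≠ 0 := fun h0 => hvne (by rw [← hE3 v, h0, map_zero, map_zero])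
      have h5 := hcom (E v)
      rw [hw2, hw1, hw2] at h5
      exact hζ1 (smul_left_injective k hwne (by simpa using h5.symm))
    -- the weights of `g` and `h`
    have hg1 : R g = 1 := by
      refine LinearMap.ext fun v => ?_
      refine mem_of_eigenvectors (fun b : Bool => if b then R g else R h) s hsk
        (fun b => by cases b <;> simp [hGs, hHs])
        (fun b b' => by cases b <;> cases b' <;> simp [hGH, hGH.symm, Commute.refl])
        (LinearMap.eqLocus (R g) 1) (fun v χ hv => ?_) v
      show R g v = v
      have hGv : R g v = χ true • v := by simpa using hv true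
      have hHv : R h v = χ false • v := by simpa using hv false
      set η := χ true
      set θ := χ false
      by_cases hv00 : v = 0
      · rw [hv00, map_zero]
      have hpowv : ∀ (F : Module.End k U) (c : k), F v = c • v → ∀ m : ℕ, (F ^ m) v = c ^ m • v := by
        intro F c hF m
        induction m with
        | zero => simp
        | succ m ihm =>
          rw [pow_succ, Module.End.mul_apply, hF, map_smul, ihm, smul_smul, ← pow_succ']
      have hηs : η ^ s = 1 := by
        have h1 := hpowv _ _ hGv s
        rw [hGs] at h1
        exact (smul_left_injective k hv00 (by simpa using h1)).symm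
      have hθs : θ ^ s = 1 := by
        have h1 := hpowv _ _ hHv s
        rw [hHs] at h1
        exact (smul_left_injective k hv00 (by simpa using h1)).symm
      have hη0 : η ≠ 0 := fun h0 => by simp [h0, hs.out.ne_zero] at hηs
      have hθ0 : θ ≠ 0 := fun h0 => by simp [h0, hs.out.ne_zero] at hθs
      have hψh : ψ h = (g * h)⁻¹ := eq_inv_of_mul_eq_one_right hghi
      -- eigenvalues of the translates of an eigenvector
      have hstep : ∀ (w : U) (p q : k), p ≠ 0 → q ≠ 0 → R g w = p • w → R h w = q • w →
          R h (E w) = p • E w ∧ R g (E w) = (p * q)⁻¹ • E w := by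
        intro w p q hp hq hwg hwh
        have e1 : R h (E w) = p • E w := by rw [hh, ← hcE, hwg, map_smul]
        have e2 : R (ψ h) (E w) = q • E w := by rw [← hcE, hwh, map_smul]
        refine ⟨e1, ?_⟩
        have e3 := congrArg (R (g * h)) e2
        rw [happ, hψh, mul_inv_cancel, map_one, map_smul, map_mul, Module.End.mul_apply,
          Module.End.one_apply, e1, map_smul, smul_smul] at e3
        rw [eq_inv_smul_iff₀ (mul_ne_zero hp hq), mul_comm p q]
        exact e3.symm
      obtain ⟨e1, e2⟩ := hstep v η θ hη0 hθ0 hGv hHv
      obtain ⟨e3, e4⟩ := hstep (E v) _ η (inv_ne_zero (mul_ne_zero hη0 hθ0)) hη0 e2 e1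
      have e5 : ((η * θ)⁻¹ * η)⁻¹ = θ := by field_simp
      rw [e5] at e4
      by_cases hfix : η = θ ∧ η ^ 3 = 1
      · have h1 : η = 1 := root_eq_one hηs hfix.2
          ((Nat.coprime_primes hs.out Nat.prime_three).mpr hs3)
        rw [hGv, h1, one_smul]
      exfalso
      let χ' : Fin 3 → Bool → k :=
        ![(fun b => if b then η else θ), (fun b => if b then (η * θ)⁻¹ else η),
          (fun b => if b then θ else (η * θ)⁻¹)]
      have h6 := sum_eigenclass_eq_zero (fun b : Bool => if b then R g else R h)
        (Finset.univ : Finset (Fin 3)) χ' ![v, E v, E (E v)]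
        (fun j _ b => by fin_cases j <;> cases b <;> simp [χ', hGv, hHv, e1, e2, e3, e4])
        (by simp [Fin.sum_univ_three, hE v]) (χ' 0)
      have hfil : (Finset.univ : Finset (Fin 3)).filter (fun j => χ' j = χ' 0) = {0} := by
        ext j
        simp only [Finset.mem_filter, Finset.mem_univ, true_and, Finset.mem_singleton]
        refine ⟨fun hj => ?_, fun hj => by rw [hj]⟩
        have h7 := congr_fun hj true
        have h8 := congr_fun hj false
        fin_cases j
        · rfl
        · exfalso
          simp [χ'] at h7 h8
          refine hfix ⟨h8, ?_⟩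
          field_simp at h7
          rw [← h8] at h7
          linear_combination -h7
        · exfalso
          simp [χ'] at h7 h8
          refine hfix ⟨h7.symm, ?_⟩
          field_simp at h8
          rw [h7] at h8
          linear_combination -h8
      rw [hfil, Finset.sum_singleton] at h6
      exact hv00 (by simpa using h6)
    calc R (ψ x) = R g * R (ψ x) := by rw [hg1, one_mul]
      _ = R x := by rw [← map_mul, hg, inv_mul_cancel_right]

end Cfsg.Agent.FGB
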