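import Mathlib

/-!
Joint eigenvectors of commuting operators of finite order, and the combinatorial core of the
fixed-point-free action of `Sym(3)` on weights.
-/

set_option autoImplicit false

namespace Cfsg.Agent.FGB

section Eigen

variable {k W : Type*} [Field k] [AddCommGroup W] [Module k W]

/-- In a vanishing sum of joint eigenvectors, each eigen-class vanishes. -/
theorem sum_eigenclass_eq_zero {ι κ : Type*} [DecidableEq (ι → k)] (L : ι → Module.End k W)
    (S : Finset κ) : ∀ (χ : κ → ι → k) (v : κ → W) (_ : ∀ j ∈ S, ∀ i, L i (v j) = χ j i • v j)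
      (_ : ∑ j ∈ S, v j = 0) (ψ : ι → k), ∑ j ∈ S.filter (fun j => χ j = ψ), v j = 0 := by
  classical
  induction S using Finset.strongInduction with
  | _ S ih =>
    intro χ v hv h0 ψ
    by_cases hall : ∀ j ∈ S, χ j = ψ
    · rwa [Finset.filter_true_of_mem hall]
    push Not at hall
    obtain ⟨j0, hj0, hne⟩ := hall
    obtain ⟨i, hi⟩ := Function.ne_iff.mp hne
    set c := χ j0 i with hc
    set S' := S.filter (fun j => χ j i ≠ c) with hS'
    have hlt : S' ⊂ S := by
      refine Finset.filter_ssubset.mpr ⟨j0, hj0, ?_⟩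
      simp [hc]
    have hw : ∀ j ∈ S', ∀ i', L i' ((χ j i - c) • v j) = χ j i' • ((χ j i - c) • v j) := by
      intro j hj i'
      rw [map_smul, hv j (Finset.mem_filter.mp hj).1 i', smul_comm]
    have h1 : ∑ j ∈ S', (χ j i - c) • v j = 0 := by
      have h2 : ∑ j ∈ S, (χ j i - c) • v j = 0 := by
        have h3 := congrArg (fun x => L i x - c • x) h0
        simp only [map_sum, map_zero, smul_zero, sub_zero, Finset.smul_sum,
          ← Finset.sum_sub_distrib] at h3
        rw [← h3]
        exact Finset.sum_congr rfl fun j hj => by rw [hv j hj i, sub_smul]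
      rw [← h2, hS', Finset.sum_filter]
      refine Finset.sum_congr rfl fun j _ => ?_
      split_ifs with h
      · rfl
      · rw [not_not] at h
        rw [h, sub_self, zero_smul]
    have h4 := ih S' hlt χ (fun j => (χ j i - c) • v j) hw h1 ψ
    have h5 : S'.filter (fun j => χ j = ψ) = S.filter (fun j => χ j = ψ) := by
      ext j
      simp only [hS', Finset.mem_filter]
      constructor
      · exact fun h => ⟨h.1.1, h.2⟩
      · exact fun h => ⟨⟨h.1, by rw [h.2]; exact Ne.symm hi⟩, h.2⟩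
    rw [h5] at h4
    have h6 : (ψ i - c) • ∑ j ∈ S.filter (fun j => χ j = ψ), v j = 0 := by
      rw [Finset.smul_sum, ← h4]
      exact Finset.sum_congr rfl fun j hj => by rw [(Finset.mem_filter.mp hj).2]
    exact (smul_eq_zero.mp h6).resolve_left (sub_ne_zero.mpr (Ne.symm hi))

/-- Joint eigenvectors span. -/
theorem mem_of_eigenvectors [IsAlgClosed k] {ι : Type*} [Finite ι] (L : ι → Module.End k W)
    (n : ℕ) (hn : (n : k) ≠ 0) (hpow : ∀ i, L i ^ n = 1) (hcomm : ∀ i j, Commute (L i) (L j))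
    (P : Submodule k W) (hP : ∀ (v : W) (χ : ι → k), (∀ i, L i v = χ i • v) → v ∈ P) (v : W) :
    v ∈ P := by
  classical
  have : Fintype ι := Fintype.ofFinite ι
  haveI : NeZero (n : k) := ⟨hn⟩
  obtain ⟨ζ, hζ⟩ := HasEnoughRootsOfUnity.exists_primitiveRoot k n
  suffices ∀ (t : Finset ι) (v : W), (∀ i ∉ t, ∃ c : k, L i v = c • v) → v ∈ P from
    this Finset.univ v (fun i hi => absurd (Finset.mem_univ i) hi)
  intro t
  induction t using Finset.induction with
  | empty =>
    intro v hv
    choose χ hχ using fun i => hv i (Finset.notMem_empty i)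
    exact hP v χ hχ
  | insert i t hit ih =>
    intro v hv
    have hn0 : n ≠ 0 := by rintro rfl; simp at hn
    set e : ℕ → W := fun j => ∑ m ∈ Finset.range n, (ζ ^ j) ^ m • ((L i ^ m) v) with he
    have hmem : ∀ j, e j ∈ P := by
      intro j
      refine ih (e j) fun i' hi' => ?_
      by_cases hii : i' = i
      · subst hii
        refine ⟨(ζ ^ j)⁻¹, ?_⟩
        set x : k := ζ ^ j with hx
        have hx0 : x ≠ 0 := pow_ne_zero j (hζ.ne_zero hn0)
        have hxn : x ^ n = 1 := by rw [hx, ← pow_mul, mul_comm, pow_mul, hζ.pow_eq_one, one_pow]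
        have key : x • L i' (e j) = e j := by
          simp only [he]
          rw [map_sum, Finset.smul_sum]
          have hstep : ∀ m, x • L i' (x ^ m • ((L i' ^ m) v)) = x ^ (m + 1) • ((L i' ^ (m + 1)) v) := by
            intro m
            rw [map_smul, smul_smul, ← pow_succ', pow_succ' (L i') m]
            rfl
          rw [Finset.sum_congr rfl fun m _ => hstep m]
          have h1 := Finset.sum_range_succ' (fun m => x ^ m • ((L i' ^ m) v)) n
          rw [Finset.sum_range_succ (fun m => x ^ m • ((L i' ^ m) v)) n, hxn, hpow i'] at h1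
          simp only [pow_zero] at h1
          exact (add_right_cancel h1).symm
        rw [eq_inv_smul_iff₀ hx0]
        exact key
      · obtain ⟨c, hc⟩ := hv i' (fun h => (Finset.mem_insert.mp h).elim hii hi')
        refine ⟨c, ?_⟩
        simp only [he, map_sum, Finset.smul_sum, map_smul]
        refine Finset.sum_congr rfl fun m _ => ?_
        have h1 : L i' ((L i ^ m) v) = (L i ^ m) (L i' v) := by
          rw [← Module.End.mul_apply, ((hcomm i' i).pow_right m).eq, Module.End.mul_apply]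
        rw [h1, hc, map_smul, smul_comm]
    have hsum : ∑ j ∈ Finset.range n, e j = (n : k) • v := by
      simp only [he]
      rw [Finset.sum_comm]
      rw [Finset.sum_eq_single 0]
      · simp [Nat.cast_smul_eq_nsmul]
      · intro m hm hm0
        rw [← Finset.sum_smul]
        have h1 : ∑ j ∈ Finset.range n, (ζ ^ j) ^ m = 0 := by
          have h2 : ζ ^ m ≠ 1 := hζ.pow_ne_one_of_pos_of_lt hm0 (Finset.mem_range.mp hm)
          have h3 : (ζ ^ m) ^ n = 1 := by rw [← pow_mul, mul_comm, pow_mul, hζ.pow_eq_one, one_pow]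
          have h4 : ∀ j ∈ Finset.range n, (ζ ^ j) ^ m = (ζ ^ m) ^ j := fun j _ => by
            rw [← pow_mul, ← pow_mul, mul_comm]
          rw [Finset.sum_congr rfl h4, geom_sum_eq h2, h3, sub_self, zero_div]
        rw [h1, zero_smul]
      · intro h
        exact absurd (Finset.mem_range.mpr (Nat.pos_of_ne_zero hn0)) h
    have hv' : (n : k) • v ∈ P := hsum ▸ P.sum_mem fun j _ => hmem j
    have := P.smul_mem (n : k)⁻¹ hv'
    rwa [smul_smul, inv_mul_cancel₀ hn, one_smul] at this

end Eigen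

section Core

variable {Γ X : Type*} [Group Γ] [MulAction Γ X]

/-- An automorphism with trivial fixed points inverts, if it is an involution. -/
theorem inverts_of_free {M : Subgroup Γ} [Finite M] (u : Γ) (hu : u * u = 1)
    (hM : ∀ m ∈ M, u * m * u⁻¹ ∈ M) (hfree : ∀ m ∈ M, u * m * u⁻¹ = m → m = 1) {m : Γ}
    (hm : m ∈ M) : u * m * u⁻¹ = m⁻¹ := by
  have hsurj : Function.Surjective
      (fun z : M => (⟨(z : Γ)⁻¹ * (u * z * u⁻¹), M.mul_mem (M.inv_mem z.2) (hM z z.2)⟩ : M)) := by
    refine Finite.injective_iff_surjective.mp fun z z' h => ?_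
    have h' : (z : Γ)⁻¹ * (u * z * u⁻¹) = (z' : Γ)⁻¹ * (u * z' * u⁻¹) := congrArg Subtype.val h
    refine Subtype.ext (mul_inv_eq_one.mp (hfree _ (M.mul_mem z'.2 (M.inv_mem z.2)) ?_)).symm
    calc u * ((z' : Γ) * (z : Γ)⁻¹) * u⁻¹
        = (z' : Γ) * ((z' : Γ)⁻¹ * (u * z' * u⁻¹)) * (u * z * u⁻¹)⁻¹ := by group
      _ = (z' : Γ) * (z : Γ)⁻¹ := by rw [← h']; group
  obtain ⟨z, hz⟩ := hsurj ⟨m, hm⟩
  have hz' : (z : Γ)⁻¹ * (u * z * u⁻¹) = m := congrArg Subtype.val hz
  have huu : u⁻¹ = u := inv_eq_of_mul_eq_one_right hu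
  rw [← hz', huu]
  calc u * ((z : Γ)⁻¹ * (u * z * u)) * u = u * (z : Γ)⁻¹ * u * z * (u * u) := by group
    _ = u * (z : Γ)⁻¹ * u * z := by rw [hu, mul_one]
    _ = ((z : Γ)⁻¹ * (u * z * u))⁻¹ := by simp [mul_inv_rev, huu, mul_assoc]

/-- The combinatorial core: a group acting faithfully on the weights is trivial. -/
theorem eq_bot_of_weights (M : Subgroup Γ) [Finite M] (s u : Γ) (D : Set X)
    (hs : s ^ 3 = 1) (hu : u * u = 1) (hus : u * s * u⁻¹ = s⁻¹)
    (hMs : ∀ m ∈ M, s * m * s⁻¹ ∈ M) (hMu : ∀ m ∈ M, u * m * u⁻¹ ∈ M)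
    (hfix : ∀ m ∈ M, s * m * s⁻¹ = m → m = 1)
    (hDM : ∀ m ∈ M, ∀ x ∈ D, m • x ∈ D) (hDs : ∀ x ∈ D, s • x ∈ D)
    (hfaith : ∀ m ∈ M, (∀ x ∈ D, m • x = x) → m = 1)
    (hD : ∀ x ∈ D, s • x = x ∨ u • x = x ∨ (s * u) • x = x ∨ (s ^ 2 * u) • x = x)
    (htriv : ∀ x ∈ D, s • x = x → u • x = x → ∀ m ∈ M, m • x = x)
    (htriple : ∀ m ∈ M, ∀ x ∈ D, ∀ y ∈ D, u • x = x → u • y = y →
      m • (s • x) = s • y → m • (s ^ 2 • x) = s ^ 2 • y → m • x = y) :
    M = ⊥ := by
  have hinj : ∀ {m m' : Γ}, m ∈ M → m' ∈ M →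
      m⁻¹ * (s * m * s⁻¹) = m'⁻¹ * (s * m' * s⁻¹) → m = m' := by
    intro m m' hm hm' h
    refine (mul_inv_eq_one.mp (hfix _ (M.mul_mem hm' (M.inv_mem hm)) ?_)).symm
    calc s * (m' * m⁻¹) * s⁻¹ = m' * (m'⁻¹ * (s * m' * s⁻¹)) * (s * m * s⁻¹)⁻¹ := by group
      _ = m' * m⁻¹ := by rw [← h]; group
  -- a point fixed by `s` is alone in its orbit among such points
  have huniq : ∀ x : X, s • x = x → ∀ m ∈ M, s • (m • x) = m • x → m • x = x := by
    intro x hx m hm hmx
    have hsinv : s⁻¹ • x = x := inv_smul_eq_iff.mpr hx.symm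
    let St : Subgroup Γ := M ⊓ MulAction.stabilizer Γ x
    haveI : Finite St := Finite.of_injective _ (Subgroup.inclusion_injective
      (inf_le_left : M ⊓ MulAction.stabilizer Γ x ≤ M))
    have hmem : ∀ z ∈ St, z⁻¹ * (s * z * s⁻¹) ∈ St := by
      intro z hz
      refine ⟨M.mul_mem (M.inv_mem hz.1) (hMs z hz.1), ?_⟩
      have h1 : z • x = x := hz.2
      show (z⁻¹ * (s * z * s⁻¹)) • x = x
      rw [mul_smul, mul_smul, mul_smul, hsinv, h1, hx, inv_smul_eq_iff, h1]
    have hsurj : Function.Surjective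
        (fun z : St => (⟨(z : Γ)⁻¹ * (s * z * s⁻¹), hmem z z.2⟩ : St)) :=
      Finite.injective_iff_surjective.mp fun z z' h =>
        Subtype.ext (hinj z.2.1 z'.2.1 (congrArg Subtype.val h))
    have hn : m⁻¹ * (s * m * s⁻¹) ∈ St := by
      refine ⟨M.mul_mem (M.inv_mem hm) (hMs m hm), ?_⟩
      show (m⁻¹ * (s * m * s⁻¹)) • x = x
      rw [mul_smul, mul_smul, mul_smul, hsinv, hmx, inv_smul_smul]
    obtain ⟨z, hz⟩ := hsurj ⟨_, hn⟩
    have h1 := hinj z.2.1 hm (congrArg Subtype.val hz)
    rw [← h1]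
    exact z.2.2
  have hus' : u * s = s⁻¹ * u := by rw [← hus]; group
  have hs2 : s * s = s⁻¹ := eq_inv_of_mul_eq_one_left (by rw [← hs, pow_succ, pow_two])
  have huinv : u⁻¹ = u := inv_eq_of_mul_eq_one_right hu
  have hus'' : u * s⁻¹ = s * u := by
    have h1 : u * s * u * s = 1 := by
      rw [hus', mul_assoc s⁻¹, hu, mul_one, inv_mul_cancel]
    calc u * s⁻¹ = u * (u * s * u * s) * s⁻¹ := by rw [h1, mul_one]
      _ = (u * u) * s * u := by group
      _ = s * u := by rw [hu, one_mul]
  -- points fixed by `s` are fixed by `M`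
  have hsfixed : ∀ x ∈ D, s • x = x → ∀ m ∈ M, m • x = x := by
    intro x hxD hx m hm
    by_cases hux : u • x = x
    · exact htriv x hxD hx hux m hm
    by_contra hne
    rcases hD _ (hDM m hm x hxD) with h | h
    · exact hne (huniq x hx m hm h)
    have hsu : s • (u • x) = u • x := by
      rw [← mul_smul, ← hus'', mul_smul, inv_smul_eq_iff.mpr hx.symm]
    -- a reflection fixes `m • x`
    have key : ∀ i : ℕ, (s ^ i * u) • (m • x) = m • x → False := by
      intro i hi
      have hp : ∀ (j : ℕ) (y : X), s • y = y → s ^ j • y = y := by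
        intro j y hy
        induction j with
        | zero => rw [pow_zero, one_smul]
        | succ j ihj => rw [pow_succ, mul_smul, hy, ihj]
      have h1 : (s ^ i * u * m * (s ^ i * u)⁻¹) • (u • x) = m • x := by
        have h2 : (s ^ i * u) • x = u • x := by rw [mul_smul, hp i _ hsu]
        rw [← h2, ← mul_smul, inv_mul_cancel_right, mul_smul, hi]
      have hmem : s ^ i * u * m * (s ^ i * u)⁻¹ ∈ M := by
        have : ∀ j : ℕ, ∀ z ∈ M, s ^ j * z * (s ^ j)⁻¹ ∈ M := by
          intro j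
          induction j with
          | zero => intro z hz; simpa using hz
          | succ j ihj =>
            intro z hz
            have := ihj _ (hMs z hz)
            simpa [pow_succ, mul_assoc] using this
        have h3 := this i _ (hMu m hm)
        simpa [mul_assoc] using h3
      set n := s ^ i * u * m * (s ^ i * u)⁻¹
      have h4 : (m⁻¹ * n) • (u • x) = x := by rw [mul_smul, h1, inv_smul_smul]
      have h5 : u • x = (m⁻¹ * n)⁻¹ • x := by rw [eq_inv_smul_iff, h4]
      have h6 := huniq x hx _ (M.inv_mem (M.mul_mem (M.inv_mem hm) hmem)) (by rw [← h5]; exact hsu)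
      exact hux (h5.trans h6)
    rcases h with h | h | h
    · exact key 0 (by rwa [pow_zero, one_mul])
    · exact key 1 (by rwa [pow_one])
    · exact key 2 h
  -- orbits of points not fixed by `s`
  have horbit : ∀ x ∈ D, s • x ≠ x → u • x = x → ∀ m ∈ M, u • (m • x) = m • x := by
    intro x hxD hsx hux m hm
    have hnos : ∀ n ∈ M, s • (n • x) ≠ n • x := by
      intro n hn h
      have h1 := hsfixed _ (hDM n hn x hxD) h n⁻¹ (M.inv_mem hn)
      rw [inv_smul_smul] at h1
      exact hsx (by rw [h1]; exact h)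
    have hnot : ∀ n ∈ M, s • x ≠ n • x := by
      intro n hn h
      have hsurj : Function.Surjective
          (fun z : M => (⟨(z : Γ)⁻¹ * (s * z * s⁻¹), M.mul_mem (M.inv_mem z.2) (hMs z z.2)⟩ : M)) :=
        Finite.injective_iff_surjective.mp fun z z' h =>
          Subtype.ext (hinj z.2 z'.2 (congrArg Subtype.val h))
      obtain ⟨w, hw⟩ := hsurj ⟨n⁻¹, M.inv_mem hn⟩
      have hw' : s * (w : Γ) * s⁻¹ = w * n⁻¹ := by
        have : (w : Γ)⁻¹ * (s * w * s⁻¹) = n⁻¹ := congrArg Subtype.val hw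
        rw [← this]; group
      refine hnos w w.2 ?_
      rw [← mul_smul, show s * (w : Γ) = w * n⁻¹ * s by rw [← hw']; group, mul_smul, h,
        ← mul_smul, inv_mul_cancel_right]
    rcases hD _ (hDM m hm x hxD) with h | h | h | h
    · exact absurd h (hnos m hm)
    · exact h
    · exfalso
      refine hnot ((s * u * m * (s * u)⁻¹)⁻¹ * m) (M.mul_mem (M.inv_mem ?_) hm) ?_
      · have := hMs _ (hMu m hm); simpa [mul_assoc] using this
      · have h2 : (s * u) • x = s • x := by rw [mul_smul, hux]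
        rw [mul_smul, eq_inv_smul_iff, ← h2, ← mul_smul, inv_mul_cancel_right, mul_smul, h]
    · exfalso
      set n := (s ^ 2 * u * m * (s ^ 2 * u)⁻¹)⁻¹ * m with hn
      have hnM : n ∈ M := M.mul_mem (M.inv_mem (by
        have := hMs _ (hMs _ (hMu m hm)); simpa [pow_two, mul_assoc] using this)) hm
      have h2 : s ^ 2 • x = n • x := by
        have h3 : (s ^ 2 * u) • x = s ^ 2 • x := by rw [mul_smul, hux]
        rw [hn, mul_smul, eq_inv_smul_iff, ← h3, ← mul_smul, inv_mul_cancel_right, mul_smul, h]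
      refine hnot (s ^ 2 * n * (s ^ 2)⁻¹ * n) (M.mul_mem (by
        have := hMs _ (hMs _ hnM); simpa [pow_two, mul_assoc] using this) hnM) ?_
      rw [mul_smul, ← h2, ← mul_smul, inv_mul_cancel_right, mul_smul, ← h2, ← mul_smul,
        show s ^ 2 * s ^ 2 = s by rw [← pow_add, show 2 + 2 = 3 + 1 from rfl, pow_add, hs, one_mul,
          pow_one]]
  -- elements commuting with `u`
  have hbase : ∀ m ∈ M, u * m * u⁻¹ = m → ∀ x ∈ D, u • x = x →
      (s⁻¹ * m * s) • x = m • x ∧ (s * m * s⁻¹) • x = m • x := by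
    intro m hm hmu x hxD hux
    have hm1 : s⁻¹ * m * s ∈ M := by
      have h0 := hMs _ (hMs _ hm)
      rwa [show s * (s * m * s⁻¹) * s⁻¹ = (s * s) * m * (s * s)⁻¹ by group, hs2, inv_inv] at h0
    by_cases hsx : s • x = x
    · refine ⟨?_, ?_⟩
      · rw [hsfixed x hxD hsx _ hm1, hsfixed x hxD hsx m hm]
      · rw [hsfixed x hxD hsx _ (hMs m hm), hsfixed x hxD hsx m hm]
    set z := (s⁻¹ * m * s) • x with hz
    have hzu : u • z = z := horbit x hxD hsx hux _ hm1
    have hA : (s⁻¹ * m * s) • x = m • x := by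
      refine (htriple m hm x hxD z (hDM _ hm1 x hxD) hux hzu ?_ ?_).symm
      · rw [hz, ← mul_smul, ← mul_smul]; congr 1; group
      · have e1 : s ^ 2 • x = u • (s • x) := by
          rw [← mul_smul u s, hus', mul_smul, hux, pow_two, hs2]
        have e2 : s ^ 2 • z = u • (s • z) := by
          rw [← mul_smul u s, hus', mul_smul, hzu, pow_two, hs2]
        have e3 : m * u = u * m := by conv_lhs => rw [← hmu]
                                      group
        rw [e1, e2, ← mul_smul m u, e3, mul_smul]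
        congr 1
        rw [hz, ← mul_smul, ← mul_smul]; congr 1; group
    refine ⟨hA, ?_⟩
    have h1 : u • (m • x) = m • x := horbit x hxD hsx hux m hm
    have h2 : s * m * s⁻¹ = u * (s⁻¹ * m * s) * u⁻¹ := by
      conv_lhs => rw [← hmu]
      have h3 : u * s⁻¹ = s * u := hus''
      calc s * (u * m * u⁻¹) * s⁻¹ = (s * u) * m * (s * u)⁻¹ := by group
        _ = _ := by rw [← h3]; group
    have h4 : u⁻¹ • x = x := inv_smul_eq_iff.mpr hux.symm
    rw [h2, mul_smul, mul_smul, h4, hA, h1]
  have hu_free : ∀ m ∈ M, u * m * u⁻¹ = m → m = 1 := by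
    intro m hm hmu
    refine hfix m hm (mul_inv_eq_one.mp (hfaith _ (M.mul_mem (hMs m hm) (M.inv_mem hm)) ?_))
    intro y hyD
    -- it is enough to see that the two elements agree on every point
    suffices h : ∀ y ∈ D, (s * m * s⁻¹) • y = m • y by
      have := h (m⁻¹ • y) (hDM _ (M.inv_mem hm) y hyD)
      rw [mul_smul, this, smul_inv_smul]
    intro y hyD
    rcases hD y hyD with h | h | h | h
    · rw [hsfixed y hyD h _ (hMs m hm), hsfixed y hyD h m hm]
    · exact (hbase m hm hmu y hyD h).2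
    · -- `s • y` is fixed by `u`
      have huy : u • y = s⁻¹ • y := by
        rw [eq_inv_smul_iff, ← mul_smul]; exact h
      have hx : u • (s • y) = s • y := by
        rw [← mul_smul, hus', mul_smul, huy, ← mul_smul, ← mul_inv_rev, hs2, inv_inv]
      have h1 := hbase m hm hmu _ (hDs y hyD) hx
      calc (s * m * s⁻¹) • y = (s * s) • ((s⁻¹ * m * s⁻¹) • y) := by
            rw [← mul_smul]; congr 1; group
        _ = (s * s) • ((s⁻¹ * m * s) • (s • y)) := by
            conv_lhs => rw [← hs2]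
            rw [← mul_smul, ← mul_smul, ← mul_smul]; congr 1; rw [← hs2]; group
        _ = (s * s) • (m • (s • y)) := by rw [h1.1]
        _ = (s * s) • ((s * m * s⁻¹) • (s • y)) := by rw [h1.2]
        _ = (s * s * s) • (m • y) := by rw [← mul_smul, ← mul_smul, ← mul_smul]; congr 1; group
        _ = m • y := by rw [hs2, inv_mul_cancel, one_smul]
    · have huy : u • y = s • y := by
        conv_rhs => rw [← h]
        rw [← mul_smul, pow_two, ← mul_assoc, ← mul_assoc, hs2, inv_mul_cancel, one_mul]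
      have hx : u • (s⁻¹ • y) = s⁻¹ • y := by
        rw [← mul_smul, hus'', mul_smul, huy, ← mul_smul, hs2]
      have hxD' : s⁻¹ • y ∈ D := by
        rw [← hs2, mul_smul]; exact hDs _ (hDs y hyD)
      have h1 := (hbase m hm hmu _ hxD' hx).1
      calc (s * m * s⁻¹) • y = s • (m • (s⁻¹ • y)) := by rw [← mul_smul, ← mul_smul, mul_assoc]
        _ = s • ((s⁻¹ * m * s) • (s⁻¹ • y)) := by rw [h1]
        _ = m • y := by rw [← mul_smul, ← mul_smul]; congr 1; group
  have hinv : ∀ m ∈ M, u * m * u⁻¹ = m⁻¹ := fun m hm => inverts_of_free u hu hMu hu_free hm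
  have hsu : ∀ m ∈ M, (s * u) * m * (s * u)⁻¹ = m⁻¹ := by
    intro m hm
    refine inverts_of_free (s * u) ?_ (fun z hz => ?_) (fun z hz h => ?_) hm
    · rw [mul_assoc, ← mul_assoc u, hus', mul_assoc, hu, mul_one, mul_inv_cancel]
    · have := hMs _ (hMu z hz); simpa [mul_assoc] using this
    · -- conjugate to an element commuting with `u`
      have hz' : s * z * s⁻¹ ∈ M := hMs z hz
      have hsu' : u * s = s * s * u := by rw [hs2, hus']
      have : u * (s * z * s⁻¹) * u⁻¹ = s * z * s⁻¹ := by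
        calc u * (s * z * s⁻¹) * u⁻¹ = (u * s) * z * (u * s)⁻¹ := by group
          _ = s * ((s * u) * z * (s * u)⁻¹) * s⁻¹ := by rw [hsu']; group
          _ = _ := by rw [h]
      exact conj_eq_one_iff.mp (hu_free _ hz' this)
  rw [eq_bot_iff]
  intro m hm
  refine Subgroup.mem_bot.mpr (hfix m hm ?_)
  have h1 := hsu m⁻¹ (M.inv_mem hm)
  have h2 := hinv m⁻¹ (M.inv_mem hm)
  rw [inv_inv] at h1 h2
  calc s * m * s⁻¹ = s * (u * m⁻¹ * u⁻¹) * s⁻¹ := by rw [h2]
    _ = (s * u) * m⁻¹ * (s * u)⁻¹ := by group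
    _ = m := h1

end Core

end Cfsg.Agent.FGB
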