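/-
Finite solvable groups in which elements of the same order are conjugate.
-/
import Mathlib
import Cfsg.Agent.Lib.Basics.Tools
import Cfsg.Agent.Lib.Transfer.Residual
import Cfsg.Agent.Lib.FGB.PRegularClasses

set_option autoImplicit false
set_option linter.all false

universe u

namespace Cfsg.Agent.FGB

/-- Elements of the same order are conjugate. -/
def SameOrderConj (G : Type*) [Group G] : Prop := ∀ x y : G, orderOf x = orderOf y → IsConj x y

variable {G : Type u} [Group G] [Finite G]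

/-- In a non-abelian group of order six, the subgroup generated by an involution is core free. -/
theorem nonempty_equiv_perm_three (h6 : Nat.card G = 6) (hna : ∃ a b : G, a * b ≠ b * a) :
    Nonempty (G ≃* Equiv.Perm (Fin 3)) := by
  classical
  haveI := Fact.mk Nat.prime_two
  obtain ⟨y, hy⟩ := exists_prime_orderOf_dvd_card' (G := G) 2 (by rw [h6]; norm_num)
  set H := Subgroup.zpowers y with hH
  have hHc : Nat.card H = 2 := by rw [hH, Nat.card_zpowers, hy]
  have hcore : H.normalCore = ⊥ := by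
    by_contra hne
    have hle := Subgroup.normalCore_le H
    have heq : H.normalCore = H := by
      refine Subgroup.eq_of_le_of_card_ge hle ?_
      rw [hHc]
      exact (Subgroup.one_lt_card_iff_ne_bot _).mpr hne
    have hn : H.Normal := heq ▸ Subgroup.normalCore_normal H
    have hcen : ∀ g : G, g * y * g⁻¹ = y := by
      intro g
      have h1 : g * y * g⁻¹ ∈ H := hn.conj_mem y (Subgroup.mem_zpowers y) g
      obtain ⟨i, hi⟩ := h1
      have hi' : y ^ i = g * y * g⁻¹ := hi
      rw [← zpow_mod_orderOf, hy] at hi'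
      rcases (show i % ((2 : ℕ) : ℤ) = 0 ∨ i % ((2 : ℕ) : ℤ) = 1 by omega) with h0 | h0 <;> rw [h0] at hi'
      · rw [zpow_zero] at hi'
        have : y = 1 := conj_eq_one_iff.mp hi'.symm
        rw [this, orderOf_one] at hy
        omega
      · rw [zpow_one] at hi'; exact hi'.symm
    haveI := Fact.mk Nat.prime_three
    haveI : IsCyclic (G ⧸ H) := by
      have h1 := Subgroup.card_eq_card_quotient_mul_card_subgroup H
      rw [h6, hHc] at h1
      exact isCyclic_of_prime_card (p := 3) (by omega)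
    have hker : (QuotientGroup.mk' H).ker ≤ Subgroup.center G := by
      rw [QuotientGroup.ker_mk', hH, Subgroup.zpowers_le]
      exact Subgroup.mem_center_iff.mpr fun g => mul_inv_eq_iff_eq_mul.mp (hcen g)
    obtain ⟨a, b, hab⟩ := hna
    exact hab (commutative_of_cyclic_center_quotient (QuotientGroup.mk' H) hker a b)
  have hinj : Function.Injective (MulAction.toPermHom G (G ⧸ H)) := by
    rw [← MonoidHom.ker_eq_bot_iff, ← Subgroup.normalCore_eq_ker, hcore]
  have hcard : Nat.card (G ⧸ H) = 3 := by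
    have h1 := Subgroup.card_eq_card_quotient_mul_card_subgroup H
    rw [h6, hHc] at h1
    omega
  have hperm : Nat.card (Equiv.Perm (G ⧸ H)) = Nat.card G := by
    rw [Nat.card_perm, hcard, h6]; rfl
  have hbij := hinj.bijective_of_nat_card_le hperm.le
  obtain ⟨e⟩ : Nonempty ((G ⧸ H) ≃ Fin 3) := ⟨(Finite.equivFin _).trans (finCongr hcard)⟩
  exact ⟨(MulEquiv.ofBijective _ hbij).trans (Equiv.permCongrHom e)⟩

/-- The order of the image in `G ⧸ N` when `N` consists of elements of order dividing `p`. -/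
theorem SameOrderConj.quotient (h : SameOrderConj G) {p : ℕ} (hp : p.Prime) (N : Subgroup G) [N.Normal]
    (hexp : ∀ x ∈ N, x ^ p = 1) (hN : N ≠ ⊥) :
    SameOrderConj (G ⧸ N) ∧ ∀ x : G, orderOf (x : G ⧸ N) = p → orderOf x = p ^ 2 := by
  classical
  haveI := Fact.mk hp
  obtain ⟨n0, hn0, hn01⟩ := (Subgroup.bot_or_exists_ne_one N).resolve_left hN
  have hall : ∀ x : G, orderOf x = p → x ∈ N := by
    intro x hx
    obtain ⟨g, hg⟩ := isConj_iff.mp (h n0 x (by rw [hx]; exact orderOf_eq_prime (hexp n0 hn0) hn01))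
    rw [← hg]
    exact (inferInstance : N.Normal).conj_mem n0 hn0 g
  -- `p`-elements outside `N` lose exactly one factor `p`
  have hstep : ∀ (a : G) (k : ℕ), orderOf a = p ^ k → a ∉ N → 2 ≤ k ∧ orderOf (a : G ⧸ N) = p ^ (k - 1) := by
    intro a k hk haN
    have hk2 : 2 ≤ k := by
      rcases k with _ | _ | k
      · exact absurd (orderOf_eq_one_iff.mp hk ▸ one_mem N) haN
      · exact absurd (hall a (by rw [hk, zero_add, pow_one])) haN
      · omega
    refine ⟨hk2, ?_⟩
    set o := orderOf (a : G ⧸ N) with ho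
    have hd : o ∣ p ^ (k - 1) := by
      refine orderOf_dvd_of_pow_eq_one ?_
      rw [← QuotientGroup.mk_pow, QuotientGroup.eq_one_iff]
      refine hall _ ?_
      rw [orderOf_pow' a (pow_pos hp.pos _).ne', hk, Nat.gcd_eq_right (pow_dvd_pow p (by omega)),
        Nat.pow_div (by omega) hp.pos, show k - (k - 1) = 1 by omega, pow_one]
    obtain ⟨i, hi, hoi⟩ := (Nat.dvd_prime_pow hp).mp hd
    rw [hoi]
    have h1 : a ^ (p ^ i) ∈ N := by
      rw [← QuotientGroup.eq_one_iff, QuotientGroup.mk_pow, ← hoi]; exact pow_orderOf_eq_one _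
    have h2 := hexp _ h1
    rw [← pow_mul, ← pow_succ, ← orderOf_dvd_iff_pow_eq_one, hk] at h2
    have := (Nat.pow_dvd_pow_iff_le_right hp.one_lt).mp h2
    congr 1
    omega
  -- canonical lifts
  have hlift : ∀ q : G ⧸ N, ∃ x : G, (x : G ⧸ N) = q ∧
      orderOf x = if p ∣ orderOf q then p * orderOf q else orderOf q := by
    intro q
    induction q using QuotientGroup.induction_on with
    | H g =>
      obtain ⟨a, b, ha, hb, hab, ⟨k, hak⟩, hbc⟩ := Transfer.exists_pPart_mul (p := p) g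
      obtain ⟨i, -, hai⟩ := (Nat.dvd_prime_pow hp).mp hak
      have hcomm : Commute a b := by
        obtain ⟨i, rfl⟩ := ha
        obtain ⟨j, rfl⟩ := hb
        exact Commute.zpow_zpow_self g i j
      have hob : orderOf (b : G ⧸ N) = orderOf b := by
        refine Nat.dvd_antisymm (orderOf_map_dvd (QuotientGroup.mk' N) b) ?_
        have h1 : b ^ orderOf (b : G ⧸ N) ∈ N := by
          rw [← QuotientGroup.eq_one_iff, QuotientGroup.mk_pow]; exact pow_orderOf_eq_one _
        have h2 := hexp _ h1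
        rw [← pow_mul, ← orderOf_dvd_iff_pow_eq_one] at h2
        exact hbc.dvd_of_dvd_mul_right h2
      by_cases haN : a ∈ N
      · refine ⟨b, ?_, ?_⟩
        · rw [← hab, QuotientGroup.mk_mul, (QuotientGroup.eq_one_iff a).mpr haN, one_mul]
        · rw [show ((g : G) : G ⧸ N) = (b : G ⧸ N) by
            rw [← hab, QuotientGroup.mk_mul, (QuotientGroup.eq_one_iff a).mpr haN, one_mul], hob]
          rw [if_neg]
          exact fun hd => hp.not_dvd_one (hbc ▸ Nat.dvd_gcd hd dvd_rfl)
      · obtain ⟨hi2, hoa⟩ := hstep a i hai haN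
        refine ⟨g, rfl, ?_⟩
        have hcomm' : Commute (a : G ⧸ N) (b : G ⧸ N) := hcomm.map (QuotientGroup.mk' N)
        have hcop : (orderOf a).Coprime (orderOf b) := by rw [hai]; exact Nat.Coprime.pow_left _ hbc.symm
        have hoq : orderOf ((g : G) : G ⧸ N) = p ^ (i - 1) * orderOf b := by
          rw [← hab, QuotientGroup.mk_mul, hcomm'.orderOf_mul_eq_mul_orderOf_of_coprime
            (by rw [hoa, hob]; exact Nat.Coprime.pow_left _ hbc.symm), hoa, hob]
        rw [hoq, if_pos (Dvd.dvd.mul_right (dvd_pow_self p (by omega)) _), ← mul_assoc, ← pow_succ',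
          show i - 1 + 1 = i by omega, ← hai, ← hab, hcomm.orderOf_mul_eq_mul_orderOf_of_coprime hcop]
  refine ⟨fun x y hxy => ?_, fun x hx => ?_⟩
  · obtain ⟨u, rfl, hu⟩ := hlift x
    obtain ⟨v, rfl, hv⟩ := hlift y
    exact (QuotientGroup.mk' N).map_isConj (h u v (by rw [hu, hv, hxy]))
  · obtain ⟨k, hk⟩ : ∃ k, orderOf x = p ^ k := by
      have h1 : x ^ p ∈ N := by rw [← QuotientGroup.eq_one_iff, QuotientGroup.mk_pow, ← hx]; exact pow_orderOf_eq_one _
      have h2 := hexp _ h1
      rw [← pow_mul] at h2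
      obtain ⟨k, -, hk⟩ := (Nat.dvd_prime_pow hp).mp
        ((orderOf_dvd_of_pow_eq_one h2).trans (dvd_of_eq (pow_two p).symm))
      exact ⟨k, hk⟩
    have hxN : x ∉ N := fun hN' => hp.ne_one (by
      rw [← hx, (QuotientGroup.eq_one_iff x).mpr hN', orderOf_one])
    obtain ⟨hk2, hox⟩ := hstep x k hk hxN
    rw [hx] at hox
    nth_rewrite 1 [← pow_one p] at hox
    have := Nat.pow_right_injective hp.two_le hox
    rw [hk, show k = 2 by omega]

theorem sameOrderConj_classification : ∀ (n : ℕ) (G : Type u) [Group G] [Finite G] [Group.IsSolvable G],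
    Nat.card G = n → SameOrderConj G →
    Nat.card G = 1 ∨ Nat.card G = 2 ∨ Nonempty (G ≃* Equiv.Perm (Fin 3)) := by
  intro n
  induction n using Nat.strong_induction_on with
  | _ n ih =>
  intro G _ _ _ hn h
  classical
  rcases eq_or_ne (Nat.card G) 1 with h1 | h1
  · exact Or.inl h1
  right
  haveI : Nontrivial G := Finite.one_lt_card_iff_nontrivial.mp (by have := Nat.card_pos (α := G); omega)
  obtain ⟨p, N, hp, hNn, -, hN1, hNab, hexp⟩ :=
    Basics.exists_elementary_normal (N := (⊤ : Subgroup G)) top_ne_bot inferInstance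
  haveI := hNn
  haveI := Fact.mk hp
  obtain ⟨hQ, hlift⟩ := h.quotient hp N hexp hN1
  have hlt : Nat.card (G ⧸ N) < n := by
    rw [← hn, Subgroup.card_eq_card_quotient_mul_card_subgroup N]
    exact lt_mul_of_one_lt_right Nat.card_pos ((Subgroup.one_lt_card_iff_ne_bot _).mpr hN1)
  have hcard := Subgroup.card_eq_card_quotient_mul_card_subgroup N
  obtain ⟨n0, hn0, hn01⟩ := (Subgroup.bot_or_exists_ne_one N).resolve_left hN1
  have hon0 : orderOf n0 = p := orderOf_eq_prime (hexp n0 hn0) hn01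
  have hNC : N ≤ Subgroup.centralizer ({n0} : Set G) := fun u hu =>
    Subgroup.mem_centralizer_singleton_iff.mpr
      (congrArg Subtype.val (hNab.is_comm.comm (⟨u, hu⟩ : N) ⟨n0, hn0⟩))
  have hclass : Nat.card N - 1 ≤ (Subgroup.centralizer ({n0} : Set G)).index := by
    rw [← ncard_carrier_eq_index_centralizer, ← Nat.card_coe_set_eq]
    have e : Nat.card {z : N // z ≠ 1} = Nat.card N - 1 := by
      haveI : Fintype N := Fintype.ofFinite _
      rw [Nat.card_eq_fintype_card, Nat.card_eq_fintype_card, Fintype.card_subtype_compl, Fintype.card_subtype_eq]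
    rw [← e]
    refine Nat.card_le_card_of_injective (fun z => ⟨(z.1 : G), ?_⟩) fun a b hab =>
      Subtype.ext (Subtype.ext (congrArg (fun w : (ConjClasses.mk n0).carrier => w.1) hab))
    refine ConjClasses.mem_carrier_iff_mk_eq.mpr (ConjClasses.mk_eq_mk_iff_isConj.mpr (h _ _ ?_))
    rw [hon0]
    exact orderOf_eq_prime (hexp _ z.1.2) (fun e => z.2 (Subtype.ext e))
  have hclassd : (Subgroup.centralizer ({n0} : Set G)).index ∣ Nat.card (G ⧸ N) := by
    rw [← Subgroup.index_eq_card]; exact Subgroup.index_dvd_of_le hNC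
  have hN2 : 1 < Nat.card N := (Subgroup.one_lt_card_iff_ne_bot _).mpr hN1
  rcases ih _ hlt (G ⧸ N) rfl hQ with hq | hq | ⟨⟨e⟩⟩
  · left
    have h2 : Nat.card N - 1 ≤ 1 := hclass.trans (Nat.le_of_dvd (by omega) (hq ▸ hclassd))
    rw [hcard, hq, one_mul]
    omega
  · -- quotient of order two
    have h2 : Nat.card N - 1 ≤ 2 := hclass.trans (Nat.le_of_dvd (by omega) (hq ▸ hclassd))
    have hpN : p ∣ Nat.card N := hon0 ▸ (Subgroup.orderOf_mk n0 hn0 ▸ _root_.orderOf_dvd_natCard (⟨n0, hn0⟩ : N))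
    rcases (show Nat.card N = 2 ∨ Nat.card N = 3 by omega) with hN' | hN'
    · exfalso
      have hp2 : p = 2 := (Nat.prime_dvd_prime_iff_eq hp Nat.prime_two).mp (hN' ▸ hpN)
      subst hp2
      haveI := Fact.mk Nat.prime_two
      obtain ⟨t, ht⟩ := exists_prime_orderOf_dvd_card' (G := G ⧸ N) 2 (by rw [hq])
      obtain ⟨x, rfl⟩ := QuotientGroup.mk'_surjective N t
      have hx : orderOf x = 4 := hlift x ht
      have hG4 : Nat.card G = 4 := by rw [hcard, hq, hN']
      have hcomm : ∀ a b : G, a * b = b * a :=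
        (IsPGroup.commGroupOfCardEqPrimeSq (p := 2) (G := G) hG4).mul_comm
      obtain ⟨g, hg⟩ := isConj_iff.mp (h x x⁻¹ (orderOf_inv x).symm)
      rw [hcomm g x, mul_inv_cancel_right] at hg
      have : orderOf x ∣ 2 := orderOf_dvd_of_pow_eq_one (by rw [pow_two]; nth_rewrite 2 [hg]; rw [mul_inv_cancel])
      rw [hx] at this
      omega
    · right
      refine nonempty_equiv_perm_three (by rw [hcard, hq, hN']) ?_
      by_contra hcon
      push Not at hcon
      haveI := Fact.mk Nat.prime_three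
      obtain ⟨t, ht⟩ := exists_prime_orderOf_dvd_card' (G := N) 3 (by rw [hN'])
      have h3 : orderOf (t : G) = 3 := by rw [Subgroup.orderOf_coe, ht]
      obtain ⟨g, hg⟩ := isConj_iff.mp (h (t : G) (t : G)⁻¹ (orderOf_inv _).symm)
      rw [hcon g t, mul_inv_cancel_right] at hg
      have : orderOf (t : G) ∣ 2 := orderOf_dvd_of_pow_eq_one (by rw [pow_two]; nth_rewrite 2 [hg]; rw [mul_inv_cancel])
      rw [h3] at this
      omega
  · exfalso
    have hq6 : Nat.card (G ⧸ N) = 6 := by
      rw [Nat.card_congr e.toEquiv, Nat.card_perm, Nat.card_fin]; rfl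
    have hcount2 : Nat.card {z : G ⧸ N // orderOf z = 2} = 3 := by
      rw [Nat.card_congr (e.toEquiv.subtypeEquiv (q := fun z : Equiv.Perm (Fin 3) => z ^ 2 = 1 ∧ z ≠ 1) (fun z => ?_)),
        Nat.card_eq_fintype_card]
      · decide
      · show orderOf z = 2 ↔ e z ^ 2 = 1 ∧ e z ≠ 1
        rw [← MulEquiv.orderOf_eq e z, orderOf_eq_prime_iff]
    have hcount3 : Nat.card {z : G ⧸ N // orderOf z = 3} = 2 := by
      haveI := Fact.mk Nat.prime_three
      rw [Nat.card_congr (e.toEquiv.subtypeEquiv (q := fun z : Equiv.Perm (Fin 3) => z ^ 3 = 1 ∧ z ≠ 1) (fun z => ?_)),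
        Nat.card_eq_fintype_card]
      · decide
      · show orderOf z = 3 ↔ e z ^ 3 = 1 ∧ e z ≠ 1
        rw [← MulEquiv.orderOf_eq e z, orderOf_eq_prime_iff]
    -- `p` is neither two nor three
    have hsmall : ∀ c : ℕ, Nat.card {z : G ⧸ N // orderOf z = p} = c → 6 < c * p ^ 2 → c ≠ 0 → False := by
      intro c hc hbig hc0
      obtain ⟨⟨t, ht⟩⟩ := (Nat.card_pos_iff.mp (hc ▸ Nat.pos_of_ne_zero hc0)).1
      obtain ⟨x, rfl⟩ := QuotientGroup.mk'_surjective N t
      have hx : orderOf x = p ^ 2 := hlift x ht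
      have hge : c * Nat.card N ≤ (Subgroup.centralizer ({x} : Set G)).index := by
        rw [← ncard_carrier_eq_index_centralizer, ← Nat.card_coe_set_eq, ← hc, mul_comm]
        refine le_trans (QuotientGroup.card_preimage_mk N {z : G ⧸ N | orderOf z = p}).ge ?_
        refine Nat.card_le_card_of_injective (fun z => ⟨z.1, ?_⟩) fun a b hab =>
          Subtype.ext (congrArg (fun w : (ConjClasses.mk x).carrier => w.1) hab)
        exact ConjClasses.mem_carrier_iff_mk_eq.mpr (ConjClasses.mk_eq_mk_iff_isConj.mpr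
          (h _ _ ((hlift z.1 z.2).trans hx.symm)))
      have hC : p ^ 2 ≤ Nat.card (Subgroup.centralizer ({x} : Set G)) := by
        rw [← hx, ← Subgroup.orderOf_mk x (Subgroup.mem_centralizer_singleton_iff.mpr rfl : x ∈ Subgroup.centralizer ({x} : Set G))]
        exact Nat.le_of_dvd Nat.card_pos (_root_.orderOf_dvd_natCard _)
      have h2 := (Subgroup.centralizer ({x} : Set G)).card_mul_index
      rw [hcard, hq6] at h2
      have h3 : p ^ 2 * (c * Nat.card N) ≤ 6 * Nat.card N := h2 ▸ Nat.mul_le_mul hC hge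
      rw [← mul_assoc, mul_comm (p ^ 2)] at h3
      exact absurd (Nat.le_of_mul_le_mul_right h3 (by omega)) (not_le.mpr hbig)
    have hp2 : p ≠ 2 := by
      rintro rfl
      exact hsmall 3 hcount2 (by norm_num) (by norm_num)
    have hp3 : p ≠ 3 := by
      rintro rfl
      exact hsmall 2 hcount3 (by norm_num) (by norm_num)
    set C := Subgroup.centralizer ({n0} : Set G) with hC
    have hpN : p ∣ Nat.card N := hon0 ▸ (Subgroup.orderOf_mk n0 hn0 ▸ _root_.orderOf_dvd_natCard (⟨n0, hn0⟩ : N))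
    have hd6 : C.index ∣ 6 := hq6 ▸ hclassd
    have hp5 : 5 ≤ p := by
      have := hp.two_le
      have h4 : p ≠ 4 := fun h4 => by rw [h4] at hp; norm_num at hp
      omega
    have hi6 : C.index = 6 ∧ Nat.card N = p := by
      have h5 : 5 ≤ Nat.card N := hp5.trans (Nat.le_of_dvd (by omega) hpN)
      have hC6 : C.index ≤ 6 := Nat.le_of_dvd (by norm_num) hd6
      have h7 : Nat.card N ≤ 7 := by omega
      have hi : C.index = 6 := by
        have h4 : 4 ≤ C.index := by omega
        interval_cases hci : C.index <;> omega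
      refine ⟨hi, ?_⟩
      obtain ⟨m, hm⟩ := hpN
      rcases m with _ | _ | m
      · omega
      · rw [hm, zero_add, mul_one]
      · have : p * 2 ≤ Nat.card N := hm ▸ Nat.mul_le_mul_left p (by omega)
        omega
    have hCN : C = N := by
      refine (Subgroup.eq_of_le_of_card_ge hNC ?_).symm
      have h2 := C.card_mul_index
      rw [hcard, hq6, hi6.1, mul_comm 6] at h2
      exact (Nat.eq_of_mul_eq_mul_right (by norm_num) h2).le
    haveI : IsCyclic N := isCyclic_of_prime_card hi6.2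
    -- `G ⧸ N` embeds into the abelian group `Aut N`
    have hab : ∀ a b : G, a * b * a⁻¹ * b⁻¹ ∈ N := by
      intro a b
      rw [← hCN, Subgroup.mem_centralizer_singleton_iff]
      obtain ⟨gen, hgen⟩ := IsCyclic.exists_monoid_generator (α := N)
      have hexpo : ∀ u : G, ∃ k : ℕ, ∀ z ∈ N, u * z * u⁻¹ = z ^ k := by
        intro u
        obtain ⟨k, hk⟩ := (Submonoid.mem_powers_iff _ _).mp (hgen ⟨u * gen * u⁻¹, hNn.conj_mem _ gen.2 u⟩)
        have hk' : (gen : G) ^ k = u * gen * u⁻¹ := congrArg Subtype.val hk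
        refine ⟨k, fun z hz => ?_⟩
        obtain ⟨i, hi⟩ := (Submonoid.mem_powers_iff _ _).mp (hgen ⟨z, hz⟩)
        have hi' : (gen : G) ^ i = z := congrArg Subtype.val hi
        rw [← hi', ← conj_pow, ← hk', ← pow_mul, ← pow_mul, mul_comm]
      obtain ⟨ka, hka⟩ := hexpo a
      obtain ⟨kb, hkb⟩ := hexpo b
      obtain ⟨ka', hka'⟩ := hexpo a⁻¹
      obtain ⟨kb', hkb'⟩ := hexpo b⁻¹
      have hba : ∀ z ∈ N, b * (a * z * a⁻¹) * b⁻¹ = a * (b * z * b⁻¹) * a⁻¹ := fun z hz => by
        rw [hkb _ (hNn.conj_mem z hz a), hka z hz, hka _ (hNn.conj_mem z hz b), hkb z hz, ← pow_mul, ← pow_mul, mul_comm]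
      have hz : a⁻¹ * b⁻¹ * n0 * (a⁻¹ * b⁻¹)⁻¹ ∈ N := hNn.conj_mem _ hn0 _
      have e1 := hba _ hz
      have e2 : a * b * a⁻¹ * b⁻¹ * n0 * (a * b * a⁻¹ * b⁻¹)⁻¹ = n0 := by
        calc a * b * a⁻¹ * b⁻¹ * n0 * (a * b * a⁻¹ * b⁻¹)⁻¹
            = a * (b * (a⁻¹ * b⁻¹ * n0 * (a⁻¹ * b⁻¹)⁻¹) * b⁻¹) * a⁻¹ := by group
          _ = b * (a * (a⁻¹ * b⁻¹ * n0 * (a⁻¹ * b⁻¹)⁻¹) * a⁻¹) * b⁻¹ := e1.symm
          _ = n0 := by group
      exact mul_inv_eq_iff_eq_mul.mp e2
    have hcomm : ∀ u v : Equiv.Perm (Fin 3), u * v = v * u := by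
      intro u v
      obtain ⟨a, ha⟩ := QuotientGroup.mk'_surjective N (e.symm u)
      obtain ⟨b, hb⟩ := QuotientGroup.mk'_surjective N (e.symm v)
      apply e.symm.injective
      rw [map_mul, map_mul, ← ha, ← hb]
      have h1 : ((a * b * a⁻¹ * b⁻¹ : G) : G ⧸ N) = 1 := (QuotientGroup.eq_one_iff _).mpr (hab a b)
      rw [QuotientGroup.mk_mul, QuotientGroup.mk_mul, QuotientGroup.mk_mul, QuotientGroup.mk_inv, QuotientGroup.mk_inv] at h1
      exact mul_inv_eq_iff_eq_mul.mp (mul_inv_eq_one.mp h1)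
    exact absurd (hcomm (Equiv.swap 0 1) (Equiv.swap 1 2)) (by decide)

end Cfsg.Agent.FGB
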