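import Mathlib
import Cfsg.Agent.Lib.FGB.FrobeniusTheorem
import Cfsg.Agent.Lib.CT.Integral

/-!
Numbers of elements of each order: congruences, and groups in which they take at most two values.
-/

set_option autoImplicit false
set_option linter.all false

namespace Cfsg.Agent.FGB.SameOrd

open Subgroup Finset

universe u

variable {G : Type u} [Group G] [Finite G]

/-- The number of elements of order `m`. -/
noncomputable def cnt (G : Type u) [Group G] (m : ℕ) : ℕ := Nat.card {g : G // orderOf g = m}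

theorem cnt_one : cnt G 1 = 1 := by
  rw [cnt, Nat.card_eq_one_iff_unique]
  exact ⟨⟨fun a b => Subtype.ext ((orderOf_eq_one_iff.1 a.2).trans (orderOf_eq_one_iff.1 b.2).symm)⟩,
    ⟨⟨1, orderOf_one⟩⟩⟩

theorem cnt_ne_zero_iff {m : ℕ} : cnt G m ≠ 0 ↔ ∃ g : G, orderOf g = m := by
  rw [cnt, Nat.card_ne_zero]
  exact ⟨fun ⟨⟨g⟩, _⟩ => ⟨g.1, g.2⟩, fun ⟨g, hg⟩ => ⟨⟨⟨g, hg⟩⟩, inferInstance⟩⟩

theorem sum_cnt {n : ℕ} (hn : n ≠ 0) :
    Nat.card {g : G // g ^ n = 1} = ∑ d ∈ n.divisors, cnt G d := by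
  classical
  haveI := Fintype.ofFinite G
  rw [Nat.card_eq_fintype_card, Fintype.card_subtype,
    Finset.card_eq_sum_card_fiberwise (f := (orderOf : G → ℕ)) (t := n.divisors) (fun g hg => by
      rw [Finset.mem_coe, Nat.mem_divisors]
      exact ⟨orderOf_dvd_of_pow_eq_one (Finset.mem_filter.1 hg).2, hn⟩)]
  refine Finset.sum_congr rfl fun d hd => ?_
  rw [cnt, Nat.card_eq_fintype_card, Fintype.card_subtype, Finset.filter_filter]
  congr 1
  refine Finset.filter_congr fun g _ => ⟨fun h => h.2, fun h => ⟨?_, h⟩⟩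
  exact orderOf_dvd_iff_pow_eq_one.1 (h.symm ▸ (Nat.mem_divisors.1 hd).1)

theorem dvd_sum_cnt {n : ℕ} (hn : n ∣ Nat.card G) : n ∣ ∑ d ∈ n.divisors, cnt G d := by
  rw [← sum_cnt (ne_zero_of_dvd_ne_zero Nat.card_pos.ne' hn)]
  exact FGB.frobenius_dvd n hn

theorem totient_dvd_cnt (d : ℕ) : d.totient ∣ cnt G d := by
  classical
  haveI := Fintype.ofFinite G
  rw [cnt, Nat.card_eq_fintype_card, Fintype.card_subtype,
    Finset.card_eq_sum_card_image (fun g : G => zpowers g)]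
  refine Finset.dvd_sum fun C hC => ?_
  obtain ⟨x, hx, rfl⟩ := Finset.mem_image.1 hC
  have hxd : orderOf x = d := (Finset.mem_filter.1 hx).2
  rw [Finset.filter_filter,
    ← IsCyclic.card_orderOf_eq_totient (α := zpowers x) (d := d) (by
      rw [← Nat.card_eq_fintype_card, Nat.card_zpowers, hxd]),
    ← Finset.card_map ⟨Subtype.val, Subtype.val_injective⟩]
  refine dvd_of_eq (congrArg Finset.card ?_)
  ext g
  simp only [Finset.mem_map, Finset.mem_filter, Finset.mem_univ, true_and,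
    Function.Embedding.coeFn_mk]
  constructor
  · rintro ⟨y, hy, rfl⟩
    have ho : orderOf (y : G) = d := (Subgroup.orderOf_coe y).trans hy
    exact ⟨ho, Subgroup.eq_of_le_of_card_ge (zpowers_le.2 y.2)
      (by rw [Nat.card_zpowers, Nat.card_zpowers, ho, hxd])⟩
  · rintro ⟨ho, hz⟩
    exact ⟨⟨g, hz ▸ mem_zpowers g⟩, by rw [← Subgroup.orderOf_coe]; exact ho, rfl⟩

theorem dvd_cnt_of_cnt_mul_eq_zero {d r : ℕ} [hr : Fact r.Prime] (hrG : r ∣ Nat.card G)
    (hd : ¬ r ∣ d) (h : cnt G (d * r) = 0) : r ∣ cnt G d := by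
  classical
  obtain ⟨y, hy⟩ := exists_prime_orderOf_dvd_card' r hrG
  letI : MulAction (zpowers y) {g : G // orderOf g = d} :=
    { smul := fun c g => ⟨(c : G) * g.1 * (c : G)⁻¹,
        ((MulAut.conj (c : G)).orderOf_eq g.1).trans g.2⟩
      one_smul := fun g => Subtype.ext (show ((1 : zpowers y) : G) * g.1 * ((1 : zpowers y) : G)⁻¹ = g.1 by
        rw [OneMemClass.coe_one]; group)
      mul_smul := fun a b g => Subtype.ext (show ((a * b : zpowers y) : G) * g.1 * ((a * b : zpowers y) : G)⁻¹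
          = (a : G) * ((b : G) * g.1 * (b : G)⁻¹) * (a : G)⁻¹ by
        rw [Subgroup.coe_mul]; group) }
  have hp : IsPGroup r (zpowers y) :=
    IsPGroup.of_card (n := 1) (by rw [Nat.card_zpowers, hy, pow_one])
  have hfix : Nat.card (MulAction.fixedPoints (zpowers y) {g : G // orderOf g = d}) = 0 := by
    rw [Nat.card_eq_zero]
    left
    refine ⟨fun g => ?_⟩
    have hg := g.2 ⟨y, mem_zpowers y⟩
    have h1 : y * (g.1 : G) * y⁻¹ = g.1 := congrArg Subtype.val hg
    have hc : Commute (g.1 : G) y := (mul_inv_eq_iff_eq_mul.1 h1).symm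
    refine cnt_ne_zero_iff.2 ⟨(g.1 : G) * y, ?_⟩ h
    rw [hc.orderOf_mul_eq_mul_orderOf_of_coprime, g.1.2, hy]
    rw [g.1.2, hy]
    exact ((hr.out.coprime_iff_not_dvd).2 hd).symm
  have := hp.card_modEq_card_fixedPoints {g : G // orderOf g = d}
  rw [hfix] at this
  exact Nat.modEq_zero_iff_dvd.1 this

theorem sum_divisors_mul {n r : ℕ} (hr : r.Prime) (hnr : ¬ r ∣ n) (f : ℕ → ℕ) :
    ∑ d ∈ (n * r).divisors, f d = ∑ d ∈ n.divisors, f d + ∑ d ∈ n.divisors, f (d * r) := by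
  classical
  rw [← Finset.sum_image (f := f) (g := fun d => d * r) fun a _ b _ h =>
    Nat.eq_of_mul_eq_mul_right hr.pos h, ← Finset.sum_union]
  · refine Finset.sum_congr ?_ fun _ _ => rfl
    have hn0 : n ≠ 0 := fun h => hnr (h ▸ dvd_zero r)
    ext d
    simp only [Finset.mem_union, Finset.mem_image, Nat.mem_divisors]
    constructor
    · rintro ⟨hd, -⟩
      by_cases hrd : r ∣ d
      · obtain ⟨c, rfl⟩ := hrd
        refine Or.inr ⟨c, ⟨?_, hn0⟩, mul_comm c r⟩
        rw [mul_comm n] at hd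
        exact (Nat.mul_dvd_mul_iff_left hr.pos).1 hd
      · exact Or.inl ⟨((hr.coprime_iff_not_dvd.2 hrd).symm).dvd_of_dvd_mul_right hd, hn0⟩
    · rintro (⟨hd, -⟩ | ⟨c, ⟨hc, -⟩, rfl⟩)
      · exact ⟨hd.mul_right r, Nat.mul_ne_zero hn0 hr.ne_zero⟩
      · exact ⟨Nat.mul_dvd_mul_right hc r, Nat.mul_ne_zero hn0 hr.ne_zero⟩
  · rw [Finset.disjoint_left]
    intro d hd hd'
    obtain ⟨c, -, rfl⟩ := Finset.mem_image.1 hd'
    exact hnr ((dvd_mul_left r c).trans (Nat.mem_divisors.1 hd).1)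

theorem cast_sum_eq_zero {n r : ℕ} (hrn : r ∣ n) (hn : n ∣ Nat.card G) :
    ((∑ d ∈ n.divisors, cnt G d : ℕ) : ZMod r) = 0 :=
  (ZMod.natCast_eq_zero_iff _ _).2 (hrn.trans (dvd_sum_cnt hn))

theorem mul_dvd_card {d r : ℕ} (hr : r.Prime) (hd : ¬ r ∣ d) (hdG : d ∣ Nat.card G)
    (hrG : r ∣ Nat.card G) : d * r ∣ Nat.card G :=
  ((hr.coprime_iff_not_dvd.2 hd).symm).mul_dvd_of_dvd_of_dvd hdG hrG

theorem cast_cnt_prime {r : ℕ} (hr : r.Prime) (hrG : r ∣ Nat.card G) :
    (cnt G r : ZMod r) = -1 := by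
  have h := cast_sum_eq_zero (dvd_refl r) hrG
  rw [hr.divisors, Finset.sum_insert (by simpa using hr.ne_one.symm), Finset.sum_singleton, cnt_one,
    Nat.cast_add, Nat.cast_one] at h
  exact eq_neg_of_add_eq_zero_right h

theorem one_ne_neg_one {r : ℕ} (hr : r.Prime) (h2 : r ≠ 2) : (1 : ZMod r) ≠ -1 := by
  haveI := Fact.mk (show 2 < r by have := hr.two_le; omega)
  exact (ZMod.neg_one_ne_one).symm

theorem cnt_mul_ne_zero {d r : ℕ} [Fact r.Prime] (hrG : r ∣ Nat.card G) (hd : ¬ r ∣ d)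
    (h : (cnt G d : ZMod r) ≠ 0) : cnt G (d * r) ≠ 0 := fun h0 =>
  h ((ZMod.natCast_eq_zero_iff _ _).2 (dvd_cnt_of_cnt_mul_eq_zero hrG hd h0))

variable {a b : ℕ}

/-- Two primes with the same number of elements. -/
theorem pair_same (hv : ∀ d, 1 < d → Odd d → cnt G d = 0 ∨ cnt G d = a ∨ cnt G d = b)
    {r q : ℕ} (hr : r.Prime) (hq : q.Prime) (hr2 : r ≠ 2) (hq2 : q ≠ 2) (hrq : r ≠ q)
    (hrG : r ∣ Nat.card G) (hqG : q ∣ Nat.card G) (hra : cnt G r = a) (hqa : cnt G q = a) :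
    cnt G (r * q) = b ∧ (b : ZMod r) = 1 := by
  haveI := Fact.mk hr
  haveI := Fact.mk hq
  have hr1 := cast_cnt_prime hr hrG
  have hq1 := cast_cnt_prime hq hqG
  rw [hra] at hr1
  rw [hqa] at hq1
  have hndvd : ¬ q ∣ r := fun h => hrq ((Nat.prime_dvd_prime_iff_eq hq hr).1 h).symm
  have h := cast_sum_eq_zero (dvd_mul_right r q) (mul_dvd_card hq hndvd hrG hqG)
  rw [sum_divisors_mul hq hndvd, hr.divisors] at h
  simp only [Finset.sum_insert (show (1 : ℕ) ∉ ({r} : Finset ℕ) by simpa using hr.ne_one.symm),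
    Finset.sum_singleton, cnt_one, one_mul, Nat.cast_add, Nat.cast_one, hra, hqa, hr1] at h
  have hs : (cnt G (r * q) : ZMod r) = 1 := by linear_combination h
  have hodd : Odd (r * q) := (hr.odd_of_ne_two hr2).mul (hq.odd_of_ne_two hq2)
  rcases hv (r * q) (one_lt_mul'' hr.one_lt hq.one_lt) hodd with h0 | h0 | h0
  · rw [h0, Nat.cast_zero] at hs; exact absurd hs zero_ne_one
  · rw [h0, hr1] at hs; exact absurd hs.symm (one_ne_neg_one hr hr2)
  · exact ⟨h0, by rw [← h0]; exact hs⟩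

/-- No prime of the other class beside two primes of the same class. -/
theorem not_third (hv : ∀ d, 1 < d → Odd d → cnt G d = 0 ∨ cnt G d = a ∨ cnt G d = b)
    {r q u : ℕ} (hr : r.Prime) (hq : q.Prime) (hu : u.Prime) (hr2 : r ≠ 2) (hq2 : q ≠ 2)
    (hu2 : u ≠ 2) (hrq : r ≠ q) (hru : r ≠ u) (hqu : q ≠ u) (hrG : r ∣ Nat.card G)
    (hqG : q ∣ Nat.card G) (huG : u ∣ Nat.card G) (hra : cnt G r = a) (hqa : cnt G q = a)
    (hub : cnt G u = b) : False := by
  haveI := Fact.mk hr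
  haveI := Fact.mk hq
  haveI := Fact.mk hu
  obtain ⟨hrqb, hbr⟩ := pair_same hv hr hq hr2 hq2 hrq hrG hqG hra hqa
  obtain ⟨-, hbq⟩ := pair_same hv hq hr hq2 hr2 hrq.symm hqG hrG hqa hra
  have hu1 := cast_cnt_prime hu huG
  rw [hub] at hu1
  -- the value at `x * u` for `x` of order `r` or `q`
  have key : ∀ {r : ℕ}, r.Prime → r ≠ 2 → r ≠ u → r ∣ Nat.card G → cnt G r = a →
      (b : ZMod r) = 1 → cnt G (r * u) = a ∧ (a : ZMod u) = 0 := by
    intro r hr hr2 hru hrG hra hbr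
    haveI := Fact.mk hr
    have hr1 := cast_cnt_prime hr hrG
    rw [hra] at hr1
    have hnd : ¬ u ∣ r := fun h => hru ((Nat.prime_dvd_prime_iff_eq hu hr).1 h).symm
    have hd := mul_dvd_card hu hnd hrG huG
    have h := cast_sum_eq_zero (r := r) (dvd_mul_right r u) hd
    have h' := cast_sum_eq_zero (r := u) (dvd_mul_left u r) hd
    rw [sum_divisors_mul hu hnd, hr.divisors] at h h'
    simp only [Finset.sum_insert (show (1 : ℕ) ∉ ({r} : Finset ℕ) by simpa using hr.ne_one.symm),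
      Finset.sum_singleton, cnt_one, one_mul, Nat.cast_add, Nat.cast_one, hra, hub, hr1, hbr, hu1]
      at h h'
    have hs : (cnt G (r * u) : ZMod r) = -1 := by linear_combination h
    have hodd : Odd (r * u) := (hr.odd_of_ne_two hr2).mul (hu.odd_of_ne_two hu2)
    have hval : cnt G (r * u) = a := by
      rcases hv (r * u) (one_lt_mul'' hr.one_lt hu.one_lt) hodd with h0 | h0 | h0
      · rw [h0, Nat.cast_zero] at hs
        exact absurd (by linear_combination hs : (1 : ZMod r) = 0) one_ne_zero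
      · exact h0
      · rw [h0, hbr] at hs; exact absurd hs (one_ne_neg_one hr hr2)
    refine ⟨hval, ?_⟩
    rw [hval] at h'
    have h2 : (2 : ZMod u) * (a : ZMod u) = 0 := by linear_combination h'
    rcases mul_eq_zero.1 h2 with h3 | h3
    · exact absurd (by linear_combination h3 : (1 : ZMod u) = -1) (one_ne_neg_one hu hu2)
    · exact h3
  obtain ⟨hrua, hau⟩ := key hr hr2 hru hrG hra hbr
  obtain ⟨hqua, -⟩ := key hq hq2 hqu hqG hqa hbq
  have hnd : ¬ q ∣ r := fun h => hrq ((Nat.prime_dvd_prime_iff_eq hq hr).1 h).symm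
  have hndu : ¬ u ∣ r * q := fun h => by
    rcases (Nat.Prime.dvd_mul hu).1 h with h | h
    · exact hru ((Nat.prime_dvd_prime_iff_eq hu hr).1 h).symm
    · exact hqu ((Nat.prime_dvd_prime_iff_eq hu hq).1 h).symm
  have h := cast_sum_eq_zero (r := u) (dvd_mul_left u (r * q))
    (mul_dvd_card hu hndu (mul_dvd_card hq hnd hrG hqG) huG)
  rw [sum_divisors_mul hu hndu, sum_divisors_mul hq hnd, sum_divisors_mul hq hnd, hr.divisors] at h
  simp only [Finset.sum_insert (show (1 : ℕ) ∉ ({r} : Finset ℕ) by simpa using hr.ne_one.symm),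
    Finset.sum_singleton, cnt_one, one_mul, Nat.cast_add, Nat.cast_one, hra, hqa, hub, hrqb, hrua,
    hqua, hau, hu1] at h
  have hs : (cnt G (r * q * u) : ZMod u) = 1 := by linear_combination h
  have hodd : Odd (r * q * u) :=
    ((hr.odd_of_ne_two hr2).mul (hq.odd_of_ne_two hq2)).mul (hu.odd_of_ne_two hu2)
  rcases hv (r * q * u) (one_lt_mul'' (one_lt_mul'' hr.one_lt hq.one_lt) hu.one_lt) hodd with
    h0 | h0 | h0
  · rw [h0, Nat.cast_zero] at hs; exact zero_ne_one hs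
  · rw [h0, hau] at hs; exact zero_ne_one hs
  · rw [h0, hu1] at hs; exact one_ne_neg_one hu hu2 hs.symm

/-- In a group of odd order two primes cannot both have `a` elements when all of them do. -/
theorem not_all_same (hodd : Odd (Nat.card G))
    (hv : ∀ d, 1 < d → Odd d → cnt G d = 0 ∨ cnt G d = a ∨ cnt G d = b)
    (hall : ∀ r, r.Prime → r ∣ Nat.card G → cnt G r = a)
    {r q : ℕ} (hr : r.Prime) (hq : q.Prime) (hrq : r ≠ q) (hrG : r ∣ Nat.card G)
    (hqG : q ∣ Nat.card G) : False := by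
  classical
  have hne2 : ∀ x, x ∣ Nat.card G → x ≠ 2 := fun x hx h => by
    subst h; exact Nat.not_even_iff_odd.2 hodd (even_iff_two_dvd.2 hx)
  have hexp : ∀ p, p.Prime → p ∣ Nat.card G → ∀ e, 2 ≤ e → cnt G (p ^ e) = 0 := by
    intro p hp hpG e he
    haveI := Fact.mk hp
    by_contra hne
    obtain ⟨x, hx⟩ := cnt_ne_zero_iff.1 hne
    have h2 : cnt G (p ^ 2) ≠ 0 := cnt_ne_zero_iff.2 ⟨x ^ p ^ (e - 2), by
      rw [orderOf_pow' _ (pow_ne_zero _ hp.ne_zero), hx, Nat.gcd_eq_right (pow_dvd_pow p (by omega)),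
        Nat.pow_div (by omega) hp.pos, show e - (e - 2) = 2 by omega]⟩
    have hdvd : (cnt G (p ^ 2) : ZMod p) = 0 := by
      rw [ZMod.natCast_eq_zero_iff]
      refine dvd_trans ?_ (totient_dvd_cnt (p ^ 2))
      rw [Nat.totient_prime_pow hp (by omega)]
      exact dvd_mul_of_dvd_left (by simp) _
    obtain ⟨p', hp', hpp', hp'G⟩ : ∃ p', p'.Prime ∧ p ≠ p' ∧ p' ∣ Nat.card G := by
      rcases eq_or_ne p r with rfl | h
      · exact ⟨q, hq, hrq, hqG⟩
      · exact ⟨r, hr, h, hrG⟩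
    obtain ⟨-, hb⟩ := pair_same hv hp hp' (hne2 p hpG) (hne2 p' hp'G) hpp' hpG hp'G (hall p hp hpG)
      (hall p' hp' hp'G)
    have ha := cast_cnt_prime hp hpG
    rw [hall p hp hpG] at ha
    rcases hv (p ^ 2) (Nat.one_lt_pow two_ne_zero hp.one_lt) ((hp.odd_of_ne_two (hne2 p hpG)).pow) with
      h0 | h0 | h0
    · exact h2 h0
    · rw [h0, ha] at hdvd
      exact one_ne_zero (by linear_combination -hdvd : (1 : ZMod p) = 0)
    · rw [h0, hb] at hdvd; exact one_ne_zero hdvd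
  have hdvd : Nat.card G ∣ a + 1 := by
    rw [← Nat.factorization_le_iff_dvd Nat.card_pos.ne' (Nat.succ_ne_zero a)]
    intro p
    rcases eq_or_ne ((Nat.card G).factorization p) 0 with h0 | h0
    · rw [h0]; exact Nat.zero_le _
    have hp : p.Prime := Nat.prime_of_mem_primeFactors (by
      rw [← Nat.support_factorization]; exact Finsupp.mem_support_iff.2 h0)
    have hpG : p ∣ Nat.card G := Nat.dvd_of_factorization_pos h0
    refine (hp.pow_dvd_iff_le_factorization (Nat.succ_ne_zero a)).1 ?_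
    have h := dvd_sum_cnt (G := G) (Nat.ordProj_dvd (Nat.card G) p)
    rwa [Finset.sum_eq_add_of_mem 1 p (Nat.one_mem_divisors.2 (pow_ne_zero _ hp.ne_zero))
      (Nat.mem_divisors.2 ⟨dvd_pow_self p h0, pow_ne_zero _ hp.ne_zero⟩) hp.ne_one.symm ?_,
      cnt_one, hall p hp hpG, add_comm 1 a] at h
    intro c hc hne
    obtain ⟨i, -, rfl⟩ := (Nat.dvd_prime_pow hp).1 (Nat.mem_divisors.1 hc).1
    refine hexp p hp hpG i ?_
    rcases i with _ | _ | i
    · exact absurd (pow_zero p) hne.1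
    · exact absurd (pow_one p) hne.2
    · omega
  have hrqG : r * q ∣ Nat.card G :=
    mul_dvd_card hq (fun h => hrq ((Nat.prime_dvd_prime_iff_eq hq hr).1 h).symm) hrG hqG
  have hsum : 1 + 2 * a ≤ Nat.card G := by
    have h1 : Nat.card {g : G // g ^ (r * q) = 1} ≤ Nat.card G :=
      Nat.card_le_card_of_injective _ Subtype.val_injective
    rw [sum_cnt (Nat.mul_ne_zero hr.ne_zero hq.ne_zero),
      sum_divisors_mul hq (fun h => hrq ((Nat.prime_dvd_prime_iff_eq hq hr).1 h).symm),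
      hr.divisors] at h1
    simp only [Finset.sum_insert (show (1 : ℕ) ∉ ({r} : Finset ℕ) by simpa using hr.ne_one.symm),
      Finset.sum_singleton, cnt_one, one_mul, hall r hr hrG, hall q hq hqG] at h1
    omega
  have ha0 : a ≠ 0 := fun h => by
    obtain ⟨x, hx⟩ := exists_prime_orderOf_dvd_card' (G := G) (hp := ⟨hr⟩) r hrG
    exact cnt_ne_zero_iff.2 ⟨x, hx⟩ ((hall r hr hrG).trans h)
  have := Nat.le_of_dvd (by omega) hdvd
  omega

/-- A group of odd order with at most two numbers of elements of a given order has at most two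
prime divisors. -/
theorem card_primeFactors_le (hodd : Odd (Nat.card G))
    (hv : ∀ d, 1 < d → Odd d → cnt G d = 0 ∨ cnt G d = a ∨ cnt G d = b) :
    (Nat.card G).primeFactors.card ≤ 2 := by
  by_contra hcon
  obtain ⟨r, q, u, hr, hq, hu, hrq, hru, hqu⟩ := Finset.two_lt_card_iff.1 (not_le.1 hcon)
  rw [Nat.mem_primeFactors] at hr hq hu
  have hne2 : ∀ x, x ∣ Nat.card G → x ≠ 2 := fun x hx h => by
    subst h; exact Nat.not_even_iff_odd.2 hodd (even_iff_two_dvd.2 hx)
  have hval : ∀ p, p.Prime → p ∣ Nat.card G → cnt G p = a ∨ cnt G p = b := fun p hp hpG => by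
    refine (hv p hp.one_lt (hp.odd_of_ne_two (hne2 p hpG))).resolve_left (cnt_ne_zero_iff.2 ?_)
    exact exists_prime_orderOf_dvd_card' (hp := ⟨hp⟩) p hpG
  have hv' : ∀ d, 1 < d → Odd d → cnt G d = 0 ∨ cnt G d = b ∨ cnt G d = a := fun d h1 h2 =>
    (hv d h1 h2).imp_right Or.symm
  -- two primes in the same class
  have main : ∀ {a b : ℕ}, (∀ d, 1 < d → Odd d → cnt G d = 0 ∨ cnt G d = a ∨ cnt G d = b) →
      (∀ p, p.Prime → p ∣ Nat.card G → cnt G p = a ∨ cnt G p = b) →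
      ∀ {r q : ℕ}, r.Prime → q.Prime → r ≠ q → r ∣ Nat.card G → q ∣ Nat.card G →
        cnt G r = a → cnt G q = a → False := by
    intro a b hv hval r q hr hq hrq hrG hqG hra hqa
    refine not_all_same hodd hv (fun p hp hpG => ?_) hr hq hrq hrG hqG
    rcases hval p hp hpG with h | h
    · exact h
    by_contra hne
    have hrp : r ≠ p := fun he => hne (he ▸ hra)
    have hqp : q ≠ p := fun he => hne (he ▸ hqa)
    exact not_third hv hr hq hp (hne2 r hrG) (hne2 q hqG) (hne2 p hpG) hrq hrp hqp hrG hqG hpG hra hqa h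
  have hval' : ∀ p, p.Prime → p ∣ Nat.card G → cnt G p = b ∨ cnt G p = a := fun p hp h =>
    (hval p hp h).symm
  rcases hval r hr.1 hr.2.1 with h1 | h1 <;> rcases hval q hq.1 hq.2.1 with h2 | h2 <;>
    rcases hval u hu.1 hu.2.1 with h3 | h3
  · exact main hv hval hr.1 hq.1 hrq hr.2.1 hq.2.1 h1 h2
  · exact main hv hval hr.1 hq.1 hrq hr.2.1 hq.2.1 h1 h2
  · exact main hv hval hr.1 hu.1 hru hr.2.1 hu.2.1 h1 h3
  · exact main hv' hval' hq.1 hu.1 hqu hq.2.1 hu.2.1 h2 h3
  · exact main hv hval hq.1 hu.1 hqu hq.2.1 hu.2.1 h2 h3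
  · exact main hv' hval' hr.1 hu.1 hru hr.2.1 hu.2.1 h1 h3
  · exact main hv' hval' hr.1 hq.1 hrq hr.2.1 hq.2.1 h1 h2
  · exact main hv' hval' hr.1 hq.1 hrq hr.2.1 hq.2.1 h1 h2

theorem isSolvable_of_two_primeFactors (h : (Nat.card G).primeFactors.card ≤ 2) :
    Group.IsSolvable G := by
  obtain ⟨p, q, hp, hq, hsub⟩ : ∃ p q : ℕ, p.Prime ∧ q.Prime ∧ p ≠ q ∧
      (Nat.card G).primeFactors ⊆ {p, q} := by
    rcases Nat.lt_or_ge (Nat.card G).primeFactors.card 2 with h1 | h1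
    · rcases Nat.lt_or_ge (Nat.card G).primeFactors.card 1 with h0 | h0
      · rw [Finset.card_eq_zero.1 (by omega : (Nat.card G).primeFactors.card = 0)]
        exact ⟨2, 3, Nat.prime_two, Nat.prime_three, by norm_num, Finset.empty_subset _⟩
      · obtain ⟨p, hp⟩ := Finset.card_eq_one.1 (by omega : (Nat.card G).primeFactors.card = 1)
        have hpp := Nat.prime_of_mem_primeFactors (hp ▸ Finset.mem_singleton_self p)
        rw [hp]
        rcases eq_or_ne p 2 with rfl | hne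
        · exact ⟨2, 3, hpp, Nat.prime_three, by norm_num, by simp⟩
        · exact ⟨p, 2, hpp, Nat.prime_two, hne, by simp⟩
    · obtain ⟨p, q, hne, hpq⟩ := Finset.card_eq_two.1 (le_antisymm h h1)
      exact ⟨p, q, Nat.prime_of_mem_primeFactors (n := Nat.card G) (by rw [hpq]; simp),
        Nat.prime_of_mem_primeFactors (n := Nat.card G) (by rw [hpq]; simp), hne, hpq.le⟩
  obtain ⟨hpq, hsub⟩ := hsub
  refine CT.isSolvable_of_card_two_primes hp hq (Nat.card G) G
    ((Nat.card G).factorization p) ((Nat.card G).factorization q) rfl ?_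
  conv_lhs => rw [← Nat.prod_factorization_pow_eq_self (Nat.card_pos (α := G)).ne']
  rw [Finsupp.prod_of_support_subset _ (Nat.support_factorization _ ▸ hsub) _ (fun _ _ => pow_zero _),
    Finset.prod_pair hpq]

theorem cnt_two_mul (ht : cnt G 2 = 1) {d : ℕ} (hd : Odd d) : cnt G (2 * d) = cnt G d := by
  obtain ⟨z, hz⟩ := cnt_ne_zero_iff.1 (by rw [ht]; exact one_ne_zero : cnt G 2 ≠ 0)
  have huniq : ∀ y : G, orderOf y = 2 → y = z := fun y hy => by
    rw [cnt, Nat.card_eq_one_iff_unique] at ht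
    exact congrArg Subtype.val (ht.1.elim ⟨y, hy⟩ ⟨z, hz⟩)
  have hcen : ∀ g : G, Commute g z := fun g =>
    mul_inv_eq_iff_eq_mul.1 (huniq (g * z * g⁻¹) (((MulAut.conj g).orderOf_eq z).trans hz))
  have hz2 : z * z = 1 := by rw [← pow_two, ← hz, pow_orderOf_eq_one]
  have hco : Nat.Coprime d 2 := (Nat.coprime_two_right).2 hd
  have hinv : ∀ g : {g : G // orderOf g = 2 * d}, orderOf ((g : G) * z) = d := by
    intro g
    have h1 : (g : G) ^ d = z := huniq _ (by
      rw [orderOf_pow' _ hd.pos.ne', g.2, Nat.gcd_eq_right (dvd_mul_left d 2),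
        Nat.mul_div_cancel _ hd.pos])
    have h2 : ((g : G) * z) ^ d = 1 := by
      obtain ⟨c, rfl⟩ := hd
      rw [(hcen _).mul_pow, h1, pow_succ, pow_mul, pow_two, hz2, one_pow, one_mul, hz2]
    refine Nat.dvd_antisymm (orderOf_dvd_of_pow_eq_one h2) ?_
    have h4 : ((g : G) * z) ^ (orderOf ((g : G) * z) * 2) = 1 := by
      rw [pow_mul, pow_orderOf_eq_one, one_pow]
    rw [(hcen _).mul_pow, pow_mul' z, pow_two z, hz2, one_pow, mul_one] at h4
    have h6 : d * 2 ∣ orderOf ((g : G) * z) * 2 :=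
      (dvd_of_eq ((mul_comm d 2).trans g.2.symm)).trans (orderOf_dvd_of_pow_eq_one h4)
    exact (Nat.mul_dvd_mul_iff_right two_pos).1 h6
  have hfwd : ∀ g : {g : G // orderOf g = d}, orderOf ((g : G) * z) = 2 * d := fun g => by
    rw [(hcen _).orderOf_mul_eq_mul_orderOf_of_coprime (by rw [g.2, hz]; exact hco), g.2, hz,
      mul_comm]
  exact (Nat.card_congr
    { toFun := fun g => ⟨(g : G) * z, hfwd g⟩
      invFun := fun g => ⟨(g : G) * z, hinv g⟩
      left_inv := fun g => Subtype.ext (by show (g : G) * z * z = g; rw [mul_assoc, hz2, mul_one])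
      right_inv := fun g => Subtype.ext (by show (g : G) * z * z = g; rw [mul_assoc, hz2, mul_one]) }).symm

end Cfsg.Agent.FGB.SameOrd
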