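import Cfsg.Agent.Lib.Components.FFThompson
import Cfsg.Agent.Lib.Basics.CoprimeGen

/-!
# A `p`-group acting with commutators in a small central subgroup
-/

set_option autoImplicit false
set_option linter.unusedSectionVars false
set_option linter.style.haveILetI false

namespace Cfsg.Agent.FGB.SchmidtSyl

open scoped commutatorElement

universe u

variable {T : Type u} [Group T] [Finite T] {A : Type*} [CommGroup A] [Finite A] {p : ℕ}
  [hp : Fact p.Prime]

/-- A coprime automorphism fixing a series of length two is trivial. -/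
theorem eq_one_of_fix (hA : IsPGroup p A) (σ : MulAut A) {N : ℕ} (hN : σ ^ N = 1)
    (hNp : N.Coprime p) (h : ∀ a, σ (a⁻¹ * σ a) = a⁻¹ * σ a) (a : A) : σ a = a := by
  set e := a⁻¹ * σ a with he
  have hfix : σ e = e := h a
  have hit : ∀ i : ℕ, (σ ^ i) a = a * e ^ i := by
    intro i
    induction i with
    | zero => simp
    | succ i ih =>
      rw [pow_succ', MulAut.mul_apply, ih, map_mul, map_pow, hfix, pow_succ' e, ← mul_assoc]
      congr 1
      exact (mul_inv_cancel_left a (σ a)).symm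
  have h1 := hit N
  rw [hN, MulAut.one_apply] at h1
  obtain ⟨k, hk⟩ := hA e
  have h2 : e = 1 := by
    rw [← orderOf_eq_one_iff]
    exact Nat.eq_one_of_dvd_coprimes (hNp.pow_right k)
      (orderOf_dvd_of_pow_eq_one (mul_eq_left.1 h1.symm)) (orderOf_dvd_of_pow_eq_one hk)
  rw [← mul_inv_cancel_left a (σ a), ← he, h2, mul_one]

/-- The structure of the action. -/
theorem action_main (φ : T →* MulAut A) (hφ : Function.Injective φ) (hA : IsPGroup p A)
    (hsol : Cfsg.IsPSolvable p T) (hO : Cfsg.pCore p T = ⊥) (P : Sylow p T)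
    (hPne : (P : Subgroup T) ≠ ⊥) (Z : Subgroup A)
    (h1 : ∀ x ∈ (P : Subgroup T), ∀ a, a⁻¹ * φ x a ∈ Z)
    (h2 : ∀ x ∈ (P : Subgroup T), ∀ z ∈ Z, φ x z = z) (h3 : ∀ z ∈ Z, z ^ p = 1)
    (h4 : ∀ a, a ∉ Z → ∀ z ∈ Z, ∃ x ∈ (P : Subgroup T), a⁻¹ * φ x a = z) :
    Nat.card (P : Subgroup T) = p ∧ Nat.card Z = p ∧ Z.index = p ∧
      ∃ k : T, ∃ z ∈ Z, φ k z ≠ z := by
  classical
  set K := Cfsg.pPrimeCore p T with hK
  haveI : K.Normal := Basics.pPrimeCore_normal p
  have hKc := Basics.pPrimeCore_coprime (G := T) p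
  have hself := Components.centralizer_pPrimeCore_le hsol hO
  -- the acting group is elementary abelian
  let d : T → A → A := fun x a => a⁻¹ * φ x a
  have hdapp : ∀ (x : T) (a : A), φ x a = a * d x a := fun x a => (mul_inv_cancel_left a _).symm
  have hdmul : ∀ (x : T) (a b : A), d x (a * b) = d x a * d x b := fun x a b => by
    show (a * b)⁻¹ * φ x (a * b) = _
    rw [map_mul, mul_inv]
    exact mul_mul_mul_comm _ _ _ _
  have hdP : ∀ x ∈ (P : Subgroup T), ∀ y ∈ (P : Subgroup T), ∀ a, d (x * y) a = d x a * d y a := by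
    intro x hx y hy a
    show a⁻¹ * φ (x * y) a = _
    rw [map_mul, MulAut.mul_apply, hdapp y a, map_mul, h2 x hx (d y a) (h1 y hy a), ← mul_assoc]
  have hcomm : ∀ x ∈ (P : Subgroup T), ∀ y ∈ (P : Subgroup T), x * y = y * x := by
    intro x hx y hy
    refine hφ (MulEquiv.ext fun a => ?_)
    rw [hdapp, hdapp, hdP x hx y hy, hdP y hy x hx, mul_comm (d x a)]
  have hexp : ∀ x ∈ (P : Subgroup T), x ^ p = 1 := by
    intro x hx
    refine hφ (MulEquiv.ext fun a => ?_)
    have hit : ∀ i : ℕ, d (x ^ i) a = d x a ^ i := by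
      intro i
      induction i with
      | zero => show a⁻¹ * φ (x ^ 0) a = _; simp
      | succ i ih => rw [pow_succ, hdP _ (pow_mem hx i) x hx, ih, pow_succ]
    rw [hdapp, hit, h3 _ (h1 x hx a), mul_one, map_one, MulAut.one_apply]
  -- no element of the acting group centralizes the core
  have hfaith : ∀ x ∈ (P : Subgroup T), x ≠ 1 → ∃ k ∈ K, k * x ≠ x * k := by
    intro x hx hx1
    by_contra h
    push Not at h
    have hxK : x ∈ K := hself (Subgroup.mem_centralizer_iff.2 h)
    obtain ⟨i, hi⟩ := P.isPGroup' ⟨x, hx⟩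
    refine hx1 (orderOf_eq_one_iff.1 ?_)
    exact Nat.eq_one_of_dvd_coprimes (hKc.pow_right i)
      ((Subgroup.orderOf_mk x hxK).symm ▸ orderOf_dvd_natCard _)
      (orderOf_dvd_of_pow_eq_one (congrArg Subtype.val hi))
  have hcop : (Nat.card (P : Subgroup T)).Coprime (Nat.card K) := by
    obtain ⟨i, hi⟩ := IsPGroup.iff_card.1 P.isPGroup'
    rw [hi]
    exact hKc.symm.pow_left i
  have hPn : (P : Subgroup T) ≤ Subgroup.normalizer (K : Set T) := Subgroup.le_normalizer_of_normal
  haveI : IsMulCommutative (P : Subgroup T) :=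
    ⟨⟨fun a b => Subtype.ext (hcomm a a.2 b b.2)⟩⟩
  have hcyc : IsCyclic (P : Subgroup T) := by
    by_contra hnc
    -- some element has a centralizer in the core not centralized by all
    obtain ⟨b, hb, hb1, k₀, hk₀, hk₀b, x₀, hx₀, hkx⟩ : ∃ b ∈ (P : Subgroup T), b ≠ 1 ∧
        ∃ k ∈ K, k * b = b * k ∧ ∃ x ∈ (P : Subgroup T), k * x ≠ x * k := by
      by_contra hall
      push Not at hall
      obtain ⟨x, hx, hx1⟩ := (Subgroup.bot_or_exists_ne_one (P : Subgroup T)).resolve_left hPne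
      obtain ⟨k, hk, hkx⟩ := hfaith x hx hx1
      have hle : K ≤ Subgroup.centralizer {x} := by
        rw [← Basics.iSup_inf_centralizer_eq (P : Subgroup T) K hnc hPn hcop]
        refine iSup₂_le fun a ha k hk => ?_
        rw [Subgroup.mem_centralizer_singleton_iff]
        exact hall a ha.1 ha.2 k hk.1 (Subgroup.mem_centralizer_singleton_iff.1 hk.2) x hx
      exact hkx (Subgroup.mem_centralizer_singleton_iff.1 (hle hk))
    set Kb := K ⊓ Subgroup.centralizer {b} with hKb
    set C := ⁅Kb, (P : Subgroup T)⁆ with hC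
    have hPKb : (P : Subgroup T) ≤ Subgroup.normalizer (Kb : Set T) := by
      intro x hx
      rw [Subgroup.mem_normalizer_iff]
      have key : ∀ y ∈ (P : Subgroup T), ∀ k ∈ Kb, y * k * y⁻¹ ∈ Kb := fun y hy k hk =>
        ⟨(inferInstance : K.Normal).conj_mem k hk.1 y, Subgroup.mem_centralizer_singleton_iff.2 <| by
          have e1 : Commute k b := Subgroup.mem_centralizer_singleton_iff.1 hk.2
          have e2 : Commute y b := hcomm y hy b hb
          exact ((e2.mul_left e1).mul_left e2.inv_left).eq⟩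
      intro k
      refine ⟨key x hx k, fun h => ?_⟩
      have := key x⁻¹ (inv_mem hx) _ h
      simpa [mul_assoc] using this
    have hCKb : C ≤ Kb := Subgroup.le_normalizer_iff_commutator_le_left.1 hPKb
    -- the commutators of `b` are fixed by `C`
    have hCfix : ∀ c ∈ C, ∀ a, φ c (d b a) = d b a := by
      let S : Subgroup T :=
        { carrier := {c | ∀ a, φ c (d b a) = d b a}
          one_mem' := fun a => by simp
          mul_mem' := fun {u v} hu hv a => by rw [map_mul φ, MulAut.mul_apply, hv, hu]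
          inv_mem' := fun {u} hu a => by
            conv_lhs => rw [← hu a]
            rw [← MulAut.mul_apply, ← map_mul, inv_mul_cancel, map_one, MulAut.one_apply] }
      have hCS : C ≤ S := by
        rw [hC, Subgroup.commutator_le]
        intro k hk x hx a
        have hkb : ∀ k ∈ Kb, ∀ a, φ k (d b a) = d b (φ k a) := by
          intro k hk a
          show φ k (a⁻¹ * φ b a) = (φ k a)⁻¹ * φ b (φ k a)
          rw [map_mul, map_inv, ← MulAut.mul_apply, ← MulAut.mul_apply, ← map_mul, ← map_mul,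
            Subgroup.mem_centralizer_singleton_iff.1 hk.2]
        rw [commutatorElement_def, map_mul φ, map_mul φ, map_mul φ, MulAut.mul_apply, MulAut.mul_apply,
          MulAut.mul_apply, h2 x⁻¹ (inv_mem hx) _ (h1 b hb a), hkb _ (inv_mem hk),
          h2 x hx _ (h1 b hb _), hkb k hk, ← MulAut.mul_apply, ← map_mul, mul_inv_cancel, map_one,
          MulAut.one_apply]
      exact fun c hc => hCS hc
    have hCp : (Nat.card C).Coprime p := hKc.coprime_dvd_left (Subgroup.card_dvd_of_le (hCKb.trans inf_le_left))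
    have hCpow : ∀ c ∈ C, φ c ^ Nat.card C = 1 := fun c hc => by
      rw [← map_pow, show c ^ Nat.card C = 1 from congrArg Subtype.val (pow_card_eq_one' (x := (⟨c, hc⟩ : C))),
        map_one]
    have hdc : ∀ t : T, t * b = b * t → ∀ a, φ t (d b a) = d b (φ t a) := by
      intro t ht a
      show φ t (a⁻¹ * φ b a) = (φ t a)⁻¹ * φ b (φ t a)
      rw [map_mul, map_inv, ← MulAut.mul_apply, ← MulAut.mul_apply, ← map_mul, ← map_mul, ht]
    -- a commutator in the fixed points of `b`
    set c := k₀ * x₀ * k₀⁻¹ * x₀⁻¹ with hcdef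
    have hcC : c ∈ C := Subgroup.commutator_mem_commutator (H₁ := Kb)
      ⟨hk₀, Subgroup.mem_centralizer_singleton_iff.2 hk₀b⟩ hx₀
    have hc1 : c ≠ 1 := fun h => hkx (commutatorElement_eq_one_iff_mul_comm.1 h)
    obtain ⟨a₀, ha₀b, ha₀c⟩ : ∃ a, d b a = 1 ∧ φ c a ≠ a := by
      by_contra hall
      push Not at hall
      refine hc1 (hφ (MulEquiv.ext fun a => ?_))
      rw [map_one, MulAut.one_apply]
      refine eq_one_of_fix hA _ (hCpow c hcC) hCp (fun a => hall _ ?_) a
      have e1 : φ c (d b a) = d b (φ c a) :=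
        hdc c (Subgroup.mem_centralizer_singleton_iff.1 (hCKb hcC).2) a
      rw [hCfix c hcC] at e1
      rw [hdmul, ← e1]
      show d b a⁻¹ * d b a = 1
      rw [← hdmul, inv_mul_cancel]
      show (1 : A)⁻¹ * φ b 1 = 1
      simp
    -- the norm
    haveI := Fintype.ofFinite C
    let f : A →* A := MonoidHom.mk' (fun a => ∏ y : C, φ y a) fun u v => by
      simp only [map_mul, Finset.prod_mul_distrib]
    have hfc : ∀ w ∈ C, ∀ a, f (φ w a) = f a := fun w hw a => by
      show ∏ y : C, φ y (φ w a) = ∏ y : C, φ y a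
      refine Eq.trans ?_ (Equiv.prod_comp (Equiv.mulRight (⟨w, hw⟩ : C)) fun y => φ y a)
      exact Finset.prod_congr rfl fun y _ => by simp
    have hfN : ∀ t : T, (∀ y ∈ C, t⁻¹ * y * t ∈ C) → ∀ a, f (φ t a) = φ t (f a) := by
      intro t ht a
      show ∏ y : C, φ y (φ t a) = φ t (∏ y : C, φ y a)
      rw [map_prod]
      let σ : C → C := fun y => ⟨t⁻¹ * y * t, ht y y.2⟩
      have hσ : Function.Bijective σ := Finite.injective_iff_bijective.1 fun y y' h => by
        simpa [σ] using h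
      refine Eq.trans ?_ (hσ.prod_comp fun y => φ t (φ y a))
      refine Finset.prod_congr rfl fun y _ => ?_
      show φ y (φ t a) = φ t (φ (t⁻¹ * y * t) a)
      rw [← MulAut.mul_apply, ← MulAut.mul_apply, ← map_mul, ← map_mul]
      congr 2
      group
    have hfix1 : ∀ a, f a = 1 → (∀ y ∈ C, φ y a = a) → a = 1 := by
      intro a ha hy
      have h : f a = a ^ Nat.card C := by
        show ∏ y : C, φ y a = _
        rw [Finset.prod_eq_pow_card (b := a) fun (y : C) _ => hy y y.2, Finset.card_univ,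
          Nat.card_eq_fintype_card]
      obtain ⟨i, hi⟩ := hA a
      rw [← orderOf_eq_one_iff]
      exact Nat.eq_one_of_dvd_coprimes (hCp.pow_right i) (orderOf_dvd_of_pow_eq_one (h.symm.trans ha))
        (orderOf_dvd_of_pow_eq_one hi)
    -- fixed points of `b` killed by the norm
    let M : Subgroup A :=
      { carrier := {a | d b a = 1 ∧ f a = 1}
        one_mem' := ⟨by show (1 : A)⁻¹ * φ b 1 = 1; simp, map_one f⟩
        mul_mem' := fun {u v} hu hv => ⟨by rw [hdmul, hu.1, hv.1, one_mul], by rw [map_mul, hu.2, hv.2, one_mul]⟩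
        inv_mem' := fun {u} hu => ⟨by
          show u⁻¹⁻¹ * φ b u⁻¹ = 1
          rw [map_inv, inv_inv, mul_inv_eq_one]
          exact (inv_mul_eq_one.1 hu.1), by rw [map_inv, hu.2, inv_one]⟩ }
    have hMinv : ∀ t : T, (∀ y ∈ C, t⁻¹ * y * t ∈ C) → t * b = b * t → ∀ m ∈ M, φ t m ∈ M := by
      intro t ht htb m hm
      refine ⟨?_, by rw [hfN t ht, hm.2, map_one]⟩
      show (φ t m)⁻¹ * φ b (φ t m) = 1
      rw [← MulAut.mul_apply, ← map_mul, ← htb, map_mul, MulAut.mul_apply, ← map_inv, ← map_mul,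
        show m⁻¹ * φ b m = 1 from hm.1, map_one]
    have hnC : ∀ t ∈ Subgroup.normalizer (C : Set T), ∀ y ∈ C, t⁻¹ * y * t ∈ C := fun t ht y hy => by
      have := ((Subgroup.mem_normalizer_iff).1 (inv_mem ht) y).1 hy
      simpa using this
    have hKbC : ∀ k ∈ Kb, k ∈ Subgroup.normalizer (C : Set T) := fun k hk =>
      Subgroup.normalizer_commutator_ge_left _ _ hk
    have hPC : ∀ x ∈ (P : Subgroup T), x ∈ Subgroup.normalizer (C : Set T) := fun x hx =>
      Subgroup.normalizer_commutator_ge_right _ _ hx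
    have hMne : ¬ ∀ m ∈ M, m ∈ Z := by
      intro hMZ
      set m := a₀⁻¹ * φ c a₀ with hm
      have hmM : m ∈ M := by
        refine ⟨?_, ?_⟩
        · have hc' := (Subgroup.mem_centralizer_singleton_iff.1 (hCKb hcC).2)
          rw [hdmul]
          have e1 : d b (φ c a₀) = φ c (d b a₀) := (hdc c hc' a₀).symm
          rw [e1, ha₀b, map_one, mul_one]
          show a₀⁻¹⁻¹ * φ b a₀⁻¹ = 1
          rw [map_inv, inv_inv, mul_inv_eq_one]
          exact inv_mul_eq_one.1 ha₀b
        · rw [map_mul, map_inv, hfc c hcC, inv_mul_cancel]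
      refine ha₀c (inv_mul_eq_one.1 (hfix1 m hmM.2 fun y hy => ?_)).symm
      have hS : C ≤ (MulAction.stabilizer (MulAut A) m).comap φ ⊓ Subgroup.normalizer (C : Set T) ⊔ ⊥ := by
        rw [sup_bot_eq]
        refine le_inf ?_ Subgroup.le_normalizer
        let S : Subgroup T :=
          { carrier := {t | t ∈ Subgroup.normalizer (C : Set T) ∧ ∀ n ∈ M, φ t n = n}
            one_mem' := ⟨one_mem _, fun n _ => by simp⟩
            mul_mem' := fun {u v} hu hv => ⟨mul_mem hu.1 hv.1, fun n hn => by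
              rw [map_mul, MulAut.mul_apply, hv.2 n hn, hu.2 n hn]⟩
            inv_mem' := fun {u} hu => ⟨inv_mem hu.1, fun n hn => by
              conv_lhs => rw [← hu.2 n hn]
              rw [← MulAut.mul_apply, ← map_mul, inv_mul_cancel, map_one, MulAut.one_apply]⟩ }
        have hCS : C ≤ S := by
          rw [hC, Subgroup.commutator_le]
          intro k hk x hx
          refine ⟨mul_mem (mul_mem (mul_mem (hKbC k hk) (hPC x hx)) (inv_mem (hKbC k hk)))
            (inv_mem (hPC x hx)), fun n hn => ?_⟩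
          have hxn : ∀ n ∈ M, φ x n = n := fun n hn => h2 x hx n (hMZ n hn)
          have hk' : φ k⁻¹ n ∈ M := hMinv k⁻¹ (hnC _ (inv_mem (hKbC k hk)))
            (Subgroup.mem_centralizer_singleton_iff.1 (inv_mem hk).2) n hn
          rw [commutatorElement_def, map_mul, map_mul, map_mul, MulAut.mul_apply, MulAut.mul_apply,
            MulAut.mul_apply, h2 x⁻¹ (inv_mem hx) n (hMZ n hn), hxn _ hk', ← MulAut.mul_apply,
            ← map_mul, mul_inv_cancel, map_one, MulAut.one_apply]
        exact fun t ht => (hCS ht).2 m hmM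
      rw [sup_bot_eq] at hS
      exact (hS hy).1
    push Not at hMne
    obtain ⟨a, haM, haZ⟩ := hMne
    refine hb1 (hφ (MulEquiv.ext fun u => ?_))
    rw [map_one, MulAut.one_apply]
    obtain ⟨x, hx, hxa⟩ := h4 a haZ (d b u) (h1 b hb u)
    have hin : d b u ∈ M := by
      rw [← hxa]
      exact M.mul_mem (M.inv_mem haM) (hMinv x (hnC x (hPC x hx)) (hcomm x hx b hb) a haM)
    rw [hdapp, hfix1 _ hin.2 (fun y hy => hCfix y hy u), mul_one]
  obtain ⟨g, hg⟩ := IsCyclic.exists_generator (α := (P : Subgroup T))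
  have hg1 : (g : T) ≠ 1 := by
    intro h
    refine hPne ((Subgroup.eq_bot_iff_forall _).2 fun x hx => ?_)
    obtain ⟨i, hi⟩ := Subgroup.mem_zpowers_iff.1 (hg ⟨x, hx⟩)
    rw [← show ((g ^ i : (P : Subgroup T)) : T) = x from congrArg Subtype.val hi, Subgroup.coe_zpow, h,
      one_zpow]
  have hgo : orderOf (g : T) = p := orderOf_eq_prime (hexp _ g.2) hg1
  have hPcard : Nat.card (P : Subgroup T) = p := by
    exact (orderOf_eq_card_of_forall_mem_zpowers hg).symm.trans ((Subgroup.orderOf_coe g).symm.trans hgo)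
  set x : T := (g : T) with hx
  have hxP : x ∈ (P : Subgroup T) := g.2
  let δ : A →* A := MonoidHom.mk' (d x) (hdmul x)
  have hZne : Z ≠ ⊤ := fun h => hg1 (hφ (MulEquiv.ext fun a => by
    rw [map_one, MulAut.one_apply]; exact h2 x hxP a (h ▸ Subgroup.mem_top a)))
  obtain ⟨a, haZ⟩ : ∃ a, a ∉ Z := by
    by_contra h; push Not at h; exact hZne (eq_top_iff.2 fun a _ => h a)
  have hgenZ : ∀ b, b ∉ Z → Z = Subgroup.zpowers (δ b) := fun b hb => by
    refine le_antisymm (fun z hz => ?_) (Subgroup.zpowers_le.2 (h1 x hxP b))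
    obtain ⟨y, hy, hyz⟩ := h4 b hb z hz
    obtain ⟨i, hi⟩ := (IsOfFinOrder.mem_powers_iff_mem_zpowers (isOfFinOrder_of_finite g)).2 (hg ⟨y, hy⟩)
    have hyi : y = x ^ i := (congrArg Subtype.val hi).symm
    have hit : ∀ i : ℕ, d (x ^ i) b = d x b ^ i := by
      intro i
      induction i with
      | zero => show b⁻¹ * φ (x ^ 0) b = _; simp
      | succ i ih => rw [pow_succ, hdP _ (pow_mem hxP i) x hxP, ih, pow_succ]
    rw [← hyz, hyi]
    exact ⟨(i : ℤ), (zpow_natCast (δ b) i).trans (hit i).symm⟩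
  have hδ1 : ∀ b, b ∉ Z → δ b ≠ 1 := by
    intro b hb h
    refine hg1 (hφ (MulEquiv.ext fun u => ?_))
    rw [map_one, MulAut.one_apply, hdapp]
    have := h1 x hxP u
    rw [hgenZ b hb, h, Subgroup.zpowers_one_eq_bot, Subgroup.mem_bot] at this
    rw [show d x u = 1 from this, mul_one]
  have hZcard : Nat.card Z = p := by
    rw [hgenZ a haZ, Nat.card_zpowers]
    exact orderOf_eq_prime (h3 _ (h1 x hxP a)) (hδ1 a haZ)
  have hker : δ.ker = Z := by
    ext b
    exact ⟨fun h => by_contra fun hb => hδ1 b hb h, fun hb => inv_mul_eq_one.2 (h2 x hxP b hb).symm⟩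
  have hrange : δ.range = Z := by
    refine le_antisymm ?_ ?_
    · rintro _ ⟨b, rfl⟩; exact h1 x hxP b
    · rw [hgenZ a haZ, Subgroup.zpowers_le]; exact ⟨a, rfl⟩
  have hidx : Z.index = p := by
    have h := Subgroup.index_ker δ
    rw [hker, hrange, hZcard] at h
    exact h
  refine ⟨hPcard, hZcard, hidx, ?_⟩
  by_contra hfix
  push Not at hfix
  obtain ⟨k, hk, hkx⟩ := hfaith x hxP hg1
  set c := k * x * k⁻¹ * x⁻¹ with hc
  have hcK : c ∈ K := by
    rw [hc, mul_assoc k, mul_assoc k]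
    exact K.mul_mem hk ((inferInstance : K.Normal).conj_mem _ (K.inv_mem hk) x)
  refine hkx (commutatorElement_eq_one_iff_mul_comm.1 (hφ (MulEquiv.ext fun u => ?_)))
  show φ c u = φ 1 u
  rw [map_one, MulAut.one_apply]
  refine eq_one_of_fix hA (φ c) (N := Nat.card K) ?_ hKc (fun u => ?_) u
  · rw [← map_pow, show c ^ Nat.card K = 1 from congrArg Subtype.val (pow_card_eq_one' (x := (⟨c, hcK⟩ : K))),
      map_one]
  -- `c` acts trivially on the quotient
  refine hfix c _ ?_
  have hq : ∀ t : T, ∀ b : A, b ∈ Z → φ t b ∈ Z := fun t b hb => (hfix t b hb).symm ▸ hb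
  have hmod : ∀ y : A, ∃ i : ℕ, (a ^ i)⁻¹ * y ∈ Z := by
    intro y
    haveI : Fact (Nat.card (A ⧸ Z)).Prime := ⟨by rw [← Subgroup.index_eq_card, hidx]; exact hp.out⟩
    haveI : Finite (A ⧸ Z) := inferInstance
    obtain ⟨i, hi⟩ := mem_powers_of_prime_card (G := A ⧸ Z) (p := Nat.card (A ⧸ Z)) rfl
      (g := (QuotientGroup.mk a : A ⧸ Z)) (g' := QuotientGroup.mk y)
      (fun h => haZ ((QuotientGroup.eq_one_iff a).1 h))
    exact ⟨i, QuotientGroup.eq.1 ((QuotientGroup.mk_pow Z a i).trans hi)⟩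
  have hscal : ∀ t : T, ∃ i : ℕ, ∀ y : A, (y ^ i)⁻¹ * φ t y ∈ Z := by
    intro t
    obtain ⟨i, hi⟩ := hmod (φ t a)
    refine ⟨i, fun y => ?_⟩
    obtain ⟨j, hj⟩ := hmod y
    have e : (y ^ i)⁻¹ * φ t y = (((a ^ j)⁻¹ * y) ^ i)⁻¹ * φ t ((a ^ j)⁻¹ * y) *
        ((a ^ i)⁻¹ * φ t a) ^ j := by
      rw [map_mul, map_inv, map_pow, mul_pow, mul_pow, mul_inv, inv_pow, inv_inv, inv_pow, ← pow_mul, ← pow_mul,
        mul_comm i j]
      simp only [mul_comm, mul_left_comm, mul_assoc]
      simp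
    rw [e]
    exact Z.mul_mem (Z.mul_mem (Z.inv_mem (Z.pow_mem hj i)) (hq t _ hj)) (Z.pow_mem hi j)
  obtain ⟨i, hi⟩ := hscal k
  -- compare `k x` with `x k` on the quotient
  set v := φ x⁻¹ u with hv
  set w := φ k⁻¹ v with hw
  have e1 : φ c u = φ k (φ x w) := by
    rw [hw, hv, hc, map_mul, map_mul, map_mul, MulAut.mul_apply, MulAut.mul_apply, MulAut.mul_apply]
  have e2 : v = φ k w := by
    rw [hw, ← MulAut.mul_apply, ← map_mul, mul_inv_cancel, map_one, MulAut.one_apply]
  have e3 : φ c u = v * φ k (d x w) := by rw [e1, hdapp x w, map_mul, ← e2]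
  have e4 : u = v * d x v := by
    rw [← hdapp, hv, ← MulAut.mul_apply, ← map_mul, mul_inv_cancel, map_one, MulAut.one_apply]
  have hu' : u⁻¹ * φ c u = (d x v)⁻¹ * φ k (d x w) := by
    rw [e3]
    conv_lhs => rw [e4]
    rw [mul_inv_rev, mul_assoc, inv_mul_cancel_left]
  rw [hu']
  exact Z.mul_mem (Z.inv_mem (h1 x hxP v)) (hq k _ (h1 x hxP w))

end Cfsg.Agent.FGB.SchmidtSyl
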