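import Cfsg.Agent.Lib.FGB.SchmidtSylowStruct
import Cfsg.Agent.Lib.FGB.SchmidtSylowAction
import Cfsg.Agent.Lib.HallHigman.FrattiniModule
import Cfsg.Agent.Lib.Basics.Cores

/-!
# Groups with the Sylow subgroup of a minimal non-nilpotent group
-/

set_option autoImplicit false
set_option linter.unusedSectionVars false
set_option linter.style.haveILetI false

namespace Cfsg.Agent.FGB.SchmidtSyl

open scoped commutatorElement IsMulCommutative

universe u

/-- The small cases. -/
theorem endgame {p : ℕ} [Fact p.Prime] (hp : p = 2 ∨ p = 3) {P : Type*} [Group P] [Finite P]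
    (α : MulAut P) {q : ℕ} (hq : q.Prime) (hqp : q ≠ p) (hαq : α ^ q = 1)
    (hirr : ∀ R : Subgroup P, Subgroup.center P ≤ R → (∀ r ∈ R, α r ∈ R) →
      R = Subgroup.center P ∨ R = ⊤)
    (hnab : ¬ ∀ a b : P, a * b = b * a) (hidx : (Subgroup.center P).index = p ^ 2)
    (hexp : p = 2 → (∀ z ∈ Subgroup.center P, z ^ 2 = 1) ∧
      ∃ a : P, a ∉ Subgroup.center P ∧ ∀ z ∈ Subgroup.center P, (a * z) ^ 2 = 1) : False := by
  classical
  haveI := Fact.mk hq
  set Z := Subgroup.center P with hZ
  have hαZ : ∀ z ∈ Z, α z ∈ Z := fun z hz => Subgroup.mem_center_iff.2 fun g => by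
    obtain ⟨g', rfl⟩ := α.surjective g
    rw [← map_mul, ← map_mul, Subgroup.mem_center_iff.1 hz g']
  let β : P ⧸ Z →* P ⧸ Z := QuotientGroup.map Z Z α.toMonoidHom hαZ
  have hβ : ∀ x : P, β (QuotientGroup.mk x) = QuotientGroup.mk (α x) := fun x => rfl
  have hβi : ∀ (i : ℕ) (x : P), (β^[i]) (QuotientGroup.mk x) = QuotientGroup.mk ((α ^ i) x) := by
    intro i
    induction i with
    | zero => intro x; simp
    | succ i ih => intro x; rw [Function.iterate_succ_apply', ih, hβ, pow_succ', MulAut.mul_apply]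
  have hβq : ∀ e : P ⧸ Z, (β^[q]) e = e := fun e => by
    obtain ⟨x, rfl⟩ := QuotientGroup.mk_surjective e
    rw [hβi, hαq, MulAut.one_apply]
  have hcard : Nat.card (P ⧸ Z) = p ^ 2 := by rw [← Subgroup.index_eq_card, hidx]
  have hnoline : ∀ e : P ⧸ Z, e ≠ 1 → β e ∉ Subgroup.zpowers e := by
    intro e he hmem
    rcases hirr ((Subgroup.zpowers e).comap (QuotientGroup.mk' Z)) (fun z hz => by
        rw [Subgroup.mem_comap, QuotientGroup.mk'_apply, (QuotientGroup.eq_one_iff z).2 hz]
        exact one_mem _) (fun r hr => by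
        rw [Subgroup.mem_comap, QuotientGroup.mk'_apply] at hr ⊢
        obtain ⟨i, hi⟩ := Subgroup.mem_zpowers_iff.1 hr
        rw [← hβ, ← hi, map_zpow]
        exact Subgroup.zpow_mem _ hmem i) with h | h
    · obtain ⟨x, rfl⟩ := QuotientGroup.mk_surjective e
      exact he ((QuotientGroup.eq_one_iff x).2 (h ▸ Subgroup.mem_zpowers _))
    · have hle : (⊤ : Subgroup (P ⧸ Z)) ≤ Subgroup.zpowers e := fun f _ => by
        obtain ⟨x, rfl⟩ := QuotientGroup.mk_surjective f
        have hx : x ∈ (Subgroup.zpowers e).comap (QuotientGroup.mk' Z) := h ▸ Subgroup.mem_top x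
        exact hx
      have hcy : IsCyclic (P ⧸ Z) := ⟨⟨e, fun f => hle (Subgroup.mem_top f)⟩⟩
      haveI := hcy
      exact hnab fun a b =>
        (MonoidHom.isMulCommutative_of_isCyclic_of_ker_le_center (QuotientGroup.mk' Z)
          (by rw [QuotientGroup.ker_mk'])).is_comm.comm a b
  rcases hp with rfl | rfl
  · obtain ⟨hz2, a, haZ, ha2⟩ := hexp rfl
    set e : P ⧸ Z := QuotientGroup.mk a with he
    have he1 : e ≠ 1 := fun h => haZ ((QuotientGroup.eq_one_iff a).1 h)
    have hβinj : Function.Injective β := fun u v huv => by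
      obtain ⟨i, rfl⟩ : ∃ i, q = i + 1 := ⟨q - 1, by have := hq.pos; omega⟩
      rw [← hβq u, ← hβq v, Function.iterate_succ_apply, Function.iterate_succ_apply, huv]
    have h1 : β e ≠ e := fun h => hnoline e he1 (by rw [h]; exact Subgroup.mem_zpowers e)
    have h2 : β (β e) ≠ e := by
      intro h
      obtain ⟨k, hk⟩ := (hq.eq_two_or_odd').resolve_left hqp
      have hev : ∀ k : ℕ, (β^[2 * k]) e = e := by
        intro k
        induction k with
        | zero => rfl
        | succ k ih =>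
          rw [Nat.mul_succ, Function.iterate_add_apply]
          show (β^[2 * k]) (β (β e)) = e
          rw [h, ih]
      have := hβq e
      rw [hk, add_comm (2 * k) 1, Function.iterate_add_apply, hev, Function.iterate_one] at this
      exact h1 this
    have h3 : β e ≠ 1 := fun h => he1 (hβinj (h.trans (map_one β).symm))
    have h4 : β (β e) ≠ 1 := fun h => h3 (hβinj (h.trans (map_one β).symm))
    have h5 : β (β e) ≠ β e := fun h => h1 (hβinj h)
    haveI := Fintype.ofFinite (P ⧸ Z)
    have huniv : ({1, e, β e, β (β e)} : Finset (P ⧸ Z)) = Finset.univ := by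
      apply Finset.eq_univ_of_card
      rw [← Nat.card_eq_fintype_card, hcard]
      rw [Finset.card_insert_of_notMem, Finset.card_insert_of_notMem, Finset.card_insert_of_notMem,
        Finset.card_singleton]
      · norm_num
      · simpa using h5.symm
      · simp only [Finset.mem_insert, Finset.mem_singleton, not_or]
        exact ⟨h1.symm, h2.symm⟩
      · simp only [Finset.mem_insert, Finset.mem_singleton, not_or]
        exact ⟨he1.symm, h3.symm, h4.symm⟩
    have hsq : ∀ x : P, x * x = 1 := by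
      intro x
      have hsq' : ∀ y : P, QuotientGroup.mk y = e → y * y = 1 := fun y hy => by
        have hz : a⁻¹ * y ∈ Z := QuotientGroup.eq.1 (he.symm.trans hy.symm)
        have := ha2 _ hz
        rwa [mul_inv_cancel_left, pow_two] at this
      have hback : ∀ y : P, (∃ w : P, w * w = 1 ∧ QuotientGroup.mk w = (QuotientGroup.mk y : P ⧸ Z)) →
          y * y = 1 := by
        rintro y ⟨w, hw, hwy⟩
        have hz : w⁻¹ * y ∈ Z := QuotientGroup.eq.1 hwy
        have hc := Subgroup.mem_center_iff.1 hz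
        calc y * y = (w * (w⁻¹ * y)) * (w * (w⁻¹ * y)) := by rw [mul_inv_cancel_left]
          _ = (w * w) * ((w⁻¹ * y) * (w⁻¹ * y)) := by
            rw [mul_assoc w (w⁻¹ * y), ← mul_assoc (w⁻¹ * y) w, ← hc w]; simp only [mul_assoc]
          _ = 1 := by rw [hw, one_mul, ← pow_two, hz2 _ hz]
      have hmem : (QuotientGroup.mk x : P ⧸ Z) ∈ ({1, e, β e, β (β e)} : Finset (P ⧸ Z)) := by
        rw [huniv]; exact Finset.mem_univ _
      simp only [Finset.mem_insert, Finset.mem_singleton] at hmem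
      rcases hmem with h | h | h | h
      · exact hback x ⟨1, one_mul 1, h.symm⟩
      · exact hback x ⟨a, hsq' a rfl, h.symm⟩
      · exact hback x ⟨α a, by rw [← map_mul, hsq' a rfl, map_one], (hβ a).symm.trans h.symm⟩
      · refine hback x ⟨α (α a), by rw [← map_mul, ← map_mul, hsq' a rfl, map_one, map_one], ?_⟩
        rw [h, he, hβ, hβ]
    refine hnab fun u v => ?_
    calc u * v = (v * v) * (u * v) * (u * u) := by rw [hsq, hsq, one_mul, mul_one]
      _ = v * ((v * u) * (v * u)) * u := by group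
      _ = v * u := by rw [hsq, mul_one]
  · haveI := Fintype.ofFinite (P ⧸ Z)
    have hfix : ∀ e : P ⧸ Z, β e = e → e = 1 := fun e he =>
      by_contra fun h => hnoline e h (he.symm ▸ Subgroup.mem_zpowers e)
    let F : Function.End (P ⧸ Z) := fun e => β e
    have hpow : ∀ (k : ℕ) (e : P ⧸ Z), (F ^ k) e = (β^[k]) e := by
      intro k
      induction k with
      | zero => intro e; rfl
      | succ k ih =>
        intro e
        rw [pow_succ', Function.iterate_succ_apply']
        show β ((F ^ k) e) = _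
        rw [ih]
    have hF : F ^ q ^ 1 = 1 := funext fun e => by rw [pow_one, hpow, hβq]; rfl
    have h := Equiv.Perm.card_fixedPoints_modEq (p := q) hF
    simp only [← Nat.card_eq_fintype_card] at h
    rw [hcard] at h
    have hone : Nat.card (Function.fixedPoints F) = 1 := by
      rw [Nat.card_eq_one_iff_unique]
      exact ⟨⟨fun u v => Subtype.ext ((hfix _ u.2).trans (hfix _ v.2).symm)⟩, ⟨⟨1, map_one β⟩⟩⟩
    rw [hone] at h
    have h8 : q ∣ 8 := (Nat.modEq_iff_dvd' (show 1 ≤ 3 ^ 2 by norm_num)).1 h.symm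
    have hq2 : q = 2 :=
      (Nat.prime_dvd_prime_iff_eq hq Nat.prime_two).1 (hq.dvd_of_dvd_pow (show q ∣ 2 ^ 3 from h8))
    subst hq2
    obtain ⟨e, he⟩ : ∃ e : P ⧸ Z, e ≠ 1 := by
      by_contra hall
      push Not at hall
      have h2 : Nat.card (P ⧸ Z) = 1 := Nat.card_eq_one_iff_unique.2
        ⟨⟨fun u v => (hall u).trans (hall v).symm⟩, ⟨1⟩⟩
      omega
    have hcomm : IsMulCommutative (P ⧸ Z) := by
      haveI : Fact (Nat.Prime 3) := ⟨by norm_num⟩
      exact IsPGroup.isMulCommutative_of_card_eq_prime_sq (p := 3) hcard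
    have h2 : β (β e) = e := hβq e
    have h3 : e * β e = 1 := hfix _ (by rw [map_mul, h2, hcomm.is_comm.comm])
    exact hnoline e he (by rw [(inv_eq_of_mul_eq_one_right h3).symm]; exact inv_mem (Subgroup.mem_zpowers e))

open HallHigman in
/-- Without `p'`-core the Sylow subgroup is normal. -/
theorem sylow_le_pCore {G : Type u} [Group G] [Finite G] {p : ℕ} [hp : Fact p.Prime]
    (hsol : Cfsg.IsPSolvable p G) (hO : Cfsg.pPrimeCore p G = ⊥) (S : Sylow p G)
    (hS : HasSchmidtAut p (S : Subgroup G)) : (S : Subgroup G) ≤ Cfsg.pCore p G := by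
  classical
  by_contra hle
  haveI : (Cfsg.pCore p G).Normal := Basics.pCore_normal p
  set V := Cfsg.pCore p G with hV
  have hVS : V ≤ S := Basics.pCore_le_sylow p S
  have hcV : Subgroup.centralizer (V : Set G) ≤ V :=
    Transfer.centralizer_pCore_le_of_pSolvable hO (Transfer.isPSolvable_subgroup' hsol _)
  by_cases hab : ∀ a b : (S : Subgroup G), a * b = b * a
  · refine hle fun x hx => hcV (Subgroup.mem_centralizer_iff.2 fun v hv => ?_)
    exact congrArg Subtype.val (hab ⟨v, hVS hv⟩ ⟨x, hx⟩)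
  obtain ⟨hcZ, hpZ, hZp, hfull, α, q, hq, hqp, hαq, hirr⟩ := schmidt_structure S.isPGroup' hS hab
  set Z := (Subgroup.center (S : Subgroup G)).map (S : Subgroup G).subtype with hZdef
  have hmemZ : ∀ {z : G}, z ∈ Z → z ∈ (S : Subgroup G) ∧ ∀ y ∈ (S : Subgroup G), y * z = z * y := by
    rintro _ ⟨z, hz, rfl⟩
    exact ⟨z.2, fun y hy => congrArg Subtype.val (Subgroup.mem_center_iff.1 hz ⟨y, hy⟩)⟩
  have hZV : Z ≤ V := fun z hz => hcV (Subgroup.mem_centralizer_iff.2 fun v hv => (hmemZ hz).2 v (hVS hv))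
  have hcomZ : ∀ {x y : G}, x ∈ (S : Subgroup G) → y ∈ (S : Subgroup G) → x * y * x⁻¹ * y⁻¹ ∈ Z :=
    fun {x y} hx hy => ⟨_, hcZ ⟨x, hx⟩ ⟨y, hy⟩, rfl⟩
  -- the large primes
  by_cases hp5 : 5 ≤ p
  · obtain ⟨x, hx, hxV⟩ := SetLike.not_le_iff_exists.1 hle
    let ρ : G ⧸ V →* Module.End (ZMod p) (Additive ↥(coreModule p G)) :=
      QuotientGroup.lift V (coreRep p G) fun g hg =>
        MonoidHom.mem_ker.mpr ((coreRep_eq_one_iff hcV g).mpr hg)
    have hρ : Function.Injective ρ := by
      refine (injective_iff_map_eq_one ρ).mpr fun g hg => ?_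
      induction g using QuotientGroup.induction_on with
      | H g => exact (QuotientGroup.eq_one_iff g).mpr ((coreRep_eq_one_iff hcV g).mp hg)
    have hord : orderOf (QuotientGroup.mk x : G ⧸ V) = p ^ 1 := by
      rw [pow_one]
      refine orderOf_eq_prime ?_ fun h => hxV ((QuotientGroup.eq_one_iff x).1 h)
      rw [← QuotientGroup.mk_pow, QuotientGroup.eq_one_iff]
      exact hZV ⟨_, hpZ ⟨x, hx⟩, rfl⟩
    have hquad : (ρ (QuotientGroup.mk x) - 1) ^ 2 = 0 := by
      refine LinearMap.ext fun v => ?_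
      obtain ⟨a, ha, hav⟩ := v.toMul.2
      have hz := hcomZ hx (hVS ha)
      have hw : ∀ (v : Additive ↥(coreModule p G)) (a : G),
          QuotientGroup.mk' (phiCore p G) a = ((v.toMul : coreModule p G) : G ⧸ phiCore p G) →
          (((ρ (QuotientGroup.mk x) - 1) v).toMul : G ⧸ phiCore p G) =
            QuotientGroup.mk' _ (x * a * x⁻¹ * a⁻¹) := by
        intro v a hav
        show (((coreRep p G x v - v)).toMul : G ⧸ phiCore p G) = _
        rw [toMul_sub, Subgroup.coe_div, coreRep_apply, div_eq_mul_inv, ← hav]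
        simp only [map_mul, map_inv]
      rw [pow_two, Module.End.mul_apply, LinearMap.zero_apply]
      apply Additive.toMul.injective
      apply Subtype.ext
      rw [hw _ (x * a * x⁻¹ * a⁻¹) (hw v a hav).symm, (hmemZ hz).2 x hx, mul_inv_cancel_right,
        mul_inv_cancel, map_one]
      rfl
    haveI : FiniteDimensional (ZMod p) (Additive ↥(coreModule p G)) := Module.Finite.of_finite
    rcases hall_higman_B_field (H := G ⧸ V) ρ hρ
      (Coprime23.isPSolvable_map (QuotientGroup.mk' V) (QuotientGroup.mk'_surjective _) hsol)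
      (Basics.pCore_quotient_eq_bot p) _ hord le_rfl with h | ⟨n₀, q', m, h1, h2, -, -, -, -, h⟩
    · exact h (pow_eq_zero_of_le (by rw [pow_one]; omega) hquad)
    · obtain rfl : n₀ = 1 := by omega
      refine h (pow_eq_zero_of_le ?_ hquad)
      rw [Nat.sub_self, pow_zero, one_mul, pow_one]
      omega
  have hp23 : p = 2 ∨ p = 3 := by
    have := hp.out.two_le
    by_contra hne
    push Not at hne
    have h4 : p ≠ 4 := fun h => by have := h ▸ hp.out; norm_num at this
    omega
  -- the center of the core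
  set A := (Subgroup.center V).map V.subtype with hA
  haveI : A.Normal := inferInstance
  have hmemA : ∀ {a : G}, a ∈ A → a ∈ V ∧ ∀ v ∈ V, v * a = a * v := by
    rintro _ ⟨a, ha, rfl⟩
    exact ⟨a.2, fun v hv => congrArg Subtype.val (Subgroup.mem_center_iff.1 ha ⟨v, hv⟩)⟩
  have hAmem : ∀ {a : G}, a ∈ V → (∀ v ∈ V, v * a = a * v) → a ∈ A := fun {a} ha h =>
    ⟨⟨a, ha⟩, Subgroup.mem_center_iff.2 fun v => Subtype.ext (h v v.2), rfl⟩
  have hZA : Z ≤ A := fun z hz => hAmem (hZV hz) fun v hv => (hmemZ hz).2 v (hVS hv)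
  haveI : IsMulCommutative A :=
    ⟨⟨fun a b => Subtype.ext ((hmemA b.2).2 a (hmemA a.2).1)⟩⟩
  set H := (Subgroup.centralizer ((V.map (QuotientGroup.mk' A) : Subgroup (G ⧸ A)) : Set (G ⧸ A))).comap
    (QuotientGroup.mk' A) with hH
  haveI : (V.map (QuotientGroup.mk' A)).Normal :=
    Subgroup.Normal.map inferInstance _ (QuotientGroup.mk'_surjective A)
  haveI : H.Normal := Subgroup.Normal.comap inferInstance _
  have hmemH : ∀ g : G, g ∈ H ↔ ∀ v ∈ V, g * v * g⁻¹ * v⁻¹ ∈ A := by
    intro g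
    rw [hH, Subgroup.mem_comap, Subgroup.mem_centralizer_iff]
    constructor
    · intro h v hv
      rw [← QuotientGroup.eq_one_iff]
      simp only [QuotientGroup.mk_mul, QuotientGroup.mk_inv]
      have h1 := h _ ⟨v, hv, rfl⟩
      simp only [QuotientGroup.mk'_apply] at h1
      rw [← h1]
      group
    · rintro h _ ⟨v, hv, rfl⟩
      have h1 := (QuotientGroup.eq_one_iff _).2 (h v hv)
      simp only [QuotientGroup.mk_mul, QuotientGroup.mk_inv] at h1
      simp only [QuotientGroup.mk'_apply]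
      exact (mul_inv_eq_iff_eq_mul.1 (mul_inv_eq_one.1 h1)).symm
  have hSH : (S : Subgroup G) ≤ H := fun x hx => (hmemH x).2 fun v hv => hZA (hcomZ hx (hVS hv))
  have hVH : V ≤ H := hVS.trans hSH
  -- the kernel of the action on the center
  have hker : H ⊓ Subgroup.centralizer (A : Set G) ≤ V := by
    haveI : (Subgroup.centralizer (A : Set G)).Normal := inferInstance
    refine Basics.le_pCore fun g => ?_
    obtain ⟨k, m, hm, hkm⟩ := Nat.exists_eq_pow_mul_and_not_dvd (orderOf_pos g).ne' p hp.out.ne_one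
    refine ⟨k, ?_⟩
    set h := g ^ p ^ k with hh
    have hh1 : h ^ m = 1 := by rw [hh, ← pow_mul, ← hkm, pow_orderOf_eq_one]
    have hhc : (h : G) ∈ Subgroup.centralizer (V : Set G) := by
      refine Subgroup.mem_centralizer_iff.2 fun v hv => ?_
      set e := (h : G) * v * (h : G)⁻¹ * v⁻¹ with he
      have heA : e ∈ A := (hmemH _).1 h.2.1 v hv
      have hfix : (h : G) * e = e * h := (Subgroup.mem_centralizer_iff.1 h.2.2 e heA).symm
      have hit : ∀ i : ℕ, (h : G) ^ i * v = e ^ i * v * (h : G) ^ i := by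
        intro i
        induction i with
        | zero => simp
        | succ i ih =>
          have hc' : (h : G) * e ^ i = e ^ i * h := (Commute.pow_right hfix i).eq
          rw [pow_succ', mul_assoc, ih, ← mul_assoc, ← mul_assoc, hc', mul_assoc (e ^ i) (h : G) v,
            show (h : G) * v = e * v * h by rw [he]; group, pow_succ e i]
          simp only [mul_assoc]
      have h5 := hit m
      rw [← SubgroupClass.coe_pow, hh1, OneMemClass.coe_one, one_mul, mul_one] at h5
      have hem : e ^ m = 1 := mul_eq_right.1 h5.symm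
      obtain ⟨j, hj⟩ := Basics.pCore_isPGroup p (⟨e, (hmemA heA).1⟩ : Cfsg.pCore p G)
      have he1 : e = 1 := by
        rw [← orderOf_eq_one_iff]
        exact Nat.eq_one_of_dvd_coprimes (((hp.out.coprime_iff_not_dvd).2 hm).symm.pow_right j)
          (orderOf_dvd_of_pow_eq_one hem) (orderOf_dvd_of_pow_eq_one (congrArg Subtype.val hj))
      rw [he] at he1
      exact (mul_inv_eq_iff_eq_mul.1 (mul_inv_eq_one.1 he1)).symm
    obtain ⟨j, hj⟩ := Basics.pCore_isPGroup p (⟨(h : G), hcV hhc⟩ : Cfsg.pCore p G)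
    apply Subtype.ext
    rw [OneMemClass.coe_one, ← orderOf_eq_one_iff]
    exact Nat.eq_one_of_dvd_coprimes (((hp.out.coprime_iff_not_dvd).2 hm).symm.pow_right j)
      (orderOf_dvd_of_pow_eq_one (by rw [← SubgroupClass.coe_pow, hh1]; rfl))
      (orderOf_dvd_of_pow_eq_one (congrArg Subtype.val hj))
  -- the acting group
  set π := QuotientGroup.mk' V with hπ
  set T := H.map π with hT
  haveI : T.Normal := Subgroup.Normal.map inferInstance _ (QuotientGroup.mk'_surjective V)
  have hST : ((S.mapSurjective (QuotientGroup.mk'_surjective V) : Sylow p (G ⧸ V)) : Subgroup (G ⧸ V)) ≤ T := by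
    rintro _ ⟨x, hx, rfl⟩
    exact ⟨x, hSH hx, rfl⟩
  set S' := (S.mapSurjective (QuotientGroup.mk'_surjective V)).subtype hST with hS'
  have hS'mem : ∀ t : T, t ∈ (S' : Subgroup T) → ∃ x ∈ (S : Subgroup G), π x = t.1 := by
    intro t ht
    exact ht
  let Φ : G ⧸ V →* MulAut A := QuotientGroup.lift V MulAut.conjNormal fun v hv => MonoidHom.mem_ker.2 <|
    MulEquiv.ext fun a => Subtype.ext (by
      rw [MulAut.conjNormal_apply, MulAut.one_apply, (hmemA a.2).2 v hv, mul_inv_cancel_right])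
  have hΦ : ∀ (g : G) (a : A), ((Φ (π g) a : A) : G) = g * a * g⁻¹ := fun g a => MulAut.conjNormal_apply g a
  let φ : T →* MulAut A := Φ.comp T.subtype
  have hφ : Function.Injective φ := by
    refine (injective_iff_map_eq_one φ).2 fun t ht => ?_
    obtain ⟨g, hg, hgt⟩ := t.2
    apply Subtype.ext
    rw [← hgt]
    refine (QuotientGroup.eq_one_iff g).2 (hker ⟨hg, Subgroup.mem_centralizer_iff.2 fun a ha => ?_⟩)
    have h1 := hΦ g ⟨a, ha⟩
    rw [hgt] at h1
    have h2 : (φ t ⟨a, ha⟩ : G) = a := by rw [ht]; rfl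
    exact (mul_inv_eq_iff_eq_mul.1 (h1.symm.trans h2)).symm
  have hApg : IsPGroup p A := (Basics.pCore_isPGroup p).to_le fun a ha => (hmemA ha).1
  have hsolT : Cfsg.IsPSolvable p T := Transfer.isPSolvable_subgroup'
    (Coprime23.isPSolvable_map (QuotientGroup.mk' V) (QuotientGroup.mk'_surjective _) hsol) T
  have hOT : Cfsg.pCore p T = ⊥ := by
    haveI := Basics.pCore_characteristic (G := T) p
    have h1 : (Cfsg.pCore p T).map T.subtype ≤ Cfsg.pCore p (G ⧸ V) :=
      Basics.le_pCore ((Basics.pCore_isPGroup p).map _)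
    rw [Basics.pCore_quotient_eq_bot p, le_bot_iff] at h1
    exact (Subgroup.map_eq_bot_iff_of_injective _ T.subtype_injective).mp h1
  have hS'ne : (S' : Subgroup T) ≠ ⊥ := by
    intro h
    refine hle fun x hx => (QuotientGroup.eq_one_iff x).1 ?_
    have h1 : (⟨π x, hST ⟨x, hx, rfl⟩⟩ : T) ∈ (S' : Subgroup T) := ⟨x, hx, rfl⟩
    rw [h, Subgroup.mem_bot] at h1
    exact congrArg Subtype.val h1
  set Z' := Z.subgroupOf A with hZ'
  obtain ⟨hS'card, hZ'card, hZ'idx, k, z, hz, hkz⟩ := action_main φ hφ hApg hsolT hOT S' hS'ne Z'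
    (fun t ht a => by
      obtain ⟨x, hx, hxt⟩ := hS'mem t ht
      show ((a⁻¹ * φ t a : A) : G) ∈ Z
      rw [Subgroup.coe_mul, Subgroup.coe_inv, show φ t = Φ (π x) by rw [hxt]; rfl, hΦ]
      have h1 := hcomZ ((S : Subgroup G).inv_mem (hVS (hmemA a.2).1)) hx
      rw [inv_inv] at h1
      simpa only [mul_assoc] using h1)
    (fun t ht a ha => by
      obtain ⟨x, hx, hxt⟩ := hS'mem t ht
      apply Subtype.ext
      rw [show φ t = Φ (π x) by rw [hxt]; rfl, hΦ, (hmemZ (show (a : G) ∈ Z from ha)).2 x hx,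
        mul_inv_cancel_right])
    (fun a ha => by
      obtain ⟨w, hw, hwa⟩ := (show (a : G) ∈ Z from ha)
      apply Subtype.ext
      rw [SubmonoidClass.coe_pow, OneMemClass.coe_one, ← hwa, ← map_pow, hZp w hw, map_one])
    (fun a ha z hz => by
      obtain ⟨w, hw, hwz⟩ := (show (z : G) ∈ Z from hz)
      have haS : (a : G) ∈ (S : Subgroup G) := hVS (hmemA a.2).1
      obtain ⟨y, hy⟩ := hfull (⟨(a : G), haS⟩⁻¹) (fun h => ha (by
        show (a : G) ∈ Z
        exact ⟨⟨a, haS⟩, by simpa using Subgroup.inv_mem _ h, rfl⟩)) w hw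
      refine ⟨⟨π y, hST ⟨y, y.2, rfl⟩⟩, ⟨y, y.2, rfl⟩, Subtype.ext ?_⟩
      show ((a⁻¹ * φ _ a : A) : G) = z
      rw [Subgroup.coe_mul, Subgroup.coe_inv]
      show (a : G)⁻¹ * (Φ (π y) a : A) = (z : G)
      rw [hΦ, ← hwz, ← hy]
      simp [commutatorElement_def, mul_assoc])
  obtain ⟨g, hg, hgk⟩ := k.2
  have hgz : g * z * g⁻¹ ≠ (z : G) := by
    intro h
    refine hkz (Subtype.ext ?_)
    rw [show φ k = Φ (π g) by rw [hgk]; rfl, hΦ, h]
  have hZcard : Nat.card Z = p := by
    rw [← hZ'card]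
    exact Nat.card_congr (Subgroup.subgroupOfEquivOfLe hZA).symm.toEquiv
  -- the core is abelian
  have hVA : V ≤ A := by
    intro w hw
    refine hAmem hw fun v hv => ?_
    by_contra hvw
    set c := v * w * v⁻¹ * w⁻¹ with hc
    have hcZ' : c ∈ Z := hcomZ (hVS hv) (hVS hw)
    have hc1 : c ≠ 1 := fun h => hvw (by
      calc v * w = c * (w * v) := by rw [hc]; group
        _ = w * v := by rw [h, one_mul])
    have hgc : g * c * g⁻¹ = c := by
      obtain ⟨a, haA, hga⟩ : ∃ a ∈ A, g * v * g⁻¹ = a * v :=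
        ⟨_, (hmemH g).1 hg v hv, by group⟩
      obtain ⟨b, hbA, hgb⟩ : ∃ b ∈ A, g * w * g⁻¹ = b * w :=
        ⟨_, (hmemH g).1 hg w hw, by group⟩
      have ha := hmemA haA
      have hb := hmemA hbA
      have e : g * c * g⁻¹ = (g * v * g⁻¹) * (g * w * g⁻¹) * (g * v * g⁻¹)⁻¹ * (g * w * g⁻¹)⁻¹ := by
        rw [hc]; group
      rw [e, hga, hgb, mul_inv_rev, mul_inv_rev]
      calc a * v * (b * w) * (v⁻¹ * a⁻¹) * (w⁻¹ * b⁻¹)
          = a * (v * b) * w * v⁻¹ * (a⁻¹ * w⁻¹) * b⁻¹ := by group
        _ = a * (b * v) * w * v⁻¹ * (w⁻¹ * a⁻¹) * b⁻¹ := by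
          rw [hb.2 v hv, (hmemA (A.inv_mem haA)).2 w⁻¹ (V.inv_mem hw)]
        _ = (a * b) * c * (b * a)⁻¹ := by rw [hc]; group
        _ = c := by
          rw [hb.2 a ha.1, ← (hmemA (A.mul_mem hbA haA)).2 c (hZV hcZ'), mul_inv_cancel_right]
    have hgen : Z = Subgroup.zpowers c := by
      refine (Subgroup.eq_of_le_of_card_ge (Subgroup.zpowers_le.2 hcZ') ?_).symm
      rw [hZcard, Nat.card_zpowers]
      obtain ⟨c', hc', hcc'⟩ := hcZ'
      refine (orderOf_eq_prime ?_ hc1).ge
      rw [← hcc', ← map_pow, hZp c' hc', map_one]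
    obtain ⟨i, hi⟩ := Subgroup.mem_zpowers_iff.1 (hgen ▸ (show (z : G) ∈ Z from hz))
    refine hgz ?_
    rw [← hi, ← conj_zpow, hgc]
  -- the orders
  have hAV : A = V := le_antisymm (fun a ha => (hmemA ha).1) hVA
  have hSV : Nat.card (S : Subgroup G) = Nat.card V * p := by
    have h1 : Nat.card ((S.mapSurjective (QuotientGroup.mk'_surjective V) : Sylow p (G ⧸ V)) :
        Subgroup (G ⧸ V)) = p :=
      (Nat.card_congr (Subgroup.subgroupOfEquivOfLe hST).symm.toEquiv).trans hS'card
    refine Eq.trans ?_ (congrArg (Nat.card V * ·) h1)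
    show _ = Nat.card V * _
    rw [Sylow.coe_mapSurjective, ← Subgroup.relIndex_ker, QuotientGroup.ker_mk',
      Subgroup.relIndex, ← Basics.card_subgroupOf hVS, Subgroup.card_mul_index]
  have hVcard : Nat.card V = p * p := by
    rw [← hAV, ← Subgroup.card_mul_index Z', hZ'card, hZ'idx]
  have hidx : (Subgroup.center (S : Subgroup G)).index = p ^ 2 := by
    have h1 := Subgroup.card_mul_index (Subgroup.center (S : Subgroup G))
    rw [← Subgroup.card_map_of_injective (S : Subgroup G).subtype_injective, ← hZdef, hZcard, hSV,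
      hVcard] at h1
    rw [pow_two]
    exact Nat.eq_of_mul_eq_mul_left hp.out.pos (h1.trans (by ring))
  refine endgame hp23 α hq hqp hαq hirr hab hidx fun hp2 => ?_
  subst hp2
  -- the center of the core has exponent two
  have hzz : z ^ 2 = 1 := by
    obtain ⟨w, hw, hwz⟩ := (show (z : G) ∈ Z from hz)
    apply Subtype.ext
    rw [SubmonoidClass.coe_pow, OneMemClass.coe_one, ← hwz, ← map_pow, hZp w hw, map_one]
  have hexp2 : ∀ a : A, a ^ 2 = 1 := by
    let sq : A →* A := powMonoidHom 2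
    have hA4 : Nat.card A = 4 := by rw [← Subgroup.card_mul_index Z', hZ'card, hZ'idx]
    have h3 : 2 < Nat.card sq.ker := by
      haveI := Fintype.ofFinite sq.ker
      rw [Nat.card_eq_fintype_card]
      refine Fintype.two_lt_card_iff.2 ⟨1, ⟨z, hzz⟩, ⟨φ k z, ?_⟩, ?_, ?_, ?_⟩
      · show (φ k z) ^ 2 = 1
        rw [← map_pow, hzz, map_one]
      · intro h
        have h0 : z = 1 := (congrArg Subtype.val h).symm
        exact hkz (by rw [h0, map_one])
      · intro h
        have h0 : φ k z = 1 := (congrArg Subtype.val h).symm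
        have h1 : z = 1 := (φ k).injective (by rw [h0, map_one])
        exact hkz (by rw [h1, map_one])
      · intro h
        exact hkz (congrArg Subtype.val h).symm
    have hd := Subgroup.card_subgroup_dvd_card sq.ker
    rw [hA4] at hd
    have h4 : Nat.card sq.ker = Nat.card A := by
      rw [hA4]
      have := Nat.le_of_dvd (by norm_num) hd
      interval_cases Nat.card sq.ker <;> omega
    intro a
    have : a ∈ sq.ker := (Subgroup.eq_top_of_card_eq _ h4) ▸ Subgroup.mem_top a
    exact this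
  refine ⟨fun w hw => hZp w hw, ?_⟩
  obtain ⟨a, haZ⟩ : ∃ a : A, a ∉ Z' := by
    by_contra hall
    push Not at hall
    rw [show Z' = ⊤ from eq_top_iff.2 fun a _ => hall a, Subgroup.index_top] at hZ'idx
    omega
  refine ⟨⟨(a : G), hVS (hmemA a.2).1⟩, fun h => haZ ⟨_, h, rfl⟩, fun w hw => ?_⟩
  have hwA : (w : G) ∈ A := hZA ⟨w, hw, rfl⟩
  have := hexp2 (a * ⟨w, hwA⟩)
  refine Subtype.ext ?_
  have h2 := congrArg (fun u : A => (u : G)) this
  simpa using h2

end Cfsg.Agent.FGB.SchmidtSyl
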