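import Cfsg.Agent.Lib.Basics.Schmidt
import Cfsg.Agent.Lib.Basics.Frattini

/-!
# Sylow subgroups of minimal non-nilpotent groups
-/

set_option autoImplicit false
set_option linter.unusedSectionVars false
set_option linter.style.haveILetI false

namespace Cfsg.Agent.FGB.SchmidtSyl

open scoped commutatorElement

universe u

/-- A `p`-group with an automorphism of prime order fixing every proper invariant subgroup. -/
def HasSchmidtAut (p : ℕ) (P : Type*) [Group P] : Prop :=
  ∃ (α : MulAut P) (q : ℕ), q.Prime ∧ q ≠ p ∧ α ^ q = 1 ∧ α ≠ 1 ∧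
    ∀ R : Subgroup P, R ≠ ⊤ → (∀ r ∈ R, α r ∈ R) → ∀ r ∈ R, α r = r

theorem hasSchmidtAut_of_mulEquiv {p : ℕ} {P P' : Type*} [Group P] [Group P'] (e : P ≃* P')
    (h : HasSchmidtAut p P) : HasSchmidtAut p P' := by
  obtain ⟨α, q, hq, hqp, hαq, hα, hR⟩ := h
  refine ⟨MulAut.congr e α, q, hq, hqp, by rw [← map_pow, hαq, map_one],
    fun h => hα ((MulAut.congr e).injective (h.trans (map_one _).symm)), fun R hR' hinv r hr => ?_⟩
  have key : ∀ x, MulAut.congr e α x = e (α (e.symm x)) := fun x => rfl
  have h1 := hR (R.comap e.toMonoidHom) (fun htop => hR' (eq_top_iff.2 fun x _ => by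
    have hx : e.symm x ∈ R.comap e.toMonoidHom := htop ▸ Subgroup.mem_top _
    simpa using hx)) (fun x hx => by
      have h2 := hinv (e x) hx
      rw [key, MulEquiv.symm_apply_apply] at h2
      exact h2) (e.symm r) (by simpa using hr)
  rw [key, h1, MulEquiv.apply_symm_apply]

/-- The automorphism coming from a minimal non-nilpotent group. -/
theorem hasSchmidtAut_sylow {X : Type u} [Group X] [Finite X] {p : ℕ} [Fact p.Prime]
    (hX : Cfsg.IsMinimalNonNilpotent X) (P : Sylow p X) (hPn : (P : Subgroup X).Normal)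
    (hP1 : (P : Subgroup X) ≠ ⊥) : HasSchmidtAut p (P : Subgroup X) := by
  obtain ⟨r, s, hr, hs, hrs, R, S, hRc, hSn, hRn, hsup⟩ := Basics.minimalNonNilpotent_structure hX
  haveI := Fact.mk hr
  haveI := Fact.mk hs
  haveI := hPn
  haveI := hSn
  have hpR : p ≠ r := by
    rintro rfl
    haveI := Sylow.unique_of_normal P hPn
    exact hRn (Subsingleton.elim P R ▸ hPn)
  have hcop : (Nat.card (S : Subgroup X)).Coprime (Nat.card (R : Subgroup X)) := by
    rw [R.card_eq_multiplicity, S.card_eq_multiplicity]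
    exact ((Nat.coprime_primes hs hr).mpr (Ne.symm hrs)).pow _ _
  have hcard : Nat.card X = Nat.card (S : Subgroup X) * Nat.card (R : Subgroup X) := by
    rw [← Basics.card_sup_of_coprime Subgroup.le_normalizer_of_normal hcop, sup_comm, hsup,
      Subgroup.card_top]
  have hps : p = s := by
    have hd : p ∣ Nat.card X := by
      obtain ⟨k, hk⟩ := IsPGroup.iff_card.1 P.isPGroup'
      have hk0 : k ≠ 0 := fun h => hP1 (Subgroup.card_eq_one.1 (by rw [hk, h, pow_zero]))
      exact (dvd_pow_self p hk0).trans (hk ▸ Subgroup.card_subgroup_dvd_card _)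
    rw [hcard] at hd
    rcases (Nat.Prime.dvd_mul (Fact.out : p.Prime)).1 hd with h | h
    · rw [S.card_eq_multiplicity] at h
      exact (Nat.prime_dvd_prime_iff_eq Fact.out hs).1 ((Fact.out : p.Prime).dvd_of_dvd_pow h)
    · rw [R.card_eq_multiplicity] at h
      exact absurd ((Nat.prime_dvd_prime_iff_eq Fact.out hr).1 ((Fact.out : p.Prime).dvd_of_dvd_pow h))
        hpR
  subst hps
  haveI := Sylow.unique_of_normal P hPn
  obtain rfl : P = S := Subsingleton.elim _ _
  obtain ⟨g, hg⟩ := IsCyclic.exists_generator (α := (R : Subgroup X))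
  set y : X := (g : X) with hy
  have hRy : (R : Subgroup X) = Subgroup.zpowers y := by
    refine le_antisymm (fun x hx => ?_) (Subgroup.zpowers_le.2 g.2)
    obtain ⟨i, hi⟩ := Subgroup.mem_zpowers_iff.1 (hg ⟨x, hx⟩)
    exact Subgroup.mem_zpowers_iff.2 ⟨i, congrArg Subtype.val hi⟩
  have hoy : orderOf y = Nat.card (R : Subgroup X) := by rw [hRy, Nat.card_zpowers]
  obtain ⟨e, he⟩ := IsPGroup.iff_card.1 R.isPGroup'
  have he0 : e ≠ 0 := fun h => hRn (by
    rw [Subgroup.card_eq_one.1 (show Nat.card (R : Subgroup X) = 1 by rw [he, h, pow_zero])]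
    exact Subgroup.normal_bot)
  -- elements of proper subgroups of coprime order commute
  have hcomm : ∀ (T : Subgroup X) (z : X), z ∈ Subgroup.zpowers y → T ≤ (P : Subgroup X) →
      T ⊔ Subgroup.zpowers z ≠ ⊤ → ∀ x ∈ T, Commute x z := by
    intro T z hz hT hne x hx
    refine Basics.commute_of_coprime_le (hX.2 _ hne) (Subgroup.mem_sup_left hx)
      (Subgroup.mem_sup_right (Subgroup.mem_zpowers z)) ?_
    refine (hcop.coprime_dvd_left ?_).coprime_dvd_right ?_
    · rw [← Nat.card_zpowers]
      exact Subgroup.card_dvd_of_le (Subgroup.zpowers_le.2 (hT hx))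
    · rw [← Nat.card_zpowers, hRy]
      exact Subgroup.card_dvd_of_le (Subgroup.zpowers_le.2 hz)
  have hnc : ¬ ∀ x ∈ (P : Subgroup X), Commute x y := by
    intro h
    refine hRn (Subgroup.normalizer_eq_top_iff.1 (eq_top_iff.2 ?_))
    rw [← hsup]
    refine sup_le Subgroup.le_normalizer fun x hx => Subgroup.centralizer_le_normalizer _ ?_
    rw [hRy, Subgroup.mem_centralizer_iff]
    intro z hz
    obtain ⟨i, rfl⟩ := Subgroup.mem_zpowers_iff.1 hz
    exact ((h x hx).zpow_right i).symm.eq
  refine ⟨MulAut.conjNormal y, r, hr, fun h => hpR h.symm, ?_, ?_, ?_⟩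
  · ext x
    rw [← map_pow, MulAut.conjNormal_apply, MulAut.one_apply]
    have h := hcomm (P : Subgroup X) (y ^ r) (pow_mem (Subgroup.mem_zpowers y) r) le_rfl (fun htop => ?_)
      x x.2
    · rw [← h.eq, mul_inv_cancel_right]
    · have h1 := Basics.card_sup_of_coprime (N := (P : Subgroup X)) (H := Subgroup.zpowers (y ^ r))
        Subgroup.le_normalizer_of_normal (hcop.coprime_dvd_right (by
          rw [hRy]; exact Subgroup.card_dvd_of_le (Subgroup.zpowers_le.2
            (pow_mem (Subgroup.mem_zpowers y) r))))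
      rw [htop, Subgroup.card_top, hcard, Nat.card_zpowers, orderOf_pow, hoy, he] at h1
      have h2 := Nat.eq_of_mul_eq_mul_left Nat.card_pos h1
      have h3 : Nat.gcd (r ^ e) r = r := Nat.gcd_eq_right (dvd_pow_self r he0)
      rw [h3] at h2
      exact absurd h2 (Nat.div_lt_self (pow_pos hr.pos e) hr.one_lt).ne'
  · intro h
    refine hnc fun x hx => ?_
    have h1 := congrArg (fun σ : MulAut (P : Subgroup X) => ((σ ⟨x, hx⟩ : (P : Subgroup X)) : X)) h
    simp only [MulAut.conjNormal_apply, MulAut.one_apply] at h1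
    exact (mul_inv_eq_iff_eq_mul.1 h1).symm
  · intro T hT hinv t ht
    set T' := T.map (P : Subgroup X).subtype with hT'
    have hT'P : T' ≤ (P : Subgroup X) := Subgroup.map_subtype_le T
    have hyT : ∀ z ∈ Subgroup.zpowers y, z ∈ Subgroup.normalizer (T' : Set X) := by
      rw [← SetLike.le_def, Subgroup.zpowers_le]
      have h1 : ∀ x ∈ T', y * x * y⁻¹ ∈ T' := by
        rintro _ ⟨x, hx, rfl⟩
        exact ⟨_, hinv x hx, MulAut.conjNormal_apply _ _⟩
      have h2 : T'.map (MulAut.conj y).toMonoidHom = T' := by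
        refine Subgroup.eq_of_le_of_card_ge ?_ (by rw [Subgroup.card_map_of_injective (f := (MulAut.conj y).toMonoidHom) (MulAut.conj y).injective])
        rintro _ ⟨x, hx, rfl⟩
        exact h1 x hx
      rw [Subgroup.mem_normalizer_iff]
      intro x
      refine ⟨h1 x, fun hx => ?_⟩
      rw [← h2] at hx
      obtain ⟨z, hz, hzx⟩ := hx
      have : z = x := (MulAut.conj y).injective hzx
      exact this ▸ hz
    have hne : T' ⊔ Subgroup.zpowers y ≠ ⊤ := by
      intro htop
      have hcop' : (Nat.card T').Coprime (Nat.card (Subgroup.zpowers y)) := by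
        rw [← hRy]
        exact hcop.coprime_dvd_left (Subgroup.card_dvd_of_le hT'P)
      have h1 := Basics.card_sup_of_coprime (N := T') (H := Subgroup.zpowers y) hyT hcop'
      rw [htop, Subgroup.card_top, hcard, ← hRy] at h1
      have h2 := Nat.eq_of_mul_eq_mul_right Nat.card_pos h1
      rw [Subgroup.card_map_of_injective (P : Subgroup X).subtype_injective] at h2
      exact hT (Subgroup.eq_top_of_card_eq T h2.symm)
    apply Subtype.ext
    rw [MulAut.conjNormal_apply]
    have h := hcomm T' y (Subgroup.mem_zpowers y) hT'P hne t ⟨t, ht, rfl⟩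
    rw [← h.eq, mul_inv_cancel_right]

/-- The consequences used below. -/
theorem schmidt_structure {p : ℕ} [Fact p.Prime] {P : Type*} [Group P] [Finite P]
    (hP : IsPGroup p P) (h : HasSchmidtAut p P) (hnab : ¬ ∀ a b : P, a * b = b * a) :
    (∀ a b : P, ⁅a, b⁆ ∈ Subgroup.center P) ∧ (∀ x : P, x ^ p ∈ Subgroup.center P) ∧
    (∀ z ∈ Subgroup.center P, z ^ p = 1) ∧
    (∀ a, a ∉ Subgroup.center P → ∀ z ∈ Subgroup.center P, ∃ x, ⁅a, x⁆ = z) ∧
    ∃ (α : MulAut P) (q : ℕ), q.Prime ∧ q ≠ p ∧ α ^ q = 1 ∧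
      ∀ R : Subgroup P, Subgroup.center P ≤ R → (∀ r ∈ R, α r ∈ R) →
        R = Subgroup.center P ∨ R = ⊤ := by
  classical
  obtain ⟨α, q, hq, hqp, hαq, hα, hR⟩ := h
  have hp : p.Prime := Fact.out
  -- the commutators with `α` generate
  have hgen : Subgroup.closure (Set.range fun x : P => x⁻¹ * α x) = ⊤ := by
    by_contra hne
    refine hα (MulEquiv.ext fun x => ?_)
    have hinv : ∀ r ∈ Subgroup.closure (Set.range fun x : P => x⁻¹ * α x),
        α r ∈ Subgroup.closure (Set.range fun x : P => x⁻¹ * α x) := by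
      intro r hr
      induction hr using Subgroup.closure_induction with
      | mem r hr =>
        obtain ⟨x, rfl⟩ := hr
        exact Subgroup.subset_closure ⟨α x, by simp⟩
      | one => simp
      | mul a b _ _ ha hb => rw [map_mul]; exact Subgroup.mul_mem _ ha hb
      | inv a _ ha => rw [map_inv]; exact Subgroup.inv_mem _ ha
    set r := x⁻¹ * α x with hr
    have hfix := hR _ hne hinv r (Subgroup.subset_closure ⟨x, rfl⟩)
    have hit : ∀ i : ℕ, (α ^ i) x = x * r ^ i := by
      intro i
      induction i with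
      | zero => simp
      | succ i ih =>
        rw [pow_succ', MulAut.mul_apply, ih, map_mul, map_pow, hfix, pow_succ' r,
          show α x = x * r by rw [hr, mul_inv_cancel_left], mul_assoc]
    have h1 := hit q
    rw [hαq, MulAut.one_apply] at h1
    have h2 : r ^ q = 1 := mul_eq_left.1 h1.symm
    obtain ⟨k, hk⟩ := hP r
    have h3 : r = 1 := by
      rw [← orderOf_eq_one_iff]
      exact Nat.eq_one_of_dvd_coprimes (((Nat.coprime_primes hq hp).2 hqp).pow_right k)
        (orderOf_dvd_of_pow_eq_one h2) (orderOf_dvd_of_pow_eq_one hk)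
    rw [MulAut.one_apply, ← mul_inv_cancel_left x (α x), ← hr, h3, mul_one]
  -- proper invariant normal subgroups are central and fixed
  have hcentral : ∀ R : Subgroup P, R.Normal → R ≠ ⊤ → (∀ r ∈ R, α r ∈ R) →
      ∀ r ∈ R, r ∈ Subgroup.center P ∧ α r = r := by
    intro R hRn hne hinv r hr
    refine ⟨Subgroup.mem_center_iff.2 ?_, hR R hne hinv r hr⟩
    have key : Subgroup.closure (Set.range fun x : P => x⁻¹ * α x) ≤ Subgroup.centralizer {r} := by
      rw [Subgroup.closure_le]
      rintro _ ⟨x, rfl⟩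
      show x⁻¹ * α x ∈ Subgroup.centralizer {r}
      rw [Subgroup.mem_centralizer_singleton_iff]
      have h1 : x * r * x⁻¹ ∈ R := hRn.conj_mem r hr x
      have h2 := hR R hne hinv _ h1
      rw [map_mul, map_mul, map_inv, hR R hne hinv r hr] at h2
      calc x⁻¹ * α x * r = x⁻¹ * (α x * r * (α x)⁻¹) * α x := by group
        _ = x⁻¹ * (x * r * x⁻¹) * α x := by rw [h2]
        _ = r * (x⁻¹ * α x) := by group
    intro g
    exact Subgroup.mem_centralizer_singleton_iff.1 (key (hgen ▸ Subgroup.mem_top g))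
  haveI : Nontrivial P := by
    by_contra h
    rw [not_nontrivial_iff_subsingleton] at h
    exact hnab fun a b => Subsingleton.elim _ _
  haveI : Group.IsNilpotent P := hP.isNilpotent
  have hfr : frattini P ≠ ⊤ := fun h => by
    have h1 := frattini_nongenerating (K := (⊥ : Subgroup P)) (by rw [bot_sup_eq, h])
    exact bot_ne_top h1
  have hΦ : ∀ r ∈ frattini P, r ∈ Subgroup.center P ∧ α r = r := hcentral _ inferInstance hfr
    (fun r hr => by
      have h1 := Subgroup.characteristic_iff_map_le.1 (inferInstance : (frattini P).Characteristic) α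
      exact h1 ⟨r, hr, rfl⟩)
  have hcZ : ∀ a b : P, ⁅a, b⁆ ∈ Subgroup.center P := fun a b =>
    (hΦ _ (Basics.commutator_le_frattini
      (Subgroup.commutator_mem_commutator (Subgroup.mem_top a) (Subgroup.mem_top b)))).1
  have hpZ : ∀ x : P, x ^ p ∈ Subgroup.center P := fun x => (hΦ _ (Basics.pow_mem_frattini hP x)).1
  have hZne : Subgroup.center P ≠ ⊤ := fun h => hnab fun a b =>
    Subgroup.mem_center_iff.1 (h ▸ Subgroup.mem_top b) a
  have hZfix : ∀ z ∈ Subgroup.center P, α z = z := fun z hz =>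
    (hcentral _ inferInstance hZne (fun r hr => Subgroup.mem_center_iff.2 fun g => by
      obtain ⟨g', rfl⟩ := α.surjective g
      rw [← map_mul, ← map_mul, Subgroup.mem_center_iff.1 hr g']) z hz).2
  have hirr : ∀ R : Subgroup P, Subgroup.center P ≤ R → (∀ r ∈ R, α r ∈ R) →
      R = Subgroup.center P ∨ R = ⊤ := by
    intro R hle hinv
    by_cases hne : R = ⊤
    · exact Or.inr hne
    refine Or.inl (le_antisymm (fun r hr => (hcentral R ⟨fun n hn g => ?_⟩ hne hinv r hr).1) hle)
    have : g * n * g⁻¹ = ⁅g, n⁆ * n := by rw [commutatorElement_def]; group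
    rw [this]
    exact R.mul_mem (hle (hcZ g n)) hn
  -- commutators are bilinear
  have hmul : ∀ a b x : P, ⁅a * b, x⁆ = ⁅a, x⁆ * ⁅b, x⁆ := by
    intro a b x
    have h := Subgroup.mem_center_iff.1 (hcZ b x)
    calc ⁅a * b, x⁆ = a * ⁅b, x⁆ * (x * a⁻¹ * x⁻¹) := by simp only [commutatorElement_def]; group
      _ = ⁅b, x⁆ * (a * x * a⁻¹ * x⁻¹) := by rw [h a]; group
      _ = ⁅a, x⁆ * ⁅b, x⁆ := by rw [← h]; simp only [commutatorElement_def]
  have hmulr : ∀ a x y : P, ⁅a, x * y⁆ = ⁅a, x⁆ * ⁅a, y⁆ := by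
    intro a x y
    have h := Subgroup.mem_center_iff.1 (hcZ a y)
    calc ⁅a, x * y⁆ = a * x * a⁻¹ * ⁅a, y⁆ * x⁻¹ := by simp only [commutatorElement_def]; group
      _ = ⁅a, x⁆ * ⁅a, y⁆ := by rw [mul_assoc (a * x * a⁻¹), ← h x⁻¹, ← mul_assoc]; simp only [commutatorElement_def]
  have hone : ∀ x : P, ⁅(1 : P), x⁆ = 1 ∧ ⁅x, (1 : P)⁆ = 1 := fun x => by
    simp [commutatorElement_def]
  -- commutators have order dividing `p`
  have hDp : ∀ a b : P, ⁅a, b⁆ ^ p = 1 := by
    intro a b
    have : ∀ k : ℕ, ⁅a, b ^ k⁆ = ⁅a, b⁆ ^ k := by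
      intro k
      induction k with
      | zero => rw [pow_zero, pow_zero, (hone a).2]
      | succ k ih => rw [pow_succ, hmulr, ih, pow_succ]
    rw [← this, commutatorElement_eq_one_iff_commute]
    exact Subgroup.mem_center_iff.1 (hpZ b) a
  set D := commutator P with hDdef
  have hDZ : D ≤ Subgroup.center P := Subgroup.commutator_le.2 fun a _ b _ => hcZ a b
  have hDne : D ≠ ⊤ := fun h => hZne (eq_top_iff.2 (h ▸ hDZ))
  -- the abelianization has no nontrivial fixed points and exponent `p`
  let ψ : P →* Abelianization P := Abelianization.of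
  have hψ : ∀ {x : P}, ψ x = 1 ↔ x ∈ D := fun {x} => by
    rw [hDdef, ← Abelianization.ker_of]; rfl
  let d : Abelianization P →* Abelianization P :=
    Abelianization.lift
      (MonoidHom.mk' (fun x => (ψ x)⁻¹ * ψ (α x)) fun a b => by
        rw [map_mul, map_mul, map_mul, mul_inv]
        exact mul_mul_mul_comm _ _ _ _)
  have hd : Function.Surjective d := by
    rw [← MonoidHom.range_eq_top, eq_top_iff]
    rintro a -
    obtain ⟨x, rfl⟩ := QuotientGroup.mk_surjective a
    have hx : x ∈ Subgroup.closure (Set.range fun x : P => x⁻¹ * α x) := hgen ▸ Subgroup.mem_top x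
    have : (Subgroup.closure (Set.range fun x : P => x⁻¹ * α x)).map ψ ≤ d.range := by
      rw [MonoidHom.map_closure, Subgroup.closure_le]
      rintro _ ⟨_, ⟨y, rfl⟩, rfl⟩
      exact ⟨ψ y, by simp [d, ψ]⟩
    exact this ⟨x, hx, rfl⟩
  haveI : Finite (Abelianization P) := Quotient.finite _
  have hdi : Function.Injective d := Finite.injective_iff_surjective.2 hd
  have hZD : ∀ z ∈ Subgroup.center P, z ∈ D := by
    intro z hz
    refine hψ.1 (hdi ?_)
    rw [map_one]
    show d (ψ z) = 1
    simp [d, ψ, hZfix z hz]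
  refine ⟨hcZ, hpZ, fun z hz => ?_, ?_, α, q, hq, hqp, hαq, hirr⟩
  · have hD' := hZD z hz
    have key : ∀ w ∈ D, w ^ p = 1 := by
      intro w hw
      rw [hDdef, commutator_eq_closure] at hw
      induction hw using Subgroup.closure_induction with
      | mem w hw =>
        obtain ⟨a, b, rfl⟩ := mem_commutatorSet_iff.1 hw
        exact hDp a b
      | one => exact one_pow p
      | mul a b ha _ iha ihb =>
        have hc : Commute a b := (Subgroup.mem_center_iff.1 (hDZ (by
          rw [hDdef, commutator_eq_closure]; exact ha)) b).symm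
        rw [hc.mul_pow, iha, ihb, one_mul]
      | inv a _ iha => rw [inv_pow, iha, inv_one]
    exact key z hD'
  · intro a ha z hz
    let f : P →* P := MonoidHom.mk' (fun x => ⁅a, x⁆) fun x y => hmulr a x y
    suffices hz' : z ∈ f.range from hz'
    let S : Subgroup P :=
      { carrier := {b | ∀ x, ⁅b, x⁆ ∈ f.range}
        one_mem' := fun x => by rw [(hone x).1]; exact one_mem _
        mul_mem' := fun {b c} hb hc x => by rw [hmul]; exact mul_mem (hb x) (hc x)
        inv_mem' := fun {b} hb x => by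
          have e : ⁅b⁻¹, x⁆ = ⁅b, x⁆⁻¹ := eq_inv_of_mul_eq_one_left (by
            rw [← hmul, inv_mul_cancel, (hone x).1])
          rw [e]; exact inv_mem (hb x) }
    have hS : S = ⊤ := by
      refine (hirr S (fun c hc x => ?_) fun b hb x => ?_).resolve_left fun h => ha (h ▸ ?_)
      · rw [commutatorElement_eq_one_iff_commute.2 (Subgroup.mem_center_iff.1 hc x).symm]
        exact one_mem _
      · obtain ⟨x', rfl⟩ := α.surjective x
        rw [show ⁅α b, α x'⁆ = α ⁅b, x'⁆ from (map_commutatorElement α b x').symm,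
          hZfix _ (hcZ b x')]
        exact hb x'
      · exact fun x => ⟨x, rfl⟩
    have hD' := hZD z hz
    rw [hDdef, commutator_eq_closure] at hD'
    refine (Subgroup.closure_le _).2 ?_ hD'
    rintro w ⟨b, c, rfl⟩
    exact (hS ▸ Subgroup.mem_top b : b ∈ S) c

end Cfsg.Agent.FGB.SchmidtSyl
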