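import Cfsg.Agent.Lib.SchurMult.Cover

/-!
Central extensions of groups generated by two elements, one inverted by the other.
-/

set_option autoImplicit false

namespace Cfsg.Agent.FGB

open scoped commutatorElement

universe u v

/-- The derived subgroup of a central extension of such a group is cyclic, with a controlled
period, and meets the kernel in a controlled way. -/
theorem exists_pow_of_mem_ker_inf_commutator {Q : Type u} [Group Q] {Γ : Type v} [Group Γ]
    (σ : Γ →* Q) (hs : Function.Surjective σ) (hσ : σ.ker ≤ Subgroup.center Γ) {a b : Q} {m : ℕ}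
    (hm : 0 < m) (hgen : Subgroup.closure ({a, b} : Set Q) = ⊤) (hba : b * a * b⁻¹ = a⁻¹)
    (hpow : a ^ m = 1 ∨ a ^ m = b * b) :
    ∃ c : Γ, c ^ m = 1 ∧ σ c = a⁻¹ * a⁻¹ ∧
      ∀ d ∈ σ.ker ⊓ commutator Γ, ∃ k : ℕ, k < m ∧ d = c ^ k := by
  obtain ⟨A, hA⟩ := hs a
  obtain ⟨B, hB⟩ := hs b
  obtain ⟨z, hz⟩ : ∃ z, z = B * A * B⁻¹ * A := ⟨_, rfl⟩
  have hzc : ∀ g, g * z = z * g := Subgroup.mem_center_iff.mp (hσ (by
    rw [MonoidHom.mem_ker, hz, map_mul, map_mul, map_mul, map_inv, hA, hB, hba, inv_mul_cancel]))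
  obtain ⟨c, hc⟩ : ∃ c, c = B * A * B⁻¹ * A⁻¹ := ⟨_, rfl⟩
  have hBA : B * A * B⁻¹ = A⁻¹ * z := by
    rw [hzc A⁻¹, hz]; group
  have hcz : c = A⁻¹ * A⁻¹ * z := by
    rw [hc, hBA, mul_assoc, ← hzc, ← mul_assoc]
  have hcA : A * c * A⁻¹ = c := by
    rw [hcz]
    calc A * (A⁻¹ * A⁻¹ * z) * A⁻¹ = A⁻¹ * (z * A⁻¹) := by group
      _ = A⁻¹ * A⁻¹ * z := by rw [← hzc, mul_assoc]
  have hcB : B * c * B⁻¹ = c⁻¹ := by
    have e1 : B * A⁻¹ * B⁻¹ = A * z⁻¹ := by
      calc B * A⁻¹ * B⁻¹ = (B * A * B⁻¹)⁻¹ := by group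
        _ = z⁻¹ * A := by rw [hBA, mul_inv_rev, inv_inv]
        _ = A * z⁻¹ := (Commute.inv_right (hzc A)).eq.symm
    have e2 : B * z * B⁻¹ = z := by rw [hzc, mul_inv_cancel_right]
    calc B * c * B⁻¹ = (B * A⁻¹ * B⁻¹) * (B * A⁻¹ * B⁻¹) * (B * z * B⁻¹) := by rw [hcz]; group
      _ = A * z⁻¹ * (A * z⁻¹) * z := by rw [e1, e2]
      _ = A * (z⁻¹ * A) := by group
      _ = (A⁻¹ * A⁻¹ * z)⁻¹ := by
          rw [mul_inv_rev, mul_inv_rev, inv_inv, ← mul_assoc, (Commute.inv_right (hzc A)).eq,
            mul_assoc]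
      _ = c⁻¹ := by rw [hcz]
  -- generation
  set S := Subgroup.closure ({A, B} : Set Γ) ⊔ σ.ker with hS
  have hStop : S = ⊤ := by
    rw [eq_top_iff]
    intro g _
    have hg : σ g ∈ (Subgroup.closure ({A, B} : Set Γ)).map σ := by
      rw [MonoidHom.map_closure, Set.image_pair, hA, hB, hgen]
      exact Subgroup.mem_top _
    obtain ⟨g', hg', hgg⟩ := hg
    rw [← mul_inv_cancel_left g' g]
    exact Subgroup.mul_mem_sup hg'
      (MonoidHom.mem_ker.mpr (by rw [map_mul, map_inv, hgg, inv_mul_cancel]))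
  -- `⟨c⟩` is normal
  have hN : (Subgroup.zpowers c).Normal := by
    refine ⟨fun x hx g => ?_⟩
    have hle : S ≤ Subgroup.normalizer (Subgroup.zpowers c : Set Γ) := by
      rw [hS, sup_le_iff]
      refine ⟨(Subgroup.closure_le _).mpr ?_, fun y hy => ?_⟩
      · have key : ∀ X : Γ, (∃ e : ℤ, e * e = 1 ∧ X * c * X⁻¹ = c ^ e) →
            X ∈ Subgroup.normalizer (Subgroup.zpowers c : Set Γ) := by
          rintro X ⟨e, he, hX⟩
          rw [Subgroup.mem_normalizer_iff]
          intro h
          have hconj : ∀ i : ℤ, X * c ^ i * X⁻¹ = c ^ (e * i) := fun i => by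
            rw [← conj_zpow, hX, ← zpow_mul]
          constructor
          · rintro ⟨i, rfl⟩
            exact ⟨e * i, (hconj i).symm⟩
          · rintro ⟨i, hi⟩
            refine ⟨e * i, ?_⟩
            have h1 : X * h * X⁻¹ = X * c ^ (e * i) * X⁻¹ := by
              rw [hconj, ← mul_assoc e e, he, one_mul]; exact hi.symm
            exact (mul_left_cancel (mul_right_cancel h1)).symm
        rintro X (rfl | hX)
        · exact key _ ⟨1, rfl, by rw [hcA, zpow_one]⟩
        · rw [Set.mem_singleton_iff.mp hX]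
          exact key _ ⟨-1, rfl, by rw [hcB, zpow_neg_one]⟩
      · rw [Subgroup.mem_normalizer_iff]
        intro h
        rw [(Subgroup.mem_center_iff.mp (hσ hy) h).symm, mul_inv_cancel_right]
    rw [hStop] at hle
    exact (Subgroup.mem_normalizer_iff.mp (hle (Subgroup.mem_top g)) x).mp hx
  have hder : commutator Γ ≤ Subgroup.zpowers c := by
    rw [commutator_def, Subgroup.commutator_le]
    have hAB : ∀ X ∈ ({A, B} : Set Γ), ∀ Y ∈ ({A, B} : Set Γ),
        Commute (X : Γ ⧸ Subgroup.zpowers c) Y := by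
      have h1 : Commute (B : Γ ⧸ Subgroup.zpowers c) A := by
        rw [← commutatorElement_eq_one_iff_commute]
        exact (QuotientGroup.eq_one_iff (B * A * B⁻¹ * A⁻¹)).mpr (hc ▸ Subgroup.mem_zpowers c)
      rintro X (rfl | hX) Y (rfl | hY)
      · exact Commute.refl _
      · rw [Set.mem_singleton_iff.mp hY]; exact h1.symm
      · rw [Set.mem_singleton_iff.mp hX]; exact h1
      · rw [Set.mem_singleton_iff.mp hX, Set.mem_singleton_iff.mp hY]
    have key : ∀ X : Γ, (∀ Y ∈ ({A, B} : Set Γ), Commute (X : Γ ⧸ Subgroup.zpowers c) Y) →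
        ∀ y, Commute (X : Γ ⧸ Subgroup.zpowers c) y := by
      intro X hX y
      have hle : S ≤ (Subgroup.centralizer {(X : Γ ⧸ Subgroup.zpowers c)}).comap
          (QuotientGroup.mk' (Subgroup.zpowers c)) := by
        rw [hS, sup_le_iff]
        refine ⟨(Subgroup.closure_le _).mpr fun Y hY => ?_, fun Y hY => ?_⟩
        · exact Subgroup.mem_centralizer_singleton_iff.mpr (hX Y hY).symm.eq
        · refine Subgroup.mem_centralizer_singleton_iff.mpr ?_
          show (Y : Γ ⧸ Subgroup.zpowers c) * X = X * Y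
          exact (congrArg QuotientGroup.mk (Subgroup.mem_center_iff.mp (hσ hY) X)).symm
      obtain ⟨y, rfl⟩ := QuotientGroup.mk_surjective y
      exact (Subgroup.mem_centralizer_singleton_iff.mp (hle (hStop.symm ▸ Subgroup.mem_top y))).symm
    intro p _ q _
    rw [← QuotientGroup.eq_one_iff, ← QuotientGroup.mk'_apply, map_commutatorElement,
      commutatorElement_eq_one_iff_mul_comm]
    exact key p (fun Y hY => (key Y (hAB Y hY) _).symm) _
  -- the period
  have hzm : z ^ m = A ^ m * A ^ m := by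
    have h1 : B * A ^ m * B⁻¹ = A ^ m := by
      have hcomm : Commute B (A ^ m) := by
        rcases hpow with h | h
        · exact Subgroup.mem_center_iff.mp (hσ (by rw [MonoidHom.mem_ker, map_pow, hA, h])) B
        · have hu : (B * B)⁻¹ * A ^ m ∈ σ.ker := by
            rw [MonoidHom.mem_ker, map_mul, map_inv, map_mul, map_pow, hA, hB, h, inv_mul_cancel]
          have hu' : Commute B ((B * B)⁻¹ * A ^ m) := Subgroup.mem_center_iff.mp (hσ hu) B
          have h2 := ((Commute.refl B).mul_right (Commute.refl B)).mul_right hu'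
          rwa [mul_inv_cancel_left] at h2
      rw [hcomm.eq, mul_inv_cancel_right]
    rw [← conj_pow, hBA, Commute.mul_pow (hzc _), inv_pow, inv_mul_eq_iff_eq_mul] at h1
    exact h1
  have hcm : c ^ m = 1 := by
    rw [hcz, Commute.mul_pow (hzc _), Commute.mul_pow (Commute.refl _), inv_pow, hzm]
    group
  have hfin : IsOfFinOrder c := isOfFinOrder_iff_pow_eq_one.mpr ⟨m, hm, hcm⟩
  refine ⟨c, hcm, ?_, fun d hd => ?_⟩
  · rw [hc, map_mul, map_mul, map_mul, map_inv, map_inv, hA, hB, hba]
  · obtain ⟨k, hk⟩ := (Submonoid.mem_powers_iff _ _).mp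
      (hfin.mem_powers_iff_mem_zpowers.mpr (hder hd.2))
    exact ⟨k % m, Nat.mod_lt _ hm, by rw [← hk, ← pow_mod_orderOf c k, ← pow_mod_orderOf c (k % m),
      Nat.mod_mod_of_dvd _ (orderOf_dvd_of_pow_eq_one hcm)]⟩

/-- Generators of the dihedral group. -/
theorem dihedral_gen (n : ℕ) [NeZero n] :
    Subgroup.closure ({DihedralGroup.r 1, DihedralGroup.sr 0} : Set (DihedralGroup n)) = ⊤ := by
  rw [eq_top_iff]
  intro g _
  have hr : ∀ i : ZMod n, DihedralGroup.r i ∈
      Subgroup.closure ({DihedralGroup.r 1, DihedralGroup.sr 0} : Set (DihedralGroup n)) := by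
    intro i
    have : DihedralGroup.r i = (DihedralGroup.r 1 : DihedralGroup n) ^ i.val := by
      rw [DihedralGroup.r_one_pow, ZMod.natCast_zmod_val]
    rw [this]
    exact pow_mem (Subgroup.subset_closure (by simp)) _
  cases g with
  | r i => exact hr i
  | sr i =>
    have : DihedralGroup.sr i = DihedralGroup.sr (0 : ZMod n) * DihedralGroup.r i := by
      rw [DihedralGroup.sr_mul_r, zero_add]
    rw [this]
    exact mul_mem (Subgroup.subset_closure (by simp)) (hr i)

theorem dihedral_conj (n : ℕ) :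
    DihedralGroup.sr (0 : ZMod n) * DihedralGroup.r 1 * (DihedralGroup.sr 0)⁻¹ =
      (DihedralGroup.r 1)⁻¹ := by
  simp [DihedralGroup.inv_sr]

/-- The projection of the dicyclic group onto the dihedral group. -/
def quaternionToDihedral (n : ℕ) : QuaternionGroup n →* DihedralGroup n where
  toFun
    | QuaternionGroup.a i => DihedralGroup.r (ZMod.castHom (dvd_mul_left n 2) (ZMod n) i)
    | QuaternionGroup.xa i => DihedralGroup.sr (ZMod.castHom (dvd_mul_left n 2) (ZMod n) i)
  map_one' := by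
    rw [QuaternionGroup.one_def]
    show DihedralGroup.r _ = _
    rw [map_zero, DihedralGroup.r_zero]
  map_mul' x y := by
    cases x <;> cases y <;>
      simp [QuaternionGroup.a_mul_a, QuaternionGroup.a_mul_xa, QuaternionGroup.xa_mul_a,
        QuaternionGroup.xa_mul_xa]

theorem quaternionToDihedral_stem (n : ℕ) [NeZero n] (hn : Even n) :
    Cfsg.IsStemExtension (quaternionToDihedral n) ∧
      Nat.card (quaternionToDihedral n).ker = 2 := by
  have hsurj : Function.Surjective (quaternionToDihedral n) := by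
    have hc := ZMod.castHom_surjective (dvd_mul_left n 2)
    intro g
    cases g with
    | r i => obtain ⟨j, hj⟩ := hc i; exact ⟨QuaternionGroup.a j, congrArg DihedralGroup.r hj⟩
    | sr i => obtain ⟨j, hj⟩ := hc i; exact ⟨QuaternionGroup.xa j, congrArg DihedralGroup.sr hj⟩
  have hcard : Nat.card (quaternionToDihedral n).ker = 2 := by
    have h1 := Subgroup.card_mul_index (quaternionToDihedral n).ker
    rw [Subgroup.index_ker, MonoidHom.range_eq_top.mpr hsurj, Subgroup.card_top,
      DihedralGroup.nat_card, Nat.card_eq_fintype_card (α := QuaternionGroup n),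
      QuaternionGroup.card] at h1
    have hn0 : n ≠ 0 := NeZero.ne n
    exact Nat.eq_of_mul_eq_mul_right (show 0 < 2 * n by omega) (h1.trans (by ring))
  have hmem : QuaternionGroup.a (n : ZMod (2 * n)) ∈ (quaternionToDihedral n).ker := by
    rw [MonoidHom.mem_ker]
    show DihedralGroup.r _ = _
    rw [map_natCast, ZMod.natCast_self, DihedralGroup.r_zero]
  have hne : QuaternionGroup.a (n : ZMod (2 * n)) ≠ 1 := by
    rw [QuaternionGroup.one_def]
    intro h
    have h1 : (n : ZMod (2 * n)) = 0 := QuaternionGroup.a.inj h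
    rw [ZMod.natCast_eq_zero_iff] at h1
    have := Nat.le_of_dvd (Nat.pos_of_ne_zero (NeZero.ne n)) h1
    have := NeZero.ne n
    omega
  have hker : ∀ g ∈ (quaternionToDihedral n).ker, g = 1 ∨ g = QuaternionGroup.a (n : ZMod (2 * n)) := by
    obtain ⟨y, hy⟩ := ((Nat.card_eq_two_iff' (1 : (quaternionToDihedral n).ker)).mp hcard)
    intro g hg
    by_cases h : g = 1
    · exact Or.inl h
    · have e1 := hy.2 ⟨g, hg⟩ fun he => h (congrArg Subtype.val he)
      have e2 := hy.2 ⟨_, hmem⟩ fun he => hne (congrArg Subtype.val he)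
      exact Or.inr (congrArg Subtype.val (e1.trans e2.symm))
  have hnn : (n : ZMod (2 * n)) + n = 0 := by
    rw [← Nat.cast_add, ← two_mul, ZMod.natCast_self]
  refine ⟨⟨hsurj, fun g hg => ?_, fun g hg => ?_⟩, hcard⟩
  · rw [Subgroup.mem_center_iff]
    intro x
    rcases hker g hg with rfl | rfl
    · simp
    · cases x with
      | a i => simp [add_comm]
      | xa i =>
        rw [QuaternionGroup.xa_mul_a, QuaternionGroup.a_mul_xa]
        congr 1
        linear_combination hnn
  · rcases hker g hg with rfl | rfl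
    · exact one_mem _
    · obtain ⟨k, hk⟩ := hn
      have h1 : ⁅QuaternionGroup.xa (0 : ZMod (2 * n)), QuaternionGroup.a (k : ZMod (2 * n))⁆ =
          QuaternionGroup.a (n : ZMod (2 * n)) := by
        rw [commutatorElement_def]
        have hx : (QuaternionGroup.xa (0 : ZMod (2 * n)))⁻¹ = QuaternionGroup.xa ((n : ZMod (2 * n))) := by
          rw [inv_eq_iff_mul_eq_one, QuaternionGroup.xa_mul_xa, QuaternionGroup.one_def, sub_zero, hnn]
        have ha : (QuaternionGroup.a (k : ZMod (2 * n)))⁻¹ = QuaternionGroup.a (-(k : ZMod (2 * n))) := by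
          rw [inv_eq_iff_mul_eq_one, QuaternionGroup.a_mul_a, QuaternionGroup.one_def, add_neg_cancel]
        rw [hx, ha, QuaternionGroup.xa_mul_a, QuaternionGroup.xa_mul_xa, QuaternionGroup.a_mul_a]
        congr 1
        have hk' : (n : ZMod (2 * n)) = k + k := by rw [← Nat.cast_add, ← hk]
        linear_combination hk'
      rw [← h1]
      exact Subgroup.commutator_mem_commutator (Subgroup.mem_top _) (Subgroup.mem_top _)

end Cfsg.Agent.FGB
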