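import Mathlib
import Cfsg.Agent.S4071
import Cfsg.Agent.S4072
import Cfsg.Agent.S4075
import Cfsg.Agent.Lib.Transfer.Fusion
import Cfsg.Agent.Lib.Transfer.Hall
import Cfsg.Agent.Lib.Recog.CentralizerPartition

/-!
Simple groups in which every non-abelian subgroup is self-normalizing have abelian centralizers.
-/

set_option autoImplicit false

namespace Cfsg.Agent.FGB.SelfNorm

open Subgroup
open scoped Pointwise

variable {G : Type*} [Group G]

/-- Every non-abelian subgroup is self-normalizing. -/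
def Hyp (G : Type*) [Group G] : Prop :=
  ∀ H : Subgroup G, ¬ IsMulCommutative H → normalizer (H : Set G) = H

/-- Commutativity of the elements of a subgroup. -/
def Comm (H : Subgroup G) : Prop := ∀ a ∈ H, ∀ b ∈ H, a * b = b * a

theorem comm_iff {H : Subgroup G} : IsMulCommutative H ↔ Comm H := by
  constructor
  · intro h a ha b hb
    exact congrArg Subtype.val (h.is_comm.comm ⟨a, ha⟩ ⟨b, hb⟩)
  · intro h
    exact ⟨⟨fun a b => Subtype.ext (h _ a.2 _ b.2)⟩⟩

theorem Hyp.restrict (hG : Hyp G) (K : Subgroup G) : Hyp K := by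
  intro H hH
  refine le_antisymm (fun u hu => ?_) le_normalizer
  have hH' : ¬ IsMulCommutative (H.map K.subtype) := by
    rw [comm_iff] at hH ⊢
    intro h
    exact hH fun a ha b hb =>
      K.subtype_injective (h _ (mem_map_of_mem _ ha) _ (mem_map_of_mem _ hb))
  have h2 := le_normalizer_map (H := H) K.subtype (mem_map_of_mem K.subtype hu)
  rw [hG _ hH'] at h2
  obtain ⟨w, hw, hwu⟩ := h2
  exact K.subtype_injective hwu ▸ hw

theorem zpow_mul_pow_mem {A : Subgroup G} {x a : G} (ha : a ∈ A)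
    (hx : ∀ b ∈ A, ∀ j : ℤ, x ^ j * b * (x ^ j)⁻¹ ∈ A) (i : ℤ) (n : ℕ) :
    ∃ b ∈ A, (x ^ i * a) ^ n = x ^ (i * n) * b := by
  induction n with
  | zero => exact ⟨1, one_mem A, by simp⟩
  | succ n ih =>
    obtain ⟨b, hb, he⟩ := ih
    refine ⟨x ^ (-i) * b * (x ^ (-i))⁻¹ * a, mul_mem (hx b hb _) ha, ?_⟩
    rw [pow_succ, he]
    push_cast
    rw [mul_add, mul_one, zpow_add]
    group

theorem eq_one_of_coprime_pow {g : G} {n : ℕ} (hc : (orderOf g).Coprime n) (h : g ^ n = 1) :
    g = 1 := by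
  rw [← orderOf_eq_one_iff]
  exact Nat.eq_one_of_dvd_coprimes hc dvd_rfl (orderOf_dvd_of_pow_eq_one h)

theorem mem_of_coprime_pow_mem [Finite G] {H : Subgroup G} {g : G} {n : ℕ}
    (hc : (orderOf g).Coprime n) (h : g ^ n ∈ H) : g ∈ H := by
  obtain ⟨m, hm⟩ := exists_pow_eq_self_of_coprime hc.symm
  exact hm ▸ H.pow_mem h m

/-- The shape of a non-nilpotent solvable subgroup with the self-normalization property. -/
structure Struct (K : Subgroup G) (x : G) (A : Subgroup G) (r : ℕ) : Prop where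
  prime : r.Prime
  memx : x ∈ K
  le : A ≤ K
  norm : ∀ y ∈ K, ∀ a ∈ A, y * a * y⁻¹ ∈ A
  comm : Comm A
  pow : ∃ k : ℕ, orderOf x = r ^ k
  ndvd : ¬ r ∣ Nat.card A
  split : ∀ y ∈ K, ∃ i : ℤ, ∃ a ∈ A, x ^ i * a = y
  central : ∀ y ∈ K, x ^ r * y = y * x ^ r
  fpf : ∀ a ∈ A, a ≠ 1 → x * a * x⁻¹ ≠ a

theorem nilpotent_or_struct [Finite G] (hG : Hyp G) {K : Subgroup G} (hK : ¬ Comm K)
    {N : Subgroup G} (hNK : N ≤ K) (hN1 : N ≠ ⊥) (hNn : K ≤ normalizer (N : Set G))
    (hNc : ¬ K ≤ N) :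
    Group.IsNilpotent K ∨ ∃ (x : G) (A : Subgroup G) (r : ℕ), Struct K x A r := by
  by_cases hnil : Group.IsNilpotent K
  · exact Or.inl hnil
  refine Or.inr ?_
  have hS := hG.restrict K
  haveI : Group.IsSolvable K := by
    rcases S4072.main hS with h | h
    · exact h
    · exfalso
      haveI := h
      haveI : (N.subgroupOf K).Normal := (normal_subgroupOf_iff_le_normalizer hNK).mpr hNn
      rcases IsSimpleGroup.eq_bot_or_eq_top_of_normal (N.subgroupOf K) inferInstance with h1 | h1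
      · rw [subgroupOf_eq_bot] at h1
        exact hN1 (h1.eq_bot_of_le hNK)
      · exact hNc (subgroupOf_eq_top.mp h1)
  obtain ⟨x, A, r, hr, hAn, hAc, hk, hnd, hcompl, hcen, hfix⟩ := S4071.forward hnil hS
  refine ⟨x, A.map K.subtype, r, hr, x.2, map_subtype_le A, ?_, ?_, ?_, ?_, ?_, ?_, ?_⟩
  · rintro y hy _ ⟨a, ha, rfl⟩
    exact ⟨⟨y, hy⟩ * a * ⟨y, hy⟩⁻¹, hAn.conj_mem a ha _, rfl⟩
  · rintro _ ⟨a, ha, rfl⟩ _ ⟨b, hb, rfl⟩
    exact congrArg K.subtype ((comm_iff.mp hAc) a ha b hb)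
  · simpa [Subgroup.orderOf_coe] using hk
  · rwa [card_map_of_injective K.subtype_injective]
  · intro y hy
    obtain ⟨⟨u, a⟩, hua⟩ := hcompl.2 ⟨y, hy⟩
    obtain ⟨i, hi⟩ := mem_zpowers_iff.mp u.2
    refine ⟨i, (a : K), mem_map_of_mem _ a.2, ?_⟩
    have h1 : ((u : K) : G) * ((a : K) : G) = y := congrArg Subtype.val hua
    rw [← hi] at h1
    simpa using h1
  · intro y hy
    have := (mem_center_iff.mp hcen ⟨y, hy⟩).symm
    simpa using congrArg Subtype.val this
  · rintro _ ⟨a, ha, rfl⟩ ha1 h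
    refine hfix a ha (fun e => ha1 (by simp [e])) ?_
    exact Subtype.ext (by simpa using h)

section struct

variable [Finite G] {K A : Subgroup G} {x : G} {r : ℕ}

theorem Struct.conj_zpow (h : Struct K x A r) :
    ∀ b ∈ A, ∀ j : ℤ, x ^ j * b * (x ^ j)⁻¹ ∈ A :=
  fun b hb j => h.norm _ (K.zpow_mem h.memx j) b hb

theorem Struct.pow_mem (h : Struct K x A r) {k : ℕ} (hk : orderOf x = r ^ k) {y : G} (hy : y ∈ K) :
    y ^ (r ^ k) ∈ A := by
  obtain ⟨i, a, ha, rfl⟩ := h.split y hy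
  obtain ⟨b, hb, he⟩ := zpow_mul_pow_mem ha h.conj_zpow i (r ^ k)
  have hx : x ^ (i * ((r ^ k : ℕ) : ℤ)) = 1 := by
    rw [mul_comm, zpow_mul, zpow_natCast, ← hk, pow_orderOf_eq_one, one_zpow]
  rw [he, hx, one_mul]
  exact hb

theorem Struct.mem_of_coprime (h : Struct K x A r) {y : G} (hy : y ∈ K)
    (hc : (orderOf y).Coprime r) : y ∈ A := by
  obtain ⟨k, hk⟩ := h.pow
  exact mem_of_coprime_pow_mem (Nat.Coprime.pow_right k hc) (h.pow_mem hk hy)

theorem Struct.ne_bot (h : Struct K x A r) (hK : ¬ Comm K) : ∃ a ∈ A, a ≠ 1 := by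
  by_contra hc
  push_neg at hc
  refine hK fun u hu v hv => ?_
  obtain ⟨i, a, ha, rfl⟩ := h.split u hu
  obtain ⟨j, b, hb, rfl⟩ := h.split v hv
  rw [hc a ha, hc b hb, mul_one, mul_one]
  exact (Commute.zpow_zpow_self x i j).eq

theorem Struct.dvd_of_commute (h : Struct K x A r) {i : ℤ} {a : G} (ha : a ∈ A) (ha1 : a ≠ 1)
    (hc : Commute (x ^ i) a) : (r : ℤ) ∣ i := by
  by_contra hn
  obtain ⟨k, hk⟩ := h.pow
  have h1 : IsCoprime i ((r : ℤ) ^ k) :=
    (((Nat.prime_iff_prime_int.mp h.prime).coprime_iff_not_dvd).mpr hn).symm.pow_right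
  obtain ⟨u, v, huv⟩ := h1
  have hr1 : x ^ ((r : ℤ) ^ k) = 1 := by
    rw [← Nat.cast_pow, zpow_natCast, ← hk, pow_orderOf_eq_one]
  have hx : x = (x ^ i) ^ u := by
    rw [← zpow_mul, mul_comm i u]
    calc x = x ^ (u * i + v * (r : ℤ) ^ k) := by rw [huv, zpow_one]
      _ = x ^ (u * i) := by rw [zpow_add, mul_comm v, zpow_mul x ((r : ℤ) ^ k) v, hr1, one_zpow, mul_one]
  refine h.fpf a ha ha1 ?_
  have := hc.zpow_left u
  rw [← hx] at this
  rw [this.eq, mul_inv_cancel_right]

theorem Struct.commute_of_dvd (h : Struct K x A r) {i : ℤ} (hi : (r : ℤ) ∣ i) {y : G} (hy : y ∈ K) :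
    Commute (x ^ i) y := by
  obtain ⟨j, rfl⟩ := hi
  rw [zpow_mul, zpow_natCast]
  exact Commute.zpow_left (h.central y hy) j

theorem Struct.eq_zpow_of_center (h : Struct K x A r) (hK : ¬ Comm K) {z : G} (hz : z ∈ K)
    (hzc : ∀ y ∈ K, z * y = y * z) : ∃ i : ℤ, (r : ℤ) ∣ i ∧ z = x ^ i := by
  obtain ⟨i, a, ha, rfl⟩ := h.split z hz
  have hax : a = 1 := by
    by_contra ha1
    refine h.fpf a ha ha1 ?_
    have h1 := hzc x h.memx
    have h2 : x ^ i * (a * x) = x ^ i * (x * a) := by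
      rw [← mul_assoc, h1, ← mul_assoc, ← mul_assoc, ← zpow_add_one, ← zpow_one_add, add_comm]
    rw [← mul_left_cancel h2, mul_inv_cancel_right]
  subst hax
  obtain ⟨a0, ha0, ha01⟩ := h.ne_bot hK
  refine ⟨i, h.dvd_of_commute ha0 ha01 ?_, mul_one _⟩
  have := hzc a0 (h.le ha0)
  rwa [mul_one] at this

/-- A normal `r`-subgroup is central. -/
theorem Struct.central_rSubgroup (h : Struct K x A r) (hK : ¬ Comm K) {U : Subgroup G}
    (hU : IsPGroup r U) (hUK : U ≤ K) (hUn : K ≤ normalizer (U : Set G)) {u : G} (hu : u ∈ U)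
    {y : G} (hy : y ∈ K) : u * y = y * u := by
  haveI := Fact.mk h.prime
  have hcop : ∀ a ∈ A, (orderOf a).Coprime r := fun a ha => (Nat.Coprime.coprime_dvd_left
    (orderOf_dvd_natCard A ha) ((h.prime.coprime_iff_not_dvd.mpr h.ndvd).symm))
  have hord : ∀ v ∈ U, ∃ l : ℕ, orderOf v = r ^ l := fun v hv => by
    obtain ⟨l, hl⟩ := (IsPGroup.iff_orderOf.mp hU) ⟨v, hv⟩
    exact ⟨l, by rwa [Subgroup.orderOf_mk] at hl⟩
  have hint : ∀ v ∈ U, v ∈ A → v = 1 := fun v hv hvA => by
    obtain ⟨l, hl⟩ := hord v hv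
    exact eq_one_of_coprime_pow (Nat.Coprime.pow_right l (hcop v hvA)) (hl ▸ pow_orderOf_eq_one v)
  have hUA : ∀ a ∈ A, Commute u a := fun a ha => by
    have h1 : u * a * u⁻¹ * a⁻¹ = 1 := hint _ (by
        have := (mem_normalizer_iff.mp (hUn (h.le ha)) u⁻¹).mp (inv_mem hu)
        simpa [mul_assoc] using mul_mem hu this)
      (mul_mem (h.norm u (hUK hu) a ha) (inv_mem ha))
    exact mul_inv_eq_iff_eq_mul.mp (mul_inv_eq_one.mp h1)
  obtain ⟨i, b, hb, hib⟩ := h.split u (hUK hu)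
  have hxiA : ∀ a ∈ A, Commute (x ^ i) a := fun a ha => by
    have h1 : x ^ i = u * b⁻¹ := by rw [← hib, mul_inv_cancel_right]
    rw [h1]
    exact (hUA a ha).mul_left (show Commute b⁻¹ a from (h.comm _ (inv_mem hb) a ha))
  obtain ⟨a0, ha0, ha01⟩ := h.ne_bot hK
  have hi := h.dvd_of_commute ha0 ha01 (hxiA a0 ha0)
  have hb1 : b = 1 := by
    obtain ⟨l, hl⟩ := hord u hu
    obtain ⟨k, hk⟩ := h.pow
    have h1 : (x ^ i * b) ^ (r ^ (k + l)) = 1 := by
      rw [hib]; exact orderOf_dvd_iff_pow_eq_one.mp (hl ▸ pow_dvd_pow r (Nat.le_add_left l k))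
    have h2 : (x ^ i) ^ (r ^ (k + l)) = 1 := by
      rw [← zpow_natCast, ← zpow_mul, mul_comm, zpow_mul, zpow_natCast,
        orderOf_dvd_iff_pow_eq_one.mp (hk ▸ pow_dvd_pow r (Nat.le_add_right k l)), one_zpow]
    rw [(hxiA b hb).mul_pow, h2, one_mul] at h1
    exact eq_one_of_coprime_pow (Nat.Coprime.pow_right _ (hcop b hb)) h1
  rw [← hib, hb1, mul_one]
  exact (h.commute_of_dvd hi hy).eq

end struct

theorem exists_ne_comm_of_normalizer [Finite G] {p : ℕ} [Fact p.Prime] (hG : Hyp G)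
    {U : Subgroup G} (hU : IsPGroup p U) {g : G} (hg : g ∈ normalizer (U : Set G))
    (hgo : (orderOf g).Coprime p) (hgc : g ∉ centralizer (U : Set G)) :
    ∃ (x : G) (A : Subgroup G) (r : ℕ), r ≠ p ∧ Struct (normalizer (U : Set G)) x A r := by
  set L := normalizer (U : Set G) with hL
  obtain ⟨u, hu, hne⟩ : ∃ u ∈ U, u * g ≠ g * u := by
    by_contra h
    push_neg at h
    exact hgc (mem_centralizer_iff.mpr h)
  have huL : u ∈ L := le_normalizer hu
  have hLc : ¬ Comm L := fun h => hne (h u huL g hg)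
  have hU1 : U ≠ ⊥ := by
    rintro rfl
    rw [mem_bot] at hu
    simp [hu] at hne
  have hord : ∀ v ∈ U, ∃ l : ℕ, orderOf v = p ^ l := fun v hv => by
    obtain ⟨l, hl⟩ := (IsPGroup.iff_orderOf.mp hU) ⟨v, hv⟩
    exact ⟨l, by rwa [Subgroup.orderOf_mk] at hl⟩
  have hLU : ¬ L ≤ U := fun h => by
    obtain ⟨l, hl⟩ := hord g (h hg)
    have := eq_one_of_coprime_pow (Nat.Coprime.pow_right l hgo) (hl ▸ pow_orderOf_eq_one g)
    simp [this] at hne
  rcases nilpotent_or_struct hG hLc le_normalizer hU1 le_rfl hLU with hn | ⟨x, A, r, hs⟩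
  · exfalso
    obtain ⟨l, hl⟩ := hord u hu
    have hc : Commute (⟨u, huL⟩ : L) ⟨g, hg⟩ := Transfer.commute_of_coprime_of_nilpotent (by
      rw [Subgroup.orderOf_mk, Subgroup.orderOf_mk, hl]
      exact Nat.Coprime.pow_left l hgo.symm)
    exact hne (congrArg Subtype.val hc.eq)
  · refine ⟨x, A, r, ?_, hs⟩
    rintro rfl
    exact hne (hs.central_rSubgroup hLc hU le_normalizer le_rfl hu hg)

variable [Finite G] [IsSimpleGroup G]

theorem sylow_comm (hG : Hyp G) (hna : ¬ IsMulCommutative G) {p : ℕ} [Fact p.Prime]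
    (P : Sylow p G) : Comm (P : Subgroup G) := by
  obtain ⟨Q, hQ⟩ : ∃ Q : Sylow p G, Comm (Q : Subgroup G) := by
    by_cases hfr : ∀ D : Subgroup G, IsPGroup p D → ∀ g ∈ normalizer (D : Set G),
        (orderOf g).Coprime p → g ∈ centralizer (D : Set G)
    · obtain ⟨Q, N, hN, hc⟩ := Transfer.hasNormalPComplement_of_frobenius hfr
      rcases hN.eq_bot_or_eq_top with rfl | rfl
      · exfalso
        rw [isComplement'_bot_left] at hc
        have hp : IsPGroup p G := Q.2.of_surjective (Q : Subgroup G).subtype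
          fun y => ⟨⟨y, hc ▸ mem_top y⟩, rfl⟩
        haveI : Nontrivial G := IsSimpleGroup.toNontrivial
        have := hp.center_nontrivial
        have hcb := Recog.center_eq_bot_of_simple (T := G) inferInstance hna
        rw [hcb] at this
        exact not_nontrivial _ this
      · rw [isComplement'_top_left] at hc
        exact ⟨Q, by rw [hc]; intro a ha b hb; rw [mem_bot] at ha hb; rw [ha, hb]⟩
    · push_neg at hfr
      obtain ⟨U, hU, g, hg, hgo, hgc⟩ := hfr
      obtain ⟨x, A, r, hrp, hs⟩ := exists_ne_comm_of_normalizer hG hU hg hgo hgc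
      set L := normalizer (U : Set G) with hL
      have hpr : ∀ q : ℕ, q.Prime → q ≠ p → ∀ (y : G) (l : ℕ), orderOf y = p ^ l →
          (orderOf y).Coprime q := fun q hq hne y l hy => by
        rw [hy]; exact Nat.Coprime.pow_left l ((Nat.coprime_primes Fact.out hq).mpr hne.symm)
      -- the Sylow subgroup of `L`
      obtain ⟨T₀⟩ : Nonempty (Sylow p L) := inferInstance
      set T : Subgroup G := (T₀ : Subgroup L).map L.subtype with hT
      have hTp : IsPGroup p T := T₀.2.map _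
      have hTord : ∀ v ∈ T, ∃ l : ℕ, orderOf v = p ^ l := fun v hv => by
        obtain ⟨l, hl⟩ := (IsPGroup.iff_orderOf.mp hTp) ⟨v, hv⟩
        exact ⟨l, by rwa [Subgroup.orderOf_mk] at hl⟩
      have hTA : T ≤ A := fun v hv => by
        obtain ⟨l, hl⟩ := hTord v hv
        exact hs.mem_of_coprime (map_subtype_le _ hv) (hpr _ hs.prime hrp _ _ hl)
      have hTmax : ∀ V : Subgroup G, IsPGroup p V → T ≤ V → V ≤ L → V ≤ T := by
        intro V hV hTV hVL
        have h1 : V.subgroupOf L = (T₀ : Subgroup L) := T₀.3 (hV.comap_subtype) (by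
          rw [← map_le_map_iff_of_injective L.subtype_injective, map_subgroupOf_eq_of_le hVL]
          exact hTV)
        rw [hT, ← h1, map_subgroupOf_eq_of_le hVL]
      have hmemT : ∀ y ∈ L, ∀ l : ℕ, orderOf y = p ^ l → y ∈ T := by
        intro y hy l hl
        have hyA := hs.mem_of_coprime hy (hpr _ hs.prime hrp _ _ hl)
        have hyp : IsPGroup p (zpowers y) := IsPGroup.of_card (n := l) (by rw [Nat.card_zpowers, hl])
        have hle : zpowers y ≤ normalizer (T : Set G) := by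
          rw [zpowers_le, mem_normalizer_iff]
          intro t
          constructor
          · intro ht; rw [hs.comm y hyA t (hTA ht), mul_inv_cancel_right]; exact ht
          · intro ht
            have := hs.comm y⁻¹ (inv_mem hyA) _ (hTA ht)
            have h' : t = y * t * y⁻¹ := by
              calc t = y⁻¹ * (y * t * y⁻¹) * y := by group
                _ = y * t * y⁻¹ := by rw [this, inv_mul_cancel_right]
            rwa [h']
        exact hTmax _ (hyp.to_sup_of_normal_right' hTp hle) le_sup_right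
          (sup_le (zpowers_le.mpr hy) (hTA.trans hs.le)) (mem_sup_left (mem_zpowers y))
      have hUT : U ≤ T := fun v hv => by
        obtain ⟨l, hl⟩ := (IsPGroup.iff_orderOf.mp hU) ⟨v, hv⟩
        exact hmemT v (le_normalizer hv) l (by rwa [Subgroup.orderOf_mk] at hl)
      obtain ⟨S, hS⟩ := hTp.exists_le_sylow
      refine ⟨S, ?_⟩
      suffices hST : (S : Subgroup G) ≤ T by
        intro a ha b hb; exact hs.comm a (hTA (hST ha)) b (hTA (hST hb))
      by_contra hST
      haveI := S.2.isNilpotent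
      have hlt : T.subgroupOf (S : Subgroup G) < ⊤ :=
        lt_top_iff_ne_top.mpr fun h => hST (subgroupOf_eq_top.mp h)
      obtain ⟨s, hsn, hsT⟩ := SetLike.exists_of_lt
        (Group.normalizerCondition_of_isNilpotent (G := (S : Subgroup G)) _ hlt)
      have hsN : (s : G) ∈ normalizer (T : Set G) := by
        have := le_normalizer_map (H := T.subgroupOf (S : Subgroup G)) (S : Subgroup G).subtype
          (mem_map_of_mem _ hsn)
        rwa [map_subgroupOf_eq_of_le hS] at this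
      have hgN : g ∈ normalizer (T : Set G) := by
        rw [mem_normalizer_iff]
        have key : ∀ w ∈ L, ∀ t ∈ T, w * t * w⁻¹ ∈ T := fun w hw t ht => by
          obtain ⟨l, hl⟩ := hTord t ht
          refine hmemT _ (mul_mem (mul_mem hw (map_subtype_le _ ht)) (inv_mem hw)) l ?_
          rw [← hl]; exact SemiconjBy.orderOf_eq w (by simp [SemiconjBy]) |>.symm
        intro t
        refine ⟨key g hg t, fun ht => ?_⟩
        have := key g⁻¹ (inv_mem hg) _ ht
        simpa [mul_assoc] using this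
      have hgcT : g ∉ centralizer (T : Set G) := fun h => hgc (centralizer_le hUT h)
      obtain ⟨x', A', r', hr'p, hs'⟩ := exists_ne_comm_of_normalizer hG hTp hgN hgo hgcT
      obtain ⟨l, hl⟩ := (IsPGroup.iff_orderOf.mp S.2) s
      rw [← Subgroup.orderOf_coe] at hl
      have hsA := hs'.mem_of_coprime hsN (hpr _ hs'.prime hr'p _ _ hl)
      have hsL : (s : G) ∈ L := by
        apply centralizer_le_normalizer
        rw [mem_centralizer_iff]
        intro v hv
        obtain ⟨l', hl'⟩ := hTord v (hUT hv)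
        exact hs'.comm v (hs'.mem_of_coprime (le_normalizer (hUT hv)) (hpr _ hs'.prime hr'p _ _ hl')) _ hsA
      exact hsT (hmemT _ hsL l hl)
  obtain ⟨c, rfl⟩ := MulAction.exists_smul_eq G Q P
  intro a ha b hb
  rw [Sylow.coe_subgroup_smul, mem_pointwise_smul_iff_inv_smul_mem] at ha hb
  have h := hQ _ ha _ hb
  rw [← smul_mul', ← smul_mul'] at h
  exact smul_left_cancel _ h

theorem comm_of_isPGroup (hG : Hyp G) (hna : ¬ IsMulCommutative G) {p : ℕ} [Fact p.Prime]
    {H : Subgroup G} (hH : IsPGroup p H) : Comm H := by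
  obtain ⟨P, hP⟩ := hH.exists_le_sylow
  exact fun a ha b hb => sylow_comm hG hna P a (hP ha) b (hP hb)

theorem struct_of_normal (hG : Hyp G) (hna : ¬ IsMulCommutative G) {K : Subgroup G} (hK : ¬ Comm K)
    {N : Subgroup G} (hNK : N ≤ K) (hN1 : N ≠ ⊥) (hNn : K ≤ normalizer (N : Set G))
    (hNc : Comm N) : ∃ (x : G) (A : Subgroup G) (r : ℕ), Struct K x A r := by
  rcases nilpotent_or_struct hG hK hNK hN1 hNn
    (fun h => hK fun a ha b hb => hNc a (h ha) b (h hb)) with hn | h
  · exfalso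
    rcases (S4075.result (G := K)).mp (hG.restrict K) with h | ⟨h, -, -⟩
    · exact hK (comm_iff.mp h)
    · obtain ⟨p, k, hp, -, hk⟩ := (isPrimePow_nat_iff _).mp h
      haveI := Fact.mk hp
      exact hK (comm_of_isPGroup hG hna (IsPGroup.of_card hk.symm))
  · exact h

/-- The centralizers of non-identity elements are abelian. -/
theorem centralizer_comm (hG : Hyp G) (hna : ¬ IsMulCommutative G) {z : G} (hz : z ≠ 1) :
    Comm (centralizer ({z} : Set G)) := by
  by_contra hK
  set K := centralizer ({z} : Set G) with hKdef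
  have hzK : z ∈ K := mem_centralizer_singleton_iff.mpr rfl
  have hzc : ∀ y ∈ K, z * y = y * z := fun y hy => (mem_centralizer_singleton_iff.mp hy).symm
  obtain ⟨x, A, r, hs⟩ := struct_of_normal hG hna hK (N := zpowers z) (zpowers_le.mpr hzK)
    (by rwa [Ne, zpowers_eq_bot])
    (fun y hy => centralizer_le_normalizer _ (mem_centralizer_iff.mpr fun v hv => by
      obtain ⟨j, rfl⟩ := mem_zpowers_iff.mp hv
      exact (Commute.zpow_left (hzc y hy) j).eq))
    (fun a ha b hb => by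
      obtain ⟨i, rfl⟩ := mem_zpowers_iff.mp ha
      obtain ⟨j, rfl⟩ := mem_zpowers_iff.mp hb
      exact (Commute.zpow_zpow_self z i j).eq)
  haveI := Fact.mk hs.prime
  obtain ⟨i, hri, hzi⟩ := hs.eq_zpow_of_center hK hzK hzc
  obtain ⟨k, hk⟩ := hs.pow
  obtain ⟨P, hP⟩ := (IsPGroup.of_card (n := k) (by rw [Nat.card_zpowers, hk]) :
    IsPGroup r (zpowers x)).exists_le_sylow
  have hxP : x ∈ (P : Subgroup G) := hP (mem_zpowers x)
  have hzP : z ∈ (P : Subgroup G) := hzi ▸ zpow_mem hxP i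
  have hPK : (P : Subgroup G) ≤ K := fun y hy =>
    mem_centralizer_singleton_iff.mpr (sylow_comm hG hna P y hy z hzP)
  -- `P = ⟨x⟩`
  have hcopA : ∀ a ∈ A, (orderOf a).Coprime r := fun a ha => (Nat.Coprime.coprime_dvd_left
    (orderOf_dvd_natCard A ha) ((hs.prime.coprime_iff_not_dvd.mpr hs.ndvd).symm))
  have hPA : ∀ v ∈ (P : Subgroup G), v ∈ A → v = 1 := fun v hv hvA => by
    obtain ⟨l, hl⟩ := (IsPGroup.iff_orderOf.mp P.2) ⟨v, hv⟩
    rw [Subgroup.orderOf_mk] at hl
    exact eq_one_of_coprime_pow (Nat.Coprime.pow_right l (hcopA v hvA)) (hl ▸ pow_orderOf_eq_one v)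
  have hPx : ∀ v ∈ (P : Subgroup G), ∃ j : ℤ, x ^ j = v := fun v hv => by
    obtain ⟨j, a, ha, rfl⟩ := hs.split v (hPK hv)
    have : a ∈ (P : Subgroup G) := by
      simpa using mul_mem (inv_mem (zpow_mem hxP j)) hv
    exact ⟨j, by rw [hPA a this ha, mul_one]⟩
  -- the normalizer of `P` lies in `K`
  have hNP : normalizer ((P : Subgroup G) : Set G) ≤ centralizer ((P : Subgroup G) : Set G) := by
    intro y hy
    have hyx : y * x * y⁻¹ ∈ (P : Subgroup G) := (mem_normalizer_iff.mp hy x).mp hxP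
    obtain ⟨j, hj⟩ := hPx _ hyx
    have hyK : y ∈ K := by
      have hyz : y * z * y⁻¹ = z ^ j := by
        rw [hzi, ← conj_zpow, ← hj, ← zpow_mul, ← zpow_mul, mul_comm]
      rw [← hG K (fun h => hK (comm_iff.mp h))]
      refine mem_normalizer_fintype fun c hc => ?_
      show y * c * y⁻¹ ∈ K
      have h1 : Commute (y * z * y⁻¹) (y * c * y⁻¹) := Commute.conj (hzc c hc) y |>.map (MonoidHom.id G)
      obtain ⟨m, hm⟩ : ∃ m : ℤ, (y * z * y⁻¹) ^ m = z := by
        have hzp : zpowers (y * z * y⁻¹) = zpowers z := by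
          refine eq_of_le_of_card_ge (zpowers_le.mpr (hyz ▸ zpow_mem (mem_zpowers z) j)) ?_
          rw [Nat.card_zpowers, Nat.card_zpowers]
          exact le_of_eq (SemiconjBy.orderOf_eq y (by simp [SemiconjBy]))
        exact mem_zpowers_iff.mp (hzp.symm ▸ mem_zpowers z)
      have h2 := h1.zpow_left m
      rw [hm] at h2
      exact mem_centralizer_singleton_iff.mpr h2.eq.symm
    obtain ⟨l, a, ha, rfl⟩ := hs.split y hyK
    have hax : Commute a x := by
      have h1 : a * x * a⁻¹ * x⁻¹ ∈ (P : Subgroup G) := by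
        refine mul_mem ?_ (inv_mem hxP)
        have h2 := mul_mem (mul_mem (inv_mem (zpow_mem hxP l)) hyx) (zpow_mem hxP l)
        simpa [mul_assoc] using h2
      have h2 : a * x * a⁻¹ * x⁻¹ ∈ A := by
        have := mul_mem ha (hs.norm x hs.memx _ (inv_mem ha))
        simpa [mul_assoc] using this
      exact mul_inv_eq_iff_eq_mul.mp (mul_inv_eq_one.mp (hPA _ h1 h2))
    have ha1 : a = 1 := by
      by_contra ha1
      exact hs.fpf a ha ha1 (by rw [← hax.eq, mul_inv_cancel_right])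
    rw [ha1, mul_one, mem_centralizer_iff]
    intro v hv
    exact sylow_comm hG hna P v hv _ (zpow_mem hxP l)
  refine Recog.false_of_normalizer_le_centralizer (T := G) inferInstance hna P ?_ hNP
  intro h
  rw [h, mem_bot] at hzP
  exact hz hzP

end Cfsg.Agent.FGB.SelfNorm
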