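import Mathlib
import Cfsg.Agent.Lib.FGB.SelfNormCA
import Cfsg.Agent.Lib.Invol.Basic

/-!
Counting in simple groups in which non-abelian subgroups are self-normalizing: centralizers of
non-identity elements and their conjugates.
-/

set_option autoImplicit false

namespace Cfsg.Agent.FGB.SelfNorm

open Subgroup
open scoped Pointwise

variable {G : Type*} [Group G]

theorem conj_mem_centralizer_iff {g y c : G} :
    y * c * y⁻¹ ∈ centralizer ({y * g * y⁻¹} : Set G) ↔ c ∈ centralizer ({g} : Set G) := by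
  rw [mem_centralizer_singleton_iff, mem_centralizer_singleton_iff]
  have e1 : y * c * y⁻¹ * (y * g * y⁻¹) = y * (c * g) * y⁻¹ := by group
  have e2 : y * g * y⁻¹ * (y * c * y⁻¹) = y * (g * c) * y⁻¹ := by group
  rw [e1, e2]
  exact ⟨fun h => mul_left_cancel (mul_right_cancel h), fun h => by rw [h]⟩

/-- Abelian centralizers of non-identity elements. -/
def IsCA (G : Type*) [Group G] : Prop := ∀ z : G, z ≠ 1 → Comm (centralizer ({z} : Set G))

theorem IsCA.eq_of_mem (hCA : IsCA G) {g h : G} (hg : g ≠ 1) (hh : h ≠ 1)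
    (hmem : h ∈ centralizer ({g} : Set G)) :
    centralizer ({h} : Set G) = centralizer ({g} : Set G) := by
  have hgg : g ∈ centralizer ({g} : Set G) := mem_centralizer_singleton_iff.mpr rfl
  have hhh : h ∈ centralizer ({h} : Set G) := mem_centralizer_singleton_iff.mpr rfl
  have hgh : g ∈ centralizer ({h} : Set G) :=
    mem_centralizer_singleton_iff.mpr (hCA g hg g hgg h hmem)
  exact le_antisymm (fun c hc => mem_centralizer_singleton_iff.mpr (hCA h hh c hc g hgh))
    (fun c hc => mem_centralizer_singleton_iff.mpr (hCA g hg c hc h hmem))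

theorem IsCA.mem_normalizer_iff (hCA : IsCA G) [Finite G] {g y : G} (hg : g ≠ 1) :
    y ∈ normalizer (centralizer ({g} : Set G) : Set G) ↔ y * g * y⁻¹ ∈ centralizer ({g} : Set G) := by
  have hgg : g ∈ centralizer ({g} : Set G) := mem_centralizer_singleton_iff.mpr rfl
  constructor
  · exact fun h => (Subgroup.mem_normalizer_iff.mp h g).mp hgg
  · intro h
    have he := hCA.eq_of_mem hg (fun e => hg (conj_eq_one_iff.mp e)) h
    refine mem_normalizer_fintype fun c hc => ?_
    show y * c * y⁻¹ ∈ centralizer ({g} : Set G)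
    rw [← he]
    exact conj_mem_centralizer_iff.mpr hc

theorem card_centralizer_conj (g y : G) :
    Nat.card (centralizer ({y * g * y⁻¹} : Set G)) = Nat.card (centralizer ({g} : Set G)) := by
  refine (Nat.card_congr (Equiv.ofBijective
    (fun c : centralizer ({g} : Set G) =>
      (⟨y * c * y⁻¹, conj_mem_centralizer_iff.mpr c.2⟩ : centralizer ({y * g * y⁻¹} : Set G)))
    ⟨fun a b h => ?_, fun c => ?_⟩)).symm
  · exact Subtype.ext (mul_left_cancel (mul_right_cancel (congrArg Subtype.val h)))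
  · refine ⟨⟨y⁻¹ * c * y, ?_⟩, Subtype.ext ?_⟩
    · rw [← conj_mem_centralizer_iff (y := y)]
      simpa [mul_assoc] using c.2
    · simp [mul_assoc]

theorem card_fibres {α β : Type*} [Finite α] [Finite β] (f : α → β) (s : Set β) (k : ℕ)
    (h : ∀ b ∈ s, Nat.card {a // f a = b} = k) : Nat.card {a // f a ∈ s} = s.ncard * k := by
  classical
  haveI : Fintype s := Fintype.ofFinite s
  let e : {a // f a ∈ s} ≃ Σ b : s, {a // f a = (b : β)} :=
    { toFun := fun a => ⟨⟨f a.1, a.2⟩, a.1, rfl⟩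
      invFun := fun q => ⟨q.2.1, by rw [q.2.2]; exact q.1.2⟩
      left_inv := fun a => rfl
      right_inv := fun ⟨⟨b, hb⟩, a, ha⟩ => by obtain rfl : f a = b := ha; rfl }
  rw [Nat.card_congr e, Nat.card_sigma, Finset.sum_congr rfl (fun b _ => h b.1 b.2),
    Finset.sum_const, Finset.card_univ, smul_eq_mul, ← Nat.card_eq_fintype_card,
    Nat.card_coe_set_eq]

/-- The non-identity elements of the conjugates of the centralizer of `g`. -/
def CentClass (g : G) : Set G := {y | y ≠ 1 ∧ ∃ c : G, c * y * c⁻¹ ∈ centralizer ({g} : Set G)}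

theorem self_mem_centClass {g : G} (hg : g ≠ 1) : g ∈ CentClass g :=
  ⟨hg, 1, by simpa using mem_centralizer_singleton_iff.mpr rfl⟩

theorem IsCA.centClass_card (hCA : IsCA G) {g y : G} (hg : g ≠ 1) (hy : y ∈ CentClass g) :
    Nat.card (centralizer ({y} : Set G)) = Nat.card (centralizer ({g} : Set G)) := by
  obtain ⟨hy1, c, hc⟩ := hy
  rw [← card_centralizer_conj y c, hCA.eq_of_mem hg (fun e => hy1 (conj_eq_one_iff.mp e)) hc]

theorem IsCA.centClass_symm (hCA : IsCA G) {g h y : G} (hg : g ≠ 1) (hh : h ≠ 1)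
    (hyg : y ∈ CentClass g) (hyh : y ∈ CentClass h) : h ∈ CentClass g := by
  obtain ⟨hy1, c, hc⟩ := hyg
  obtain ⟨-, d, hd⟩ := hyh
  refine ⟨hh, c * d⁻¹, ?_⟩
  have h1 : h ∈ centralizer ({d * y * d⁻¹} : Set G) := by
    rw [hCA.eq_of_mem hh (fun e => hy1 (conj_eq_one_iff.mp e)) hd]
    exact mem_centralizer_singleton_iff.mpr rfl
  rw [← hCA.eq_of_mem hg (fun e => hy1 (conj_eq_one_iff.mp e)) hc]
  have h2 := (conj_mem_centralizer_iff (y := c * d⁻¹)).mpr h1
  have e : c * d⁻¹ * (d * y * d⁻¹) * (c * d⁻¹)⁻¹ = c * y * c⁻¹ := by group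
  rwa [e] at h2

theorem IsCA.ncard_centClass (hCA : IsCA G) [Finite G] {g : G} (hg : g ≠ 1) :
    (CentClass g).ncard * Nat.card (normalizer (centralizer ({g} : Set G) : Set G)) =
      (Nat.card (centralizer ({g} : Set G)) - 1) * Nat.card G := by
  set M := centralizer ({g} : Set G) with hM
  set f : G × M → G := fun q => q.1 * q.2 * q.1⁻¹ with hf
  have hfib : ∀ y ∈ CentClass g, Nat.card {q : G × M // f q = y} =
      Nat.card (normalizer (M : Set G)) := by
    intro y hy
    obtain ⟨hy1, c, hc⟩ := hy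
    have hnorm : ∀ q : G × M, f q = y → c * q.1 ∈ normalizer (M : Set G) := by
      intro q hq
      have hq1 : (q.2 : G) ≠ 1 := fun e => hy1 (by rw [← hq, hf]; simp [e])
      have hMq := hCA.eq_of_mem hg hq1 q.2.2
      have h1 := (hCA.mem_normalizer_iff (g := (q.2 : G)) (y := c * q.1) hq1).mpr
      rw [hMq] at h1
      refine h1 ?_
      have e : c * q.1 * (q.2 : G) * (c * q.1)⁻¹ = c * y * c⁻¹ := by rw [← hq, hf]; group
      rw [e]; exact hc
    refine Nat.card_congr
      { toFun := fun q => ⟨c * q.1.1, hnorm q.1 q.2⟩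
        invFun := fun n => ⟨(c⁻¹ * n, ⟨(c⁻¹ * (n : G))⁻¹ * y * (c⁻¹ * n), ?_⟩), ?_⟩
        left_inv := ?_
        right_inv := ?_ }
    · have := (Subgroup.mem_normalizer_iff.mp (inv_mem n.2) _).mp hc
      simpa [mul_assoc] using this
    · simp only [hf]; group
    · rintro ⟨⟨a, b⟩, hq⟩
      simp only [hf] at hq
      refine Subtype.ext (Prod.ext ?_ (Subtype.ext ?_))
      · show c⁻¹ * (c * a) = a
        group
      · show (c⁻¹ * (c * a))⁻¹ * y * (c⁻¹ * (c * a)) = (b : G)
        rw [← hq]; group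
    · intro n
      exact Subtype.ext (show c * (c⁻¹ * (n : G)) = n by group)
  have h1 := card_fibres f (CentClass g) _ hfib
  rw [← h1]
  have e : {q : G × M // f q ∈ CentClass g} ≃ G × {x : M // x ∈ ({1}ᶜ : Set M)} :=
    { toFun := fun q => (q.1.1, ⟨q.1.2, fun e => q.2.1 (by
        rw [Set.mem_singleton_iff] at e
        simp [hf, e])⟩)
      invFun := fun q => ⟨(q.1, q.2.1), fun e => q.2.2 (Set.mem_singleton_iff.mpr (Subtype.ext
        (conj_eq_one_iff.mp e))), q.1⁻¹, by simpa [hf, mul_assoc] using q.2.1.2⟩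
      left_inv := fun q => rfl
      right_inv := fun q => rfl }
  rw [Nat.card_congr e, Nat.card_prod, Nat.card_coe_set_eq, Set.ncard_compl, Set.ncard_singleton,
    mul_comm]

variable [Finite G] [IsSimpleGroup G]

theorem isCA_of_hyp (hG : Hyp G) (hna : ¬ IsMulCommutative G) : IsCA G :=
  fun _ hz => centralizer_comm hG hna hz

/-- If the centralizer of `g` is not self-normalizing, it has prime index `r` in its normalizer. -/
theorem norm_struct (hG : Hyp G) (hna : ¬ IsMulCommutative G) {g : G} (hg : g ≠ 1)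
    (hN : ¬ normalizer (centralizer ({g} : Set G) : Set G) ≤ centralizer ({g} : Set G)) :
    ∃ r : ℕ, r.Prime ∧
      Nat.card (normalizer (centralizer ({g} : Set G) : Set G)) =
        r * Nat.card (centralizer ({g} : Set G)) ∧
      ¬ r ∣ Nat.card (centralizer ({g} : Set G)) ∧
      ∀ y ∈ normalizer (centralizer ({g} : Set G) : Set G),
        y ∉ centralizer ({g} : Set G) → y ^ r = 1 := by
  have hCA := isCA_of_hyp hG hna
  set M := centralizer ({g} : Set G) with hM
  set N := normalizer (M : Set G) with hNdef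
  have hgM : g ∈ M := mem_centralizer_singleton_iff.mpr rfl
  have hgN : g ∈ N := le_normalizer hgM
  have hNc : ¬ Comm N := fun h => hN fun y hy => mem_centralizer_singleton_iff.mpr (h y hy g hgN)
  obtain ⟨x, A, r, hs⟩ := struct_of_normal hG hna hNc (le_normalizer (H := M))
    (fun h => hg (by rw [h, mem_bot] at hgM; exact hgM)) le_rfl (hCA g hg)
  haveI := Fact.mk hs.prime
  obtain ⟨a0, ha0, ha01⟩ := hs.ne_bot hNc
  obtain ⟨b, hbA, hbM, hb1⟩ : ∃ b, b ∈ A ∧ b ∈ M ∧ b ≠ 1 := by
    by_cases hc : g * a0 * g⁻¹ * a0⁻¹ = 1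
    · exact ⟨a0, ha0, mem_centralizer_singleton_iff.mpr
        (mul_inv_eq_iff_eq_mul.mp (mul_inv_eq_one.mp hc)).symm, ha01⟩
    · refine ⟨_, mul_mem (hs.norm g hgN a0 ha0) (inv_mem ha0), ?_, hc⟩
      have h1 := (Subgroup.mem_normalizer_iff.mp (hs.le ha0) g⁻¹).mp (inv_mem hgM)
      simpa [mul_assoc] using mul_mem hgM h1
  have hbC : centralizer ({b} : Set G) = M := hCA.eq_of_mem hg hb1 hbM
  have hAM : A ≤ M := fun a ha => hbC ▸ mem_centralizer_singleton_iff.mpr (hs.comm a ha b hbA)
  have hxr : x ^ r = 1 := by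
    by_contra hx1
    have hxM : x ^ r ∈ M := mem_centralizer_singleton_iff.mpr (hs.central g hgN)
    refine hN fun y hy => ?_
    rw [show M = centralizer ({x ^ r} : Set G) from (hCA.eq_of_mem hg hx1 hxM).symm]
    exact mem_centralizer_singleton_iff.mpr (hs.central y hy).symm
  have hdiv : ∀ i : ℤ, x ^ i ∈ M → (r : ℤ) ∣ i := fun i hi => hs.dvd_of_commute hbA hb1
    (mem_centralizer_singleton_iff.mp (hbC ▸ hi : x ^ i ∈ centralizer ({b} : Set G)))
  have hpow1 : ∀ i : ℤ, (r : ℤ) ∣ i → x ^ i = 1 := by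
    rintro i ⟨j, rfl⟩
    rw [zpow_mul, zpow_natCast, hxr, one_zpow]
  have hMA : M ≤ A := by
    intro y hy
    obtain ⟨i, a, ha, rfl⟩ := hs.split y (le_normalizer hy)
    have : x ^ i ∈ M := by simpa using mul_mem hy (inv_mem (hAM ha))
    rw [hpow1 i (hdiv i this), one_mul]
    exact ha
  have heq : A = M := le_antisymm hAM hMA
  have hox : orderOf x = r := by
    refine orderOf_eq_prime hxr fun h1 => hs.fpf a0 ha0 ha01 ?_
    simp [h1]
  refine ⟨r, hs.prime, ?_, heq ▸ hs.ndvd, ?_⟩
  · have hint : ∀ v ∈ zpowers x, v ∈ A → v = 1 := by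
      intro v hv hvA
      obtain ⟨i, rfl⟩ := mem_zpowers_iff.mp hv
      exact hpow1 i (hdiv i (hAM hvA))
    let e : zpowers x × A → N := fun q =>
      ⟨q.1 * q.2, mul_mem (zpowers_le.mpr hs.memx q.1.2) (hs.le q.2.2)⟩
    have hbij : Function.Bijective e := by
      refine ⟨fun q q' h => ?_, fun y => ?_⟩
      · have h' : (q.1 : G) * q.2 = q'.1 * q'.2 := congrArg Subtype.val h
        have h2 : (q'.1 : G)⁻¹ * q.1 = q'.2 * (q.2 : G)⁻¹ := by
          rw [eq_mul_inv_iff_mul_eq, mul_assoc, h', inv_mul_cancel_left]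
        have h3 := hint _ (mul_mem (inv_mem q'.1.2) q.1.2) (h2 ▸ mul_mem q'.2.2 (inv_mem q.2.2))
        have h4 : (q.1 : G) = q'.1 := (inv_mul_eq_one.mp h3).symm
        refine Prod.ext (Subtype.ext h4) (Subtype.ext ?_)
        rw [h4] at h'
        exact mul_left_cancel h'
      · obtain ⟨i, a, ha, hy⟩ := hs.split y y.2
        exact ⟨(⟨x ^ i, zpow_mem (mem_zpowers x) i⟩, ⟨a, ha⟩), Subtype.ext hy⟩
    rw [← Nat.card_congr (Equiv.ofBijective e hbij), Nat.card_prod, Nat.card_zpowers, hox, heq]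
  · intro y hy hyM
    by_contra hy1
    have hyA : y ^ r ∈ M := by
      rw [← heq]
      have := hs.pow_mem (k := 1) (by rw [pow_one, hox]) hy
      rwa [pow_one] at this
    apply hyM
    rw [show M = centralizer ({y ^ r} : Set G) from (hCA.eq_of_mem hg hy1 hyA).symm]
    exact mem_centralizer_singleton_iff.mpr ((Commute.refl y).pow_right r).eq

/-- An element inverted by an involution has centralizer of index two in its normalizer. -/
theorem real_struct (hG : Hyp G) (hna : ¬ IsMulCommutative G) {g s : G} (hg : g * g ≠ 1)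
    (hs : orderOf s = 2) (hinv : s * g * s⁻¹ = g⁻¹) :
    Nat.card (normalizer (centralizer ({g} : Set G) : Set G)) =
        2 * Nat.card (centralizer ({g} : Set G)) ∧
      ¬ 2 ∣ Nat.card (centralizer ({g} : Set G)) ∧
      s ∈ normalizer (centralizer ({g} : Set G) : Set G) ∧ s ∉ centralizer ({g} : Set G) ∧
      (∀ w ∈ normalizer (centralizer ({g} : Set G) : Set G), w ∉ centralizer ({g} : Set G) →
        orderOf w = 2 ∧ ∀ c ∈ centralizer ({g} : Set G), w * c * w⁻¹ = c⁻¹) := by
  have hCA := isCA_of_hyp hG hna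
  have hg1 : g ≠ 1 := fun h => hg (by simp [h])
  set M := centralizer ({g} : Set G) with hM
  have hgM : g ∈ M := mem_centralizer_singleton_iff.mpr rfl
  have hsN : s ∈ normalizer (M : Set G) := (hCA.mem_normalizer_iff hg1).mpr (hinv ▸ inv_mem hgM)
  have hsM : s ∉ M := fun h => by
    have := mem_centralizer_singleton_iff.mp h
    rw [this, mul_inv_cancel_right] at hinv
    exact hg (mul_eq_one_iff_eq_inv.mpr hinv)
  obtain ⟨r, hr, hcard, hnd, hout⟩ := norm_struct hG hna hg1 fun h => hsM (h hsN)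
  obtain rfl : r = 2 := by
    have := orderOf_dvd_of_pow_eq_one (hout s hsN hsM)
    rw [hs, Nat.prime_dvd_prime_iff_eq Nat.prime_two hr] at this
    exact this.symm
  refine ⟨hcard, hnd, hsN, hsM, fun w hw hwM => ?_⟩
  have hw2 : w * w = 1 := by rw [← sq]; exact hout w hw hwM
  have hw1 : w ≠ 1 := fun h => hwM (h ▸ one_mem M)
  refine ⟨Invol.orderOf_two_of_mul_self hw2 hw1, fun c hc => ?_⟩
  have hwc : w * c ∉ M := fun h => hwM (by simpa using mul_mem h (inv_mem hc))
  have h2 : w * c * (w * c) = 1 := by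
    rw [← sq]; exact hout _ (mul_mem hw (le_normalizer hc)) hwc
  rw [Invol.inv_eq_self_of_mul_self hw2]
  exact eq_inv_of_mul_eq_one_left (by rw [← h2]; simp [mul_assoc])

end Cfsg.Agent.FGB.SelfNorm
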