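import Mathlib
import Cfsg.Agent.Lib.FGB.SelfNormClasses

/-!
Involutions in simple groups in which non-abelian subgroups are self-normalizing.
-/

set_option autoImplicit false

namespace Cfsg.Agent.FGB.SelfNorm

open Subgroup
open scoped Pointwise

variable {G : Type*} [Group G] [Finite G]

theorem ncard_orbit (H : Subgroup G) (t : G) (hle : centralizer ({t} : Set G) ≤ H) :
    {y : G | ∃ c ∈ H, c * t * c⁻¹ = y}.ncard * Nat.card (centralizer ({t} : Set G)) = Nat.card H := by
  set s := {y : G | ∃ c ∈ H, c * t * c⁻¹ = y} with hs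
  have hfib : ∀ y ∈ s, Nat.card {q : H // (q : G) * t * (q : G)⁻¹ = y} =
      Nat.card (centralizer ({t} : Set G)) := by
    rintro y ⟨c, hc, rfl⟩
    refine Nat.card_congr
      { toFun := fun q => ⟨c⁻¹ * q.1, mem_centralizer_singleton_iff.mpr ?_⟩
        invFun := fun a => ⟨⟨c * a, mul_mem hc (hle a.2)⟩, ?_⟩
        left_inv := fun q => Subtype.ext (Subtype.ext (by simp))
        right_inv := fun a => Subtype.ext (by simp) }
    · have h := q.2
      calc c⁻¹ * (q.1 : G) * t = c⁻¹ * ((q.1 : G) * t * (q.1 : G)⁻¹) * q.1 := by group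
        _ = t * (c⁻¹ * q.1) := by rw [h]; group
    · show c * (a : G) * t * (c * a)⁻¹ = c * t * c⁻¹
      rw [mul_assoc c, mem_centralizer_singleton_iff.mp a.2]
      group
  rw [← card_fibres (fun q : H => (q : G) * t * (q : G)⁻¹) s _ hfib]
  exact Nat.card_congr (Equiv.subtypeUnivEquiv fun q : H => ⟨q, q.2, rfl⟩)

variable [IsSimpleGroup G]

theorem exists_not_commute (hna : ¬ IsMulCommutative G) {t : G} (ht : orderOf t = 2) :
    ∃ w : G, orderOf w = 2 ∧ ¬ Commute w t := by
  by_contra hc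
  push_neg at hc
  have hle : normalClosure ({t} : Set G) ≤ centralizer ({t} : Set G) := by
    rw [normalClosure, closure_le]
    intro y hy
    obtain ⟨a, rfl, hay⟩ := Group.mem_conjugatesOfSet_iff.mp hy
    exact mem_centralizer_singleton_iff.mpr (hc y (Invol.orderOf_two_of_isConj hay ht)).eq
  rcases (normalClosure_normal (s := ({t} : Set G))).eq_bot_or_eq_top with h | h
  · have := subset_normalClosure (s := ({t} : Set G)) (Set.mem_singleton t)
    rw [h] at this
    exact Invol.ne_one_of_orderOf_two ht (mem_bot.mp this)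
  · have hz : t ∈ center G := mem_center_iff.mpr fun g =>
      mem_centralizer_singleton_iff.mp (hle (h ▸ mem_top g))
    rw [Recog.center_eq_bot_of_simple (T := G) inferInstance hna, mem_bot] at hz
    exact Invol.ne_one_of_orderOf_two ht hz

theorem isConj_invol_of_isCA (hCA : IsCA G) (hna : ¬ IsMulCommutative G) {t u : G}
    (ht : orderOf t = 2) (hu : orderOf u = 2) : IsConj t u := by
  have key : ∀ a b : G, orderOf a = 2 → orderOf b = 2 → ¬ Commute a b → IsConj a b := by
    intro a b ha hb hab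
    by_contra hnc
    obtain ⟨w, -, hw, hwa, hwb⟩ := Invol.exists_commuting_involution_of_not_isConj
      (Invol.mul_self_of_orderOf_two ha) (Invol.mul_self_of_orderOf_two hb) hnc
    exact hab (hCA w (Invol.ne_one_of_orderOf_two hw) a (mem_centralizer_singleton_iff.mpr hwa.eq.symm)
      b (mem_centralizer_singleton_iff.mpr hwb.eq.symm))
  by_cases htu : Commute t u
  · obtain ⟨w, hw, hwt⟩ := exists_not_commute hna ht
    refine (key t w ht hw fun h => hwt h.symm).trans (key w u hw hu fun h => hwt ?_)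
    exact hCA u (Invol.ne_one_of_orderOf_two hu) w (mem_centralizer_singleton_iff.mpr h.eq)
      t (mem_centralizer_singleton_iff.mpr htu.eq)
  · exact key t u ht hu htu

theorem isConj_invol (hG : Hyp G) (hna : ¬ IsMulCommutative G) {t u : G} (ht : orderOf t = 2)
    (hu : orderOf u = 2) : IsConj t u :=
  isConj_invol_of_isCA (isCA_of_hyp hG hna) hna ht hu

theorem not_normalizer_le (hG : Hyp G) (hna : ¬ IsMulCommutative G) {t : G} (ht : orderOf t = 2) :
    ¬ normalizer (centralizer ({t} : Set G) : Set G) ≤ centralizer ({t} : Set G) := by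
  intro h
  have hCA := isCA_of_hyp hG hna
  have ht1 := Invol.ne_one_of_orderOf_two ht
  haveI : Fact (Nat.Prime 2) := ⟨Nat.prime_two⟩
  obtain ⟨P, hP⟩ := (IsPGroup.of_card (n := 1) (by rw [Nat.card_zpowers, ht, pow_one]) :
    IsPGroup 2 (zpowers t)).exists_le_sylow
  have htP : t ∈ (P : Subgroup G) := hP (mem_zpowers t)
  have hPA : (P : Subgroup G) ≤ centralizer ({t} : Set G) := fun y hy =>
    mem_centralizer_singleton_iff.mpr (sylow_comm hG hna P y hy t htP)
  refine Recog.false_of_normalizer_le_centralizer (T := G) inferInstance hna P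
    (fun e => by rw [e, mem_bot] at htP; exact ht1 htP) fun y hy => ?_
  have hyA : y ∈ centralizer ({t} : Set G) :=
    h ((hCA.mem_normalizer_iff ht1).mpr (hPA ((Subgroup.mem_normalizer_iff.mp hy t).mp htP)))
  exact mem_centralizer_iff.mpr fun v hv => hCA t ht1 v (hPA hv) y hyA

/-- Numerical data of the normalizer of an involution centralizer. -/
theorem invol_setup (hG : Hyp G) (hna : ¬ IsMulCommutative G) {t : G} (ht : orderOf t = 2) :
    ∃ p : ℕ, p.Prime ∧ p ≠ 2 ∧
      Nat.card (normalizer (centralizer ({t} : Set G) : Set G)) =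
        p * Nat.card (centralizer ({t} : Set G)) ∧
      ¬ p ∣ Nat.card (centralizer ({t} : Set G)) ∧
      (∀ y ∈ normalizer (centralizer ({t} : Set G) : Set G),
        y ∉ centralizer ({t} : Set G) → y ^ p = 1) ∧
      {s : G | orderOf s = 2 ∧ s ∈ centralizer ({t} : Set G)}.ncard = p ∧
      p + 1 ≤ Nat.card (centralizer ({t} : Set G)) ∧
      {s : G | orderOf s = 2}.ncard * Nat.card (centralizer ({t} : Set G)) = Nat.card G := by
  have hCA := isCA_of_hyp hG hna
  have ht1 := Invol.ne_one_of_orderOf_two ht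
  set A := centralizer ({t} : Set G) with hA
  have htA : t ∈ A := mem_centralizer_singleton_iff.mpr rfl
  obtain ⟨p, hp, hcard, hnd, hout⟩ := norm_struct hG hna ht1 (not_normalizer_le hG hna ht)
  have h2 : 2 ∣ Nat.card A := ht ▸ orderOf_dvd_natCard A htA
  have hconj : ∀ s : G, orderOf s = 2 → ∃ c : G, c * t * c⁻¹ = s := fun s hs =>
    isConj_iff.mp (isConj_invol hG hna ht hs)
  have hinA : {y : G | ∃ c ∈ normalizer (A : Set G), c * t * c⁻¹ = y} =
      {s : G | orderOf s = 2 ∧ s ∈ A} := by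
    ext s
    constructor
    · rintro ⟨c, hc, rfl⟩
      exact ⟨by rw [Invol.orderOf_conj, ht], (Subgroup.mem_normalizer_iff.mp hc t).mp htA⟩
    · rintro ⟨hs, hsA⟩
      obtain ⟨c, rfl⟩ := hconj s hs
      exact ⟨c, (hCA.mem_normalizer_iff ht1).mpr hsA, rfl⟩
  have hcount := ncard_orbit (normalizer (A : Set G)) t le_normalizer
  rw [hinA, hcard] at hcount
  have hcount' := Nat.eq_of_mul_eq_mul_right Nat.card_pos hcount
  refine ⟨p, hp, fun e => hnd (e ▸ h2), hcard, hnd, hout, hcount', ?_, ?_⟩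
  · rw [← hcount', ← Set.ncard_insert_of_notMem (a := (1 : G)) (by simp) (Set.toFinite _),
      ← SetLike.coe_sort_coe, Nat.card_coe_set_eq]
    refine Set.ncard_le_ncard ?_ (Set.toFinite _)
    rintro s (rfl | hs)
    · exact one_mem A
    · exact hs.2
  · have h := ncard_orbit (⊤ : Subgroup G) t le_top
    rw [card_top] at h
    rw [← h]
    congr 2
    ext s
    constructor
    · intro hs
      obtain ⟨c, hc⟩ := hconj s hs
      exact ⟨c, mem_top c, hc⟩
    · rintro ⟨c, -, rfl⟩
      show orderOf (c * t * c⁻¹) = 2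
      rw [Invol.orderOf_conj, ht]

/-- Involutions outside the normalizer `N` of an involution centralizer invert an element of order
`p` of `N` whose centralizer has order `p`. -/
theorem invol_outside (hG : Hyp G) (hna : ¬ IsMulCommutative G) {t : G} (ht : orderOf t = 2)
    {p : ℕ} (hp : p.Prime) (hp2 : p ≠ 2)
    (hcard : Nat.card (normalizer (centralizer ({t} : Set G) : Set G)) =
      p * Nat.card (centralizer ({t} : Set G)))
    (hnd : ¬ p ∣ Nat.card (centralizer ({t} : Set G)))
    (hout : ∀ y ∈ normalizer (centralizer ({t} : Set G) : Set G),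
      y ∉ centralizer ({t} : Set G) → y ^ p = 1)
    (hinA : {s : G | orderOf s = 2 ∧ s ∈ centralizer ({t} : Set G)}.ncard = p)
    (hn : {s : G | orderOf s = 2}.ncard * Nat.card (centralizer ({t} : Set G)) = Nat.card G) :
    ∃ u d : G, orderOf u = 2 ∧ orderOf d = p ∧ u * d * u⁻¹ = d⁻¹ ∧
      Nat.card (centralizer ({d} : Set G)) = p := by
  classical
  haveI := Fact.mk hp
  have hCA := isCA_of_hyp hG hna
  have ht1 := Invol.ne_one_of_orderOf_two ht
  set A := centralizer ({t} : Set G) with hA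
  set N := normalizer (A : Set G) with hN
  set a := Nat.card A with ha
  -- involutions of `N` lie in `A`
  have hinN : ∀ s ∈ N, orderOf s = 2 → s ∈ A := by
    intro s hs hs2
    by_contra hsA
    have := orderOf_dvd_of_pow_eq_one (hout s hs hsA)
    rw [hs2, Nat.prime_dvd_prime_iff_eq Nat.prime_two hp] at this
    exact hp2 this.symm
  -- the subgroup `D u`
  let D : G → Subgroup G := fun u => N ⊓ N.comap (MulAut.conj u).toMonoidHom
  have hD : ∀ u h, h ∈ D u ↔ h ∈ N ∧ u * h * u⁻¹ ∈ N := fun u h => Iff.rfl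
  have hDA : ∀ u, orderOf u = 2 → u ∉ N → ∀ z ∈ D u, z ∈ A → z = 1 := by
    intro u hu huN z hz hzA
    by_contra hz1
    have hz' : u * z * u⁻¹ ≠ 1 := fun e => hz1 (conj_eq_one_iff.mp e)
    by_cases h : u * z * u⁻¹ ∈ A
    · apply huN
      show u ∈ normalizer (A : Set G)
      rw [show A = centralizer ({z} : Set G) from (hCA.eq_of_mem ht1 hz1 hzA).symm,
        hCA.mem_normalizer_iff hz1, hCA.eq_of_mem ht1 hz1 hzA]
      exact h
    · have h1 := hout _ ((hD u z).mp hz).2 h
      rw [conj_pow, conj_eq_one_iff] at h1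
      exact hz1 (eq_one_of_coprime_pow ((Nat.Coprime.coprime_dvd_left (orderOf_dvd_natCard A hzA)
        (hp.coprime_iff_not_dvd.mpr hnd).symm)) h1)
  have hDle : ∀ u, orderOf u = 2 → u ∉ N → Nat.card (D u) ≤ p := by
    intro u hu huN
    have hinj : Function.Injective (fun q : D u × A => (⟨q.1 * q.2, mul_mem ((hD u q.1).mp q.1.2).1
        (le_normalizer q.2.2)⟩ : N)) := by
      intro q q' h
      have h' : (q.1 : G) * q.2 = q'.1 * q'.2 := congrArg Subtype.val h
      have h2 : (q'.1 : G)⁻¹ * q.1 = q'.2 * (q.2 : G)⁻¹ := by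
        rw [eq_mul_inv_iff_mul_eq, mul_assoc, h', inv_mul_cancel_left]
      have h3 := hDA u hu huN _ (mul_mem (inv_mem q'.1.2) q.1.2) (h2 ▸ mul_mem q'.2.2 (inv_mem q.2.2))
      have h4 : (q.1 : G) = q'.1 := (inv_mul_eq_one.mp h3).symm
      refine Prod.ext (Subtype.ext h4) (Subtype.ext ?_)
      rw [h4] at h'
      exact mul_left_cancel h'
    have := Nat.card_le_card_of_injective _ hinj
    rw [Nat.card_prod, hcard] at this
    exact Nat.le_of_mul_le_mul_right this Nat.card_pos
  -- the involutions in a coset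
  have hcoset : ∀ u, orderOf u = 2 → u ∉ N →
      (fun s => u⁻¹ * s) '' {s : G | orderOf s = 2 ∧ u⁻¹ * s ∈ N} ⊆ D u := by
    rintro u hu huN _ ⟨s, ⟨hs, hsN⟩, rfl⟩
    refine (hD u _).mpr ⟨hsN, ?_⟩
    have := inv_mem hsN
    rw [mul_inv_rev, inv_inv, Invol.inv_of_orderOf_two hs] at this
    rwa [mul_inv_cancel_left, Invol.inv_of_orderOf_two hu]
  set I := {s : G // orderOf s = 2} with hI
  set Q := G ⧸ N with hQ
  haveI : Fintype Q := Fintype.ofFinite _
  set F : Q → ℕ := fun q => Nat.card {s : I // (QuotientGroup.mk s.1 : Q) = q} with hF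
  have hFset : ∀ u : G, F (QuotientGroup.mk u) = {s : G | orderOf s = 2 ∧ u⁻¹ * s ∈ N}.ncard := by
    intro u
    rw [← Nat.card_coe_set_eq]
    exact Nat.card_congr
      { toFun := fun s => ⟨s.1.1, s.1.2, QuotientGroup.eq.mp s.2.symm⟩
        invFun := fun s => ⟨⟨s.1, s.2.1⟩, (QuotientGroup.eq.mpr s.2.2).symm⟩
        left_inv := fun s => rfl
        right_inv := fun s => rfl }
  have hFone : F (QuotientGroup.mk 1) = p := by
    rw [hFset, ← hinA]
    congr 1
    ext s
    simp only [Set.mem_setOf_eq, inv_one, one_mul]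
    exact ⟨fun h => ⟨h.1, hinN s h.2 h.1⟩, fun h => ⟨h.1, le_normalizer h.2⟩⟩
  have hFle : ∀ q, F q ≤ p := by
    intro q
    rcases isEmpty_or_nonempty {s : I // (QuotientGroup.mk s.1 : Q) = q} with h | ⟨⟨u, hu⟩, hq⟩
    · simp [hF]
    · by_cases huN : u ∈ N
      · have : q = QuotientGroup.mk 1 := by
          rw [← hq, QuotientGroup.eq]; simpa using inv_mem huN
        rw [this, hFone]
      · subst hq
        rw [hFset, ← Set.ncard_image_of_injective _ (mul_right_injective u⁻¹)]
        refine le_trans (Set.ncard_le_ncard (hcoset u hu huN) (Set.toFinite _)) ?_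
        rw [← Nat.card_coe_set_eq]
        exact hDle u hu huN
  have hsum : ∑ q, F q = ∑ _q : Q, p := by
    have h1 : ∑ q, F q = {s : G | orderOf s = 2}.ncard := by
      rw [← Nat.card_coe_set_eq, hF, ← Nat.card_sigma]
      exact Nat.card_congr (Equiv.sigmaFiberEquiv _)
    rw [h1, Finset.sum_const, Finset.card_univ, smul_eq_mul, ← Nat.card_eq_fintype_card]
    apply Nat.eq_of_mul_eq_mul_right (Nat.card_pos (α := A))
    rw [hn, N.card_eq_card_quotient_mul_card_subgroup, hcard, mul_assoc]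
  have hFeq : ∀ q, F q = p := fun q =>
    (Finset.sum_eq_sum_iff_of_le fun q _ => hFle q).mp hsum q (Finset.mem_univ q)
  -- an involution outside `N`
  obtain ⟨u, hu, huN⟩ : ∃ u : G, orderOf u = 2 ∧ u ∉ N := by
    obtain ⟨w, hw, hwt⟩ := exists_not_commute hna ht
    exact ⟨w, hw, fun h => hwt (mem_centralizer_singleton_iff.mp (hinN w h hw))⟩
  -- `D u` has order `p` and is inverted by `u`
  have hDu : ∀ u, orderOf u = 2 → u ∉ N → Nat.card (D u) = p ∧ ∀ h ∈ D u, u * h * u⁻¹ = h⁻¹ := by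
    intro u hu huN
    have h1 : ((fun s => u⁻¹ * s) '' {s : G | orderOf s = 2 ∧ u⁻¹ * s ∈ N}).ncard = p := by
      rw [Set.ncard_image_of_injective _ (mul_right_injective u⁻¹), ← hFset, hFeq]
    have h2 : (D u : Set G).ncard = Nat.card (D u) := (Nat.card_coe_set_eq _).symm
    have h3 := Set.eq_of_subset_of_ncard_le (hcoset u hu huN) (by rw [h1, h2]; exact hDle u hu huN)
      (Set.toFinite _)
    refine ⟨by rw [← h2, ← h3, h1], fun h hh => ?_⟩
    rw [← SetLike.mem_coe, ← h3] at hh
    obtain ⟨s, ⟨hs, -⟩, rfl⟩ := hh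
    rw [mul_inv_rev, inv_inv, Invol.inv_of_orderOf_two hs, Invol.inv_of_orderOf_two hu]
    simp [← mul_assoc, Invol.mul_self_of_orderOf_two hu]
  obtain ⟨hDcard, hDinv⟩ := hDu u hu huN
  haveI : Nontrivial (D u) := by
    rw [← Finite.one_lt_card_iff_nontrivial, hDcard]; exact hp.one_lt
  obtain ⟨⟨d, hd⟩, hd1⟩ := exists_ne (1 : D u)
  have hd1' : d ≠ 1 := fun e => hd1 (Subtype.ext e)
  have hdN : d ∈ N := ((hD u d).mp hd).1
  have hdA : d ∉ A := fun h => hd1' (hDA u hu huN d hd h)
  have hdo : orderOf d = p := orderOf_eq_prime (hout d hdN hdA) hd1'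
  refine ⟨u, d, hu, hdo, hDinv d hd, ?_⟩
  -- the centralizer of `d`
  set B := centralizer ({d} : Set G) with hB
  have hBint : ∀ b ∈ B, b ∈ A → b = 1 := by
    intro b hb hbA
    by_contra hb1
    apply hdA
    rw [show A = centralizer ({b} : Set G) from (hCA.eq_of_mem ht1 hb1 hbA).symm]
    exact mem_centralizer_singleton_iff.mpr (mem_centralizer_singleton_iff.mp hb).symm
  have hsplit : ∀ h ∈ N, h * d * h⁻¹ * d⁻¹ ∈ A := by
    have hinj : Function.Injective (fun q : zpowers d × A => (⟨q.1 * q.2, mul_mem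
        (zpowers_le.mpr hdN q.1.2) (le_normalizer q.2.2)⟩ : N)) := by
      intro q q' h
      have h' : (q.1 : G) * q.2 = q'.1 * q'.2 := congrArg Subtype.val h
      have h2 : (q'.1 : G)⁻¹ * q.1 = q'.2 * (q.2 : G)⁻¹ := by
        rw [eq_mul_inv_iff_mul_eq, mul_assoc, h', inv_mul_cancel_left]
      have h3 := hBint _ (zpowers_le.mpr (mem_centralizer_singleton_iff.mpr rfl)
        (mul_mem (inv_mem q'.1.2) q.1.2)) (h2 ▸ mul_mem q'.2.2 (inv_mem q.2.2))
      have h4 : (q.1 : G) = q'.1 := (inv_mul_eq_one.mp h3).symm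
      refine Prod.ext (Subtype.ext h4) (Subtype.ext ?_)
      rw [h4] at h'
      exact mul_left_cancel h'
    have hbij := hinj.bijective_of_nat_card_le (by
      rw [Nat.card_prod, Nat.card_zpowers, hdo, hcard])
    intro h hh
    obtain ⟨⟨⟨z, hz⟩, ⟨c, hc⟩⟩, hq⟩ := hbij.2 ⟨h, hh⟩
    obtain ⟨i, rfl⟩ := mem_zpowers_iff.mp hz
    have hh' : d ^ i * c = h := congrArg Subtype.val hq
    have hc' : c * (d * c⁻¹ * d⁻¹) ∈ A :=
      mul_mem hc ((Subgroup.mem_normalizer_iff.mp hdN _).mp (inv_mem hc))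
    have := (Subgroup.mem_normalizer_iff.mp (zpow_mem hdN i) _).mp hc'
    have e : h * d * h⁻¹ * d⁻¹ = d ^ i * (c * (d * c⁻¹ * d⁻¹)) * (d ^ i)⁻¹ := by
      rw [← hh']; group
    rwa [e]
  have hBN : B ≤ N := by
    intro c hc
    by_contra hcN
    have hnz : F (QuotientGroup.mk c) ≠ 0 := by rw [hFeq]; exact hp.ne_zero
    obtain ⟨⟨⟨v, hv⟩, hvc⟩⟩ := (Nat.card_ne_zero.mp hnz).1
    have hh : c⁻¹ * v ∈ N := QuotientGroup.eq.mp hvc.symm
    have hvN : v ∉ N := fun h => hcN (by simpa using mul_mem h (inv_mem hh))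
    have hdD : d ∈ D v := by
      refine (hD v d).mpr ⟨hdN, ?_⟩
      rw [Invol.inv_of_orderOf_two hv]
      have hcd : c⁻¹ * d * c = d := by
        rw [mul_assoc, ← mem_centralizer_singleton_iff.mp hc, inv_mul_cancel_left]
      have := (Subgroup.mul_mem _ (Subgroup.mul_mem _ (inv_mem hh) hdN) hh : (c⁻¹ * v)⁻¹ * d * (c⁻¹ * v) ∈ N)
      have e : (c⁻¹ * v)⁻¹ * d * (c⁻¹ * v) = v * d * v := by
        rw [mul_inv_rev, inv_inv, Invol.inv_of_orderOf_two hv]
        have hcd' : c * d * c⁻¹ = d := by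
          rw [mem_centralizer_singleton_iff.mp hc, mul_inv_cancel_right]
        calc v * c * d * (c⁻¹ * v) = v * (c * d * c⁻¹) * v := by group
          _ = v * d * v := by rw [hcd']
      rwa [e] at this
    have hvd := (hDu v hv hvN).2 d hdD
    -- `h = c⁻¹ v` inverts `d`
    have hhd : c⁻¹ * v * d * (c⁻¹ * v)⁻¹ = d⁻¹ := by
      calc c⁻¹ * v * d * (c⁻¹ * v)⁻¹ = c⁻¹ * (v * d * v⁻¹) * c := by group
        _ = c⁻¹ * d⁻¹ * c := by rw [hvd]
        _ = d⁻¹ := by
          have : Commute d⁻¹ c := Commute.inv_left (mem_centralizer_singleton_iff.mp hc).symm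
          rw [mul_assoc, this.eq, inv_mul_cancel_left]
    have h2 := hsplit _ hh
    rw [hhd, ← mul_inv_rev, inv_mem_iff] at h2
    refine hdA (mem_of_coprime_pow_mem (n := 2) ?_ (by rwa [sq]))
    rw [hdo]
    exact (Nat.coprime_primes hp Nat.prime_two).mpr hp2
  apply le_antisymm
  · have hinj : Function.Injective (fun q : B × A => (⟨q.1 * q.2, mul_mem (hBN q.1.2)
        (le_normalizer q.2.2)⟩ : N)) := by
      intro q q' h
      have h' : (q.1 : G) * q.2 = q'.1 * q'.2 := congrArg Subtype.val h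
      have h2 : (q'.1 : G)⁻¹ * q.1 = q'.2 * (q.2 : G)⁻¹ := by
        rw [eq_mul_inv_iff_mul_eq, mul_assoc, h', inv_mul_cancel_left]
      have h3 := hBint _ (mul_mem (inv_mem q'.1.2) q.1.2) (h2 ▸ mul_mem q'.2.2 (inv_mem q.2.2))
      have h4 : (q.1 : G) = q'.1 := (inv_mul_eq_one.mp h3).symm
      refine Prod.ext (Subtype.ext h4) (Subtype.ext ?_)
      rw [h4] at h'
      exact mul_left_cancel h'
    have := Nat.card_le_card_of_injective _ hinj
    rw [Nat.card_prod, hcard] at this
    exact Nat.le_of_mul_le_mul_right this Nat.card_pos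
  · rw [← hdo]
    exact Nat.le_of_dvd Nat.card_pos (orderOf_dvd_natCard B (mem_centralizer_singleton_iff.mpr rfl))

end Cfsg.Agent.FGB.SelfNorm
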