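import Mathlib
import Cfsg.Agent.Lib.FGB.SelfNormInvol

/-!
Counting pairs of involutions in simple groups in which non-abelian subgroups are self-normalizing.
-/

set_option autoImplicit false

namespace Cfsg.Agent.FGB.SelfNorm

open Subgroup
open scoped Pointwise

variable {G : Type*} [Group G] [Finite G] [IsSimpleGroup G]

/-- Elements inverted by an involution, other than involutions and the identity. -/
def RealSet (G : Type*) [Group G] : Set G :=
  {y | y * y ≠ 1 ∧ ∃ s : G, orderOf s = 2 ∧ s * y * s⁻¹ = y⁻¹}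

theorem centClass_subset_real (hG : Hyp G) (hna : ¬ IsMulCommutative G) {g : G}
    (hg : g ∈ RealSet G) : CentClass g ⊆ RealSet G := by
  obtain ⟨hg2, s, hs, hsg⟩ := hg
  obtain ⟨-, hodd, hsN, hsM, hall⟩ := real_struct hG hna hg2 hs hsg
  rintro y ⟨hy1, c, hc⟩
  refine ⟨fun h => ?_, c⁻¹ * s * c, ?_, ?_⟩
  · apply hodd
    have hx : orderOf (c * y * c⁻¹) = 2 := by
      rw [Invol.orderOf_conj, Invol.orderOf_two_of_mul_self h hy1]
    exact hx ▸ orderOf_dvd_natCard _ hc
  · rw [← hs]
    simpa using Invol.orderOf_conj c⁻¹ s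
  · calc c⁻¹ * s * c * y * (c⁻¹ * s * c)⁻¹ = c⁻¹ * (s * (c * y * c⁻¹) * s⁻¹) * c := by group
      _ = y⁻¹ := by rw [(hall s hsN hsM).2 _ hc]; group

theorem card_inverters (hG : Hyp G) (hna : ¬ IsMulCommutative G) {y : G} (hy : y ∈ RealSet G) :
    {s : G | orderOf s = 2 ∧ s * y * s⁻¹ = y⁻¹}.ncard = Nat.card (centralizer ({y} : Set G)) := by
  obtain ⟨hy2, s, hs, hsy⟩ := hy
  obtain ⟨hcard, -, hsN, hsM, hall⟩ := real_struct hG hna hy2 hs hsy
  set M := centralizer ({y} : Set G) with hM
  have hyM : y ∈ M := mem_centralizer_singleton_iff.mpr rfl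
  have heq : {s : G | orderOf s = 2 ∧ s * y * s⁻¹ = y⁻¹} =
      (normalizer (M : Set G) : Set G) \ (M : Set G) := by
    ext w
    constructor
    · rintro ⟨hw, hwy⟩
      obtain ⟨-, -, hwN, hwM, -⟩ := real_struct hG hna hy2 hw hwy
      exact ⟨hwN, hwM⟩
    · rintro ⟨hwN, hwM⟩
      exact ⟨(hall w hwN hwM).1, (hall w hwN hwM).2 y hyM⟩
  rw [heq, Set.ncard_sdiff (fun w hw => le_normalizer hw), ← Nat.card_coe_set_eq,
    ← Nat.card_coe_set_eq]
  show Nat.card (normalizer (M : Set G)) - Nat.card M = _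
  rw [hcard]; omega

theorem real_class_data (hG : Hyp G) (hna : ¬ IsMulCommutative G) {g : G} (hg : g ∈ RealSet G) :
    3 ≤ Nat.card (centralizer ({g} : Set G)) ∧ ¬ 2 ∣ Nat.card (centralizer ({g} : Set G)) ∧
      (CentClass g).ncard * (2 * Nat.card (centralizer ({g} : Set G))) =
        (Nat.card (centralizer ({g} : Set G)) - 1) * Nat.card G ∧
      Nat.card G ≤ 3 * (CentClass g).ncard := by
  obtain ⟨hg2, s, hs, hsg⟩ := hg
  obtain ⟨hcard, hodd, -, -, -⟩ := real_struct hG hna hg2 hs hsg
  have hg1 : g ≠ 1 := fun h => hg2 (by simp [h])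
  have h := (isCA_of_hyp hG hna).ncard_centClass hg1
  rw [hcard] at h
  have h3 : 3 ≤ Nat.card (centralizer ({g} : Set G)) := by
    have h1 : 1 < Nat.card (centralizer ({g} : Set G)) := by
      rw [one_lt_card_iff_ne_bot]
      intro e
      have : g ∈ centralizer ({g} : Set G) := mem_centralizer_singleton_iff.mpr rfl
      rw [e, mem_bot] at this
      exact hg1 this
    omega
  refine ⟨h3, hodd, h, ?_⟩
  generalize Nat.card (centralizer ({g} : Set G)) = b at h h3
  generalize (CentClass g).ncard = z at h ⊢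
  obtain ⟨b, rfl⟩ : ∃ c, b = c + 1 := ⟨b - 1, by omega⟩
  rw [Nat.add_sub_cancel] at h
  nlinarith [Nat.zero_le (Nat.card G)]

theorem numeric {a p b g X Y Z : ℕ} (ha : p + 1 ≤ a) (hp : 3 ≤ p) (hb : 1 ≤ b)
    (hX : X * (p * a) = (a - 1) * g) (hY : Y * (2 * p) = (p - 1) * g)
    (hZ : Z * (2 * b) = (b - 1) * g) (hsum : X + Y + Z + 1 ≤ g) : a * b < 2 * b + p * a := by
  by_contra hcon
  push_neg at hcon
  zify [show 1 ≤ a by omega, show 1 ≤ p by omega, hb] at *
  have hpab : (0 : ℤ) < (p : ℤ) * a * b := by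
    have : (0 : ℤ) < (p : ℤ) * a := by nlinarith
    nlinarith
  have h1 := mul_le_mul_of_nonneg_left hsum hpab.le
  have h2 := mul_nonneg (Int.natCast_nonneg g) (sub_nonneg.mpr hcon)
  nlinarith [congrArg (· * (2 * (b : ℤ))) hX, congrArg (· * ((a : ℤ) * b)) hY,
    congrArg (· * ((p : ℤ) * a)) hZ]

/-- Involution centralizers are elementary abelian of order `p + 1` with `p` prime. -/
theorem invol_cent (hG : Hyp G) (hna : ¬ IsMulCommutative G) {t : G} (ht : orderOf t = 2) :
    (∀ c ∈ centralizer ({t} : Set G), c ^ 2 = 1) ∧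
      ∃ p : ℕ, p.Prime ∧ 3 ≤ p ∧ Nat.card (centralizer ({t} : Set G)) = p + 1 := by
  classical
  have hCA := isCA_of_hyp hG hna
  have ht1 := Invol.ne_one_of_orderOf_two ht
  obtain ⟨p, hp, hp2, hcard, hnd, hout, hinA, hpa, hn⟩ := invol_setup hG hna ht
  obtain ⟨u, d, hu, hdo, hud, hB⟩ := invol_outside hG hna ht hp hp2 hcard hnd hout hinA hn
  have hp3 : 3 ≤ p := by have := hp.two_le; omega
  set A := centralizer ({t} : Set G) with hA
  set a := Nat.card A with ha
  set g := Nat.card G with hg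
  set Inv := {s : G | orderOf s = 2} with hInv
  set n := Inv.ncard with hn'
  have h2a : 2 ∣ a := ht ▸ orderOf_dvd_natCard A (mem_centralizer_singleton_iff.mpr rfl)
  have hd2 : d * d ≠ 1 := by
    intro h
    have := orderOf_dvd_of_pow_eq_one (show d ^ 2 = 1 by rw [sq, h])
    rw [hdo, Nat.prime_dvd_prime_iff_eq hp Nat.prime_two] at this
    exact hp2 this
  have hdR : d ∈ RealSet G := ⟨hd2, u, hu, hud⟩
  have hd1 : d ≠ 1 := fun h => hd2 (by simp [h])
  obtain ⟨-, -, hY, hY3⟩ := real_class_data hG hna hdR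
  rw [hB] at hY
  have hX := hCA.ncard_centClass ht1
  rw [hcard] at hX
  -- pairs of non-commuting involutions
  let P := {q : G × G // orderOf q.1 = 2 ∧ orderOf q.2 = 2 ∧ ¬ Commute q.1 q.2}
  set f : P → G := fun q => q.1.1 * q.1.2 with hf
  have hfR : ∀ q : P, f q ∈ RealSet G := by
    rintro ⟨⟨s, v⟩, hs, hv, hsv⟩
    have hs' := Invol.mul_self_of_orderOf_two hs
    have hv' := Invol.mul_self_of_orderOf_two hv
    refine ⟨fun h => hsv ?_, s, hs, Invol.conj_mul_eq_inv hs' hv'⟩
    have := inv_eq_of_mul_eq_one_right h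
    rw [hf] at this
    simp only [mul_inv_rev, Invol.inv_eq_self_of_mul_self hs', Invol.inv_eq_self_of_mul_self hv'] at this
    exact this.symm
  have hfib : ∀ y ∈ RealSet G, Nat.card {q : P // f q = y} =
      Nat.card (centralizer ({y} : Set G)) := by
    intro y hy
    rw [← card_inverters hG hna hy, ← Nat.card_coe_set_eq]
    refine Nat.card_congr
      { toFun := fun q => ⟨q.1.1.1, q.1.2.1, ?_⟩
        invFun := fun s => ⟨⟨(s.1, s.1 * y), s.2.1, ?_, ?_⟩, ?_⟩
        left_inv := ?_
        right_inv := fun s => rfl }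
    · obtain ⟨⟨⟨s, v⟩, hs, hv, -⟩, hq⟩ := q
      simp only [hf] at hq
      subst hq
      exact Invol.conj_mul_eq_inv (Invol.mul_self_of_orderOf_two hs)
        (Invol.mul_self_of_orderOf_two hv)
    · obtain ⟨s, hs, hsy⟩ := s
      rw [Invol.inv_of_orderOf_two hs] at hsy
      refine Invol.orderOf_two_of_mul_self (by rw [← mul_assoc, hsy, inv_mul_cancel]) fun e => hy.1 ?_
      have : y = s := by
        rw [← Invol.inv_of_orderOf_two hs]; exact eq_inv_of_mul_eq_one_right e
      rw [this, Invol.mul_self_of_orderOf_two hs]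
    · obtain ⟨s, hs, hsy⟩ := s
      intro hc
      have hc' : s * (s * y) = s * y * s := hc.eq
      rw [← mul_assoc, Invol.mul_self_of_orderOf_two hs, one_mul] at hc'
      rw [Invol.inv_of_orderOf_two hs, ← hc'] at hsy
      exact hy.1 (mul_eq_one_iff_eq_inv.mpr hsy)
    · show f _ = y
      simp only [hf]
      rw [← mul_assoc, Invol.mul_self_of_orderOf_two s.2.1, one_mul]
    · rintro ⟨⟨⟨s, v⟩, hs, hv, hsv⟩, hq⟩
      simp only [hf] at hq
      subst hq
      refine Subtype.ext (Subtype.ext (Prod.ext rfl ?_))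
      show s * (s * v) = v
      rw [← mul_assoc, Invol.mul_self_of_orderOf_two hs, one_mul]
  -- the number of pairs
  have hcommcount : ∀ s : G, orderOf s = 2 →
      {v : G | orderOf v = 2 ∧ v ∈ centralizer ({s} : Set G)}.ncard = p := by
    intro s hs
    obtain ⟨c, rfl⟩ := isConj_iff.mp (isConj_invol hG hna ht hs)
    rw [← hinA, ← Set.ncard_image_of_injective {v : G | orderOf v = 2 ∧ v ∈ A} (MulAut.conj c).injective]
    congr 1
    ext v
    constructor
    · rintro ⟨hv, hvc⟩
      refine ⟨c⁻¹ * v * c, ⟨?_, ?_⟩, by simp [mul_assoc]⟩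
      · rw [← hv]; simpa using Invol.orderOf_conj c⁻¹ v
      · rw [← conj_mem_centralizer_iff (y := c)]
        simpa [mul_assoc] using hvc
    · rintro ⟨v, ⟨hv, hvc⟩, rfl⟩
      exact ⟨by simp [Invol.orderOf_conj, hv], by simpa using conj_mem_centralizer_iff.mpr hvc⟩
  have hP : Nat.card P = n * (n - p) := by
    have h1 := card_fibres (fun q : P => q.1.1) Inv (n - p) ?_
    · rw [← h1]
      exact (Nat.card_congr (Equiv.subtypeUnivEquiv fun q : P => q.2.1)).symm
    · intro s hs
      have e : Nat.card {q : P // q.1.1 = s} =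
          (Inv \ {v : G | orderOf v = 2 ∧ v ∈ centralizer ({s} : Set G)}).ncard := by
        rw [← Nat.card_coe_set_eq]
        exact Nat.card_congr
          { toFun := fun q => ⟨q.1.1.2, q.1.2.2.1, fun h => q.1.2.2.2 (by
              rw [q.2]; exact (mem_centralizer_singleton_iff.mp h.2).symm)⟩
            invFun := fun v => ⟨⟨(s, v.1), hs, v.2.1, fun h => v.2.2 ⟨v.2.1,
              mem_centralizer_singleton_iff.mpr h.eq.symm⟩⟩, rfl⟩
            left_inv := fun q => by
              obtain ⟨⟨⟨s', v⟩, hq1⟩, hq2⟩ := q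
              simp only at hq2
              subst hq2; rfl
            right_inv := fun v => rfl }
      rw [e, Set.ncard_sdiff (fun v hv => hv.1), hcommcount s hs]
  -- arithmetical facts
  obtain ⟨m, hm⟩ : p ∣ n := by
    have := card_subgroup_dvd_card (normalizer (A : Set G))
    rw [hcard] at this
    refine Nat.dvd_of_mul_dvd_mul_right Nat.card_pos (?_ : p * a ∣ n * a)
    rw [hn]; exact this
  have hpn : p ≤ n := by
    rw [← hinA]
    exact Set.ncard_le_ncard (fun v hv => hv.1) (Set.toFinite _)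
  -- disjointness
  have hdisj : ∀ g₁ g₂ : G, g₁ ≠ 1 → g₂ ≠ 1 → g₂ ∉ CentClass g₁ →
      Disjoint (CentClass g₁) (CentClass g₂) := fun g₁ g₂ h1 h2 h =>
    Set.disjoint_left.mpr fun y hy1 hy2 => h (hCA.centClass_symm h1 h2 hy1 hy2)
  have hne1 : ∀ y ∈ RealSet G, y ≠ 1 := fun y hy h => hy.1 (by simp [h])
  have hsub1 : ∀ s : Set G, (∀ y ∈ s, y ≠ 1) → s.ncard + 1 ≤ g := by
    intro s hs
    rw [← Set.ncard_insert_of_notMem (fun h => hs 1 h rfl) (Set.toFinite _), hg, ← Set.ncard_univ]
    exact Set.ncard_le_ncard (Set.subset_univ _) (Set.toFinite _)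
  by_cases hex : ∃ g₀ ∈ RealSet G, g₀ ∉ CentClass d
  · obtain ⟨g₀, hg₀, hg₀d⟩ := hex
    obtain ⟨hb3, hbodd, hZ, hZ3⟩ := real_class_data hG hna hg₀
    set b := Nat.card (centralizer ({g₀} : Set G)) with hb
    set X := (CentClass t).ncard with hXdef
    set Y := (CentClass d).ncard with hYdef
    set Z := (CentClass g₀).ncard with hZdef
    have hd0 := hdisj d g₀ hd1 (hne1 g₀ hg₀) hg₀d
    have hcover : ∀ y ∈ RealSet G, y ∉ CentClass d → y ∈ CentClass g₀ := by
      intro y hy hyd
      by_contra hy0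
      obtain ⟨-, -, -, hW3⟩ := real_class_data hG hna hy
      have h1 := hdisj d y hd1 (hne1 y hy) hyd
      have h2 := hdisj g₀ y (hne1 g₀ hg₀) (hne1 y hy) hy0
      have h3 := hsub1 (CentClass d ∪ CentClass g₀ ∪ CentClass y) (by
        rintro z ((hz | hz) | hz) <;> exact hz.1)
      rw [Set.ncard_union_eq (Disjoint.union_left h1 h2) (Set.toFinite _) (Set.toFinite _),
        Set.ncard_union_eq hd0 (Set.toFinite _) (Set.toFinite _)] at h3
      omega
    have hPsum : Nat.card P = Y * p + Z * b := by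
      have h1 : Nat.card {q : P // f q ∈ CentClass d} = Y * p := card_fibres f _ p fun y hy => by
        rw [hfib y (centClass_subset_real hG hna hdR hy), hCA.centClass_card hd1 hy, hB]
      have h2 : Nat.card {q : P // f q ∈ CentClass g₀} = Z * b := card_fibres f _ b fun y hy => by
        rw [hfib y (centClass_subset_real hG hna hg₀ hy), hCA.centClass_card (hne1 g₀ hg₀) hy]
      rw [← h1, ← h2, ← Nat.card_congr (Equiv.sumCompl fun q : P => f q ∈ CentClass d), Nat.card_sum]
      congr 1
      exact Nat.card_congr (Equiv.subtypeEquivRight fun q => ⟨hcover _ (hfR q),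
        fun h h' => Set.disjoint_left.mp hd0 h' h⟩)
    have heq : 2 * (n - p) = a * (p - 1 + (b - 1)) := by
      apply Nat.eq_of_mul_eq_mul_left (show 0 < n by omega)
      calc n * (2 * (n - p)) = 2 * Nat.card P := by rw [hP]; ring
        _ = Y * (2 * p) + Z * (2 * b) := by rw [hPsum]; ring
        _ = n * (a * (p - 1 + (b - 1))) := by
          rw [hY, hZ, show Nat.card G = n * a from hn.symm]; ring
    have hdvd : p ∣ a * (p - 1 + (b - 1)) := by
      rw [← heq, hm]
      exact Dvd.dvd.mul_left (Nat.dvd_sub (dvd_mul_right p m) dvd_rfl) 2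
    obtain ⟨j, hj⟩ : p ∣ b - 2 := by
      have h1 := (hp.dvd_mul.mp hdvd).resolve_left hnd
      rw [show p - 1 + (b - 1) = p + (b - 2) by omega, Nat.dvd_add_self_left] at h1
      exact h1
    have hXdisj : ∀ h : G, h ∈ RealSet G → Disjoint (CentClass t) (CentClass h) := by
      intro h hh
      refine hdisj t h ht1 (hne1 h hh) fun hmem => ?_
      have hc := hCA.centClass_card ht1 hmem
      obtain ⟨-, hodd', -, -⟩ := real_class_data hG hna hh
      exact hodd' (hc ▸ h2a)
    have hsum : X + Y + Z + 1 ≤ g := by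
      have h3 := hsub1 (CentClass t ∪ CentClass d ∪ CentClass g₀) (by
        rintro z ((hz | hz) | hz) <;> exact hz.1)
      rwa [Set.ncard_union_eq (Disjoint.union_left (hXdisj g₀ hg₀) hd0) (Set.toFinite _) (Set.toFinite _),
        Set.ncard_union_eq (hXdisj d hdR) (Set.toFinite _) (Set.toFinite _)] at h3
    have hineq := numeric hpa hp3 (by omega) hX hY hZ hsum
    have hb' : b = p * j + 2 := by omega
    have hj0 : 1 ≤ j := by
      rcases Nat.eq_zero_or_pos j with rfl | h
      · omega
      · exact h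
    have hj1 : j = 1 := by
      by_contra hne
      obtain ⟨i, rfl⟩ : ∃ i, j = i + 2 := ⟨j - 2, by omega⟩
      rw [hb'] at hineq
      have h1 := Nat.mul_le_mul_right (p * i) hpa
      have h2 := Nat.mul_le_mul_right p hpa
      nlinarith
    subst hj1
    have hae : a = p + 1 := by
      rw [hb', mul_one] at hineq
      have : a ≤ p + 1 := by nlinarith
      omega
    refine ⟨fun c hc => ?_, p, hp, hp3, hae⟩
    have heqA : insert (1 : G) {s : G | orderOf s = 2 ∧ s ∈ A} = (A : Set G) := by
      refine Set.eq_of_subset_of_ncard_le ?_ ?_ (Set.toFinite _)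
      · rintro s (rfl | hs)
        · exact one_mem A
        · exact hs.2
      · rw [Set.ncard_insert_of_notMem (by simp) (Set.toFinite _), hinA, ← Nat.card_coe_set_eq]
        exact hae.le
    rw [← SetLike.mem_coe, ← heqA] at hc
    rcases hc with rfl | hc
    · exact one_pow 2
    · exact hc.1 ▸ pow_orderOf_eq_one c
  · exfalso
    push_neg at hex
    have hPsum : Nat.card P = (CentClass d).ncard * p := by
      rw [← card_fibres f _ p fun y hy => by
        rw [hfib y (centClass_subset_real hG hna hdR hy), hCA.centClass_card hd1 hy, hB]]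
      exact (Nat.card_congr (Equiv.subtypeUnivEquiv fun q : P => hex _ (hfR q))).symm
    have heq : 2 * (n - p) = a * (p - 1) := by
      apply Nat.eq_of_mul_eq_mul_left (show 0 < n by omega)
      calc n * (2 * (n - p)) = 2 * Nat.card P := by rw [hP]; ring
        _ = (CentClass d).ncard * (2 * p) := by rw [hPsum]; ring
        _ = n * (a * (p - 1)) := by rw [hY, show Nat.card G = n * a from hn.symm]; ring
    have hdvd : p ∣ a * (p - 1) := by
      rw [← heq, hm]
      exact Dvd.dvd.mul_left (Nat.dvd_sub (dvd_mul_right p m) dvd_rfl) 2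
    rcases hp.dvd_mul.mp hdvd with h | h
    · exact hnd h
    · have := Nat.le_of_dvd (by omega) h
      omega

end Cfsg.Agent.FGB.SelfNorm
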