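import Mathlib
import Cfsg.Agent.S1230
import Cfsg.Agent.Lib.FGB.SelfNormInvol
import Cfsg.Agent.Lib.OddLocal.CNTheorem
import Cfsg.Agent.Lib.SL2.DicksonGroups

/-!
Every non-abelian subgroup of `PSL₂(2ⁿ)`, `2ⁿ - 1` prime, is self-normalizing.
-/

set_option autoImplicit false

namespace Cfsg.Agent.FGB.SelfNorm

open Subgroup
open scoped Pointwise IsMulCommutative

universe u

variable {G : Type u} [Group G] [Finite G]

/-- Odd-order subgroups of a group with abelian centralizers are solvable. -/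
theorem IsCA.isSolvable_of_odd (hCA : IsCA G) {H : Subgroup G} (hodd : Odd (Nat.card H)) :
    Group.IsSolvable H := by
  refine OddLocal.isSolvable_of_CN_odd _ H rfl hodd fun g hg => ?_
  haveI : IsMulCommutative (centralizer ({g} : Set H)) := ⟨⟨fun a b => Subtype.ext (Subtype.ext
    (hCA (g : G) (fun e => hg (Subtype.ext e)) ((a : H) : G)
      (mem_centralizer_singleton_iff.mpr (congrArg Subtype.val (mem_centralizer_singleton_iff.mp a.2)))
      ((b : H) : G)
      (mem_centralizer_singleton_iff.mpr (congrArg Subtype.val (mem_centralizer_singleton_iff.mp b.2)))))⟩⟩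
  infer_instance

theorem exists_abelian_normal_of_solvable {H : Type*} [Group H] [Nontrivial H] [Group.IsSolvable H] :
    ∃ N : Subgroup H, N.Normal ∧ N ≠ ⊥ ∧ Comm N := by
  classical
  obtain ⟨n, hn⟩ := (Group.isSolvable_def H).mp inferInstance
  have hex : ∃ k, derivedSeries H k = ⊥ := ⟨n, hn⟩
  set k := Nat.find hex with hk
  have hk0 : k ≠ 0 := fun e => by
    have := Nat.find_spec hex
    rw [← hk, e, derivedSeries_zero] at this
    exact top_ne_bot this
  obtain ⟨j, hj⟩ : ∃ j, k = j + 1 := ⟨k - 1, by omega⟩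
  refine ⟨derivedSeries H j, derivedSeries_normal H j, Nat.find_min hex (by omega), fun a ha b hb => ?_⟩
  have h1 := Nat.find_spec hex
  rw [← hk, hj, derivedSeries_succ, eq_bot_iff] at h1
  exact commutatorElement_eq_one_iff_mul_comm.mp (mem_bot.mp (h1 (commutator_mem_commutator ha hb)))

/-- The properties of `PSL₂(q)`, `q = 2 ^ n`, used below. -/
structure Model (G : Type*) [Group G] (n : ℕ) : Prop where
  two_le : 2 ≤ n
  prime : (2 ^ n - 1).Prime
  card : Nat.card G = 2 ^ n * ((2 ^ n - 1) * (2 ^ n + 1))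
  nonab : ¬ IsMulCommutative G
  simple : IsSimpleGroup G
  ca : IsCA G
  elem : ∀ t c : G, orderOf t = 2 → c ∈ centralizer ({t} : Set G) → c ^ 2 = 1
  inv : ∀ g h : G, g * g ≠ 1 → h * g * h⁻¹ ∈ centralizer ({g} : Set G) →
    h * g * h⁻¹ = g ∨ h * g * h⁻¹ = g⁻¹

variable {n : ℕ}

theorem Model.card_centralizer (M : Model G n) {t : G} (ht : orderOf t = 2) :
    Nat.card (centralizer ({t} : Set G)) = 2 ^ n := by
  haveI : Fact (Nat.Prime 2) := ⟨Nat.prime_two⟩
  have ht1 := Invol.ne_one_of_orderOf_two ht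
  obtain ⟨P, hP⟩ := (IsPGroup.of_card (n := 1) (by rw [Nat.card_zpowers, ht, pow_one]) :
    IsPGroup 2 (zpowers t)).exists_le_sylow
  have htP : t ∈ (P : Subgroup G) := hP (mem_zpowers t)
  haveI : Nontrivial (P : Subgroup G) := ⟨⟨t, htP⟩, 1, fun e => ht1 (congrArg Subtype.val e)⟩
  haveI := P.2.center_nontrivial
  obtain ⟨z, hz⟩ := exists_prime_orderOf_dvd_card' (G := center (P : Subgroup G)) 2
    (((P.2.to_subgroup _).card_eq_or_dvd).resolve_left Finite.one_lt_card.ne')
  have hz2 : orderOf (((z : (P : Subgroup G))) : G) = 2 := by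
    rw [Subgroup.orderOf_coe, Subgroup.orderOf_coe, hz]
  have hPz : (P : Subgroup G) ≤ centralizer ({((z : (P : Subgroup G)) : G)} : Set G) := fun y hy =>
    mem_centralizer_singleton_iff.mpr (congrArg Subtype.val (mem_center_iff.mp z.2 ⟨y, hy⟩))
  have hPt : (P : Subgroup G) ≤ centralizer ({t} : Set G) := fun y hy =>
    mem_centralizer_singleton_iff.mpr
      (M.ca _ (Invol.ne_one_of_orderOf_two hz2) y (hPz hy) t (hPz htP))
  have heq : centralizer ({t} : Set G) = (P : Subgroup G) :=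
    P.3 (fun c => ⟨1, Subtype.ext (by simpa using M.elem t c ht c.2)⟩) hPt
  rw [heq]
  refine SmallSimple.card_sylow_of_eq P M.card fun hd => ?_
  have h2 : 2 ∣ 2 ^ n := dvd_pow_self 2 (by have := M.two_le; omega)
  have h4 : 4 ≤ 2 ^ n := by
    simpa using Nat.pow_le_pow_right (show 1 ≤ 2 by norm_num) M.two_le
  rcases Nat.prime_two.dvd_mul.mp hd with h | h <;> omega

theorem Model.card_normalizer (M : Model G n) {t : G} (ht : orderOf t = 2) :
    Nat.card (normalizer (centralizer ({t} : Set G) : Set G)) =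
      (2 ^ n - 1) * Nat.card (centralizer ({t} : Set G)) := by
  haveI := M.simple
  have ht1 := Invol.ne_one_of_orderOf_two ht
  set A := centralizer ({t} : Set G) with hA
  have htA : t ∈ A := mem_centralizer_singleton_iff.mpr rfl
  have heq : {y : G | ∃ c ∈ normalizer (A : Set G), c * t * c⁻¹ = y} = (A : Set G) \ {1} := by
    ext s
    constructor
    · rintro ⟨c, hc, rfl⟩
      exact ⟨(Subgroup.mem_normalizer_iff.mp hc t).mp htA, fun e => ht1 (conj_eq_one_iff.mp e)⟩
    · rintro ⟨hsA, hs1⟩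
      have hs : orderOf s = 2 := Invol.orderOf_two_of_mul_self (by rw [← sq]; exact M.elem t s ht hsA) hs1
      obtain ⟨c, rfl⟩ := isConj_iff.mp (isConj_invol_of_isCA M.ca M.nonab ht hs)
      exact ⟨c, (M.ca.mem_normalizer_iff ht1).mpr hsA, rfl⟩
  have h := ncard_orbit (normalizer (A : Set G)) t le_normalizer
  rw [heq, Set.ncard_sdiff_singleton_of_mem (one_mem A), ← Nat.card_coe_set_eq] at h
  rw [← h]
  congr 2
  exact M.card_centralizer ht

/-- Case of a normal abelian subgroup with an involution. -/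
theorem Model.normalizer_le_of_two (M : Model G n) {H : Subgroup G} (hH : ¬ Comm H) {N1 : Subgroup G}
    (hN1H : N1 ≤ H) (hN1n : H ≤ normalizer (N1 : Set G)) (hN1c : Comm N1) {t : G} (htN : t ∈ N1)
    (ht : orderOf t = 2) : normalizer (H : Set G) ≤ H := by
  haveI := M.simple
  have ht1 := Invol.ne_one_of_orderOf_two ht
  set A := centralizer ({t} : Set G) with hA
  set N := normalizer (A : Set G) with hN
  set p := 2 ^ n - 1 with hp
  have hpp : p.Prime := M.prime
  have hcardN := M.card_normalizer ht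
  have hp2 : p ≠ 2 := by
    intro e
    have h2 : 2 ∣ 2 ^ n := dvd_pow_self 2 (by have := M.two_le; omega)
    omega
  have hpow : ∀ y ∈ N, y ^ p ∈ A := by
    intro y hy
    have hidx : (A.subgroupOf N).index = p := by
      have h := (A.subgroupOf N).index_mul_card
      rw [Nat.card_congr (subgroupOfEquivOfLe (le_normalizer (H := A))).toEquiv] at h
      exact Nat.eq_of_mul_eq_mul_right Nat.card_pos (h.trans hcardN)
    haveI : (A.subgroupOf N).Normal := normal_in_normalizer
    have := (A.subgroupOf N).pow_index_mem ⟨y, hy⟩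
    rw [hidx] at this
    simpa [mem_subgroupOf] using this
  have hsqA : ∀ y ∈ N, y * y = 1 → y ∈ A := by
    intro y hy hy2
    refine mem_of_coprime_pow_mem (Nat.Coprime.coprime_dvd_left
      (orderOf_dvd_of_pow_eq_one (show y ^ 2 = 1 by rw [sq, hy2])) ?_) (hpow y hy)
    exact (Nat.coprime_primes Nat.prime_two hpp).mpr hp2.symm
  have hHN : H ≤ N := fun h hh => (M.ca.mem_normalizer_iff ht1).mpr
    (mem_centralizer_singleton_iff.mpr
      (hN1c _ ((Subgroup.mem_normalizer_iff.mp (hN1n hh) t).mp htN) t htN))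
  have hKN : normalizer (H : Set G) ≤ N := by
    intro k hk
    refine (M.ca.mem_normalizer_iff ht1).mpr (hsqA _ (hHN ((Subgroup.mem_normalizer_iff.mp hk t).mp
      (hN1H htN))) ?_)
    rw [conj_mul, Invol.mul_self_of_orderOf_two ht, mul_one, mul_inv_cancel]
  obtain ⟨h, hh, hhA⟩ : ∃ h ∈ H, h ∉ A := by
    by_contra hc
    push_neg at hc
    exact hH fun a ha b hb => M.ca t ht1 a (hc a ha) b (hc b hb)
  -- `A ⊔ ⟨h⟩ = N`
  have hsup : A ⊔ zpowers h = N := by
    have hle : A ⊔ zpowers h ≤ N := sup_le le_normalizer (zpowers_le.mpr (hHN hh))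
    obtain ⟨c, hc⟩ := card_dvd_of_le (le_sup_left : A ≤ A ⊔ zpowers h)
    have hd := card_dvd_of_le hle
    rw [hc, hcardN, mul_comm p] at hd
    have hcp := Nat.dvd_of_mul_dvd_mul_left Nat.card_pos hd
    rcases (Nat.dvd_prime hpp).mp hcp with rfl | rfl
    · exfalso
      rw [mul_one] at hc
      have := eq_of_le_of_card_ge (le_sup_left : A ≤ A ⊔ zpowers h) (le_of_eq hc)
      exact hhA (this ▸ mem_sup_right (mem_zpowers h))
    · exact eq_of_le_of_card_ge hle (by rw [hc, hcardN, mul_comm])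
  have hnorm : N ≤ normalizer ((H ⊓ A : Subgroup G) : Set G) := by
    rw [← hsup]
    refine sup_le (fun a ha => centralizer_le_normalizer _ (mem_centralizer_iff.mpr fun v hv =>
      M.ca t ht1 v hv.2 a ha)) (zpowers_le.mpr (mem_normalizer_fintype fun v hv => ?_))
    exact ⟨H.mul_mem (H.mul_mem hh hv.1) (H.inv_mem hh),
      (Subgroup.mem_normalizer_iff.mp (hHN hh) v).mp hv.2⟩
  have hAH : A ≤ H := by
    intro s hs
    by_cases hs1 : s = 1
    · rw [hs1]; exact one_mem H
    have hs2 : orderOf s = 2 :=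
      Invol.orderOf_two_of_mul_self (by rw [← sq]; exact M.elem t s ht hs) hs1
    obtain ⟨c, rfl⟩ := isConj_iff.mp (isConj_invol_of_isCA M.ca M.nonab ht hs2)
    have hcN : c ∈ N := (M.ca.mem_normalizer_iff ht1).mpr hs
    exact ((Subgroup.mem_normalizer_iff.mp (hnorm hcN) t).mp
      ⟨hN1H htN, mem_centralizer_singleton_iff.mpr rfl⟩).1
  calc normalizer (H : Set G) ≤ N := hKN
    _ = A ⊔ zpowers h := hsup.symm
    _ ≤ H := sup_le hAH (zpowers_le.mpr hh)

/-- Case of a normal abelian subgroup without involutions. -/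
theorem Model.normalizer_le_of_odd (M : Model G n) {H : Subgroup G} (hH : ¬ Comm H) {N1 : Subgroup G}
    (hN1H : N1 ≤ H) (hN1n : H ≤ normalizer (N1 : Set G)) (hN1c : Comm N1) (hN11 : N1 ≠ ⊥)
    (hno : ∀ t ∈ N1, orderOf t ≠ 2) : normalizer (H : Set G) ≤ H := by
  obtain ⟨g, hgN, hg1⟩ := (N1.bot_or_exists_ne_one).resolve_left hN11
  have hg2 : g * g ≠ 1 := fun h => hno g hgN (Invol.orderOf_two_of_mul_self h hg1)
  set C := centralizer ({g} : Set G) with hC
  set N := normalizer (C : Set G) with hN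
  have hgC : g ∈ C := mem_centralizer_singleton_iff.mpr rfl
  have hCodd : ¬ 2 ∣ Nat.card C := by
    intro hd
    obtain ⟨t, ht⟩ := exists_prime_orderOf_dvd_card' (G := C) 2 hd
    rw [← Subgroup.orderOf_coe] at ht
    have hC' : centralizer ({(t : G)} : Set G) = C :=
      M.ca.eq_of_mem hg1 (Invol.ne_one_of_orderOf_two ht) t.2
    apply hg2
    rw [← sq]
    exact M.elem t g ht (by rw [hC']; exact hgC)
  have hinv : ∀ w ∈ N, w ∉ C → w * g * w⁻¹ = g⁻¹ ∧ w * w = 1 := by
    intro w hw hwC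
    have h1 : w * g * w⁻¹ = g⁻¹ := (M.inv g w hg2 ((Subgroup.mem_normalizer_iff.mp hw g).mp hgC)).resolve_left
      fun e => hwC (mem_centralizer_singleton_iff.mpr (mul_inv_eq_iff_eq_mul.mp e))
    refine ⟨h1, ?_⟩
    by_contra hw2
    have hwwC : w * w ∈ C := by
      refine mem_centralizer_singleton_iff.mpr (mul_inv_eq_iff_eq_mul.mp ?_)
      calc w * w * g * (w * w)⁻¹ = w * (w * g * w⁻¹) * w⁻¹ := by group
        _ = w * g⁻¹ * w⁻¹ := by rw [h1]
        _ = (w * g * w⁻¹)⁻¹ := by group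
        _ = g := by rw [h1, inv_inv]
    apply hwC
    rw [show C = centralizer ({w * w} : Set G) from (M.ca.eq_of_mem hg1 hw2 hwwC).symm]
    exact mem_centralizer_singleton_iff.mpr (mul_assoc w w w).symm
  have hHN : H ≤ N := fun h hh => (M.ca.mem_normalizer_iff hg1).mpr
    (mem_centralizer_singleton_iff.mpr
      (hN1c _ ((Subgroup.mem_normalizer_iff.mp (hN1n hh) g).mp hgN) g hgN))
  have hKN : normalizer (H : Set G) ≤ N := by
    intro k hk
    refine (M.ca.mem_normalizer_iff hg1).mpr ?_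
    by_contra hkC
    have h2 := (hinv _ (hHN ((Subgroup.mem_normalizer_iff.mp hk g).mp (hN1H hgN))) hkC).2
    rw [conj_mul, conj_eq_one_iff] at h2
    exact hg2 h2
  obtain ⟨h, hh, hhC⟩ : ∃ h ∈ H, h ∉ C := by
    by_contra hc
    push_neg at hc
    exact hH fun a ha b hb => M.ca g hg1 a (hc a ha) b (hc b hb)
  obtain ⟨hhg, hh2⟩ := hinv h (hHN hh) hhC
  have hC' : ∀ k ∈ normalizer (H : Set G), k ∈ C → k ∈ H := by
    intro k hk hkC
    have hhk : h * k ∉ C := fun e => hhC (by simpa using mul_mem e (inv_mem hkC))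
    have h3 := (hinv _ (mul_mem (hHN hh) (le_normalizer hkC)) hhk).2
    have hkk : k * h * k⁻¹ * h = k * k := by
      have e : h * k⁻¹ * h = k := by
        have := inv_eq_of_mul_eq_one_right (show h * k * h * k = 1 by simpa [mul_assoc] using h3)
        rwa [mul_inv_rev, mul_inv_rev, Invol.inv_eq_self_of_mul_self hh2, ← mul_assoc] at this
      calc k * h * k⁻¹ * h = k * (h * k⁻¹ * h) := by group
        _ = k * k := by rw [e]
    refine mem_of_coprime_pow_mem (n := 2) ?_ ?_
    · exact Nat.Coprime.coprime_dvd_left (orderOf_dvd_natCard C hkC)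
        (Nat.coprime_comm.mp ((Nat.prime_two.coprime_iff_not_dvd).mpr hCodd))
    · rw [sq, ← hkk]
      exact mul_mem ((Subgroup.mem_normalizer_iff.mp hk h).mp hh) hh
  intro k hk
  by_cases hkC : k ∈ C
  · exact hC' k hk hkC
  · obtain ⟨hkg, -⟩ := hinv k (hKN hk) hkC
    have hhk : h * k ∈ C := by
      refine mem_centralizer_singleton_iff.mpr (mul_inv_eq_iff_eq_mul.mp ?_)
      calc h * k * g * (h * k)⁻¹ = h * (k * g * k⁻¹) * h⁻¹ := by group
        _ = h * g⁻¹ * h⁻¹ := by rw [hkg]
        _ = (h * g * h⁻¹)⁻¹ := by group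
        _ = g := by rw [hhg, inv_inv]
    have := hC' _ (mul_mem (le_normalizer hh) hk) hhk
    simpa using mul_mem (inv_mem hh) this

/-- Case of no normal abelian subgroup. -/
theorem Model.eq_top_of_no_abelian (M : Model G n) {H : Subgroup G} (hH : ¬ Comm H)
    (hno : ∀ N : Subgroup H, N.Normal → Comm N → N = ⊥) : H = ⊤ := by
  classical
  haveI : Fact (Nat.Prime 2) := ⟨Nat.prime_two⟩
  haveI : Nontrivial H := by
    by_contra hc
    haveI := not_nontrivial_iff_subsingleton.mp hc
    exact hH fun a ha b hb => congrArg Subtype.val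
      (Subsingleton.elim ((⟨a, ha⟩ : H) * ⟨b, hb⟩) (⟨b, hb⟩ * ⟨a, ha⟩))
  have hns : ¬ Group.IsSolvable H := by
    intro hs
    obtain ⟨N, hN, hN1, hNc⟩ := exists_abelian_normal_of_solvable (H := H)
    exact hN1 (hno N hN hNc)
  obtain ⟨T⟩ : Nonempty (Sylow 2 H) := inferInstance
  have hTne : (T : Subgroup H) ≠ ⊥ := by
    intro e
    apply hns
    refine M.ca.isSolvable_of_odd (Nat.odd_iff.mpr ?_)
    by_contra h
    exact T.ne_bot_of_dvd_card (by omega) e
  haveI : Nontrivial (T : Subgroup H) := (nontrivial_iff_ne_bot _).mpr hTne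
  haveI := T.2.center_nontrivial
  obtain ⟨z, hz⟩ := exists_prime_orderOf_dvd_card' (G := center (T : Subgroup H)) 2
    (((T.2.to_subgroup _).card_eq_or_dvd).resolve_left Finite.one_lt_card.ne')
  set w : G := (((z : (T : Subgroup H)) : H) : G) with hw
  have hwo : orderOf w = 2 := by
    rw [hw, Subgroup.orderOf_coe, Subgroup.orderOf_coe, Subgroup.orderOf_coe, hz]
  have hTw : ∀ y ∈ (T : Subgroup H), (y : G) ∈ centralizer ({w} : Set G) := fun y hy =>
    mem_centralizer_singleton_iff.mpr (congrArg (fun v : (T : Subgroup H) => ((v : H) : G))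
      (mem_center_iff.mp z.2 ⟨y, hy⟩))
  have hTc : Comm (T : Subgroup H) := fun a ha b hb =>
    Subtype.ext (M.ca w (Invol.ne_one_of_orderOf_two hwo) a (hTw a ha) b (hTw b hb))
  have hT2 : ∀ y : (T : Subgroup H), y ^ 2 = 1 := fun y => Subtype.ext (Subtype.ext (by
    simpa using M.elem w _ hwo (hTw y y.2)))
  have hnn : ¬ (T : Subgroup H).Normal := fun h => hTne (hno _ h hTc)
  have hnc : ¬ IsCyclic (T : Subgroup H) := by
    intro hcyc
    have hcard : Nat.card (T : Subgroup H) = 2 := by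
      obtain ⟨y, hy⟩ := IsCyclic.exists_ofOrder_eq_natCard (α := (T : Subgroup H))
      have h1 : Nat.card (T : Subgroup H) ∣ 2 := hy ▸ orderOf_dvd_of_pow_eq_one (hT2 y)
      exact ((Nat.dvd_prime Nat.prime_two).mp h1).resolve_left Finite.one_lt_card.ne'
    have hNC : normalizer ((T : Subgroup H) : Set H) ≤ centralizer ((T : Subgroup H) : Set H) := by
      intro y hy
      rw [mem_centralizer_iff]
      intro v hv
      by_cases hv1 : v = 1
      · simp [hv1]
      have hvy : y * v * y⁻¹ ∈ (T : Subgroup H) := (Subgroup.mem_normalizer_iff.mp hy v).mp hv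
      obtain ⟨a, -, hau⟩ := (Nat.card_eq_two_iff' (1 : (T : Subgroup H))).mp hcard
      have e1 := hau ⟨v, hv⟩ fun e => hv1 (congrArg Subtype.val e)
      have e2 := hau ⟨_, hvy⟩ fun e => hv1 (conj_eq_one_iff.mp (congrArg Subtype.val e))
      have e3 : y * v * y⁻¹ = v := congrArg Subtype.val (e2.trans e1.symm)
      exact (mul_inv_eq_iff_eq_mul.mp e3).symm
    have hK := MonoidHom.ker_transferSylow_isComplement' T hNC
    have hKodd : Odd (Nat.card ((MonoidHom.transferSylow T hNC).ker.map H.subtype)) := by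
      rw [card_map_of_injective H.subtype_injective, Nat.odd_iff]
      by_contra h
      exact MonoidHom.not_dvd_card_ker_transferSylow T hNC (by omega)
    haveI := M.ca.isSolvable_of_odd hKodd
    haveI : Group.IsSolvable (MonoidHom.transferSylow T hNC).ker :=
      solvable_of_solvable_injective (f := ((MonoidHom.transferSylow T hNC).ker.equivMapOfInjective
        H.subtype H.subtype_injective).toMonoidHom) (MulEquiv.injective _)
    haveI : Group.IsSolvable (T : Subgroup H) :=
      Group.isSolvable_of_comm fun a b => Subtype.ext (hTc _ a.2 _ b.2)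
    exact hns (Group.isSolvable_of_ker_le_range (MonoidHom.transferSylow T hNC).ker.subtype
      (MonoidHom.transferSylow T hNC) (by rw [range_subtype]))
  obtain ⟨F, _, _, hF, ⟨e⟩⟩ := S1230.result T hnc hnn fun t ht => by
    rw [← Subgroup.orderOf_coe] at ht
    have hmem : ∀ c ∈ centralizer ({t} : Set H), (c : G) ∈ centralizer ({(t : G)} : Set G) :=
      fun c hc => mem_centralizer_singleton_iff.mpr
        (congrArg Subtype.val (mem_centralizer_singleton_iff.mp hc))
    refine ⟨⟨⟨fun a b => Subtype.ext (Subtype.ext (M.ca _ (Invol.ne_one_of_orderOf_two ht) _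
      (hmem _ a.2) _ (hmem _ b.2)))⟩⟩, fun c hc => Subtype.ext ?_⟩
    simpa using M.elem _ _ ht (hmem c hc)
  obtain ⟨m, hm⟩ := IsPGroup.iff_card.mp T.2
  rw [hm] at hF
  have hm2 : 2 ≤ m := by
    rcases m with _ | _ | m
    · exact absurd (hm.trans (pow_zero 2)) Finite.one_lt_card.ne'
    · exact absurd (isCyclic_of_prime_card (p := 2) (hm.trans (pow_one 2))) hnc
    · omega
  have hgcd : Nat.gcd 2 (Fintype.card F - 1) = 1 := by
    rw [hF]
    refine (Nat.Prime.coprime_iff_not_dvd Nat.prime_two).mpr fun hd => ?_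
    have h2 : 2 ∣ 2 ^ m := dvd_pow_self 2 (by omega)
    have : 1 ≤ 2 ^ m := Nat.one_le_two_pow
    omega
  have hHcard : Nat.card H = 2 ^ m * ((2 ^ m - 1) * (2 ^ m + 1)) := by
    have h := SL2.card_psl (F := F)
    rw [hgcd, one_mul, hF] at h
    rw [Nat.card_congr e.toEquiv, h]
  have hsq : ∀ i : ℕ, (2 ^ i - 1) * (2 ^ i + 1) = 4 ^ i - 1 := fun i => by
    rw [mul_comm, ← Nat.sq_sub_sq, one_pow, ← pow_mul, mul_comm i 2, pow_mul]
    norm_num
  have hdvd : 4 ^ m - 1 ∣ 4 ^ n - 1 := by
    have h1 : 4 ^ m - 1 ∣ 2 ^ n * (4 ^ n - 1) := by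
      rw [← hsq, ← hsq, ← M.card]
      exact (dvd_mul_left _ _).trans (hHcard ▸ card_subgroup_dvd_card H)
    refine Nat.Coprime.dvd_of_dvd_mul_left (Nat.Coprime.pow_right n ?_) h1
    rw [Nat.coprime_comm, Nat.prime_two.coprime_iff_not_dvd]
    intro hd
    have h4 : 2 ∣ 4 ^ m := dvd_trans (by norm_num) (dvd_pow_self 4 (by omega : m ≠ 0))
    have : 1 ≤ 4 ^ m := Nat.one_le_pow _ _ (by norm_num)
    omega
  have hmn : m ∣ n := by
    have h := Nat.pow_sub_one_gcd_pow_sub_one 4 m n
    rw [Nat.gcd_eq_left hdvd] at h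
    have h1 : 1 ≤ 4 ^ m := Nat.one_le_pow _ _ (by norm_num)
    have h2 : 1 ≤ 4 ^ Nat.gcd m n := Nat.one_le_pow _ _ (by norm_num)
    have h3 : Nat.gcd m n = m := Nat.pow_right_injective (show 2 ≤ 4 by norm_num)
      (show 4 ^ Nat.gcd m n = 4 ^ m by omega)
    exact h3 ▸ Nat.gcd_dvd_right m n
  have hn : n.Prime := (Nat.prime_of_pow_sub_one_prime (by have := M.two_le; omega) M.prime).2
  obtain rfl : m = n := ((Nat.dvd_prime hn).mp hmn).resolve_left (by omega)
  exact eq_top_of_card_eq H (hHcard.trans M.card.symm)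

theorem Model.hyp (M : Model G n) : Hyp G := by
  intro H hH
  rw [comm_iff] at hH
  refine le_antisymm ?_ le_normalizer
  by_cases hno : ∀ N : Subgroup H, N.Normal → Comm N → N = ⊥
  · rw [M.eq_top_of_no_abelian hH hno]; exact le_top
  · push_neg at hno
    obtain ⟨N, hN, hNc, hN1⟩ := hno
    set N1 := N.map H.subtype with hN1def
    have hle : N1 ≤ H := map_subtype_le N
    have hn : H ≤ normalizer (N1 : Set G) := fun y hy => mem_normalizer_fintype fun v hv => by
      obtain ⟨w, hw, rfl⟩ := hv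
      exact ⟨_, hN.conj_mem w hw ⟨y, hy⟩, rfl⟩
    have hc : Comm N1 := by
      rintro _ ⟨a, ha, rfl⟩ _ ⟨b, hb, rfl⟩
      exact congrArg H.subtype (hNc a ha b hb)
    have hne : N1 ≠ ⊥ := fun e => hN1 ((map_eq_bot_iff_of_injective _ H.subtype_injective).mp e)
    by_cases hinv : ∃ t ∈ N1, orderOf t = 2
    · obtain ⟨t, htN, ht⟩ := hinv
      exact M.normalizer_le_of_two hH hle hn hc htN ht
    · push_neg at hinv
      exact M.normalizer_le_of_odd hH hle hn hc hne hinv

end Cfsg.Agent.FGB.SelfNorm
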