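import Mathlib

/-!
# Solvable groups transitive on subspaces: counting and field lemmas
-/

set_option autoImplicit false

namespace Cfsg.Agent.FGB.SolvTrans

open Module

variable {p : ℕ} [hp : Fact p.Prime] {V : Type*} [AddCommGroup V] [Module (ZMod p) V] [Finite V]

theorem card_submodule (W : Submodule (ZMod p) V) : Nat.card W = p ^ finrank (ZMod p) W := by
  rw [Module.natCard_eq_pow_finrank (K := ZMod p), Nat.card_zmod]

/-- The points of a submodule fixed by a map of order dividing a prime. -/
theorem fixed_modEq {r : ℕ} [Fact r.Prime] (f : Module.End (ZMod p) V) (hf : f ^ r = 1)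
    (W : Submodule (ZMod p) V) (hW : ∀ w ∈ W, f w ∈ W) :
    Nat.card W ≡ Nat.card (W ⊓ LinearMap.ker (f - 1) : Submodule (ZMod p) V) [MOD r] := by
  classical
  haveI := Fintype.ofFinite W
  let F : Function.End W := fun w => ⟨f w, hW w w.2⟩
  have hpow : ∀ (k : ℕ) (w : W), ((F ^ k) w : V) = (f ^ k) (w : V) := by
    intro k
    induction k with
    | zero => intro w; rfl
    | succ k ih =>
      intro w
      rw [pow_succ', pow_succ']
      show f (((F ^ k) w : W) : V) = f ((f ^ k) (w : V))
      rw [ih]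
  have hF : F ^ r ^ 1 = 1 := by
    funext w
    apply Subtype.ext
    rw [pow_one, hpow, hf]
    rfl
  have h := Equiv.Perm.card_fixedPoints_modEq (p := r) hF
  rw [← Nat.card_eq_fintype_card, ← Nat.card_eq_fintype_card] at h
  have e : Nat.card (Function.fixedPoints F) =
      Nat.card (W ⊓ LinearMap.ker (f - 1) : Submodule (ZMod p) V) := by
    refine Nat.card_congr ⟨fun w => ⟨w.1.1, w.1.2, ?_⟩, fun v => ⟨⟨v.1, v.2.1⟩, ?_⟩,
      fun w => rfl, fun v => rfl⟩
    · rw [SetLike.mem_coe, LinearMap.mem_ker, LinearMap.sub_apply, Module.End.one_apply, sub_eq_zero]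
      exact congrArg Subtype.val w.2
    · refine Subtype.ext ?_
      have h2 := v.2.2
      rw [SetLike.mem_coe, LinearMap.mem_ker, LinearMap.sub_apply, Module.End.one_apply,
        sub_eq_zero] at h2
      exact h2
  rwa [e] at h

/-- A prime of multiplicative order at least `d` separates small powers. -/
theorem eq_of_pow_modEq {r : ℕ} (hr : r.Prime) (hrp : r ≠ p) {i j d : ℕ} (hij : i ≤ j)
    (hd : j - i < d) (hprim : ∀ k : ℕ, 0 < k → k < d → ¬ r ∣ p ^ k - 1)
    (h : p ^ j ≡ p ^ i [MOD r]) : i = j := by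
  by_contra hne
  have h1 : r ∣ p ^ j - p ^ i :=
    (Nat.modEq_iff_dvd' (Nat.pow_le_pow_right hp.out.pos hij)).1 h.symm
  rw [← Nat.add_sub_cancel' hij, pow_add, ← Nat.mul_sub_one] at h1
  rcases (Nat.Prime.dvd_mul hr).1 h1 with h2 | h2
  · exact hrp ((Nat.prime_dvd_prime_iff_eq hr hp.out).1 (hr.dvd_of_dvd_pow h2))
  · exact hprim (j - i) (by omega) hd h2

/-- An element of primitive prime order has no invariant subspaces. -/
theorem irreducible_of_primitive {n r : ℕ} (hn : finrank (ZMod p) V = n) (hr : r.Prime)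
    (hrp : r ≠ p) (hprim : ∀ k : ℕ, 0 < k → k < n → ¬ r ∣ p ^ k - 1)
    (f : Module.End (ZMod p) V) (hf : f ^ r = 1) (hf1 : f ≠ 1) (W : Submodule (ZMod p) V)
    (hW : ∀ w ∈ W, f w ∈ W) : W = ⊥ ∨ W = ⊤ := by
  haveI := Fact.mk hr
  set F := LinearMap.ker (f - 1)
  have hFlt : finrank (ZMod p) F < n := by
    refine lt_of_le_of_ne (hn ▸ Submodule.finrank_le F) fun h => hf1 ?_
    have hF : F = ⊤ := Submodule.eq_top_of_finrank_eq (h.trans hn.symm)
    exact sub_eq_zero.1 (LinearMap.ker_eq_top.1 hF)
  have hF0 : finrank (ZMod p) F = 0 := by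
    have h := fixed_modEq f hf ⊤ (fun w _ => Submodule.mem_top)
    rw [top_inf_eq, card_submodule, card_submodule, finrank_top, hn] at h
    by_contra h0
    exact hFlt.ne (eq_of_pow_modEq hr hrp hFlt.le (by omega) hprim h)
  have hF : F = ⊥ := Submodule.finrank_eq_zero.1 hF0
  by_cases hWn : finrank (ZMod p) W = n
  · exact Or.inr (Submodule.eq_top_of_finrank_eq (hWn.trans hn.symm))
  refine Or.inl (Submodule.finrank_eq_zero.1 ?_)
  have h := fixed_modEq f hf W hW
  rw [show W ⊓ LinearMap.ker (f - 1) = ⊥ by rw [show LinearMap.ker (f - 1) = ⊥ from hF, inf_bot_eq],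
    card_submodule, card_submodule, finrank_bot] at h
  have := hn ▸ Submodule.finrank_le W
  exact (eq_of_pow_modEq hr hrp (Nat.zero_le _) (by omega) hprim h).symm

/-- A commutative irreducible algebra of endomorphisms is a field acting regularly. -/
theorem field_of_irreducible (R : Subalgebra (ZMod p) (Module.End (ZMod p) V))
    (hcomm : ∀ a ∈ R, ∀ b ∈ R, a * b = b * a)
    (hirr : ∀ W : Submodule (ZMod p) V, (∀ a ∈ R, ∀ w ∈ W, a w ∈ W) → W = ⊥ ∨ W = ⊤)
    {v₀ : V} (hv₀ : v₀ ≠ 0) :
    Function.Bijective (fun a : R => (a : Module.End (ZMod p) V) v₀) ∧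
      ∀ a : R, a ≠ 0 → ∃ b : R, a * b = 1 := by
  have key : ∀ v : V, v ≠ 0 → ∀ u : V, ∃ a : R, (a : Module.End (ZMod p) V) v = u := by
    intro v hv u
    let ev : R →ₗ[ZMod p] V :=
      { toFun := fun a => (a : Module.End (ZMod p) V) v
        map_add' := fun a b => rfl
        map_smul' := fun c a => rfl }
    have hW : LinearMap.range ev = ⊤ := by
      refine (hirr _ ?_).resolve_left fun h => hv ?_
      · rintro a ha _ ⟨b, rfl⟩
        exact ⟨⟨a, ha⟩ * b, rfl⟩
      · have : v ∈ LinearMap.range ev := ⟨1, rfl⟩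
        rwa [h, Submodule.mem_bot] at this
    obtain ⟨a, ha⟩ := LinearMap.range_eq_top.1 hW u
    exact ⟨a, ha⟩
  have hinj : ∀ (a : R) (v : V), v ≠ 0 → (a : Module.End (ZMod p) V) v = 0 → a = 0 := by
    intro a v hv h
    refine Subtype.ext (LinearMap.ext fun u => ?_)
    obtain ⟨b, rfl⟩ := key v hv u
    have := congrArg (fun T : Module.End (ZMod p) V => T v) (hcomm a a.2 b b.2)
    simp only [Module.End.mul_apply, h, map_zero] at this
    simpa using this
  refine ⟨⟨fun a b h => ?_, key v₀ hv₀⟩, fun a ha => ?_⟩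
  · refine sub_eq_zero.1 (hinj (a - b) v₀ hv₀ ?_)
    show (a : Module.End (ZMod p) V) v₀ - (b : Module.End (ZMod p) V) v₀ = 0
    exact sub_eq_zero.2 h
  · have hne : (a : Module.End (ZMod p) V) v₀ ≠ 0 := fun h => ha (hinj a v₀ hv₀ h)
    obtain ⟨b, hb⟩ := key _ hne v₀
    refine ⟨b, sub_eq_zero.1 (hinj (a * b - 1) v₀ hv₀ ?_)⟩
    show ((a : Module.End (ZMod p) V) * (b : Module.End (ZMod p) V) - 1) v₀ = 0
    rw [hcomm a a.2 b b.2, LinearMap.sub_apply, Module.End.mul_apply, hb, Module.End.one_apply,
      sub_self]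

/-- Joint eigenvectors with distinct eigenvalue functions are independent. -/
theorem indep_of_characters {K M ι A : Type*} [Field K] [AddCommGroup M] [Module K M]
    (T : A → Module.End K M) (χ : ι → A → K) (hχ : Function.Injective χ) (v : ι → M)
    (hv : ∀ i, v i ≠ 0) (hT : ∀ i a, T a (v i) = χ i a • v i) : LinearIndependent K v := by
  classical
  rw [linearIndependent_iff']
  intro s
  induction s using Finset.induction_on with
  | empty => intro g _ i hi; simp at hi
  | @insert i₀ s hi₀ ih =>
    intro g hg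
    have hs : ∀ i ∈ s, g i = 0 := by
      intro i hi
      have hne : χ i ≠ χ i₀ := fun h => hi₀ (hχ h ▸ hi)
      obtain ⟨b, hb⟩ := Function.ne_iff.1 hne
      have h1 : ∑ j ∈ s, ((χ j b - χ i₀ b) * g j) • v j = 0 := by
        have e := congrArg (fun x => T b x - χ i₀ b • x) hg
        simp only [map_zero, smul_zero, sub_zero, map_sum, map_smul, Finset.smul_sum,
          ← Finset.sum_sub_distrib] at e
        rw [Finset.sum_insert hi₀] at e
        rw [show g i₀ • T b (v i₀) - χ i₀ b • g i₀ • v i₀ = 0 by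
          rw [hT, smul_comm, sub_self], zero_add] at e
        refine (Finset.sum_congr rfl fun j _ => ?_).trans e
        rw [hT, smul_smul, smul_smul, ← sub_smul]
        congr 1
        ring
      exact (mul_eq_zero.1 (ih _ h1 i hi)).resolve_left (sub_ne_zero.2 hb)
    intro j hj
    rcases Finset.mem_insert.1 hj with rfl | hj'
    · rw [Finset.sum_insert hi₀, Finset.sum_eq_zero (fun k hk => by rw [hs k hk, zero_smul]),
        add_zero] at hg
      exact (smul_eq_zero.1 hg).resolve_right (hv j)
    · exact hs j hj'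

/-- Automorphisms of a finite field. -/
theorem card_ringAut {n : ℕ} (hn : n ≠ 0) :
    Nat.card (GaloisField p n ≃+* GaloisField p n) = n := by
  have hcomp : ∀ φ : GaloisField p n ≃+* GaloisField p n, ∀ x : ZMod p,
      φ (algebraMap (ZMod p) (GaloisField p n) x) = algebraMap (ZMod p) (GaloisField p n) x :=
    fun φ x => RingHom.congr_fun (Subsingleton.elim
      ((φ : GaloisField p n →+* GaloisField p n).comp (algebraMap (ZMod p) _))
      (algebraMap (ZMod p) _)) x
  have e : Nat.card (GaloisField p n ≃+* GaloisField p n) =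
      Nat.card (GaloisField p n ≃ₐ[ZMod p] GaloisField p n) :=
    Nat.card_congr ⟨fun φ => AlgEquiv.ofRingEquiv (f := φ) (hcomp φ), fun A => A.toRingEquiv,
      fun φ => RingEquiv.ext fun x => rfl, fun A => AlgEquiv.ext fun x => rfl⟩
  rw [e, IsGalois.card_aut_eq_finrank, GaloisField.finrank p hn]

/-- The number of `k`-dimensional subspaces. -/
theorem card_subspaces_mul {k : ℕ} (hk : k ≤ finrank (ZMod p) V) :
    Nat.card {W : Submodule (ZMod p) V // finrank (ZMod p) W = k} *
        ∏ i : Fin k, (p ^ k - p ^ (i : ℕ)) =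
      ∏ i : Fin k, (p ^ finrank (ZMod p) V - p ^ (i : ℕ)) := by
  classical
  have hV := card_linearIndependent (K := ZMod p) (V := V) hk
  simp only [ZMod.card] at hV
  have hW : ∀ W : {W : Submodule (ZMod p) V // finrank (ZMod p) W = k},
      Nat.card {s : Fin k → W.1 // LinearIndependent (ZMod p) s} =
        ∏ i : Fin k, (p ^ k - p ^ (i : ℕ)) := by
    intro W
    have h := card_linearIndependent (K := ZMod p) (V := W.1) (k := k) W.2.ge
    simp only [ZMod.card, W.2] at h
    exact h
  rw [← hV]
  let Φ : (Σ W : {W : Submodule (ZMod p) V // finrank (ZMod p) W = k},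
      {s : Fin k → W.1 // LinearIndependent (ZMod p) s}) →
      {s : Fin k → V // LinearIndependent (ZMod p) s} :=
    fun x => ⟨fun i => (x.2.1 i : V), x.2.2.map' x.1.1.subtype (Submodule.ker_subtype _)⟩
  have hΦ : Function.Bijective Φ := by
    refine ⟨?_, ?_⟩
    · rintro ⟨W, s, hs⟩ ⟨W', s', hs'⟩ h
      have he : (fun i => (s i : V)) = fun i => (s' i : V) := congrArg Subtype.val h
      have hspan : ∀ (W : {W : Submodule (ZMod p) V // finrank (ZMod p) W = k}) (s : Fin k → W.1),
          LinearIndependent (ZMod p) s →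
          Submodule.span (ZMod p) (Set.range fun i => (s i : V)) = W.1 := by
        intro W s hs
        refine Submodule.eq_of_le_of_finrank_eq ?_ ?_
        · rw [Submodule.span_le]
          rintro _ ⟨i, rfl⟩
          exact (s i).2
        · have hli : LinearIndependent (ZMod p) fun i => (s i : V) :=
            hs.map' W.1.subtype (Submodule.ker_subtype _)
          rw [finrank_span_eq_card hli, Fintype.card_fin, W.2]
      obtain rfl : W = W' := Subtype.ext (by rw [← hspan W s hs, he, hspan W' s' hs'])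
      obtain rfl : s = s' := funext fun i => Subtype.ext (congrFun he i)
      rfl
    · rintro ⟨s, hs⟩
      refine ⟨⟨⟨Submodule.span (ZMod p) (Set.range s), ?_⟩,
        fun i => ⟨s i, Submodule.subset_span ⟨i, rfl⟩⟩, ?_⟩, rfl⟩
      · rw [finrank_span_eq_card hs, Fintype.card_fin]
      · exact LinearIndependent.of_comp (Submodule.span (ZMod p) (Set.range s)).subtype hs
  haveI := Fintype.ofFinite {W : Submodule (ZMod p) V // finrank (ZMod p) W = k}
  rw [← Nat.card_eq_of_bijective Φ hΦ, Nat.card_sigma, Finset.sum_congr rfl (fun W _ => hW W),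
    Finset.sum_const, Finset.card_univ, smul_eq_mul, ← Nat.card_eq_fintype_card]

end Cfsg.Agent.FGB.SolvTrans
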