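import Cfsg.Agent.Lib.FGB.SolvTransPrime

/-!
# Solvable groups transitive on subspaces, composite dimension
-/

set_option autoImplicit false
set_option linter.unusedSectionVars false

namespace Cfsg.Agent.FGB.SolvTrans

open Module

variable {p : ℕ} [hp : Fact p.Prime] {V : Type*} [AddCommGroup V] [Module (ZMod p) V] [Finite V]
  {n : ℕ} {X : Type*} [Group X] [Finite X] (ρ : X →* Module.End (ZMod p) V)

/-- A Hall subgroup for two primes. -/
theorem exists_hall_pair (hsolv : Group.IsSolvable X) {r s : ℕ} (hr : r.Prime) (hs : s.Prime)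
    (hrs : r ≠ s) (hrd : r ∣ Nat.card X) (hsd : s ∣ Nat.card X) :
    ∃ M : Subgroup X, r ∣ Nat.card M ∧ s ∣ Nat.card M ∧
      ∀ q : ℕ, q.Prime → q ∣ Nat.card M → q = r ∨ q = s := by
  have := hsolv
  obtain ⟨a, k, hk, hak⟩ := Nat.exists_eq_pow_mul_and_not_dvd (Nat.card_pos (α := X)).ne' r hr.ne_one
  have hk0 : k ≠ 0 := fun h => hk (h ▸ dvd_zero r)
  obtain ⟨b, m, hm, hbm⟩ := Nat.exists_eq_pow_mul_and_not_dvd hk0 s hs.ne_one
  have ha : a ≠ 0 := fun h => hk (by rwa [hak, h, pow_zero, one_mul] at hrd)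
  have hb : b ≠ 0 := by
    intro h
    rw [hak] at hsd
    rcases (Nat.Prime.dvd_mul hs).1 hsd with h1 | h1
    · exact hrs ((Nat.prime_dvd_prime_iff_eq hs hr).1 (hs.dvd_of_dvd_pow h1)).symm
    · exact hm (by rwa [hbm, h, pow_zero, one_mul] at h1)
  have hcop : Nat.Coprime (r ^ a * s ^ b) m :=
    Nat.Coprime.mul_left (((hr.coprime_iff_not_dvd).2 fun h => hk (hbm ▸ h.mul_left _)).pow_left a)
      (((hs.coprime_iff_not_dvd).2 hm).pow_left b)
  obtain ⟨M, hM⟩ := Cfsg.Agent.S0003.result (G := X) (r ^ a * s ^ b) m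
    (by rw [hak, hbm, mul_assoc]) hcop
  refine ⟨M, ?_, ?_, fun q hq hqd => ?_⟩
  · rw [hM]; exact (dvd_pow_self r ha).mul_right _
  · rw [hM]; exact (dvd_pow_self s hb).mul_left _
  · rw [hM] at hqd
    rcases (Nat.Prime.dvd_mul hq).1 hqd with h | h
    · exact Or.inl ((Nat.prime_dvd_prime_iff_eq hq hr).1 (hq.dvd_of_dvd_pow h))
    · exact Or.inr ((Nat.prime_dvd_prime_iff_eq hq hs).1 (hq.dvd_of_dvd_pow h))

theorem mem_fix {f : Module.End (ZMod p) V} {v : V} :
    v ∈ LinearMap.ker (f - 1) ↔ f v = v := by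
  rw [LinearMap.mem_ker, LinearMap.sub_apply, Module.End.one_apply, sub_eq_zero]

theorem rho_pow_one {x : X} {r : ℕ} (hx : x ^ r = 1) : ρ x ^ r = 1 := by
  rw [← map_pow, hx, map_one]

theorem commute_fix {x y : X} (h : x * y = y * x) :
    ∀ w ∈ LinearMap.ker (ρ y - 1), ρ x w ∈ LinearMap.ker (ρ y - 1) := by
  intro w hw
  rw [mem_fix] at hw ⊢
  rw [← Module.End.mul_apply, ← map_mul, ← h, map_mul, Module.End.mul_apply, hw]

/-- On a line, elements of order prime to `p - 1` are trivial. -/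
theorem fix_line {r : ℕ} (hr : r.Prime) (hrp : r ≠ p) (hr1 : ¬ r ∣ p - 1)
    (W : Submodule (ZMod p) V) (hW : finrank (ZMod p) W = 1) {x : X} (hx : x ^ r = 1)
    (hxW : ∀ w ∈ W, ρ x w ∈ W) : W ≤ LinearMap.ker (ρ x - 1) := by
  haveI := Fact.mk hr
  have h := fixed_modEq (ρ x) (rho_pow_one ρ hx) W hxW
  rw [card_submodule, card_submodule, hW] at h
  have hle := Submodule.finrank_mono (inf_le_left : W ⊓ LinearMap.ker (ρ x - 1) ≤ W)
  rw [hW] at hle
  have e : finrank (ZMod p) (W ⊓ LinearMap.ker (ρ x - 1) : Submodule (ZMod p) V) = 1 := by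
    by_contra hne
    rw [show finrank (ZMod p) (W ⊓ LinearMap.ker (ρ x - 1) : Submodule (ZMod p) V) = 0 by omega,
      pow_one, pow_zero] at h
    exact hr1 ((Nat.modEq_iff_dvd' hp.out.one_le).1 h.symm)
  have := Submodule.eq_of_le_of_finrank_eq (inf_le_left : W ⊓ LinearMap.ker (ρ x - 1) ≤ W)
    (e.trans hW.symm)
  exact this ▸ inf_le_right

/-- No solvable group has primitive elements for both `n` and `n - 1`. -/
theorem composite_false (hn4 : 4 ≤ n) (hfin : finrank (ZMod p) V = n) (hρ : Function.Injective ρ)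
    (hsolv : Group.IsSolvable X) {r r' : ℕ} (hr : r.Prime) (hr' : r'.Prime) (hr'n : n < r')
    (hrd : r ∣ p ^ n - 1) (hprim : ∀ k : ℕ, 0 < k → k < n → ¬ r ∣ p ^ k - 1)
    (hr'd : r' ∣ p ^ (n - 1) - 1) (hprim' : ∀ k : ℕ, 0 < k → k < n - 1 → ¬ r' ∣ p ^ k - 1)
    (hrX : r ∣ Nat.card X) (hr'X : r' ∣ Nat.card X) : False := by
  classical
  haveI := Fact.mk hr
  haveI := Fact.mk hr'
  obtain ⟨hrp, -⟩ := primitive_gt hr hrd (by omega) hprim
  obtain ⟨hr'p, -⟩ := primitive_gt hr' hr'd (by omega) hprim'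
  have hne : r ≠ r' := fun h => hprim (n - 1) (by omega) (by omega) (h ▸ hr'd)
  obtain ⟨M, hrM, hr'M, hMp⟩ := exists_hall_pair hsolv hr hr' hne hrX hr'X
  have := hsolv
  haveI : Nontrivial M := Finite.one_lt_card_iff_nontrivial.1
    (lt_of_lt_of_le hr.one_lt (Nat.le_of_dvd Nat.card_pos hrM))
  obtain ⟨s, E, hs, hEn, -, hEne, hEc, hEs⟩ :=
    Basics.exists_elementary_normal (G := M) (N := ⊤) top_ne_bot inferInstance
  obtain ⟨b, hbE, hb1⟩ := (Subgroup.bot_or_exists_ne_one E).resolve_left hEne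
  have hbo : orderOf b = s := by
    haveI := Fact.mk hs
    exact orderOf_eq_prime (hEs b hbE) hb1
  set ψ := ρ.comp M.subtype with hψ
  have hψi : Function.Injective ψ := hρ.comp M.subtype_injective
  have hψ1 : ∀ {x : M}, x ≠ 1 → ψ x ≠ 1 := fun hx h => hx (hψi (h.trans (map_one ψ).symm))
  have hψp : ∀ {x : M} {k : ℕ}, x ^ k = 1 → ψ x ^ k = 1 := fun h => rho_pow_one ψ h
  rcases hMp s hs (hbo ▸ orderOf_dvd_natCard b) with rfl | rfl
  · -- a normal subgroup acting irreducibly
    set R := Algebra.adjoin (ZMod p) (ψ '' (E : Set M))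
    have hirr : ∀ W : Submodule (ZMod p) V, (∀ a ∈ R, ∀ w ∈ W, a w ∈ W) → W = ⊥ ∨ W = ⊤ :=
      fun W hW => irreducible_of_primitive hfin hr hrp hprim (ψ b) (hψp (hEs b hbE)) (hψ1 hb1) W
        (hW _ (Algebra.subset_adjoin ⟨b, hbE, rfl⟩))
    have hcomm : ∀ a ∈ R, ∀ c ∈ R, a * c = c * a := by
      refine adjoin_comm ?_
      rintro _ ⟨a, ha, rfl⟩ _ ⟨c, hc, rfl⟩
      rw [← map_mul, ← map_mul]
      exact congrArg ψ (congrArg Subtype.val (hEc.is_comm.comm ⟨a, ha⟩ ⟨c, hc⟩))
    obtain ⟨e, Φ, a, hform, -⟩ := semilinear_of_field ψ (by omega) hfin hψi R hcomm hirr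
      (fun x => adjoin_conj ψ E x)
    obtain ⟨y, hy⟩ := exists_prime_orderOf_dvd_card' r' hr'M
    have hy1 : y ≠ 1 := fun h => hr'.ne_one (by rw [← hy, h, orderOf_one])
    have hΦ : Φ y = 1 := by
      rw [← orderOf_eq_one_iff]
      haveI : Finite (GaloisField p n ≃+* GaloisField p n) :=
        Nat.finite_of_card_ne_zero (by rw [card_ringAut (by omega)]; omega)
      refine Nat.eq_one_of_dvd_coprimes ((hr'.coprime_iff_not_dvd).2 ?_)
        (hy ▸ orderOf_map_dvd Φ y) (card_ringAut (p := p) (n := n) (by omega) ▸ orderOf_dvd_natCard _)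
      exact fun h => absurd (Nat.le_of_dvd (by omega) h) (by omega)
    have hpow : ∀ (k : ℕ) (z : GaloisField p n),
        ψ (y ^ k) (e z) = e ((a y : GaloisField p n) ^ k * z) := by
      intro k
      induction k with
      | zero => intro z; rw [pow_zero, map_one, pow_zero, one_mul, Module.End.one_apply]
      | succ k ih =>
        intro z
        rw [pow_succ', map_mul, Module.End.mul_apply, ih, hform, hΦ, pow_succ' (a y : GaloisField p n),
          mul_assoc]
        rfl
    have hay : orderOf (a y) = r' := by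
      refine orderOf_eq_prime (Units.ext ?_) fun h => hy1 (hψi (LinearMap.ext fun v => ?_))
      · have h := hpow r' 1
        rw [← hy, pow_orderOf_eq_one, map_one, Module.End.one_apply, hy, mul_one] at h
        rw [Units.val_pow_eq_pow_val, Units.val_one]
        exact (e.injective h).symm
      · obtain ⟨z, rfl⟩ := e.surjective v
        rw [hform, hΦ, h, Units.val_one, one_mul, map_one, Module.End.one_apply]
        rfl
    have hd : r' ∣ p ^ n - 1 := by
      have h := orderOf_dvd_natCard (a y)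
      rwa [hay, Nat.card_units, GaloisField.card p n (by omega)] at h
    have h1 := (Nat.modEq_iff_dvd' (Nat.one_le_pow n p hp.out.pos)).2 hd
    have h2 := (Nat.modEq_iff_dvd' (Nat.one_le_pow (n - 1) p hp.out.pos)).2 hr'd
    have := eq_of_pow_modEq (i := n - 1) (j := n) (d := n - 1) hr' hr'p (by omega) (by omega) hprim'
      (h1.symm.trans h2)
    omega
  · -- the common fixed line
    set F := LinearMap.ker (ψ b - 1) with hFdef
    have hflt : finrank (ZMod p) F < n := by
      refine lt_of_le_of_ne (hfin ▸ Submodule.finrank_le F) fun h => hψ1 hb1 ?_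
      exact sub_eq_zero.1 (LinearMap.ker_eq_top.1
        (Submodule.eq_top_of_finrank_eq (h.trans hfin.symm)))
    have hF : finrank (ZMod p) F = 1 := by
      have h := fixed_modEq (ψ b) (hψp (hEs b hbE)) ⊤ (fun w _ => Submodule.mem_top)
      rw [top_inf_eq, card_submodule, card_submodule, finrank_top, hfin] at h
      have h2 : p ^ n ≡ p ^ 1 [MOD s] := by
        have := ((Nat.modEq_iff_dvd' (Nat.one_le_pow (n - 1) p hp.out.pos)).2 hr'd).symm.mul_right p
        rw [← pow_succ, Nat.sub_add_cancel (by omega), one_mul] at this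
        rwa [pow_one]
      rcases Nat.eq_zero_or_pos (finrank (ZMod p) F) with h0 | h0
      · have := eq_of_pow_modEq (i := finrank (ZMod p) F) (j := 1) (d := n - 1) hr' hr'p (by omega)
          (by omega) hprim' (h2.symm.trans h)
        omega
      · exact (eq_of_pow_modEq (i := 1) (j := finrank (ZMod p) F) (d := n - 1) hr' hr'p h0
          (by omega) hprim' (h.symm.trans h2)).symm
    have hEF : ∀ c ∈ E, F ≤ LinearMap.ker (ψ c - 1) := fun c hc =>
      fix_line ψ hr' hr'p (fun h => hprim' 1 one_pos (by omega) (by rwa [pow_one])) F hF (hEs c hc)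
        (commute_fix ψ (congrArg Subtype.val (hEc.is_comm.comm ⟨c, hc⟩ ⟨b, hbE⟩)))
    obtain ⟨g, hg⟩ := exists_prime_orderOf_dvd_card' r hrM
    have hg1 : g ≠ 1 := fun h => hr.ne_one (by rw [← hg, h, orderOf_one])
    rcases irreducible_of_primitive hfin hr hrp hprim (ψ g)
        (hψp (hg ▸ pow_orderOf_eq_one g)) (hψ1 hg1) F (fun w hw => by
          have h1 := mem_fix.1 (hEF _ (hEn.conj_mem b hbE g⁻¹) hw)
          rw [hFdef, mem_fix]
          have h2 : ψ b * ψ g = ψ g * ψ (g⁻¹ * b * g⁻¹⁻¹) := by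
            rw [← map_mul, ← map_mul]; congr 1; group
          rw [← Module.End.mul_apply, h2, Module.End.mul_apply, h1]) with h | h
    · rw [h, finrank_bot] at hF; omega
    · rw [h, finrank_top, hfin] at hF; omega

/-- No solvable group is transitive on the points and lines of a space of order sixty-four. -/
theorem sixty_four_false (hp2 : p = 2) (hfin : finrank (ZMod p) V = 6) (hρ : Function.Injective ρ)
    (hsolv : Group.IsSolvable X) (h7 : 7 ∣ Nat.card X) (h31 : 31 ∣ Nat.card X) : False := by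
  classical
  subst hp2
  haveI : Fact (Nat.Prime 7) := ⟨by norm_num⟩
  haveI : Fact (Nat.Prime 31) := ⟨by norm_num⟩
  obtain ⟨M, h7M, h31M, hMp⟩ := exists_hall_pair hsolv (r := 7) (s := 31) (by norm_num) (by norm_num)
    (by norm_num) h7 h31
  have := hsolv
  haveI : Nontrivial M := Finite.one_lt_card_iff_nontrivial.1
    (lt_of_lt_of_le (show 1 < 7 by norm_num) (Nat.le_of_dvd Nat.card_pos h7M))
  set ψ := ρ.comp M.subtype with hψ
  have hψi : Function.Injective ψ := hρ.comp M.subtype_injective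
  -- the fixed space of an element of order thirty-one is a line
  have hline : ∀ x : M, x ^ 31 = 1 → x ≠ 1 →
      finrank (ZMod 2) (LinearMap.ker (ψ x - 1)) = 1 := by
    intro x hx hx1
    have h := fixed_modEq (ψ x) (rho_pow_one ψ hx) ⊤ (fun w _ => Submodule.mem_top)
    rw [top_inf_eq, card_submodule, card_submodule, finrank_top, hfin] at h
    have hle := hfin ▸ Submodule.finrank_le (LinearMap.ker (ψ x - 1))
    have hne : finrank (ZMod 2) (LinearMap.ker (ψ x - 1)) ≠ 6 := fun h6 =>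
      hx1 (hψi ((sub_eq_zero.1 (LinearMap.ker_eq_top.1
        (Submodule.eq_top_of_finrank_eq (h6.trans hfin.symm)))).trans (map_one ψ).symm))
    rw [Nat.ModEq] at h
    revert h hne
    generalize finrank (ZMod 2) (LinearMap.ker (ψ x - 1)) = f at hle ⊢
    interval_cases f <;> norm_num
  suffices key : ∃ h b : M, h ^ 7 = 1 ∧ h ≠ 1 ∧ b ^ 31 = 1 ∧ b ≠ 1 ∧ h * b = b * h by
    obtain ⟨h, b, hh, hh1, hb, hb1, hc⟩ := key
    set F := LinearMap.ker (ψ b - 1) with hFdef
    set H := LinearMap.ker (ψ h - 1) with hHdef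
    have hFH : F ≤ H := fix_line ψ (r := 7) (by norm_num) (by norm_num) (by norm_num) F
      (hline b hb hb1) hh (commute_fix ψ hc)
    have h1 := fixed_modEq (ψ h) (rho_pow_one ψ hh) ⊤ (fun w _ => Submodule.mem_top)
    rw [top_inf_eq, card_submodule, card_submodule, finrank_top, hfin, ← hHdef] at h1
    have h2 := fixed_modEq (ψ b) (rho_pow_one ψ hb) H (commute_fix ψ hc.symm)
    rw [← hFdef, inf_eq_right.2 hFH, card_submodule, card_submodule, hline b hb hb1] at h2
    have hle := hfin ▸ Submodule.finrank_le H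
    have hne : finrank (ZMod 2) H ≠ 6 := fun h6 =>
      hh1 (hψi ((sub_eq_zero.1 (LinearMap.ker_eq_top.1
        (Submodule.eq_top_of_finrank_eq (h6.trans hfin.symm)))).trans (map_one ψ).symm))
    have hpos : 1 ≤ finrank (ZMod 2) H := (hline b hb hb1) ▸ Submodule.finrank_mono hFH
    rw [Nat.ModEq] at h1 h2
    revert h1 h2 hne
    generalize finrank (ZMod 2) H = f at hle hpos ⊢
    interval_cases f <;> norm_num
  obtain ⟨s, E, hs, hEn, -, hEne, hEc, hEs⟩ :=
    Basics.exists_elementary_normal (G := M) (N := ⊤) top_ne_bot inferInstance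
  obtain ⟨e₁, he₁, he₁1⟩ := (Subgroup.bot_or_exists_ne_one E).resolve_left hEne
  haveI := Fact.mk hs
  have hso : orderOf e₁ = s := orderOf_eq_prime (hEs e₁ he₁) he₁1
  obtain ⟨k, hk⟩ := (IsPGroup.iff_card (p := s)).1 (show IsPGroup s E from fun e =>
    ⟨1, Subtype.ext (by rw [pow_one, SubmonoidClass.coe_pow, hEs e e.2]; rfl)⟩)
  have hk0 : k ≠ 0 := fun h => hEne (Subgroup.card_eq_one.1 (by rw [hk, h, pow_zero]))
  rcases hMp s hs (hso ▸ orderOf_dvd_natCard e₁) with rfl | rfl
  · -- the section of exponent seven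
    obtain ⟨b, hb⟩ := exists_prime_orderOf_dvd_card' 31 h31M
    have hb' : b ^ 31 = 1 := hb ▸ pow_orderOf_eq_one b
    have hb1 : b ≠ 1 := fun h => by rw [h, orderOf_one] at hb; omega
    have hmod := conj_fixed_modEq E hb' (fun y hy => hEn.conj_mem y hy b)
    obtain ⟨j, hj, hFj⟩ := (Nat.dvd_prime_pow hs).1
      (hk ▸ Subgroup.card_dvd_of_le (inf_le_left : E ⊓ Subgroup.centralizer {b} ≤ E))
    rw [hk, hFj] at hmod
    have hk12 : k ≤ 12 := by
      have hEnd : Nat.card (Module.End (ZMod 2) V) = 2 ^ 36 := by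
        rw [Module.natCard_eq_pow_finrank (K := ZMod 2), Nat.card_zmod, Module.finrank_linearMap, hfin]
      haveI : Finite (Module.End (ZMod 2) V) := Nat.finite_of_card_ne_zero (by rw [hEnd]; norm_num)
      have h1' := Nat.card_le_card_of_injective (fun e : E => ψ e)
        (hψi.comp E.subtype_injective)
      rw [hk, hEnd] at h1'
      by_contra hc
      have := Nat.pow_le_pow_right (show 0 < 7 by norm_num) (show 13 ≤ k by omega)
      omega
    have hjk : j = k := by
      rw [Nat.ModEq] at hmod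
      interval_cases k <;> interval_cases j <;> revert hmod <;> norm_num
    have hEb := Subgroup.eq_of_le_of_card_ge (inf_le_left : E ⊓ Subgroup.centralizer {b} ≤ E)
      (by rw [hFj, hk, hjk])
    have : e₁ ∈ Subgroup.centralizer {b} := (hEb.symm ▸ he₁ : e₁ ∈ E ⊓ _).2
    exact ⟨e₁, b, hEs e₁ he₁, he₁1, hb', hb1, Subgroup.mem_centralizer_singleton_iff.1 this⟩
  · -- the section of exponent thirty-one
    obtain ⟨h, hh⟩ := exists_prime_orderOf_dvd_card' 7 h7M
    have hh' : h ^ 7 = 1 := hh ▸ pow_orderOf_eq_one h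
    have hh1 : h ≠ 1 := fun h0 => by rw [h0, orderOf_one] at hh; omega
    set F := LinearMap.ker (ψ e₁ - 1) with hFdef
    have hF := hline e₁ (hEs e₁ he₁) he₁1
    have hEF : ∀ c ∈ E, c ≠ 1 → LinearMap.ker (ψ c - 1) = F := fun c hc hc1 =>
      (Submodule.eq_of_le_of_finrank_eq
        (fix_line ψ (r := 31) (by norm_num) (by norm_num) (by norm_num) F hF (hEs c hc)
          (commute_fix ψ (congrArg Subtype.val (hEc.is_comm.comm ⟨c, hc⟩ ⟨e₁, he₁⟩))))
        (hF.trans (hline c (hEs c hc) hc1).symm)).symm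
    obtain ⟨v, hv⟩ : ∃ v : V, v ∉ F := by
      by_contra hall
      push Not at hall
      rw [← hFdef, show F = ⊤ from eq_top_iff.2 fun v _ => hall v, finrank_top, hfin] at hF
      omega
    have hinj : Function.Injective (fun c : E => ψ c v) := by
      intro c d hcd
      by_contra hne
      apply hv
      have hne' : (d : M)⁻¹ * c ≠ 1 := fun h0 => hne (Subtype.ext (inv_mul_eq_one.1 h0).symm)
      rw [← hEF _ (E.mul_mem (E.inv_mem d.2) c.2) hne', mem_fix, map_mul, Module.End.mul_apply]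
      show ψ (d : M)⁻¹ (ψ c v) = v
      rw [show ψ c v = ψ d v from hcd, ← Module.End.mul_apply, ← map_mul, inv_mul_cancel, map_one,
        Module.End.one_apply]
    have h1 := Nat.card_le_card_of_injective _ hinj
    rw [hk, Module.natCard_eq_pow_finrank (K := ZMod 2) (V := V), Nat.card_zmod, hfin] at h1
    have hk1 : k = 1 := by
      by_contra hne
      have := Nat.pow_le_pow_right (show 0 < 31 by norm_num) (show 2 ≤ k by omega)
      omega
    subst hk1
    have hmod := conj_fixed_modEq E hh' (fun y hy => hEn.conj_mem y hy h)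
    obtain ⟨j, hj, hFj⟩ := (Nat.dvd_prime_pow hs).1
      (hk ▸ Subgroup.card_dvd_of_le (inf_le_left : E ⊓ Subgroup.centralizer {h} ≤ E))
    rw [hk, hFj] at hmod
    have hj1 : j = 1 := by
      rw [Nat.ModEq] at hmod
      interval_cases j <;> revert hmod <;> norm_num
    have hEb := Subgroup.eq_of_le_of_card_ge (inf_le_left : E ⊓ Subgroup.centralizer {h} ≤ E)
      (by rw [hFj, hk, hj1])
    have : e₁ ∈ Subgroup.centralizer {h} := (hEb.symm ▸ he₁ : e₁ ∈ E ⊓ _).2
    exact ⟨h, e₁, hh', hh1, hEs e₁ he₁, he₁1, (Subgroup.mem_centralizer_singleton_iff.1 this).symm⟩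

end Cfsg.Agent.FGB.SolvTrans
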