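import Cfsg.Agent.Lib.FGB.SolvTransBasic
import Cfsg.Agent.Lib.Basics.Tools
import Cfsg.Agent.Lib.Recog.Zsigmondy
import Cfsg.Agent.S0003

/-!
# Solvable linear groups transitive on subspaces are semilinear
-/

set_option autoImplicit false
set_option linter.unusedSectionVars false

namespace Cfsg.Agent.FGB.SolvTrans

open Module

variable {p : ℕ} [hp : Fact p.Prime] {V : Type*} [AddCommGroup V] [Module (ZMod p) V] [Finite V]
  {n : ℕ} {X : Type*} [Group X] [Finite X] (ρ : X →* Module.End (ZMod p) V)

/-- A group normalizing a regular field acts semilinearly. -/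
theorem semilinear_of_field (hn : n ≠ 0) (hfin : finrank (ZMod p) V = n)
    (hρ : Function.Injective ρ) (R : Subalgebra (ZMod p) (Module.End (ZMod p) V))
    (hcomm : ∀ a ∈ R, ∀ b ∈ R, a * b = b * a)
    (hirr : ∀ W : Submodule (ZMod p) V, (∀ a ∈ R, ∀ w ∈ W, a w ∈ W) → W = ⊥ ∨ W = ⊤)
    (hnorm : ∀ x : X, ∀ a ∈ R, ρ x * a * ρ x⁻¹ ∈ R) :
    ∃ (e : GaloisField p n ≃+ V) (Φ : X →* (GaloisField p n ≃+* GaloisField p n))
      (a : X → (GaloisField p n)ˣ),
      (∀ x z, ρ x (e z) = e ((a x : GaloisField p n) * Φ x z)) ∧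
      Nat.card X ∣ n * (p ^ n - 1) := by
  classical
  haveI : Nontrivial V := Module.finrank_pos_iff.1 (hfin ▸ Nat.pos_of_ne_zero hn)
  obtain ⟨v₀, hv₀⟩ := exists_ne (0 : V)
  obtain ⟨hbij, hinv⟩ := field_of_irreducible R hcomm hirr hv₀
  have hfield : IsField R :=
    { exists_pair_ne := ⟨0, 1, fun h => hv₀ (by
        have := congrArg (fun T : R => (T : Module.End (ZMod p) V) v₀) h
        simpa using this.symm)⟩
      mul_comm := fun a b => Subtype.ext (hcomm a a.2 b b.2)
      mul_inv_cancel := fun {a} ha => hinv a ha }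
  letI : Field R := hfield.toField
  haveI : Finite R := Finite.of_injective _ hbij.1
  letI : Fintype R := Fintype.ofFinite _
  letI : Fintype (GaloisField p n) := Fintype.ofFinite _
  let Ψ : GaloisField p n ≃+* R := FiniteField.ringEquivOfCardEq (K := GaloisField p n) (K' := R) (by
    rw [← Nat.card_eq_fintype_card, ← Nat.card_eq_fintype_card, GaloisField.card p n hn,
      Nat.card_eq_of_bijective _ hbij, Module.natCard_eq_pow_finrank (K := ZMod p), Nat.card_zmod,
      hfin])
  let ev : R →+ V :=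
    { toFun := fun a => (a : Module.End (ZMod p) V) v₀
      map_zero' := rfl
      map_add' := fun a b => rfl }
  let e : GaloisField p n ≃+ V := Ψ.toAddEquiv.trans (AddEquiv.ofBijective ev hbij)
  have he : ∀ z, e z = ((Ψ z : R) : Module.End (ZMod p) V) v₀ := fun z => rfl
  have hinvx : ∀ x : X, ρ x * ρ x⁻¹ = 1 ∧ ρ x⁻¹ * ρ x = 1 := fun x => by
    rw [← map_mul, ← map_mul, mul_inv_cancel, inv_mul_cancel, map_one]
    exact ⟨rfl, rfl⟩
  let c : X → (R ≃+* R) := fun x =>
    { toFun := fun a => ⟨ρ x * a * ρ x⁻¹, hnorm x a a.2⟩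
      invFun := fun a => ⟨ρ x⁻¹ * a * ρ x, by simpa using hnorm x⁻¹ a a.2⟩
      left_inv := fun a => Subtype.ext (by
        show ρ x⁻¹ * (ρ x * a * ρ x⁻¹) * ρ x = a
        rw [← mul_assoc, ← mul_assoc, (hinvx x).2, one_mul, mul_assoc, (hinvx x).2, mul_one])
      right_inv := fun a => Subtype.ext (by
        show ρ x * (ρ x⁻¹ * a * ρ x) * ρ x⁻¹ = a
        rw [← mul_assoc, ← mul_assoc, (hinvx x).1, one_mul, mul_assoc, (hinvx x).1, mul_one])
      map_mul' := fun a b => Subtype.ext (by
        show ρ x * ((a : Module.End (ZMod p) V) * b) * ρ x⁻¹ =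
          ρ x * a * ρ x⁻¹ * (ρ x * b * ρ x⁻¹)
        simp only [mul_assoc]
        rw [← mul_assoc (ρ x⁻¹) (ρ x), (hinvx x).2, one_mul])
      map_add' := fun a b => Subtype.ext (by
        show ρ x * ((a : Module.End (ZMod p) V) + b) * ρ x⁻¹ =
          ρ x * a * ρ x⁻¹ + ρ x * b * ρ x⁻¹
        rw [mul_add, add_mul]) }
  let Φ : X →* (GaloisField p n ≃+* GaloisField p n) :=
    { toFun := fun x => Ψ.trans ((c x).trans Ψ.symm)
      map_one' := RingEquiv.ext fun z => by
        show Ψ.symm (c 1 (Ψ z)) = z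
        rw [show c 1 (Ψ z) = Ψ z from Subtype.ext (by
          show ρ 1 * _ * ρ 1⁻¹ = _
          rw [inv_one, map_one, one_mul, mul_one]), RingEquiv.symm_apply_apply]
      map_mul' := fun x y => RingEquiv.ext fun z => by
        show Ψ.symm (c (x * y) (Ψ z)) = Ψ.symm (c x (Ψ (Ψ.symm (c y (Ψ z)))))
        rw [RingEquiv.apply_symm_apply]
        congr 1
        refine Subtype.ext ?_
        show ρ (x * y) * _ * ρ (x * y)⁻¹ = ρ x * (ρ y * _ * ρ y⁻¹) * ρ x⁻¹
        rw [mul_inv_rev, map_mul, map_mul]
        simp only [mul_assoc] }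
  have hu0 : ∀ x : X, e.symm (ρ x v₀) ≠ 0 := fun x h => hv₀ (by
    have h1 : ρ x v₀ = 0 := by rw [← e.apply_symm_apply (ρ x v₀), h, map_zero]
    have h2 := congrArg (fun w => ρ x⁻¹ w) h1
    simp only [map_zero, ← Module.End.mul_apply, (hinvx x).2, Module.End.one_apply] at h2
    exact h2)
  let a : X → (GaloisField p n)ˣ := fun x => Units.mk0 _ (hu0 x)
  have hform : ∀ x z, ρ x (e z) = e ((a x : GaloisField p n) * Φ x z) := by
    intro x z
    have h1 : ρ x (e z) = ((c x (Ψ z) : R) : Module.End (ZMod p) V) (ρ x v₀) := by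
      show ρ x (e z) = (ρ x * ((Ψ z : R) : Module.End (ZMod p) V) * ρ x⁻¹) (ρ x v₀)
      rw [← Module.End.mul_apply, mul_assoc, (hinvx x).2, mul_one, he]
      rfl
    have h2 : ρ x v₀ = e (a x : GaloisField p n) := (e.apply_symm_apply _).symm
    rw [h1, h2, he, he]
    have h3 : Ψ ((a x : GaloisField p n) * Φ x z) = Ψ (a x : GaloisField p n) * c x (Ψ z) := by
      rw [map_mul]
      congr 1
      exact Ψ.apply_symm_apply _
    rw [h3]
    show ((c x (Ψ z) : R) : Module.End (ZMod p) V) (((Ψ (a x : GaloisField p n) : R) :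
        Module.End (ZMod p) V) v₀) =
      (((Ψ (a x : GaloisField p n) : R) : Module.End (ZMod p) V) *
        ((c x (Ψ z) : R) : Module.End (ZMod p) V)) v₀
    rw [hcomm _ (Ψ (a x : GaloisField p n)).2 _ (c x (Ψ z)).2, Module.End.mul_apply]
  refine ⟨e, Φ, a, hform, ?_⟩
  have hker : Nat.card Φ.ker ∣ p ^ n - 1 := by
    let f : Φ.ker →* (GaloisField p n)ˣ :=
      MonoidHom.mk' (fun x => a x.1) fun x y => Units.ext (by
        have hx : Φ x.1 = 1 := x.2
        have hy : Φ y.1 = 1 := y.2
        have h := hform (x.1 * y.1) 1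
        rw [map_mul ρ, Module.End.mul_apply, hform y.1 1, hform x.1] at h
        have h' := e.injective h
        rw [map_mul Φ, hx, hy] at h'
        simpa using h'.symm)
    have hf : Function.Injective f := by
      rw [← MonoidHom.ker_eq_bot_iff, eq_bot_iff]
      intro x hx
      refine Subgroup.mem_bot.2 (Subtype.ext (hρ (LinearMap.ext fun v => ?_)))
      obtain ⟨z, rfl⟩ := e.surjective v
      have hx' : (a x.1 : GaloisField p n) = 1 := by
        have : a x.1 = 1 := hx
        rw [this, Units.val_one]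
      have hxΦ : Φ x.1 = 1 := x.2
      rw [hform, hx', hxΦ, one_mul, OneMemClass.coe_one, map_one, Module.End.one_apply]
      rfl
    refine (Subgroup.card_dvd_of_injective f hf).trans ?_
    rw [Nat.card_units, GaloisField.card p n hn]
  have hrange : Nat.card Φ.range ∣ n := by
    have h := Subgroup.card_subgroup_dvd_card Φ.range
    rwa [card_ringAut hn] at h
  have hX : Nat.card X = Nat.card Φ.range * Nat.card Φ.ker := by
    rw [← Subgroup.index_ker, mul_comm, Subgroup.card_mul_index]
  rw [hX]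
  exact Nat.mul_dvd_mul hrange hker

/-- The algebra spanned by a commuting set. -/
theorem adjoin_comm {S : Set (Module.End (ZMod p) V)} (hS : ∀ a ∈ S, ∀ b ∈ S, a * b = b * a) :
    ∀ a ∈ Algebra.adjoin (ZMod p) S, ∀ b ∈ Algebra.adjoin (ZMod p) S, a * b = b * a := by
  have h1 : Algebra.adjoin (ZMod p) S ≤ Subalgebra.centralizer (ZMod p) S :=
    Algebra.adjoin_le fun a ha => Subalgebra.mem_centralizer_iff _ |>.2 fun b hb => hS b hb a ha
  have h2 : Algebra.adjoin (ZMod p) S ≤
      Subalgebra.centralizer (ZMod p) (Algebra.adjoin (ZMod p) S : Set (Module.End (ZMod p) V)) :=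
    Algebra.adjoin_le fun a ha => Subalgebra.mem_centralizer_iff _ |>.2 fun b hb =>
      ((Subalgebra.mem_centralizer_iff _).1 (h1 hb) a ha).symm
  exact fun a ha b hb => (Subalgebra.mem_centralizer_iff _).1 (h2 hb) a ha

theorem adjoin_conj (A : Subgroup X) [A.Normal] (x : X) :
    ∀ a ∈ Algebra.adjoin (ZMod p) (ρ '' (A : Set X)),
      ρ x * a * ρ x⁻¹ ∈ Algebra.adjoin (ZMod p) (ρ '' (A : Set X)) := by
  intro a ha
  induction ha using Algebra.adjoin_induction with
  | mem a ha =>
    obtain ⟨y, hy, rfl⟩ := ha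
    exact Algebra.subset_adjoin ⟨x * y * x⁻¹, Subgroup.Normal.conj_mem inferInstance y hy x,
      by rw [map_mul, map_mul]⟩
  | algebraMap c =>
    rw [← Algebra.commutes, mul_assoc, ← map_mul, mul_inv_cancel, map_one, mul_one]
    exact Subalgebra.algebraMap_mem _ c
  | add a b _ _ ha hb =>
    rw [mul_add, add_mul]
    exact Subalgebra.add_mem _ ha hb
  | mul a b _ _ ha hb =>
    have e : ρ x * (a * b) * ρ x⁻¹ = ρ x * a * ρ x⁻¹ * (ρ x * b * ρ x⁻¹) := by
      simp only [mul_assoc]
      rw [← mul_assoc (ρ x⁻¹) (ρ x), ← map_mul, inv_mul_cancel, map_one, one_mul]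
    rw [e]
    exact Subalgebra.mul_mem _ ha hb

/-- Conjugation by an element of prime order on a normalized subgroup. -/
theorem conj_fixed_modEq {Y : Type*} [Group Y] [Finite Y] {r : ℕ} [Fact r.Prime] (H : Subgroup Y)
    {x : Y} (hx : x ^ r = 1) (hN : ∀ y ∈ H, x * y * x⁻¹ ∈ H) :
    Nat.card H ≡ Nat.card (H ⊓ Subgroup.centralizer {x} : Subgroup Y) [MOD r] := by
  classical
  haveI := Fintype.ofFinite H
  let F : Function.End H := fun y => ⟨x * y * x⁻¹, hN y y.2⟩
  have hpow : ∀ (k : ℕ) (y : H), ((F ^ k) y : Y) = x ^ k * y * (x ^ k)⁻¹ := by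
    intro k
    induction k with
    | zero => intro y; simp; rfl
    | succ k ih =>
      intro y
      rw [pow_succ']
      show x * (((F ^ k) y : H) : Y) * x⁻¹ = x ^ (k + 1) * y * (x ^ (k + 1))⁻¹
      rw [ih, pow_succ', mul_inv_rev]
      simp only [mul_assoc]
  have hF : F ^ r ^ 1 = 1 := by
    funext y
    apply Subtype.ext
    rw [pow_one, hpow, hx, one_mul, inv_one, mul_one]
    rfl
  have h := Equiv.Perm.card_fixedPoints_modEq (p := r) hF
  rw [← Nat.card_eq_fintype_card, ← Nat.card_eq_fintype_card] at h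
  have e : Nat.card (Function.fixedPoints F) =
      Nat.card (H ⊓ Subgroup.centralizer {x} : Subgroup Y) := by
    refine Nat.card_congr ⟨fun y => ⟨y.1.1, y.1.2, ?_⟩, fun v => ⟨⟨v.1, v.2.1⟩, ?_⟩,
      fun y => rfl, fun v => rfl⟩
    · show (y.1.1 : Y) ∈ Subgroup.centralizer {x}
      rw [Subgroup.mem_centralizer_singleton_iff]
      exact (mul_inv_eq_iff_eq_mul.1 (congrArg Subtype.val y.2)).symm
    · refine Subtype.ext ?_
      have h2 : (v : Y) ∈ Subgroup.centralizer {x} := v.2.2
      rw [Subgroup.mem_centralizer_singleton_iff] at h2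
      exact mul_inv_eq_iff_eq_mul.2 h2.symm
  rwa [e] at h

/-- Eigenvectors are moved by an element of the normalizer. -/
theorem abelian_dichotomy (hn : n.Prime) (hfin : finrank (ZMod p) V = n) {r : ℕ} (hr : r.Prime)
    (hrn : n < r) {g : X} (hg : g ^ r = 1)
    (hgirr : ∀ W : Submodule (ZMod p) V, (∀ w ∈ W, ρ g w ∈ W) → W = ⊥ ∨ W = ⊤)
    (A : Subgroup X) [A.Normal] :
    (∀ a ∈ A, ∃ c : ZMod p, ρ a = c • 1) ∨
      ∀ W : Submodule (ZMod p) V, (∀ a ∈ A, ∀ w ∈ W, ρ a w ∈ W) → W = ⊥ ∨ W = ⊤ := by
  classical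
  haveI := Fact.mk hr
  haveI : Nontrivial V := Module.finrank_pos_iff.1 (hfin ▸ hn.pos)
  haveI : Finite (Submodule (ZMod p) V) := Finite.of_injective _ SetLike.coe_injective
  obtain ⟨W₀, ⟨hW₀A, hW₀ne⟩, hmin⟩ := wellFounded_lt.has_min
    {W : Submodule (ZMod p) V | (∀ a ∈ A, ∀ w ∈ W, ρ a w ∈ W) ∧ W ≠ ⊥}
    ⟨⊤, fun a _ w _ => Submodule.mem_top, top_ne_bot⟩
  have hminimal : ∀ W : Submodule (ZMod p) V, (∀ a ∈ A, ∀ w ∈ W, ρ a w ∈ W) → W ≤ W₀ →
      W = ⊥ ∨ W = W₀ := by
    intro W hW hle
    by_cases hWne : W = ⊥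
    · exact Or.inl hWne
    · exact Or.inr (eq_of_le_of_not_lt hle fun hlt => hmin W ⟨hW, hWne⟩ hlt)
  have hinj : ∀ x : X, Function.Injective (ρ x) := fun x => by
    intro u v huv
    have := congrArg (fun w => ρ x⁻¹ w) huv
    simpa [← Module.End.mul_apply, ← map_mul] using this
  let T : X → Submodule (ZMod p) V := fun x => W₀.map (ρ x)
  have hTA : ∀ x, ∀ a ∈ A, ∀ w ∈ T x, ρ a w ∈ T x := by
    rintro x a ha _ ⟨w, hw, rfl⟩
    refine ⟨ρ (x⁻¹ * a * x) w, hW₀A _ (by
      simpa using (inferInstance : A.Normal).conj_mem a ha x⁻¹) w hw, ?_⟩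
    rw [← Module.End.mul_apply, ← Module.End.mul_apply, ← map_mul, ← map_mul]
    congr 2
    group
  have hTrank : ∀ x, finrank (ZMod p) (T x) = finrank (ZMod p) W₀ := fun x =>
    (LinearEquiv.finrank_eq (Submodule.equivMapOfInjective _ (hinj x) W₀)).symm
  have hTmin : ∀ x, ∀ W : Submodule (ZMod p) V, (∀ a ∈ A, ∀ w ∈ W, ρ a w ∈ W) →
      W ⊓ T x = ⊥ ∨ T x ≤ W := by
    intro x W hW
    have h1 : ∀ a ∈ A, ∀ w ∈ (W ⊓ T x).map (ρ x⁻¹), ρ a w ∈ (W ⊓ T x).map (ρ x⁻¹) := by
      rintro a ha _ ⟨u, hu, rfl⟩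
      refine ⟨ρ (x * a * x⁻¹) u, ⟨hW _ ((inferInstance : A.Normal).conj_mem a ha x) u hu.1,
        hTA x _ ((inferInstance : A.Normal).conj_mem a ha x) u hu.2⟩, ?_⟩
      rw [← Module.End.mul_apply, ← Module.End.mul_apply, ← map_mul, ← map_mul]
      congr 2
      group
    have h2 : (W ⊓ T x).map (ρ x⁻¹) ≤ W₀ := by
      rintro _ ⟨u, ⟨-, w, hw, rfl⟩, rfl⟩
      rwa [← Module.End.mul_apply, ← map_mul, inv_mul_cancel, map_one, Module.End.one_apply]
    rcases hminimal _ h1 h2 with h | h
    · exact Or.inl (Submodule.map_injective_of_injective (hinj x⁻¹)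
        (h.trans (Submodule.map_bot _).symm))
    · right
      rintro _ ⟨w, hw, rfl⟩
      obtain ⟨u, hu, rfl⟩ := h.ge hw
      rw [← Module.End.mul_apply, ← map_mul, mul_inv_cancel, map_one, Module.End.one_apply]
      exact hu.1
  have hsup : ∀ s : Finset X, (∀ a ∈ A, ∀ w ∈ s.sup T, ρ a w ∈ s.sup T) ∧
      finrank (ZMod p) W₀ ∣ finrank (ZMod p) ↥(s.sup T) := by
    intro s
    induction s using Finset.induction_on with
    | empty =>
      refine ⟨fun a _ w hw => ?_, ?_⟩
      · rw [Finset.sup_empty, Submodule.mem_bot] at hw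
        rw [hw, map_zero]
        exact Submodule.zero_mem _
      · rw [Finset.sup_empty, finrank_bot]
        exact dvd_zero _
    | @insert x s hx ih =>
      rw [Finset.sup_insert]
      refine ⟨fun a ha w hw => ?_, ?_⟩
      · obtain ⟨u, hu, v, hv, rfl⟩ := Submodule.mem_sup.1 hw
        rw [map_add]
        exact Submodule.add_mem_sup (hTA x a ha u hu) (ih.1 a ha v hv)
      · rcases hTmin x _ ih.1 with h | h
        · have e := Submodule.finrank_sup_add_finrank_inf_eq (T x) (s.sup T)
          rw [inf_comm, h, finrank_bot, add_zero, hTrank] at e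
          rw [e]
          exact dvd_add dvd_rfl ih.2
        · rw [sup_eq_right.2 h]
          exact ih.2
  haveI := Fintype.ofFinite X
  have htop : (Finset.univ : Finset X).sup T = ⊤ := by
    refine (hgirr _ fun w hw => ?_).resolve_left fun h => hW₀ne ?_
    · have hle : ((Finset.univ : Finset X).sup T).map (ρ g) ≤ (Finset.univ : Finset X).sup T := by
        rw [Finset.sup_eq_iSup, Submodule.map_iSup]
        refine iSup_le fun x => ?_
        rw [Submodule.map_iSup]
        refine iSup_le fun _ => ?_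
        refine le_trans ?_ (le_iSup₂ (f := fun x (_ : x ∈ Finset.univ) => T x) (g * x)
          (Finset.mem_univ _))
        rintro _ ⟨_, ⟨u, hu, rfl⟩, rfl⟩
        exact ⟨u, hu, by rw [map_mul]; rfl⟩
      exact hle ⟨w, hw, rfl⟩
    · have h1 : T 1 ≤ (Finset.univ : Finset X).sup T := Finset.le_sup (Finset.mem_univ 1)
      rw [h, le_bot_iff] at h1
      exact Submodule.map_injective_of_injective (hinj 1) (h1.trans (Submodule.map_bot _).symm)
  have hd := (hsup Finset.univ).2
  rw [htop, finrank_top, hfin] at hd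
  rcases (Nat.dvd_prime hn).1 hd with hd1 | hdn
  · left
    obtain ⟨v, hv, hv0⟩ := Submodule.exists_mem_ne_zero_of_ne_bot hW₀ne
    have hline : ∀ w ∈ W₀, ∃ c : ZMod p, c • v = w := by
      intro w hw
      obtain ⟨c, hc⟩ := exists_smul_eq_of_finrank_eq_one hd1
        (show (⟨v, hv⟩ : W₀) ≠ 0 from fun h => hv0 (congrArg Subtype.val h)) ⟨w, hw⟩
      exact ⟨c, congrArg Subtype.val hc⟩
    have hchar : ∀ a : A, ∃ c : ZMod p, ρ a v = c • v := fun a =>
      let ⟨c, hc⟩ := hline _ (hW₀A a a.2 v hv)
      ⟨c, hc.symm⟩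
    choose lam hlam using hchar
    -- translates of the character
    let χ : ℕ → A → ZMod p := fun i a =>
      lam ⟨(g ^ i)⁻¹ * a * g ^ i, by
        simpa using (inferInstance : A.Normal).conj_mem a a.2 (g ^ i)⁻¹⟩
    have hχ : ∀ (i : ℕ) (a : A), ρ a (ρ (g ^ i) v) = χ i a • ρ (g ^ i) v := by
      intro i a
      rw [← map_smul, ← hlam, ← Module.End.mul_apply, ← Module.End.mul_apply, ← map_mul, ← map_mul]
      congr 2
      group
    by_cases hall : ∀ i, χ i = lam
    · intro a ha
      refine ⟨lam ⟨a, ha⟩, ?_⟩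
      let E := LinearMap.ker (ρ a - lam ⟨a, ha⟩ • 1)
      have hE : E = ⊤ := by
        let F : Submodule (ZMod p) V := ⨅ i : ℕ, E.comap (ρ (g ^ i))
        have hF : F = ⊤ := by
          refine (hgirr F fun w hw => ?_).resolve_left fun h => hv0 ?_
          · simp only [F, Submodule.mem_iInf, Submodule.mem_comap] at hw ⊢
            intro i
            rw [← Module.End.mul_apply, ← map_mul, ← pow_succ]
            exact hw (i + 1)
          · have hvF : v ∈ F := by
              simp only [F, Submodule.mem_iInf, Submodule.mem_comap]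
              intro i
              rw [LinearMap.mem_ker, LinearMap.sub_apply, LinearMap.smul_apply, Module.End.one_apply,
                sub_eq_zero]
              exact (hχ i ⟨a, ha⟩).trans (by rw [hall i])
            rwa [h, Submodule.mem_bot] at hvF
        rw [eq_top_iff]
        intro w _
        have hw : w ∈ F := hF ▸ Submodule.mem_top
        simp only [F, Submodule.mem_iInf, Submodule.mem_comap] at hw
        have := hw 0
        rwa [pow_zero, map_one, Module.End.one_apply] at this
      exact sub_eq_zero.1 (LinearMap.ker_eq_top.1 hE)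
    · exfalso
      push Not at hall
      obtain ⟨i₀, hi₀⟩ := hall
      have hshift : ∀ i j, χ i = χ j → χ (i + 1) = χ (j + 1) := by
        intro i j h
        funext a
        have e : ∀ k, χ (k + 1) a = χ k ⟨g⁻¹ * a * g, by
            simpa using (inferInstance : A.Normal).conj_mem a a.2 g⁻¹⟩ := fun k => by
          simp only [χ]
          congr 1
          apply Subtype.ext
          show (g ^ (k + 1))⁻¹ * (a : X) * g ^ (k + 1) = (g ^ k)⁻¹ * (g⁻¹ * a * g) * g ^ k
          rw [pow_succ']
          group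
        rw [e i, e j, h]
      have hper : ∀ k, χ (k + r) = χ k := fun k => by
        funext a
        simp only [χ]
        congr 1
        apply Subtype.ext
        simp only [pow_add, hg, mul_one]
      have hzero : χ 0 = lam := by
        funext a
        simp only [χ]
        congr 1
        apply Subtype.ext
        simp
      have hiter : ∀ d, χ d = χ 0 → ∀ m, χ (m * d) = χ 0 := by
        intro d hd m
        induction m with
        | zero => rw [zero_mul]
        | succ m ih =>
          have : ∀ s i j, χ i = χ j → χ (i + s) = χ (j + s) := by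
            intro s
            induction s with
            | zero => intro i j h; exact h
            | succ s ih2 => intro i j h; exact hshift _ _ (ih2 i j h)
          have h2 := this d (m * d) 0 ih
          rw [zero_add, hd, ← Nat.succ_mul] at h2
          exact h2
      have hchi_inj : Function.Injective (fun i : Fin r => χ i) := by
        intro i j hij
        by_contra hne
        -- a nontrivial period generates all shifts
        wlog hlt : (i : ℕ) < j generalizing i j
        · exact this hij.symm (Ne.symm hne)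
            (lt_of_le_of_ne (Nat.not_lt.1 hlt) fun h => hne (Fin.ext h.symm))
        have : ∀ s a b, χ a = χ b → χ (a + s) = χ (b + s) := by
          intro s
          induction s with
          | zero => intro a b h; exact h
          | succ s ih2 => intro a b h; exact hshift _ _ (ih2 a b h)
        have hd : χ ((j : ℕ) - i) = χ 0 := by
          have h2 := this (r - i) _ _ hij
          rw [Nat.add_sub_cancel' i.2.le, show (j : ℕ) + (r - i) = (j - i) + r by omega, hper] at h2
          rw [← h2, show (r : ℕ) = 0 + r by omega, hper]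
        have hcop : Nat.Coprime ((j : ℕ) - i) r := (Nat.coprime_comm.1
          ((hr.coprime_iff_not_dvd).2 fun h => by
            have := Nat.le_of_dvd (by omega) h
            omega))
        obtain ⟨m, -, hm⟩ := Nat.exists_mul_mod_eq_one_of_coprime hcop hr.one_lt
        have hper' : ∀ q k, χ (k + q * r) = χ k := by
          intro q
          induction q with
          | zero => intro k; rw [zero_mul, add_zero]
          | succ q ih => intro k; rw [Nat.succ_mul, ← add_assoc, hper, ih]
        have h1 : χ 1 = χ 0 := by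
          have h3 := hiter _ hd m
          rw [← Nat.mod_add_div' (m * ((j : ℕ) - i)) r, hper', mul_comm m, hm] at h3
          exact h3
        refine hi₀ ?_
        rw [← hzero]
        have := hiter 1 h1 i₀
        rwa [mul_one] at this
      have hli := indep_of_characters (fun a : A => ρ a) (fun i : Fin r => χ i) hchi_inj
        (fun i => ρ (g ^ (i : ℕ)) v)
        (fun i h => hv0 (hinj (g ^ (i : ℕ)) (h.trans (map_zero _).symm))) (fun i a => hχ i a)
      have := hli.fintype_card_le_finrank
      rw [Fintype.card_fin, hfin] at this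
      omega
  · right
    intro W hW
    have hW0 : W₀ = ⊤ := Submodule.eq_top_of_finrank_eq (hdn.trans hfin.symm)
    rw [hW0] at hminimal
    exact hminimal W hW le_top

end Cfsg.Agent.FGB.SolvTrans
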