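import Cfsg.Agent.Lib.FGB.SolvTransComposite

/-!
# Solvable groups transitive on points and lines
-/

set_option autoImplicit false
set_option linter.unusedSectionVars false

namespace Cfsg.Agent.FGB.SolvTrans

open Module

variable {p : ℕ} [hp : Fact p.Prime] {V : Type*} [AddCommGroup V] [Module (ZMod p) V] [Finite V]
  {n : ℕ} {X : Type*} [Group X] [Finite X] (ρ : X →* Module.End (ZMod p) V)

theorem rho_injective (x : X) : Function.Injective (ρ x) := fun u v huv => by
  have := congrArg (fun w => ρ x⁻¹ w) huv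
  simpa [← Module.End.mul_apply, ← map_mul] using this

/-- Transitivity bounds the number of subspaces. -/
theorem card_dvd_index {k : ℕ} (hk : k ≤ finrank (ZMod p) V)
    (htrans : ∀ W W' : Submodule (ZMod p) V, finrank (ZMod p) W = finrank (ZMod p) W' →
      ∃ x, W.map (ρ x) = W') (K : Subgroup X)
    (hK : ∀ x ∈ K, ∀ W : Submodule (ZMod p) V, finrank (ZMod p) W = k → W.map (ρ x) = W) :
    Nat.card {W : Submodule (ZMod p) V // finrank (ZMod p) W = k} ∣ K.index := by
  letI : MulAction X {W : Submodule (ZMod p) V // finrank (ZMod p) W = k} :=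
    { smul := fun x W => ⟨W.1.map (ρ x), by
        rw [← (Submodule.equivMapOfInjective _ (rho_injective ρ x) W.1).finrank_eq]
        exact W.2⟩
      one_smul := fun W => Subtype.ext (by
        show W.1.map (ρ 1) = W.1
        rw [map_one]
        exact Submodule.map_id W.1)
      mul_smul := fun x y W => Subtype.ext (by
        show W.1.map (ρ (x * y)) = (W.1.map (ρ y)).map (ρ x)
        rw [map_mul]
        exact Submodule.map_comp (ρ y) (ρ x) W.1) }
  obtain ⟨s, hs⟩ := exists_linearIndependent_of_le_finrank hk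
  let W₀ : {W : Submodule (ZMod p) V // finrank (ZMod p) W = k} :=
    ⟨Submodule.span (ZMod p) (Set.range s), by rw [finrank_span_eq_card hs, Fintype.card_fin]⟩
  have horb : MulAction.orbit X W₀ = Set.univ := Set.eq_univ_iff_forall.2 fun W => by
    obtain ⟨x, hx⟩ := htrans W₀.1 W.1 (W₀.2.trans W.2.symm)
    exact ⟨x, Subtype.ext hx⟩
  have h := MulAction.index_stabilizer X W₀
  rw [horb, Set.ncard_univ] at h
  rw [← h]
  exact Subgroup.index_dvd_of_le fun x hx => Subtype.ext (hK x hx W₀.1 W₀.2)

/-- Exponential growth beats the number of lines. -/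
theorem pow_gt_mul {m : ℕ} (hm : 3 ≤ m) : m + 5 ≤ 2 ^ m := by
  induction m, hm using Nat.le_induction with
  | base => norm_num
  | succ m hm ih => rw [pow_succ]; omega

/-- The possible dimensions. -/
theorem dimension_cases {q : ℕ} (hq : 2 ≤ q) (hn : n.Prime) (hn3 : 3 ≤ n)
    (h : q ^ (n - 1) - 1 ∣ n * ((q ^ 2 - 1) * (q - 1))) : n = 3 ∨ n = 5 ∧ q ≤ 3 := by
  by_cases h3 : n = 3
  · exact Or.inl h3
  have hn4 : n ≠ 4 := fun h => by subst h; norm_num at hn
  have hn6 : n ≠ 6 := fun h => by subst h; norm_num at hn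
  by_cases h5 : n = 5
  · refine Or.inr ⟨h5, ?_⟩
    subst h5
    by_contra hq4
    obtain ⟨c, rfl⟩ : ∃ c, q = c + 4 := ⟨q - 4, by omega⟩
    have e1 : (c + 4) ^ (5 - 1) - 1 = ((c + 4) ^ 2 - 1) * ((c + 4) ^ 2 + 1) := by
      rw [mul_comm ((c + 4) ^ 2 - 1), ← one_pow 2, ← Nat.sq_sub_sq, ← pow_mul]
      norm_num
    rw [e1, mul_left_comm] at h
    have hsq : 16 ≤ (c + 4) ^ 2 := by nlinarith
    have h2 := Nat.le_of_dvd (by omega) (Nat.dvd_of_mul_dvd_mul_left (by omega) h)
    rw [show c + 4 - 1 = c + 3 by omega] at h2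
    nlinarith
  exfalso
  obtain ⟨m, rfl⟩ : ∃ m, n = m + 7 := ⟨n - 7, by omega⟩
  have hpos : 0 < (m + 7) * ((q ^ 2 - 1) * (q - 1)) := by
    have : 4 ≤ q ^ 2 := by nlinarith
    have h1 : 0 < q ^ 2 - 1 := by omega
    have h2 : 0 < q - 1 := by omega
    positivity
  have h2 := Nat.le_of_dvd hpos h
  have h3 : (q ^ 2 - 1) * (q - 1) ≤ q ^ 3 := by
    calc (q ^ 2 - 1) * (q - 1) ≤ q ^ 2 * q := Nat.mul_le_mul (Nat.sub_le _ _) (Nat.sub_le _ _)
      _ = q ^ 3 := by ring
  have h4 : (m + 8) * q ^ 3 ≤ q ^ (m + 7 - 1) := by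
    rw [show m + 7 - 1 = (m + 3) + 3 by omega, pow_add]
    exact Nat.mul_le_mul_right _ ((pow_gt_mul (m := m + 3) (by omega)).trans
      (Nat.pow_le_pow_left hq _))
  have h5 := Nat.mul_le_mul_left (m + 7) h3
  have h6 : 8 ≤ q ^ 3 := by
    calc (8 : ℕ) = 2 ^ 3 := by norm_num
      _ ≤ q ^ 3 := Nat.pow_le_pow_left hq 3
  rw [show m + 8 = m + 7 + 1 by omega, add_mul, one_mul] at h4
  omega

/-- Semilinearity of solvable groups transitive on points and lines. -/
theorem main (hn3 : 3 ≤ n) (hfin : finrank (ZMod p) V = n) (hρ : Function.Injective ρ)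
    (hsolv : Group.IsSolvable X)
    (htrans : ∀ W W' : Submodule (ZMod p) V, finrank (ZMod p) W = finrank (ZMod p) W' →
      ∃ x, W.map (ρ x) = W') :
    ∃ (e : GaloisField p n ≃+ V) (Φ : X →* (GaloisField p n ≃+* GaloisField p n))
      (a : X → (GaloisField p n)ˣ),
      (∀ x z, ρ x (e z) = e ((a x : GaloisField p n) * Φ x z)) ∧
      ((n = 3 ∧ (p = 2 → (Nat.card X = 21 ∨ Nat.card X = 7 ∧ ∀ x, Φ x = 1))) ∨
        (n = 5 ∧ p = 2 ∧ Nat.card X = 155)) := by
  classical
  have hp2 := hp.out.two_le
  have hcard : ∀ k, k ≤ n → Nat.card {W : Submodule (ZMod p) V // finrank (ZMod p) W = k} ∣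
      Nat.card X := fun k hk => by
    have := card_dvd_index ρ (hfin ▸ hk) htrans ⊥ (fun x hx W _ => by
      rw [Subgroup.mem_bot.1 hx, map_one]; exact Submodule.map_id W)
    rwa [Subgroup.index_bot] at this
  have hlines := card_subspaces_mul (p := p) (V := V) (k := 1) (by omega)
  rw [hfin, Fin.prod_univ_one, Fin.prod_univ_one, Fin.val_zero, pow_zero, pow_one] at hlines
  have hplanes := card_subspaces_mul (p := p) (V := V) (k := 2) (by omega)
  rw [hfin, Fin.prod_univ_two, Fin.prod_univ_two] at hplanes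
  simp only [Fin.val_zero, pow_zero, Fin.val_one, pow_one] at hplanes
  set L := Nat.card {W : Submodule (ZMod p) V // finrank (ZMod p) W = 1} with hL
  set P2 := Nat.card {W : Submodule (ZMod p) V // finrank (ZMod p) W = 2} with hP2
  have hLX : L ∣ Nat.card X := hcard 1 (by omega)
  have hP2X : P2 ∣ Nat.card X := hcard 2 (by omega)
  by_cases h26 : p = 2 ∧ n = 6
  · obtain ⟨rfl, rfl⟩ := h26
    norm_num at hlines hplanes
    have hP : P2 = 651 := by omega
    exact (sixty_four_false ρ rfl hfin hρ hsolv ((by rw [hlines]; norm_num : 7 ∣ L).trans hLX)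
      ((by rw [hP]; norm_num : 31 ∣ P2).trans hP2X)).elim
  obtain ⟨r, hr, hrd, hprim⟩ := Recog.Zsig.exists_primitive_prime p n hp2 (by omega) h26 (by omega)
  obtain ⟨hrp, hrn⟩ := primitive_gt hr hrd (by omega) hprim
  have hrX : r ∣ Nat.card X := by
    rw [← hlines] at hrd
    exact ((Nat.Prime.dvd_mul hr).1 hrd).resolve_right
      (fun h => hprim 1 one_pos (by omega) (by rwa [pow_one])) |>.trans hLX
  by_cases hnp : n.Prime
  · haveI := Fact.mk hr
    obtain ⟨g, hg⟩ := exists_prime_orderOf_dvd_card' r hrX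
    have hg' : g ^ r = 1 := hg ▸ pow_orderOf_eq_one g
    have hg1 : g ≠ 1 := fun h => hr.ne_one (by rw [← hg, h, orderOf_one])
    obtain ⟨R, hcomm, hirr, hnorm⟩ := prime_case ρ hnp hn3 hfin hρ hsolv hr hrn hg'
      (irreducible_of_primitive hfin hr hrp hprim (ρ g) (rho_pow_one ρ hg')
        fun h => hg1 (hρ (h.trans (map_one ρ).symm)))
    obtain ⟨e, Φ, a, hform, hXd⟩ := semilinear_of_field ρ (by omega) hfin hρ R hcomm hirr hnorm
    refine ⟨e, Φ, a, hform, ?_⟩
    haveI : Finite (GaloisField p n ≃+* GaloisField p n) :=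
      Nat.finite_of_card_ne_zero (by rw [card_ringAut (by omega)]; omega)
    have hP := hP2X.trans hXd
    -- counting lines and planes
    have hpn : 0 < p ^ n - 1 := Nat.sub_pos_of_lt (Nat.one_lt_pow (by omega) hp2)
    have hdim : p ^ (n - 1) - 1 ∣ n * ((p ^ 2 - 1) * (p - 1)) := by
      refine Nat.dvd_of_mul_dvd_mul_left hp.out.pos (Nat.dvd_of_mul_dvd_mul_left hpn ?_)
      have e1 : p * (p ^ (n - 1) - 1) = p ^ n - p := by
        rw [Nat.mul_sub_one, ← pow_succ', Nat.sub_add_cancel (by omega)]
      rw [e1, ← hplanes]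
      calc P2 * ((p ^ 2 - 1) * (p ^ 2 - p))
          ∣ n * (p ^ n - 1) * ((p ^ 2 - 1) * (p ^ 2 - p)) := Nat.mul_dvd_mul_right hP _
        _ = (p ^ n - 1) * (p * (n * ((p ^ 2 - 1) * (p - 1)))) := by
          rw [show p ^ 2 - p = p * (p - 1) by rw [Nat.mul_sub_one, pow_two]]
          ring
    rcases dimension_cases hp2 hnp hn3 hdim with rfl | ⟨rfl, hp3⟩
    · refine Or.inl ⟨rfl, ?_⟩
      rintro rfl
      norm_num at hlines hXd
      rw [hlines] at hLX
      have hle := Nat.le_of_dvd (by norm_num) hXd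
      obtain h7 | h21 : Nat.card X = 7 ∨ Nat.card X = 21 := by
        generalize Nat.card X = c at hLX hXd hle ⊢
        interval_cases c <;> revert hLX hXd <;> norm_num
      · refine Or.inr ⟨h7, fun x => ?_⟩
        have h1 := (orderOf_map_dvd Φ x).trans (orderOf_dvd_natCard x)
        have h2 := orderOf_dvd_natCard (Φ x)
        rw [h7] at h1
        rw [card_ringAut (by norm_num)] at h2
        rw [← orderOf_eq_one_iff]
        exact Nat.eq_one_of_dvd_coprimes (show Nat.Coprime 7 3 by norm_num) h1 h2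
      · exact Or.inl h21
    · right
      obtain rfl | rfl : p = 2 ∨ p = 3 := by omega
      · refine ⟨rfl, rfl, ?_⟩
        norm_num at hplanes hXd
        exact Nat.dvd_antisymm hXd (by rwa [show (155 : ℕ) = P2 by omega])
      · exfalso
        norm_num at hplanes hXd
        have hP' : P2 = 1210 := by omega
        have hX : Nat.card X = 1210 := Nat.dvd_antisymm hXd (hP' ▸ hP2X)
        obtain ⟨y, hy⟩ := exists_prime_orderOf_dvd_card' 2 (G := X) (by rw [hX]; norm_num)
        have hy2 : y * y = 1 := by rw [← pow_two, ← hy, pow_orderOf_eq_one]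
        have hΦ : Φ y = 1 := by
          have h1 := orderOf_map_dvd Φ y
          have h2 := orderOf_dvd_natCard (Φ y)
          rw [hy] at h1
          rw [card_ringAut (by norm_num)] at h2
          rw [← orderOf_eq_one_iff]
          exact Nat.eq_one_of_dvd_coprimes (show Nat.Coprime 2 5 by norm_num) h1 h2
        have ha : ((a y : GaloisField 3 5)) * a y = 1 := by
          have h := hform y (a y : GaloisField 3 5)
          have h1 := hform y 1
          rw [hΦ] at h h1
          change _ = e ((a y : GaloisField 3 5) * 1) at h1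
          rw [mul_one] at h1
          rw [← h1, ← Module.End.mul_apply, ← map_mul, hy2, map_one, Module.End.one_apply] at h
          exact (e.injective h).symm
        have hact : ∀ v : V, ρ y v = v ∨ ρ y v = -v := by
          intro v
          obtain ⟨z, rfl⟩ := e.surjective v
          rw [hform, hΦ]
          change e ((a y : GaloisField 3 5) * z) = e z ∨ e ((a y : GaloisField 3 5) * z) = -e z
          rcases mul_self_eq_one_iff.1 ha with h | h
          · left; rw [h, one_mul]
          · right; rw [h, neg_one_mul, map_neg]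
        have hfix : ∀ x ∈ Subgroup.zpowers y, ∀ W : Submodule (ZMod 3) V,
            finrank (ZMod 3) W = 2 → W.map (ρ x) = W := by
          intro x hx W _
          have hyW : W.map (ρ y) ≤ W := by
            rintro _ ⟨w, hw, rfl⟩
            rcases hact w with h | h <;> rw [h]
            · exact hw
            · exact W.neg_mem hw
          obtain ⟨i, rfl⟩ := Subgroup.mem_zpowers_iff.1 hx
          rw [← zpow_mod_orderOf y i, hy]
          rcases (show i % ((2 : ℕ) : ℤ) = 0 ∨ i % ((2 : ℕ) : ℤ) = 1 by omega) with h | h <;> rw [h]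
          · rw [zpow_zero, map_one]; exact Submodule.map_id W
          · rw [zpow_one]
            exact Submodule.eq_of_le_of_finrank_eq hyW
              (Submodule.equivMapOfInjective _ (rho_injective ρ y) W).finrank_eq.symm
        have hd := card_dvd_index ρ (k := 2) (by omega) htrans _ hfix
        have hi := Subgroup.card_mul_index (Subgroup.zpowers y)
        rw [Nat.card_zpowers, hy, hX] at hi
        have := Nat.le_of_dvd (by omega) hd
        omega
  · exfalso
    have hn4 : 4 ≤ n := by
      by_contra h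
      exact hnp (by rw [show n = 3 by omega]; norm_num)
    have hn7 : n ≠ 7 := fun h => hnp (by rw [h]; norm_num)
    obtain ⟨r', hr', hr'd, hprim'⟩ := Recog.Zsig.exists_primitive_prime p (n - 1) hp2 (by omega)
      (by omega) (by omega)
    obtain ⟨hr'p, hr'n⟩ := primitive_gt hr' hr'd (by omega) hprim'
    have hr'n' : n < r' := lt_of_le_of_ne (by omega) fun h => hnp (h ▸ hr')
    have hr'X : r' ∣ Nat.card X := by
      refine Dvd.dvd.trans ?_ hP2X
      have h1 : r' ∣ P2 * ((p ^ 2 - 1) * (p ^ 2 - p)) := by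
        rw [hplanes]
        refine Dvd.dvd.mul_left ?_ _
        rw [show p ^ n - p = p * (p ^ (n - 1) - 1) by
          rw [Nat.mul_sub_one, ← pow_succ', Nat.sub_add_cancel (by omega)]]
        exact hr'd.mul_left _
      refine ((Nat.Prime.dvd_mul hr').1 h1).resolve_right fun h => ?_
      rcases (Nat.Prime.dvd_mul hr').1 h with h | h
      · exact hprim' 2 (by omega) (by omega) h
      · rw [show p ^ 2 - p = p * (p - 1) by rw [Nat.mul_sub_one, pow_two]] at h
        rcases (Nat.Prime.dvd_mul hr').1 h with h | h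
        · exact hr'p ((Nat.prime_dvd_prime_iff_eq hr' hp.out).1 h)
        · exact hprim' 1 one_pos (by omega) (by rwa [pow_one])
    exact composite_false ρ hn4 hfin hρ hsolv hr hr' hr'n' hrd hprim hr'd hprim' hrX hr'X

end Cfsg.Agent.FGB.SolvTrans
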