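import Cfsg.Agent.Lib.FGB.SolvTransMain
import Cfsg.Agent.Lib.Basics.Cores
import Cfsg.Prelude.Def_Perm

/-!
# Burnside fusion for subgroups and semiaffine counting
-/

set_option autoImplicit false
set_option linter.unusedSectionVars false

namespace Cfsg.Agent.FGB.SolvTrans

/-- Conjugate subgroups of an abelian Sylow subgroup are conjugate in its normalizer. -/
theorem burnside_subgroups {G : Type*} [Group G] [Finite G] {p : ℕ} [Fact p.Prime] (P : Sylow p G)
    (hab : ∀ a ∈ (P : Subgroup G), ∀ b ∈ (P : Subgroup G), a * b = b * a) {U U' : Subgroup G}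
    (hU : U ≤ P) (hU' : U' ≤ P) {g : G} (hg : U' = U.map (MulAut.conj g).toMonoidHom) :
    ∃ m ∈ Subgroup.normalizer ((P : Subgroup G) : Set G),
      U' = U.map (MulAut.conj m).toMonoidHom := by
  set C := Subgroup.centralizer (U' : Set G) with hC
  have h1 : (P : Subgroup G) ≤ C := fun x hx =>
    Subgroup.mem_centralizer_iff.2 fun y hy => hab y (hU' hy) x hx
  have h2 : ((g • P : Sylow p G) : Subgroup G) ≤ C := by
    rintro _ ⟨z, hz, rfl⟩
    refine Subgroup.mem_centralizer_iff.2 fun y hy => ?_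
    rw [hg] at hy
    obtain ⟨u, hu, rfl⟩ := hy
    show g * u * g⁻¹ * (g * z * g⁻¹) = g * z * g⁻¹ * (g * u * g⁻¹)
    calc g * u * g⁻¹ * (g * z * g⁻¹) = g * (u * z) * g⁻¹ := by group
      _ = g * (z * u) * g⁻¹ := by rw [hab u (hU hu) z hz]
      _ = g * z * g⁻¹ * (g * u * g⁻¹) := by group
  obtain ⟨c, hc⟩ := MulAction.exists_smul_eq C ((g • P).subtype h2) (P.subtype h1)
  simp_rw [Sylow.smul_subtype, Subgroup.smul_def, smul_smul] at hc
  refine ⟨c * g, Sylow.smul_eq_iff_mem_normalizer.mp (Sylow.subtype_injective hc), ?_⟩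
  have hfix : ∀ y ∈ U', (c : G) * y * (c : G)⁻¹ = y := fun y hy => by
    rw [← Subgroup.mem_centralizer_iff.1 c.2 y hy, mul_inv_cancel_right]
  ext y
  constructor
  · intro hy
    obtain ⟨u, hu, hu'⟩ := (hg ▸ hy : y ∈ U.map (MulAut.conj g).toMonoidHom)
    refine ⟨u, hu, ?_⟩
    show (c : G) * g * u * ((c : G) * g)⁻¹ = y
    rw [← hfix y hy, ← hu']
    show _ = (c : G) * (g * u * g⁻¹) * (c : G)⁻¹
    group
  · rintro ⟨u, hu, rfl⟩
    have hy : g * u * g⁻¹ ∈ U' := by rw [hg]; exact ⟨u, hu, rfl⟩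
    show (c : G) * g * u * ((c : G) * g)⁻¹ ∈ U'
    rw [show (c : G) * g * u * ((c : G) * g)⁻¹ = c * (g * u * g⁻¹) * (c : G)⁻¹ by group,
      hfix _ hy]
    exact hy

open Cfsg in
theorem card_semiaffine_le {p n : ℕ} [Fact p.Prime] (hn : n ≠ 0) :
    Finite (Equiv.Perm (GaloisField p n)) ∧
    Nat.card (semiaffineGroup (GaloisField p n)) ≤ (p ^ n - 1) * p ^ n * n ∧
      Nat.card (affineGroup (GaloisField p n)) ≤ (p ^ n - 1) * p ^ n := by
  classical
  haveI : Finite (GaloisField p n ≃+* GaloisField p n) :=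
    Nat.finite_of_card_ne_zero (by rw [card_ringAut hn]; exact hn)
  refine ⟨inferInstance, ?_, ?_⟩
  · have hm : ∀ σ : semiaffineGroup (GaloisField p n), ∃ (a : (GaloisField p n)ˣ)
        (b : GaloisField p n) (φ : GaloisField p n ≃+* GaloisField p n),
        ∀ x, (σ : Equiv.Perm _) x = (a : GaloisField p n) * φ x + b := fun σ => σ.2
    choose a b φ h using hm
    have h1 := Nat.card_le_card_of_injective (fun σ => (a σ, b σ, φ σ)) fun σ τ he => by
      simp only [Prod.mk.injEq] at he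
      refine Subtype.ext (Equiv.ext fun x => ?_)
      rw [h, h, he.1, he.2.1, he.2.2]
    rwa [Nat.card_prod, Nat.card_prod, Nat.card_units, GaloisField.card p n hn, card_ringAut hn,
      ← mul_assoc] at h1
  · have hm : ∀ σ : affineGroup (GaloisField p n), ∃ (a : (GaloisField p n)ˣ)
        (b : GaloisField p n), ∀ x, (σ : Equiv.Perm _) x = (a : GaloisField p n) * x + b :=
      fun σ => σ.2
    choose a b h using hm
    have h1 := Nat.card_le_card_of_injective (fun σ => (a σ, b σ)) fun σ τ he => by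
      simp only [Prod.mk.injEq] at he
      refine Subtype.ext (Equiv.ext fun x => ?_)
      rw [h, h, he.1, he.2]
    rwa [Nat.card_prod, Nat.card_units, GaloisField.card p n hn] at h1

theorem mulEquiv_of_injective {A B : Type*} [Group A] [Group B] [Finite B] (f : A →* B)
    (hf : Function.Injective f) (hc : Nat.card B ≤ Nat.card A) : Nonempty (A ≃* B) :=
  haveI : Finite A := Finite.of_injective f hf
  ⟨MulEquiv.ofBijective f ⟨hf, (Function.Injective.bijective_of_nat_card_le hf hc).2⟩⟩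

open Module in
/-- The abstract form, for a module embedded as a normal subgroup with a complement. -/
theorem split_core {Q : Type*} [Group Q] [Finite Q] {p : ℕ} [Fact p.Prime] {n : ℕ} (hn : 3 ≤ n)
    {V : Type*} [AddCommGroup V] [Module (ZMod p) V] [Finite V] (ι : V → Q)
    (hιi : Function.Injective ι) (hιadd : ∀ x y, ι (x + y) = ι x * ι y)
    (W H : Subgroup Q) [W.Normal] (hrange : ∀ q, q ∈ W ↔ ∃ x, ι x = q)
    (hWH : Subgroup.IsComplement' W H)
    (hcard : Nat.card W = p ^ n) (hfaith : ∀ h ∈ H, (∀ w ∈ W, h * w = w * h) → h = 1)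
    (hsolv : Group.IsSolvable H)
    (htrans : ∀ U U' : Subgroup Q, U ≤ W → U' ≤ W → Nat.card U = Nat.card U' →
      ∃ h ∈ H, U' = U.map (MulAut.conj h).toMonoidHom) :
    (n = 3 ∧ (∃ f : Q →* ↥(Cfsg.semiaffineGroup (GaloisField p 3)), Function.Injective f) ∧
      (p = 2 → Nonempty (Q ≃* Cfsg.semiaffineGroup (GaloisField 2 3)) ∨
               Nonempty (Q ≃* Cfsg.affineGroup (GaloisField 2 3)))) ∨
    (n = 5 ∧ p = 2 ∧ Nonempty (Q ≃* Cfsg.semiaffineGroup (GaloisField 2 5))) := by
  classical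
  have hp : p.Prime := Fact.out
  have hι0 : ι 0 = 1 := by
    have h := hιadd 0 0
    rw [add_zero] at h
    exact mul_eq_left.1 h.symm
  have hιW : ∀ x, ι x ∈ W := fun x => (hrange _).2 ⟨x, rfl⟩
  have hcardV : Nat.card V = p ^ n := by
    rw [← hcard]
    exact Nat.card_eq_of_bijective (fun x => (⟨ι x, hιW x⟩ : W))
      ⟨fun x y h => hιi (congrArg Subtype.val h), fun w =>
        let ⟨x, hx⟩ := (hrange _).1 w.2
        ⟨x, Subtype.ext hx⟩⟩
  have hfin : finrank (ZMod p) V = n := by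
    rw [Module.natCard_eq_pow_finrank (K := ZMod p) (V := V), Nat.card_zmod] at hcardV
    exact Nat.pow_right_injective hp.two_le hcardV
  have hconj : ∀ (h : H) (x : V), ∃ y, ι y = h * ι x * (h : Q)⁻¹ := fun h x =>
    (hrange _).1 ((inferInstance : W.Normal).conj_mem _ (hιW x) h)
  choose cj hcj using hconj
  let ρ : H →* Module.End (ZMod p) V :=
    { toFun := fun h => (AddMonoidHom.mk' (cj h) fun x y => hιi (by
        rw [hιadd, hcj, hcj, hcj, hιadd]; group)).toZModLinearMap p
      map_one' := LinearMap.ext fun x => hιi (by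
        show ι (cj 1 x) = ι x
        rw [hcj, OneMemClass.coe_one]; group)
      map_mul' := fun a b => LinearMap.ext fun x => hιi (by
        show ι (cj (a * b) x) = ι (cj a (cj b x))
        rw [hcj, hcj, hcj, Subgroup.coe_mul]; group) }
  have hρv : ∀ (h : H) (x : V), ι (ρ h x) = h * ι x * (h : Q)⁻¹ := hcj
  have hρinj : Function.Injective ρ := by
    intro a b hab'
    refine inv_mul_eq_one.1 (Subtype.ext (hfaith _ (a⁻¹ * b : H).2 fun w hw => ?_))
    obtain ⟨x, rfl⟩ := (hrange w).1 hw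
    have e : ρ (a⁻¹ * b) = 1 := by rw [map_mul, ← hab', ← map_mul, inv_mul_cancel, map_one]
    have h1 := hρv (a⁻¹ * b) x
    rw [e, Module.End.one_apply] at h1
    exact mul_inv_eq_iff_eq_mul.1 h1.symm
  have htr : ∀ U U' : Submodule (ZMod p) V, finrank (ZMod p) U = finrank (ZMod p) U' →
      ∃ x, U.map (ρ x) = U' := by
    intro U U' he
    let f : Multiplicative V →* Q :=
      { toFun := fun x => ι x.toAdd
        map_one' := hι0
        map_mul' := fun x y => hιadd _ _ }
    let toS : Submodule (ZMod p) V → Subgroup Q := fun U => (AddSubgroup.toSubgroup U.toAddSubgroup).map f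
    have hfi : Function.Injective f := fun x y h => Multiplicative.toAdd.injective (hιi h)
    have hmem : ∀ (U : Submodule (ZMod p) V) (x : V), ι x ∈ toS U ↔ x ∈ U := fun U x =>
      Subgroup.mem_map_iff_mem (x := Multiplicative.ofAdd x) hfi
    have hsub : ∀ U, toS U ≤ W := by
      rintro U _ ⟨x, -, rfl⟩
      exact hιW _
    have hcardS : ∀ U : Submodule (ZMod p) V, Nat.card (toS U) = p ^ finrank (ZMod p) U :=
      fun U => by
      rw [Subgroup.card_map_of_injective hfi, ← card_submodule U]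
      exact Nat.card_congr (Equiv.subtypeEquiv Multiplicative.toAdd fun x => Iff.rfl)
    obtain ⟨h, hh, hmap⟩ := htrans (toS U) (toS U') (hsub _) (hsub _) (by rw [hcardS, hcardS, he])
    refine ⟨⟨h, hh⟩, ?_⟩
    ext x
    constructor
    · rintro ⟨u, hu, rfl⟩
      rw [← hmem, hρv, hmap]
      exact ⟨_, (hmem U u).2 hu, rfl⟩
    · intro hx
      rw [← hmem, hmap] at hx
      obtain ⟨z, ⟨w, hw, rfl⟩, hz⟩ := hx
      exact ⟨w.toAdd, hw, hιi ((hρv _ _).trans hz)⟩
  obtain ⟨e, Φ, a, hform, hcases⟩ := main ρ hn hfin hρinj hsolv htr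
  -- the action on the cosets of the complement
  have hn0 : n ≠ 0 := by omega
  let E₀ : GaloisField p n → Q ⧸ H := fun z => QuotientGroup.mk (ι (e z))
  have hE₀ : Function.Bijective E₀ := by
    refine ⟨fun z z' h => e.injective (hιi ?_), fun q => ?_⟩
    · exact inv_mul_eq_one.1 (Subgroup.disjoint_def.1 hWH.disjoint
        (W.mul_mem (W.inv_mem (hιW _)) (hιW _)) (QuotientGroup.eq.1 h))
    · obtain ⟨x, rfl⟩ := QuotientGroup.mk_surjective q
      obtain ⟨⟨⟨w, hw⟩, h⟩, hwh⟩ := hWH.2 x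
      obtain ⟨v, rfl⟩ := (hrange w).1 hw
      obtain ⟨z, rfl⟩ := e.surjective v
      refine ⟨z, QuotientGroup.eq.2 ?_⟩
      rw [← hwh]
      show (ι (e z))⁻¹ * (ι (e z) * h) ∈ H
      rw [inv_mul_cancel_left]
      exact h.2
  let E := Equiv.ofBijective E₀ hE₀
  let σ : Q →* Equiv.Perm (GaloisField p n) :=
    (E.symm.permCongrHom).toMonoidHom.comp (MulAction.toPermHom Q (Q ⧸ H))
  have hσ : ∀ (v : V) (h : H) (z : GaloisField p n), σ (ι v * h) z =
      (a h : GaloisField p n) * Φ h z + e.symm v := by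
    intro v h z
    show E.symm ((ι v * h) • E z) = _
    rw [Equiv.symm_apply_eq]
    show _ = QuotientGroup.mk _
    rw [map_add, ← hform, AddEquiv.apply_symm_apply, add_comm, hιadd, hρv]
    show QuotientGroup.mk (ι v * h * ι (e z)) = _
    rw [QuotientGroup.eq,
      show (ι v * h * ι (e z))⁻¹ * (ι v * ((h : Q) * ι (e z) * (h : Q)⁻¹)) = (h : Q)⁻¹ by group]
    exact H.inv_mem h.2
  have hdec : ∀ q : Q, ∃ (v : V) (h : H), q = ι v * h := by
    intro q
    obtain ⟨⟨⟨w, hw⟩, h⟩, rfl⟩ := hWH.2 q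
    obtain ⟨v, rfl⟩ := (hrange w).1 hw
    exact ⟨v, h, rfl⟩
  have hσi : Function.Injective σ := by
    rw [← MonoidHom.ker_eq_bot_iff, eq_bot_iff]
    intro q hq
    obtain ⟨v, h, rfl⟩ := hdec q
    have hq' : ∀ z, σ (ι v * h) z = z := fun z => by rw [hq]; rfl
    have hv : v = 0 := by
      have h0 := hq' 0
      rw [hσ, map_zero, mul_zero, zero_add, AddEquiv.symm_apply_eq, map_zero] at h0
      exact h0
    have hh : ρ h = 1 := LinearMap.ext fun u => by
      obtain ⟨z, rfl⟩ := e.surjective u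
      have hz := hq' z
      rw [hσ, hv, map_zero, add_zero] at hz
      rw [hform, hz, Module.End.one_apply]
    rw [Subgroup.mem_bot, hρinj (hh.trans (map_one ρ).symm), hv, hι0]
    simp
  have hsemi : ∀ q, σ q ∈ Cfsg.semiaffineGroup (GaloisField p n) := fun q => by
    obtain ⟨v, h, rfl⟩ := hdec q
    exact ⟨a h, _, Φ h, hσ v h⟩
  let f := σ.codRestrict _ hsemi
  have hfi : Function.Injective f := fun x y h => hσi (congrArg Subtype.val h)
  have hQ : Nat.card Q = p ^ n * Nat.card H := by rw [← hcard, hWH.card_mul]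
  obtain ⟨hfinP, hle, hle'⟩ := card_semiaffine_le (p := p) (n := n) hn0
  rcases hcases with ⟨rfl, h2⟩ | ⟨rfl, rfl, h155⟩
  · refine Or.inl ⟨rfl, ⟨f, hfi⟩, ?_⟩
    rintro rfl
    rcases h2 rfl with h21 | ⟨h7, hΦ⟩
    · exact Or.inl (mulEquiv_of_injective f hfi (by rw [hQ, h21]; norm_num at hle ⊢; omega))
    · right
      have haff : ∀ q, σ q ∈ Cfsg.affineGroup (GaloisField 2 3) := fun q => by
        obtain ⟨v, h, rfl⟩ := hdec q
        exact ⟨a h, _, fun z => (hσ v h z).trans (by rw [hΦ h]; rfl)⟩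
      exact mulEquiv_of_injective (σ.codRestrict _ haff)
        (fun x y h => hσi (congrArg Subtype.val h)) (by rw [hQ, h7]; norm_num at hle' ⊢; omega)
  · exact Or.inr ⟨rfl, rfl, mulEquiv_of_injective f hfi (by rw [hQ, h155]; norm_num at hle ⊢; omega)⟩

end Cfsg.Agent.FGB.SolvTrans
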