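import Cfsg.Agent.Lib.FGB.SolvTransLin

/-!
# Solvable groups transitive on subspaces, prime dimension
-/

set_option autoImplicit false
set_option linter.unusedSectionVars false

namespace Cfsg.Agent.FGB.SolvTrans

open Module

variable {p : ℕ} [hp : Fact p.Prime] {V : Type*} [AddCommGroup V] [Module (ZMod p) V] [Finite V]
  {n : ℕ} {X : Type*} [Group X] [Finite X] (ρ : X →* Module.End (ZMod p) V)

/-- A primitive prime is larger than the exponent. -/
theorem primitive_gt {r m : ℕ} (hr : r.Prime) (hdvd : r ∣ p ^ m - 1) (hm : m ≠ 0)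
    (hprim : ∀ k : ℕ, 0 < k → k < m → ¬ r ∣ p ^ k - 1) : r ≠ p ∧ m < r := by
  have hrp : r ≠ p := by
    rintro rfl
    have h1 : r ∣ r ^ m := dvd_pow_self r hm
    have h2 := Nat.dvd_sub h1 hdvd
    rw [Nat.sub_sub_self (Nat.one_le_pow m r hp.out.pos)] at h2
    exact hr.not_dvd_one h2
  refine ⟨hrp, ?_⟩
  by_contra h
  have h2 := hr.two_le
  refine hprim (r - 1) (by omega) (by omega) ?_
  have hf := Nat.ModEq.pow_totient ((Nat.coprime_primes hp.out hr).2 (Ne.symm hrp))
  rw [Nat.totient_prime hr] at hf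
  exact (Nat.modEq_iff_dvd' (Nat.one_le_pow _ _ hp.out.pos)).1 hf.symm

theorem rho_cancel (x : X) : ρ x * ρ x⁻¹ = 1 ∧ ρ x⁻¹ * ρ x = 1 := by
  rw [← map_mul, ← map_mul, mul_inv_cancel, inv_mul_cancel, map_one]
  exact ⟨rfl, rfl⟩

/-- A scalar element is central. -/
theorem scalar_central (hρ : Function.Injective ρ) {z : X} {c : ZMod p} (hz : ρ z = c • 1) (y : X) :
    y * z = z * y :=
  hρ (by rw [map_mul, map_mul, hz, mul_smul_comm, smul_mul_assoc, mul_one, one_mul])

/-- In prime dimension an abelian normal subgroup generates a field. -/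
theorem prime_case (hn : n.Prime) (hn3 : 3 ≤ n) (hfin : finrank (ZMod p) V = n)
    (hρ : Function.Injective ρ) (hsolv : Group.IsSolvable X) {r : ℕ} (hr : r.Prime) (hrn : n < r)
    {g : X} (hg : g ^ r = 1)
    (hgirr : ∀ W : Submodule (ZMod p) V, (∀ w ∈ W, ρ g w ∈ W) → W = ⊥ ∨ W = ⊤) :
    ∃ R : Subalgebra (ZMod p) (Module.End (ZMod p) V),
      (∀ a ∈ R, ∀ b ∈ R, a * b = b * a) ∧
      (∀ W : Submodule (ZMod p) V, (∀ a ∈ R, ∀ w ∈ W, a w ∈ W) → W = ⊥ ∨ W = ⊤) ∧
      ∀ x : X, ∀ a ∈ R, ρ x * a * ρ x⁻¹ ∈ R := by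
  classical
  haveI := Fact.mk hr
  haveI := Fact.mk hn
  haveI : Nontrivial V := Module.finrank_pos_iff.1 (hfin ▸ hn.pos)
  obtain ⟨v₀, hv₀⟩ := exists_ne (0 : V)
  by_cases hA : ∃ A : Subgroup X, A.Normal ∧ (∀ a ∈ A, ∀ b ∈ A, a * b = b * a) ∧
      ¬ ∀ a ∈ A, ∃ c : ZMod p, ρ a = c • 1
  · obtain ⟨A, hAn, hAc, hAs⟩ := hA
    have := hAn
    refine ⟨Algebra.adjoin (ZMod p) (ρ '' (A : Set X)), adjoin_comm ?_, fun W hW => ?_,
      fun x => adjoin_conj ρ A x⟩
    · rintro _ ⟨a, ha, rfl⟩ _ ⟨b, hb, rfl⟩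
      rw [← map_mul, ← map_mul, hAc a ha b hb]
    · exact (abelian_dichotomy ρ hn hfin hr hrn hg hgirr A).resolve_left hAs W fun a ha =>
        hW _ (Algebra.subset_adjoin ⟨a, ha, rfl⟩)
  · exfalso
    push Not at hA
    set Z := Subgroup.center X with hZdef
    have hZs : ∀ z ∈ Z, ∃ c : ZMod p, ρ z = c • 1 := hA Z inferInstance
      (fun a _ b hb => (Subgroup.mem_center_iff.1 hb a))
    have hsZ : ∀ {z : X} {c : ZMod p}, ρ z = c • 1 → z ∈ Z := fun hz =>
      Subgroup.mem_center_iff.2 (scalar_central ρ hρ hz)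
    have hline : ∀ c : ZMod p, ρ g ≠ c • 1 := by
      intro c hc
      rcases hgirr (Submodule.span (ZMod p) {v₀}) (fun w hw => by
        rw [hc, LinearMap.smul_apply, Module.End.one_apply]
        exact Submodule.smul_mem _ c hw) with h | h
      · exact hv₀ (Submodule.span_singleton_eq_bot.1 h)
      · have h1 := finrank_span_singleton (K := ZMod p) hv₀
        rw [h, finrank_top, hfin] at h1
        omega
    have htop : (⊤ : Subgroup (X ⧸ Z)) ≠ ⊥ := by
      intro h
      have hg1 : (QuotientGroup.mk g : X ⧸ Z) ∈ (⊥ : Subgroup (X ⧸ Z)) := h ▸ Subgroup.mem_top _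
      rw [Subgroup.mem_bot, QuotientGroup.eq_one_iff] at hg1
      obtain ⟨c, hc⟩ := hZs g hg1
      exact hline c hc
    have := hsolv
    obtain ⟨q, E', hq, hE'n, -, hE'ne, hE'c, hE'q⟩ :=
      Basics.exists_elementary_normal (G := X ⧸ Z) htop inferInstance
    haveI := Fact.mk hq
    set E := E'.comap (QuotientGroup.mk' Z) with hEdef
    have hEn : E.Normal := hE'n.comap _
    have hmemE : ∀ x : X, x ∈ E ↔ (QuotientGroup.mk x : X ⧸ Z) ∈ E' := fun x => Iff.rfl
    have hZq : ∀ x ∈ E, x ^ q ∈ Z := fun x hx => by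
      rw [← QuotientGroup.eq_one_iff, QuotientGroup.mk_pow]
      exact hE'q _ ((hmemE x).1 hx)
    have hcom : ∀ x ∈ E, ∀ y ∈ E, x * y * x⁻¹ * y⁻¹ ∈ Z := by
      intro x hx y hy
      rw [← QuotientGroup.eq_one_iff]
      simp only [QuotientGroup.mk_mul, QuotientGroup.mk_inv]
      have hc : (QuotientGroup.mk x : X ⧸ Z) * QuotientGroup.mk y =
          QuotientGroup.mk y * QuotientGroup.mk x :=
        congrArg Subtype.val (hE'c.is_comm.comm ⟨_, (hmemE x).1 hx⟩ ⟨_, (hmemE y).1 hy⟩)
      rw [hc]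
      group
    have hcentral : ∀ x ∈ E, (∀ y ∈ E, y * x = x * y) → x ∈ Z := by
      intro x hx hxy
      obtain ⟨c, hc⟩ := hA (E ⊓ Subgroup.centralizer (E : Set X)) inferInstance
        (fun a ha b hb => (Subgroup.mem_centralizer_iff.1 hb.2) a ha.1) x
        ⟨hx, Subgroup.mem_centralizer_iff.2 hxy⟩
      exact hsZ hc
    have hnoncomm : ∃ x ∈ E, ∃ y ∈ E, x * y ≠ y * x := by
      by_contra h
      push Not at h
      refine hE'ne ((Subgroup.eq_bot_iff_forall _).2 fun e he => ?_)
      obtain ⟨x, rfl⟩ := QuotientGroup.mk_surjective e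
      exact (QuotientGroup.eq_one_iff x).2 (hcentral x he fun y hy => (h x he y hy).symm)
    -- the exponent of the section equals the dimension
    have hqn : q = n := by
      obtain ⟨x, hx, y, hy, hxy⟩ := hnoncomm
      set z := x * y * x⁻¹ * y⁻¹ with hzdef
      have hz := hcom x hx y hy
      have hz1 : z ≠ 1 := fun h => hxy (by
        calc x * y = z * (y * x) := by rw [hzdef]; group
        _ = y * x := by rw [h, one_mul])
      have hzq : z ^ q = 1 := by
        have h1 : x * y * x⁻¹ = z * y := by rw [hzdef]; group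
        have hcz : Commute z y := (Subgroup.mem_center_iff.1 hz y).symm
        have h2 : x * y ^ q * x⁻¹ = z ^ q * y ^ q := by rw [← conj_pow, h1, hcz.mul_pow]
        rw [Subgroup.mem_center_iff.1 (hZq y hy) x, mul_inv_cancel_right] at h2
        exact mul_eq_right.1 h2.symm
      obtain ⟨c, hc⟩ := hZs z hz
      have hzn : z ^ n = 1 := hρ (by
        have hdet : LinearMap.det (ρ z) = 1 := by
          rw [hzdef, map_mul, map_mul, map_mul, map_mul, map_mul, map_mul]
          have e1 : LinearMap.det (ρ x) * LinearMap.det (ρ x⁻¹) = 1 := by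
            rw [← map_mul, (rho_cancel ρ x).1, map_one]
          have e2 : LinearMap.det (ρ y) * LinearMap.det (ρ y⁻¹) = 1 := by
            rw [← map_mul, (rho_cancel ρ y).1, map_one]
          rw [mul_right_comm (LinearMap.det (ρ x)), e1, one_mul, e2]
        rw [hc, LinearMap.det_smul, hfin, map_one, mul_one] at hdet
        rw [map_pow, map_one, hc, smul_pow, one_pow, hdet, one_smul])
      have ho : orderOf z = q := orderOf_eq_prime hzq hz1
      exact (Nat.prime_dvd_prime_iff_eq hq hn).1 (ho ▸ orderOf_dvd_of_pow_eq_one hzn)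
    subst hqn
    -- the section has rank two
    obtain ⟨k, hk⟩ := (IsPGroup.iff_card (p := q)).1 (show IsPGroup q E' from fun e =>
      ⟨1, Subtype.ext (by rw [pow_one, SubmonoidClass.coe_pow, hE'q _ e.2]; rfl)⟩)
    have hk1 : ¬ k ≤ 1 := by
      intro hk1
      obtain ⟨x, hx, y, hy, hxy⟩ := hnoncomm
      interval_cases k
      · rw [pow_zero, Subgroup.card_eq_one] at hk
        exact hE'ne hk
      · rw [pow_one] at hk
        haveI : IsCyclic E' := isCyclic_of_prime_card hk
        obtain ⟨e, he⟩ := IsCyclic.exists_zpow_surjective (G := E')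
        obtain ⟨e₀, he₀⟩ := QuotientGroup.mk_surjective (e : X ⧸ Z)
        have key : ∀ w ∈ E, ∃ (i : ℤ) (z : X), z ∈ Z ∧ w = e₀ ^ i * z := by
          intro w hw
          obtain ⟨i, hi⟩ := he ⟨_, (hmemE w).1 hw⟩
          refine ⟨i, (e₀ ^ i)⁻¹ * w, ?_, by group⟩
          rw [← QuotientGroup.eq, QuotientGroup.mk_zpow, he₀]
          exact congrArg Subtype.val hi
        obtain ⟨i, z, hz, rfl⟩ := key x hx
        obtain ⟨j, w, hw, rfl⟩ := key y hy
        refine hxy ?_
        have hz' := Subgroup.mem_center_iff.1 hz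
        have hw' := Subgroup.mem_center_iff.1 hw
        have hcz : Commute z (e₀ ^ j * w) := (hz' _).symm
        have hcw : Commute w (e₀ ^ i) := (hw' _).symm
        calc e₀ ^ i * z * (e₀ ^ j * w) = e₀ ^ i * (e₀ ^ j * w) * z := by
              rw [mul_assoc, hcz.eq, ← mul_assoc]
          _ = e₀ ^ j * e₀ ^ i * w * z := by
              rw [← mul_assoc (e₀ ^ i) (e₀ ^ j) w, (Commute.zpow_zpow_self e₀ i j).eq]
          _ = e₀ ^ j * w * (e₀ ^ i * z) := by
              rw [mul_assoc (e₀ ^ j) (e₀ ^ i) w, ← hcw.eq]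
              simp only [mul_assoc]
    have hk2 : k = 2 := by
      -- representatives of the cosets are independent endomorphisms
      have hrep : ∀ e : E', ∃ x ∈ E, (QuotientGroup.mk x : X ⧸ Z) = e := fun e => by
        obtain ⟨x, hx⟩ := QuotientGroup.mk_surjective (e : X ⧸ Z)
        exact ⟨x, (hmemE x).2 (hx ▸ e.2), hx⟩
      choose s hsE hs using hrep
      have hχ : ∀ (e : E') (y : E), ∃ c : ZMod p,
          ρ ((y : X) * s e * (y : X)⁻¹ * (s e)⁻¹) = c • 1 :=
        fun e y => hZs _ (hcom y y.2 _ (hsE e))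
      choose χ hχ' using hχ
      have hli := indep_of_characters (K := ZMod p)
        (fun y : E => (LinearMap.mulLeft (ZMod p) (ρ (y : X))).comp
          (LinearMap.mulRight (ZMod p) (ρ (y : X)⁻¹))) χ ?_ (fun e => ρ (s e)) ?_ ?_
      · haveI := Fintype.ofFinite E'
        have h := hli.fintype_card_le_finrank
        rw [← Nat.card_eq_fintype_card, hk, Module.finrank_linearMap, hfin, ← pow_two] at h
        have := (Nat.pow_le_pow_iff_right hn.one_lt).1 h
        omega
      · intro e e' h
        refine Subtype.ext ?_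
        rw [← hs e, ← hs e', QuotientGroup.eq]
        refine hcentral _ (mul_mem (inv_mem (hsE e)) (hsE e')) fun y hy => ?_
        have h1 := congrFun h ⟨y⁻¹, inv_mem hy⟩
        have h2 : y⁻¹ * s e * y * (s e)⁻¹ = y⁻¹ * s e' * y * (s e')⁻¹ := hρ (by
          have h3 := hχ' e ⟨y⁻¹, inv_mem hy⟩
          have h4 := hχ' e' ⟨y⁻¹, inv_mem hy⟩
          rw [inv_inv] at h3 h4
          rw [h3, h4, h1])
        have h3 : s e * y * (s e)⁻¹ = s e' * y * (s e')⁻¹ := by
          have := congrArg (y * ·) h2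
          simpa [mul_assoc] using this
        calc y * ((s e)⁻¹ * s e') = (s e)⁻¹ * (s e * y * (s e)⁻¹) * s e' := by group
          _ = (s e)⁻¹ * (s e' * y * (s e')⁻¹) * s e' := by rw [h3]
          _ = (s e)⁻¹ * s e' * y := by group
      · intro e h
        refine one_ne_zero (α := Module.End (ZMod p) V) ?_
        rw [← (rho_cancel ρ (s e)).1, h, zero_mul]
      · intro e y
        show ρ (y : X) * (ρ (s e) * ρ (y : X)⁻¹) = χ e y • ρ (s e)
        rw [← map_mul, ← map_mul, ← one_mul (ρ (s e)), ← smul_mul_assoc, ← hχ', ← map_mul]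
        congr 1
        group
    subst hk2
    -- conjugation by `g` centralizes the section
    have hgE : ∀ e ∈ E', (QuotientGroup.mk g : X ⧸ Z) * e * (QuotientGroup.mk g : X ⧸ Z)⁻¹ ∈ E' :=
      fun e he => hE'n.conj_mem e he _
    have hgbar : (QuotientGroup.mk g : X ⧸ Z) ^ r = 1 := by rw [← QuotientGroup.mk_pow, hg]; rfl
    have hmod := conj_fixed_modEq (r := r) E' hgbar hgE
    set F := E' ⊓ Subgroup.centralizer {(QuotientGroup.mk g : X ⧸ Z)} with hF
    obtain ⟨j, hj, hFj⟩ := (Nat.dvd_prime_pow hn).1 (hk ▸ Subgroup.card_dvd_of_le (inf_le_left : F ≤ E'))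
    have hjk : j = 2 := by
      by_contra hne
      rw [hk, hFj] at hmod
      have h1 : r ∣ q ^ 2 - q ^ j :=
        (Nat.modEq_iff_dvd' (Nat.pow_le_pow_right hn.pos hj)).1 hmod.symm
      interval_cases j
      · rw [pow_zero, show q ^ 2 - 1 = (q - 1) * (q + 1) by
          rw [mul_comm, ← Nat.sq_sub_sq, one_pow]] at h1
        rcases (Nat.Prime.dvd_mul hr).1 h1 with h | h
        · have := Nat.le_of_dvd (by omega) h
          omega
        · have := Nat.le_of_dvd (by omega) h
          have hr' : r = q + 1 := by omega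
          rcases hn.eq_two_or_odd' with h2 | ⟨d, hd⟩
          · omega
          · have h2r := (Nat.prime_dvd_prime_iff_eq Nat.prime_two hr).1 ⟨d + 1, by omega⟩
            omega
      · rw [show q ^ 2 - q ^ 1 = q * (q - 1) by rw [pow_one, pow_two, Nat.mul_sub_one]] at h1
        rcases (Nat.Prime.dvd_mul hr).1 h1 with h | h
        · have := Nat.le_of_dvd (by omega) h
          omega
        · have := Nat.le_of_dvd (by omega) h
          omega
      · exact hne rfl
    subst hjk
    have hFE : F = E' := Subgroup.eq_of_le_of_card_ge inf_le_left (by rw [hFj, hk])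
    -- hence centralizes the subgroup
    have hcent : ∀ x ∈ E, ρ g * ρ x = ρ x * ρ g := by
      intro x hx
      have h1 : (QuotientGroup.mk x : X ⧸ Z) ∈ F := hFE ▸ (hmemE x).1 hx
      have h2 := Subgroup.mem_centralizer_singleton_iff.1 h1.2
      set z := g * x * g⁻¹ * x⁻¹ with hzdef
      have hz : z ∈ Z := by
        rw [← QuotientGroup.eq_one_iff, hzdef]
        simp only [QuotientGroup.mk_mul, QuotientGroup.mk_inv, ← h2]
        group
      have hcz := fun y => Subgroup.mem_center_iff.1 hz y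
      have hzn : z ^ q = 1 := by
        have h3 : g * x * g⁻¹ = z * x := by rw [hzdef]; group
        have h4 : g * x ^ q * g⁻¹ = z ^ q * x ^ q := by
          rw [← conj_pow, h3, Commute.mul_pow (hcz x).symm]
        rw [Subgroup.mem_center_iff.1 (hZq x hx) g, mul_inv_cancel_right] at h4
        exact mul_eq_right.1 h4.symm
      have hzr : z ^ r = 1 := by
        have hit : ∀ i : ℕ, g ^ i * x = z ^ i * x * g ^ i := by
          intro i
          induction i with
          | zero => simp
          | succ i ih =>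
            have hc' : Commute g (z ^ i) := Commute.pow_right (hcz g) i
            rw [pow_succ', mul_assoc, ih, ← mul_assoc, ← mul_assoc, hc'.eq, mul_assoc (z ^ i) g x,
              show g * x = z * x * g by rw [hzdef]; group, pow_succ z i]
            simp only [mul_assoc]
        have h5 := hit r
        rw [hg, one_mul, mul_one] at h5
        exact mul_eq_right.1 h5.symm
      have hz1 : z = 1 := by
        rw [← orderOf_eq_one_iff]
        exact Nat.eq_one_of_dvd_coprimes ((Nat.coprime_primes hn hr).2 (by omega))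
          (orderOf_dvd_of_pow_eq_one hzn) (orderOf_dvd_of_pow_eq_one hzr)
      rw [← map_mul, ← map_mul]
      congr 1
      calc g * x = z * (x * g) := by rw [hzdef]; group
        _ = x * g := by rw [hz1, one_mul]
    -- the commutant of an irreducible field is the field itself
    set R := Algebra.adjoin (ZMod p) {ρ g} with hRdef
    have hRcomm : ∀ a ∈ R, ∀ b ∈ R, a * b = b * a :=
      adjoin_comm fun a ha b hb => by rw [Set.mem_singleton_iff.1 ha, Set.mem_singleton_iff.1 hb]
    have hRirr : ∀ W : Submodule (ZMod p) V, (∀ a ∈ R, ∀ w ∈ W, a w ∈ W) → W = ⊥ ∨ W = ⊤ :=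
      fun W hW => hgirr W (hW _ (Algebra.subset_adjoin rfl))
    obtain ⟨hbij, -⟩ := field_of_irreducible R hRcomm hRirr hv₀
    have hin : ∀ x ∈ E, ρ x ∈ R := by
      intro x hx
      obtain ⟨a, ha⟩ := hbij.2 (ρ x v₀)
      have hcR : R ≤ Subalgebra.centralizer (ZMod p) {ρ x} :=
        Algebra.adjoin_le fun b hb => (Subalgebra.mem_centralizer_iff _).2 fun c hc => by
          rw [Set.mem_singleton_iff.1 hb, Set.mem_singleton_iff.1 hc]; exact (hcent x hx).symm
      have : ρ x = a := LinearMap.ext fun u => by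
        obtain ⟨b, rfl⟩ := hbij.2 u
        show (ρ x * (b : Module.End (ZMod p) V)) v₀ = ((a : Module.End (ZMod p) V) * b) v₀
        rw [(Subalgebra.mem_centralizer_iff _).1 (hcR b.2) (ρ x) rfl, hRcomm a a.2 b b.2,
          Module.End.mul_apply, Module.End.mul_apply, ← ha]
      exact this ▸ a.2
    obtain ⟨x, hx, y, hy, hxy⟩ := hnoncomm
    exact hxy (hρ (by rw [map_mul, map_mul, hRcomm _ (hin x hx) _ (hin y hy)]))

end Cfsg.Agent.FGB.SolvTrans
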