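/-
Wielandt's proof that the number of subgroups of order `p ^ β` is `1` modulo `p`.
-/
import Mathlib

set_option autoImplicit false
set_option linter.all false

namespace Cfsg.Agent.FGB

open scoped Pointwise

theorem dvd_card_of_orbits {G α : Type*} [Group G] [Finite α] [MulAction G α] (P : α → Prop) (d : ℕ)
    (hinv : ∀ (g : G) x, P x → P (g • x)) (h : ∀ x, P x → d ∣ Nat.card (MulAction.orbit G x)) :
    d ∣ Nat.card {x // P x} := by
  classical
  haveI : Fintype (MulAction.orbitRel.Quotient G α) := Fintype.ofFinite _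
  let f : {x // P x} → MulAction.orbitRel.Quotient G α := fun x => Quotient.mk _ x.1
  rw [← Nat.card_congr (Equiv.sigmaFiberEquiv f), Nat.card_sigma]
  refine Finset.dvd_sum fun q _ => ?_
  induction q using Quotient.inductionOn with
  | h a =>
    by_cases ha : P a
    · refine (h a ha).trans (dvd_of_eq (Nat.card_congr ?_).symm)
      exact
        { toFun := fun z => ⟨z.1.1, Quotient.exact z.2⟩
          invFun := fun y => ⟨⟨y.1, by obtain ⟨g, hg⟩ := y.2; exact hg ▸ hinv g a ha⟩, Quotient.sound y.2⟩
          left_inv := fun z => rfl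
          right_inv := fun y => rfl }
    · have : IsEmpty {z : {x // P x} // f z = Quotient.mk _ a} := ⟨fun z => ha (by
        obtain ⟨g, hg⟩ := Quotient.exact z.2
        have hg' : g • a = z.1.1 := hg
        have := hinv g⁻¹ _ z.1.2
        rwa [← hg', inv_smul_smul] at this)⟩
      simp

/-- The subsets of size `k`. -/
def KSets (G : Type*) (k : ℕ) := {S : Set G // S.ncard = k}

instance {G : Type*} [Finite G] (k : ℕ) : Finite (KSets G k) := inferInstanceAs (Finite {S : Set G // S.ncard = k})

instance {G : Type*} [Group G] (k : ℕ) : MulAction G (KSets G k) where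
  smul g S := ⟨g • S.1, by rw [← Set.image_smul, Set.ncard_image_of_injective _ (MulAction.injective g)]; exact S.2⟩
  one_smul S := Subtype.ext (one_smul G S.1)
  mul_smul g h S := Subtype.ext (mul_smul g h S.1)

variable {G : Type*} [Group G] [Finite G] {p β m : ℕ}

theorem KSets.stabilizer_eq {k : ℕ} (S : KSets G k) :
    MulAction.stabilizer G S = MulAction.stabilizer G S.1 := by
  ext g
  simp only [MulAction.mem_stabilizer_iff]
  exact ⟨fun h => congrArg Subtype.val h, fun h => Subtype.ext h⟩

/-- The stabilizer under left multiplication divides the size of the set. -/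
theorem card_stabilizer_dvd (S : Set G) : Nat.card (MulAction.stabilizer G S) ∣ S.ncard := by
  set H := MulAction.stabilizer G S with hH
  have key : S⁻¹ = (QuotientGroup.mk : G → G ⧸ H) ⁻¹' (QuotientGroup.mk '' S⁻¹) := by
    ext x
    refine ⟨fun hx => ⟨x, hx, rfl⟩, ?_⟩
    rintro ⟨y, hy, hyx⟩
    have h1 : y⁻¹ * x ∈ H := QuotientGroup.eq.mp hyx
    have h2 : (y⁻¹ * x)⁻¹ • S = S := MulAction.mem_stabilizer_iff.mp (inv_mem h1)
    rw [Set.mem_inv] at hy ⊢
    have h3 := Set.smul_mem_smul_set (a := (y⁻¹ * x)⁻¹) hy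
    rw [h2, smul_eq_mul] at h3
    simpa using h3
  rw [← Nat.card_coe_set_eq, ← Set.natCard_inv S, key, Nat.card_congr (QuotientGroup.preimageMkEquivSubgroupProdSet H _), Nat.card_prod]
  exact dvd_mul_right _ _

theorem card_ksets_modEq (hp : p.Prime) (hn : Nat.card G = p ^ β * m) :
    Nat.card (KSets G (p ^ β)) ≡ Nat.card {H : Subgroup G // Nat.card H = p ^ β} * m [MOD p * m] := by
  classical
  haveI : Fintype {H : Subgroup G // Nat.card H = p ^ β} := Fintype.ofFinite _
  set P : KSets G (p ^ β) → Prop := fun S => Nat.card (MulAction.stabilizer G S) = p ^ β with hP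
  have hm : 0 < m := Nat.pos_of_ne_zero fun h => Nat.card_pos.ne' (hn.trans (by rw [h, mul_zero]))
  have h1 : p * m ∣ Nat.card {S // ¬ P S} := by
    refine dvd_card_of_orbits (G := G) _ _ (fun g S hS h => hS ?_) fun S hS => ?_
    · refine Eq.trans ?_ h
      exact Nat.card_congr (MulAction.stabilizerEquivStabilizer (g := g) (a := S) rfl).toEquiv
    · have hd : Nat.card (MulAction.stabilizer G S) ∣ p ^ β := by
        rw [KSets.stabilizer_eq]; exact (card_stabilizer_dvd S.1).trans (dvd_of_eq S.2)
      obtain ⟨i, hi, he⟩ := (Nat.dvd_prime_pow hp).mp hd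
      have hib : i < β := lt_of_le_of_ne hi fun h => hS (by rw [hP]; simpa [h] using he)
      have h2 := (MulAction.stabilizer G S).card_mul_index
      rw [MulAction.index_stabilizer, he, hn] at h2
      have hsplit : p ^ β * m = p ^ i * (p ^ (β - i) * m) := by
        rw [← mul_assoc, ← pow_add, show i + (β - i) = β by omega]
      replace h2 := h2.trans hsplit
      rw [Nat.card_coe_set_eq, Nat.eq_of_mul_eq_mul_left (pow_pos hp.pos i) h2]
      exact Nat.mul_dvd_mul_right (dvd_pow_self p (by omega)) m
  have h2 : Nat.card {S // P S} = Nat.card {H : Subgroup G // Nat.card H = p ^ β} * m := by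
    have hsize : ∀ (H : Subgroup G) (g : G), (g • (H : Set G)).ncard = Nat.card H := fun H g => by
      rw [← Set.image_smul, Set.ncard_image_of_injective _ (MulAction.injective g), ← Nat.card_coe_set_eq]; rfl
    have hstab : ∀ (H : Subgroup G) (g : G),
        MulAction.stabilizer G (g • (H : Set G)) = H.map (MulAut.conj g).toMonoidHom := fun H g => by
      rw [MulAction.stabilizer_smul_eq_stabilizer_map_conj, MulAction.stabilizer_subgroup]
    let f : (Σ H : {H : Subgroup G // Nat.card H = p ^ β}, G ⧸ H.1) → {S // P S} := fun z =>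
      ⟨⟨z.2.out • (z.1.1 : Set G), (hsize _ _).trans z.1.2⟩, by
        show Nat.card (MulAction.stabilizer G (_ : KSets G (p ^ β))) = p ^ β
        refine (congrArg (fun H : Subgroup G => Nat.card H)
          ((KSets.stabilizer_eq _).trans (hstab z.1.1 z.2.out))).trans ?_
        exact (Subgroup.card_map_of_injective (MulAut.conj z.2.out).injective).trans z.1.2⟩
    have hf : Function.Bijective f := by
      constructor
      · rintro ⟨⟨H, hH⟩, a⟩ ⟨⟨K, hK⟩, b⟩ h
        have h' : a.out • (H : Set G) = b.out • (K : Set G) := congrArg (fun s => s.1.1) h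
        have h3 : a.out⁻¹ * b.out ∈ H := by
          have : b.out ∈ b.out • (K : Set G) := ⟨1, one_mem K, mul_one _⟩
          rw [← h'] at this
          exact Set.mem_smul_set_iff_inv_smul_mem.mp this
        have hHK : H = K := by
          refine SetLike.coe_injective ?_
          have h5 : (a.out⁻¹ * b.out) • (K : Set G) = (H : Set G) := by
            rw [mul_smul, ← h', inv_smul_smul]
          have h6 : (a.out⁻¹ * b.out)⁻¹ • (H : Set G) = (H : Set G) :=
            MulAction.mem_stabilizer_iff.mp (by rw [MulAction.stabilizer_subgroup]; exact inv_mem h3)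
          rw [← h5, inv_smul_smul, h5] at h6
          exact h6.symm
        subst hHK
        refine Sigma.ext rfl (heq_of_eq ?_)
        rw [← a.out_eq', ← b.out_eq']
        exact QuotientGroup.eq.mpr h3
      · rintro ⟨⟨S, hS⟩, hPS⟩
        obtain ⟨s, hs⟩ : S.Nonempty := Set.nonempty_of_ncard_ne_zero (hS ▸ (pow_pos hp.pos β).ne')
        have hPS' : Nat.card (MulAction.stabilizer G S) = p ^ β :=
          (congrArg (fun H : Subgroup G => Nat.card H) (KSets.stabilizer_eq (⟨S, hS⟩ : KSets G (p ^ β)))).symm.trans hPS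
        set H := (MulAction.stabilizer G S).map (MulAut.conj s⁻¹).toMonoidHom with hH
        have hHc : Nat.card H = p ^ β :=
          (Subgroup.card_map_of_injective (MulAut.conj s⁻¹).injective).trans hPS'
        have hsub : s • (H : Set G) ⊆ S := by
          rintro _ ⟨h, ⟨g, hg, rfl⟩, rfl⟩
          have := Set.smul_mem_smul_set (a := g) hs
          rw [MulAction.mem_stabilizer_iff.mp hg, smul_eq_mul] at this
          simpa [mul_assoc] using this
        have heq : s • (H : Set G) = S := Set.eq_of_subset_of_ncard_le hsub (by rw [hS, hsize, hHc])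
        refine ⟨⟨⟨H, hHc⟩, (s : G ⧸ H)⟩, Subtype.ext (Subtype.ext ?_)⟩
        show (s : G ⧸ H).out • (H : Set G) = S
        obtain ⟨k, hk⟩ := QuotientGroup.mk_out_eq_mul H s
        rw [hk, mul_smul, ← heq]
        congr 1
        exact MulAction.mem_stabilizer_iff.mp (by rw [MulAction.stabilizer_subgroup]; exact k.2)
    rw [← Nat.card_congr (Equiv.ofBijective f hf), Nat.card_sigma, Finset.sum_congr rfl (fun H _ => ?_),
      Finset.sum_const, Finset.card_univ, smul_eq_mul, Nat.card_eq_fintype_card]
    have h3 := H.1.card_mul_index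
    rw [H.2, hn] at h3
    rw [← Subgroup.index_eq_card]
    exact Nat.eq_of_mul_eq_mul_left (pow_pos hp.pos β) h3
  have hsum : Nat.card (KSets G (p ^ β)) = Nat.card {S // P S} + Nat.card {S // ¬ P S} := by
    rw [← Nat.card_sum, Nat.card_congr (Equiv.sumCompl P)]
  rw [hsum, h2]
  calc _ ≡ Nat.card {H : Subgroup G // Nat.card H = p ^ β} * m + 0 [MOD p * m] :=
        Nat.ModEq.add_left _ (Nat.modEq_zero_iff_dvd.mpr h1)
    _ = _ := add_zero _

theorem card_subgroups_modEq_one (hp : p.Prime) (hdiv : p ^ β ∣ Nat.card G) :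
    Nat.card {H : Subgroup G // Nat.card H = p ^ β} ≡ 1 [MOD p] := by
  obtain ⟨m, hm⟩ := hdiv
  haveI : NeZero (Nat.card G) := ⟨Nat.card_pos.ne'⟩
  set Z := Multiplicative (ZMod (Nat.card G))
  have hZ : Nat.card Z = p ^ β * m := (Nat.card_zmod _).trans hm
  have h1 : Nat.card (KSets G (p ^ β)) = Nat.card (KSets Z (p ^ β)) := by
    obtain ⟨e⟩ : Nonempty (G ≃ Z) := Finite.card_eq.mp (hm.trans hZ.symm)
    refine Nat.card_congr
      { toFun := fun S => ⟨e '' S.1, (Set.ncard_image_of_injective _ e.injective).trans S.2⟩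
        invFun := fun S => ⟨e.symm '' S.1, (Set.ncard_image_of_injective _ e.symm.injective).trans S.2⟩
        left_inv := fun S => Subtype.ext (e.symm_image_image S.1)
        right_inv := fun S => Subtype.ext (e.image_symm_image S.1) }
  have h2 : Nat.card {H : Subgroup Z // Nat.card H = p ^ β} = 1 := by
    rw [Nat.card_eq_one_iff_unique]
    haveI := Fact.mk hp
    obtain ⟨H, hH⟩ := Sylow.exists_subgroup_card_pow_prime (G := Z) p (n := β) (Dvd.intro m hZ.symm)
    refine ⟨⟨fun A B => Subtype.ext ?_⟩, ⟨⟨H, hH⟩⟩⟩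
    have key : ∀ C : Subgroup Z, Nat.card C = p ^ β → C = (powMonoidHom (p ^ β) : Z →* Z).ker := fun C hC => by
      refine Subgroup.eq_of_le_of_card_ge (fun x hx => ?_) ?_
      · rw [MonoidHom.mem_ker, powMonoidHom_apply, ← orderOf_dvd_iff_pow_eq_one, ← hC]
        exact Subgroup.orderOf_dvd_natCard C hx
      · rw [IsCyclic.card_powMonoidHom_ker, hC]
        exact Nat.gcd_le_right _ (pow_pos hp.pos β)
    rw [key _ A.2, key _ B.2]
  have hpos : 0 < m := Nat.pos_of_ne_zero fun h => Nat.card_pos.ne' (hm.trans (by rw [h, mul_zero]))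
  have h3 := (card_ksets_modEq hp hm).symm.trans (h1 ▸ card_ksets_modEq hp hZ)
  rw [h2] at h3
  exact Nat.ModEq.mul_right_cancel' hpos.ne' h3

end Cfsg.Agent.FGB
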