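import Cfsg.Agent.Lib.FGB.Kulakoff

/-!
# The number of subgroups of prime power order modulo `p ^ 2`
-/

set_option autoImplicit false
set_option linter.all false

namespace Cfsg.Agent.FGB

open Subgroup MulAction

universe u

variable {G : Type u} [Group G]

/-- The conjugation action of a subgroup on all subgroups. -/
@[reducible] def conjSubgroups (P : Subgroup G) : MulAction P (Subgroup G) where
  smul g H := H.map (MulAut.conj (g : G)).toMonoidHom
  one_smul H := by
    show H.map (MulAut.conj ((1 : P) : G)).toMonoidHom = H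
    ext x; simp
  mul_smul g h H := by
    show H.map _ = (H.map _).map _
    rw [Subgroup.map_map]
    congr 1
    ext x
    simp [mul_assoc]

theorem dvd_sum_of_orbits {K α : Type u} [Group K] [MulAction K α] [Fintype α] (f : α → ℕ) (d : ℕ)
    (hinv : ∀ (g : K) x, f (g • x) = f x) (h : ∀ x, d ∣ Nat.card (orbit K x) * f x) :
    d ∣ ∑ x, f x := by
  classical
  haveI : Fintype (orbitRel.Quotient K α) := Fintype.ofFinite _
  rw [← (selfEquivSigmaOrbits K α).symm.sum_comp f, Fintype.sum_sigma]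
  refine Finset.dvd_sum fun ω _ => ?_
  have hc : ∀ y : orbit K ω.out, f ((selfEquivSigmaOrbits K α).symm ⟨ω, y⟩) = f ω.out := by
    rintro ⟨y, hy⟩
    obtain ⟨g, rfl⟩ := hy
    exact hinv g _
  rw [Finset.sum_congr rfl (fun y _ => hc y), Finset.sum_const, smul_eq_mul, Finset.card_univ,
    ← Nat.card_eq_fintype_card]
  exact h _

variable {p : ℕ} [hp : Fact p.Prime] [Finite G]

theorem prime_dvd_orbit {K α : Type u} [Group K] [Finite K] [MulAction K α] [Finite α]
    (hK : IsPGroup p K) {x : α} (hx : ¬ ∀ g : K, g • x = x) : p ∣ Nat.card (orbit K x) := by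
  obtain ⟨n, hn⟩ := hK.card_orbit x
  rcases n with _ | n
  · exfalso
    apply hx
    intro g
    haveI := (Nat.card_eq_one_iff_unique.mp (by rw [hn, pow_zero] : Nat.card (orbit K x) = 1)).1
    exact congrArg Subtype.val (Subsingleton.elim (⟨g • x, mem_orbit x g⟩ : orbit K x)
      ⟨x, mem_orbit_self x⟩)
  · rw [hn]; exact dvd_pow_self p n.succ_ne_zero

theorem count_fixed {K α : Type u} [Group K] [Finite K] [MulAction K α] [Finite α]
    (hK : IsPGroup p K) (Q : α → Prop) (hQ : ∀ (g : K) x, Q x → Q (g • x)) :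
    Nat.card {x // Q x ∧ ∀ g : K, g • x = x} ≡ Nat.card {x // Q x} [MOD p] := by
  classical
  haveI : Fintype α := Fintype.ofFinite α
  have h := dvd_sum_of_orbits (K := K) (fun x => if Q x ∧ ¬ ∀ g : K, g • x = x then 1 else 0) p ?_ ?_
  · rw [Finset.sum_boole] at h
    have hs : Nat.card {x // Q x ∧ ∀ g : K, g • x = x} + Nat.card {x // Q x ∧ ¬ ∀ g : K, g • x = x} =
        Nat.card {x // Q x} := by
      rw [← Nat.card_congr (Equiv.subtypeSubtypeEquivSubtypeInter Q (fun x => ∀ g : K, g • x = x)),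
        ← Nat.card_congr (Equiv.subtypeSubtypeEquivSubtypeInter Q (fun x => ¬ ∀ g : K, g • x = x)),
        ← Nat.card_sum, Nat.card_congr (Equiv.sumCompl _)]
    rw [← hs, Nat.modEq_iff_dvd' (Nat.le_add_right _ _), Nat.add_sub_cancel_left,
      Nat.card_eq_fintype_card, Fintype.card_subtype]
    simpa using h
  · intro g x
    have h1 : Q (g • x) ↔ Q x := ⟨fun h => by simpa using hQ g⁻¹ _ h, hQ g x⟩
    have h2 : (∀ g' : K, g' • g • x = g • x) ↔ ∀ g' : K, g' • x = x := by
      constructor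
      · intro h g'
        have := h (g * g' * g⁻¹)
        rw [mul_smul, mul_smul, inv_smul_smul] at this
        exact MulAction.injective g this
      · intro h g'
        rw [h g, h g']
    simp only [h1, h2]
  · intro x
    by_cases hc : Q x ∧ ¬ ∀ g : K, g • x = x
    · rw [if_pos hc, mul_one]; exact prime_dvd_orbit hK hc.2
    · rw [if_neg hc, mul_zero]; exact dvd_zero p

/-- Subgroups of a given order outside a Sylow subgroup come in numbers divisible by `p ^ 2`. -/
theorem sq_dvd_card_not_le {n a : ℕ} (P : Subgroup G) (hP : Nat.card P = p ^ n)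
    (hmax : ¬ p ^ (n + 1) ∣ Nat.card G) (ha : a < n) :
    p ^ 2 ∣ Nat.card {H : Subgroup G // Nat.card H = p ^ a ∧ ¬ H ≤ P} := by
  classical
  haveI : Fintype (Subgroup G) := Fintype.ofFinite _
  haveI : Fintype (Subgroup P) := Fintype.ofFinite _
  letI act := conjSubgroups P
  have hPP : IsPGroup p P := IsPGroup.of_card hP
  have hcard : ∀ (g : P) (H : Subgroup G), Nat.card (g • H : Subgroup G) = Nat.card H := fun g H =>
    card_map_of_injective (MulAut.conj (g : G)).injective
  have hmono : ∀ (g : P) {H K : Subgroup G}, H ≤ K → g • H ≤ g • K := fun g H K h => map_mono h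
  have hfixP : ∀ g : P, g • P = P := fun g =>
    mem_normalizer_iff_map_conj_eq.mp (le_normalizer g.2)
  have hnlP : ∀ (g : P) (H : Subgroup G), ¬ g • H ≤ P ↔ ¬ H ≤ P := fun g H => not_congr
    ⟨fun h => by
      have := hmono g⁻¹ h
      rwa [inv_smul_smul, hfixP] at this, fun h => (hmono g h).trans (hfixP g).le⟩
  have hnorm : ∀ (H : Subgroup G), (∀ g : P, g • H = H) ↔ P ≤ normalizer (H : Set G) := fun H =>
    ⟨fun h g hg => mem_normalizer_iff_map_conj_eq.mpr (h ⟨g, hg⟩),
      fun h g => mem_normalizer_iff_map_conj_eq.mp (h g.2)⟩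
  have hbound : ∀ {R : Subgroup G}, IsPGroup p R → ∀ {e : ℕ}, Nat.card R = p ^ e → e ≤ n := by
    intro R _ e he
    by_contra hlt
    exact hmax ((pow_dvd_pow p (by omega : n + 1 ≤ e)).trans (he ▸ card_subgroup_dvd_card R))
  have hPnorm : ∀ (H : Subgroup G), IsPGroup p H → P ≤ normalizer (H : Set G) → H ≤ P := by
    intro H hH hn
    have hs : IsPGroup p (P ⊔ H : Subgroup G) := hPP.to_sup_of_normal_right' hH hn
    obtain ⟨e, he⟩ := IsPGroup.iff_card.mp hs
    have h1 : P = P ⊔ H := eq_of_le_of_card_ge le_sup_left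
      (by rw [he, hP]; exact Nat.pow_le_pow_right hp.out.pos (hbound hs he))
    rw [h1]; exact le_sup_right
  have horb : ∀ {H : Subgroup G}, IsPGroup p H → ¬ H ≤ P → p ∣ Nat.card (orbit P H) := fun hH hnl =>
    prime_dvd_orbit hPP fun h => hnl (hPnorm _ hH ((hnorm _).mp h))
  set C : Subgroup G → Prop := fun H => Nat.card H = p ^ a ∧ ¬ H ≤ P with hC
  have hCinv : ∀ (g : P) H, C (g • H) ↔ C H := fun g H => by
    simp only [hC, hcard, hnlP]
  have hCp : ∀ {H}, C H → IsPGroup p H := fun h => IsPGroup.of_card h.1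
  have hidxinv : ∀ (g : P) (H : Subgroup G), (stabilizer P (g • H)).index = (stabilizer P H).index := by
    intro g H
    rw [stabilizer_smul_eq_stabilizer_map_conj]
    exact index_map_equiv _ (MulAut.conj g)
  have hsum : Nat.card {H : Subgroup G // C H} =
      ∑ H, (if C H ∧ (stabilizer P H).index ≠ p then 1 else 0) +
      ∑ S : Subgroup P, if S.index = p then Nat.card {H : Subgroup G // C H ∧ stabilizer P H = S} else 0 := by
    have h1 : Nat.card {H : Subgroup G // C H} =
        ∑ H : Subgroup G, ((if C H ∧ (stabilizer P H).index ≠ p then 1 else 0) +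
          ∑ S : Subgroup P, if S.index = p ∧ C H ∧ stabilizer P H = S then 1 else 0) := by
      rw [Nat.card_eq_fintype_card, Fintype.card_subtype, Finset.card_filter]
      refine Finset.sum_congr rfl fun H _ => ?_
      by_cases hH : C H
      · by_cases hi : (stabilizer P H).index = p
        · rw [if_pos hH, if_neg (fun h => h.2 hi), zero_add,
            Finset.sum_eq_single (stabilizer P H) (fun S _ hS => if_neg (fun h => hS h.2.2.symm))
              (fun h => absurd (Finset.mem_univ _) h), if_pos ⟨hi, hH, rfl⟩]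
        · rw [if_pos hH, if_pos ⟨hH, hi⟩,
            Finset.sum_eq_zero (fun S _ => if_neg (fun (h : S.index = p ∧ C H ∧ stabilizer P H = S) => hi (h.2.2 ▸ h.1))), add_zero]
      · rw [if_neg hH, if_neg (fun h => hH h.1),
          Finset.sum_eq_zero (fun S _ => if_neg (fun h => hH h.2.1)), add_zero]
    rw [h1, Finset.sum_add_distrib]
    congr 1
    rw [Finset.sum_comm]
    refine Finset.sum_congr rfl fun S _ => ?_
    by_cases hS : S.index = p
    · rw [if_pos hS, Finset.sum_congr rfl (fun H _ => (if_congr (and_iff_right hS) rfl rfl :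
        (if S.index = p ∧ C H ∧ stabilizer P H = S then 1 else 0) =
          if C H ∧ stabilizer P H = S then 1 else 0)), Finset.sum_boole, Nat.card_eq_fintype_card,
        Fintype.card_subtype]
      simp
    · rw [if_neg hS]
      exact Finset.sum_eq_zero fun H _ => if_neg fun h => hS h.1
  show p ^ 2 ∣ Nat.card {H : Subgroup G // C H}
  rw [hsum]
  refine dvd_add (dvd_sum_of_orbits (K := P) _ _ (fun g H => ?_) fun H => ?_)
    (Finset.dvd_sum fun S _ => ?_)
  · simp only [hCinv, hidxinv]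
  · by_cases hc : C H ∧ (stabilizer P H).index ≠ p
    · rw [if_pos hc, mul_one]
      have hd := horb (hCp hc.1) hc.1.2
      obtain ⟨e, he⟩ := hPP.card_orbit H
      rw [he] at hd ⊢
      refine pow_dvd_pow p ?_
      by_contra hlt
      rcases (show e = 0 ∨ e = 1 by omega) with rfl | rfl
      · rw [pow_zero, Nat.dvd_one] at hd; exact hp.out.ne_one hd
      · apply hc.2
        rw [index_stabilizer, ← Nat.card_coe_set_eq, he, pow_one]
    · rw [if_neg hc, mul_zero]; exact dvd_zero _
  by_cases hS : S.index = p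
  swap
  · rw [if_neg hS]; exact dvd_zero _
  rw [if_pos hS]
  haveI hSn : S.Normal := normal_of_frattini_le hPP (frattini_le_of_index_prime hPP hS)
  set P1 := S.map P.subtype with hP1
  have hP1le : P1 ≤ P := map_subtype_le S
  have hP1card : Nat.card P1 = p ^ (n - 1) := by
    rw [hP1, card_map_of_injective P.subtype_injective]
    have h := S.card_mul_index
    rw [hS, hP, show n = n - 1 + 1 by omega, pow_succ] at h
    exact Nat.eq_of_mul_eq_mul_right hp.out.pos h
  have hP1fix : ∀ g : P, g • P1 = P1 := fun g => by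
    refine mem_normalizer_iff_map_conj_eq.mp (le_normalizer_map P.subtype ⟨g, ?_, rfl⟩)
    rw [normalizer_eq_top]; exact mem_top g
  have hSstab : ∀ {H : Subgroup G}, stabilizer P H = S → P1 ≤ normalizer (H : Set G) := by
    rintro H hH x ⟨s, hs, rfl⟩
    exact mem_normalizer_iff_map_conj_eq.mpr (mem_stabilizer_iff.mp (hH.ge hs))
  have hsup : ∀ {H : Subgroup G}, C H → P1 ≤ normalizer (H : Set G) →
      Nat.card (P1 ⊔ H : Subgroup G) = p ^ n := by
    intro H hH hn
    have hs : IsPGroup p (P1 ⊔ H : Subgroup G) := (IsPGroup.of_card hP1card).to_sup_of_normal_right' (hCp hH) hn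
    obtain ⟨e, he⟩ := IsPGroup.iff_card.mp hs
    have hlt : P1 < P1 ⊔ H := lt_of_le_of_ne le_sup_left fun h =>
      hH.2 ((le_sup_right.trans h.ge).trans hP1le)
    have h1 : Nat.card P1 < Nat.card (P1 ⊔ H : Subgroup G) :=
      Set.ncard_lt_ncard (SetLike.coe_ssubset_coe.mpr hlt) (Set.toFinite _)
    rw [hP1card, he, Nat.pow_lt_pow_iff_right hp.out.one_lt] at h1
    have := hbound hs he
    rw [he, show e = n by omega]
  set D : Subgroup G → Prop := fun R => Nat.card R = p ^ n ∧ P1 ≤ R ∧ R ≠ P with hD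
  set F : Subgroup G → Subgroup G → Prop :=
    fun R H => Nat.card H = p ^ a ∧ H ≤ R ∧ ¬ H ≤ P ∧ R ≤ normalizer (H : Set G) with hF
  have hcount : Nat.card {H : Subgroup G // C H ∧ stabilizer P H = S} =
      ∑ R, if D R then Nat.card {H // F R H} else 0 := by
    haveI : Fintype {R // D R} := Fintype.ofFinite _
    rw [← Finset.sum_filter, Finset.sum_subtype (p := D) (Finset.univ.filter D) (by simp),
      ← Nat.card_sigma]
    refine Nat.card_congr
      { toFun := fun H => ⟨⟨P1 ⊔ H.1, ⟨hsup H.2.1 (hSstab H.2.2), le_sup_left,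
            fun h => H.2.1.2 (le_sup_right.trans h.le)⟩⟩,
          ⟨H.1, H.2.1.1, le_sup_right, H.2.1.2, sup_le (hSstab H.2.2) le_normalizer⟩⟩
        invFun := fun x => ⟨x.2.1, ⟨x.2.2.1, x.2.2.2.2.1⟩, ?_⟩
        left_inv := fun H => rfl
        right_inv := fun x => ?_ }
    · obtain ⟨⟨R, hR⟩, ⟨H, hH⟩⟩ := x
      show stabilizer P H = S
      have hle : S ≤ stabilizer P H := fun s hs => mem_stabilizer_iff.mpr
        (mem_normalizer_iff_map_conj_eq.mp (hH.2.2.2 (hR.2.1 ⟨s, hs, rfl⟩)))
      have hne : stabilizer P H ≠ ⊤ := fun h => hH.2.2.1 (hPnorm H (IsPGroup.of_card hH.1)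
        ((hnorm H).mp fun g => mem_stabilizer_iff.mp (h ▸ mem_top g)))
      have hd := (relIndex_mul_index hle).trans hS
      rcases hp.out.eq_one_or_self_of_dvd _ (Dvd.intro_left _ hd) with h | h
      · exact absurd (index_eq_one.mp h) hne
      · rw [h] at hd
        exact (le_antisymm hle (relIndex_eq_one.mp
          (Nat.eq_of_mul_eq_mul_right hp.out.pos (hd.trans (one_mul p).symm)))).symm
    · obtain ⟨⟨R, hR⟩, ⟨H, hH⟩⟩ := x
      have he : P1 ⊔ H = R := by
        refine eq_of_le_of_card_ge (sup_le hR.2.1 hH.2.1) ?_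
        rw [hR.1, hsup ⟨hH.1, hH.2.2.1⟩ (hR.2.1.trans hH.2.2.2)]
      subst he
      rfl
  rw [hcount]
  have hFinv : ∀ (g : P) (R H : Subgroup G), F R H → F (g • R) (g • H) := fun g R H h =>
    ⟨(hcard g H).trans h.1, hmono g h.2.1, (hnlP g H).mpr h.2.2.1, by
      refine le_trans (map_mono h.2.2.2) ?_
      exact le_normalizer_map _⟩
  have hDinv : ∀ (g : P) (R : Subgroup G), D R → D (g • R) := fun g R h =>
    ⟨(hcard g R).trans h.1, (hP1fix g).symm.le.trans (hmono g h.2.1), fun he => h.2.2 (by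
      rw [← inv_smul_smul g R, he, hfixP])⟩
  refine dvd_sum_of_orbits (K := P) _ _ (fun g R => ?_) fun R => ?_
  · by_cases h : D R
    · rw [if_pos h, if_pos (hDinv g R h)]
      refine Nat.card_congr
        { toFun := fun H => ⟨g⁻¹ • H.1, by simpa using hFinv g⁻¹ _ _ H.2⟩
          invFun := fun H => ⟨g • H.1, hFinv g _ _ H.2⟩
          left_inv := fun H => Subtype.ext (smul_inv_smul g H.1)
          right_inv := fun H => Subtype.ext (inv_smul_smul g H.1) }
    · rw [if_neg h, if_neg (fun h' => h (by simpa using hDinv g⁻¹ _ h'))]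
  by_cases hR : D R
  swap
  · rw [if_neg hR, mul_zero]; exact dvd_zero _
  rw [if_pos hR, pow_two]
  have hRP : IsPGroup p R := IsPGroup.of_card hR.1
  have hnot : ¬ R ≤ P := fun h => hR.2.2 (eq_of_le_of_card_ge h (by rw [hP, hR.1]))
  refine Nat.mul_dvd_mul (horb hRP hnot) ?_
  -- inside `R`
  have hRinf : R ⊓ P = P1 := by
    refine (eq_of_le_of_card_ge (le_inf hR.2.1 hP1le) ?_).symm
    have hlt : R ⊓ P < R := lt_of_le_of_ne inf_le_left fun h => hnot (h ▸ inf_le_right)
    have h1 : Nat.card (R ⊓ P : Subgroup G) < Nat.card R :=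
      Set.ncard_lt_ncard (SetLike.coe_ssubset_coe.mpr hlt) (Set.toFinite _)
    obtain ⟨e, he⟩ := IsPGroup.iff_card.mp (hRP.to_le inf_le_left : IsPGroup p (R ⊓ P : Subgroup G))
    rw [he, hR.1, Nat.pow_lt_pow_iff_right hp.out.one_lt] at h1
    rw [he, hP1card]
    exact Nat.pow_le_pow_right hp.out.pos (by omega)
  have hRn : R ≤ normalizer (P1 : Set G) := by
    have hidx : (P1.subgroupOf R).index = p := by
      have h := (P1.subgroupOf R).card_mul_index
      rw [Nat.card_congr (subgroupOfEquivOfLe hR.2.1).toEquiv, hP1card, hR.1,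
        show n = n - 1 + 1 by omega, pow_succ] at h
      simp only [Nat.add_sub_cancel] at h
      exact Nat.eq_of_mul_eq_mul_left (pow_pos hp.out.pos _) h
    haveI := normal_of_frattini_le hRP (frattini_le_of_index_prime hRP hidx)
    exact le_normalizer_of_normal_subgroupOf hR.2.1
  have key : ∀ (B : Subgroup G), B ≤ R → R ≤ normalizer (B : Set G) → (p ^ a ∣ Nat.card B) →
      Nat.card {H : Subgroup G // (Nat.card H = p ^ a ∧ H ≤ B) ∧ R ≤ normalizer (H : Set G)} ≡ 1 [MOD p] := by
    intro B hBR hBn hd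
    letI actR := conjSubgroups R
    have hinv : ∀ (g : R) (H : Subgroup G), Nat.card H = p ^ a ∧ H ≤ B →
        Nat.card (g • H : Subgroup G) = p ^ a ∧ g • H ≤ B := fun g H h =>
      ⟨(card_map_of_injective (MulAut.conj (g : G)).injective).trans h.1,
        (map_mono h.2).trans (mem_normalizer_iff_map_conj_eq.mp (hBn g.2)).le⟩
    have h := count_fixed (K := R) hRP _ hinv
    rw [Nat.card_congr (Equiv.subtypeEquivRight
      (q := fun H : Subgroup G => (Nat.card H = p ^ a ∧ H ≤ B) ∧ R ≤ normalizer (H : Set G))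
      fun H => and_congr_right fun _ =>
        ⟨fun h g hg => mem_normalizer_iff_map_conj_eq.mpr (h ⟨g, hg⟩),
          fun h g => mem_normalizer_iff_map_conj_eq.mp (h g.2)⟩)] at h
    refine h.trans ?_
    rw [← Nat.card_congr (Equiv.subtypeSubtypeEquivSubtypeInter (fun H : Subgroup G => Nat.card H = p ^ a)
      (fun H => H ≤ B)), ← numSub_sub]
    exact card_subgroups_modEq_one hp.out hd
  have h1 := key R le_rfl le_normalizer (hR.1 ▸ pow_dvd_pow p ha.le)
  have h2 := key P1 hR.2.1 hRn (hP1card ▸ pow_dvd_pow p (by omega))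
  have hsp : Nat.card {H : Subgroup G // (Nat.card H = p ^ a ∧ H ≤ P1) ∧ R ≤ normalizer (H : Set G)} +
      Nat.card {H // F R H} =
      Nat.card {H : Subgroup G // (Nat.card H = p ^ a ∧ H ≤ R) ∧ R ≤ normalizer (H : Set G)} := by
    set Q : Subgroup G → Prop := fun H => (Nat.card H = p ^ a ∧ H ≤ R) ∧ R ≤ normalizer (H : Set G)
    rw [Nat.card_congr (Equiv.subtypeEquivRight (q := fun H => Q H ∧ H ≤ P) fun H =>
        ⟨fun h => ⟨⟨⟨h.1.1, h.1.2.trans hR.2.1⟩, h.2⟩, h.1.2.trans hP1le⟩,
          fun h => ⟨⟨h.1.1.1, hRinf ▸ le_inf h.1.1.2 h.2⟩, h.1.2⟩⟩),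
      Nat.card_congr (Equiv.subtypeEquivRight (p := fun H => F R H) (q := fun H => Q H ∧ ¬ H ≤ P) fun H =>
        ⟨fun h => ⟨⟨⟨h.1, h.2.1⟩, h.2.2.2⟩, h.2.2.1⟩, fun h => ⟨h.1.1.1, h.1.1.2, h.2, h.1.2⟩⟩),
      ← Nat.card_congr (Equiv.subtypeSubtypeEquivSubtypeInter Q (fun H => H ≤ P)),
      ← Nat.card_congr (Equiv.subtypeSubtypeEquivSubtypeInter Q (fun H => ¬ H ≤ P)),
      ← Nat.card_sum, Nat.card_congr (Equiv.sumCompl _)]
  rw [← hsp] at h1
  have h3 := h1.trans h2.symm
  rw [Nat.ModEq.comm, Nat.modEq_iff_dvd' (Nat.le_add_right _ _), Nat.add_sub_cancel_left] at h3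
  exact h3

/-- The number of subgroups of order `p ^ a`, below the order of a Sylow subgroup, modulo `p ^ 2`. -/
theorem numSub_modEq (G : Type u) [Group G] [Finite G] {a : ℕ} (hdvd : p ^ (a + 1) ∣ Nat.card G) :
    numSub G p a ≡ 1 [MOD p ^ 2] ∨ numSub G p a ≡ 1 + p [MOD p ^ 2] := by
  classical
  by_cases hp2 : p = 2
  · subst hp2
    have h : numSub G 2 a ≡ 1 [MOD 2] :=
      card_subgroups_modEq_one hp.out ((pow_dvd_pow 2 (Nat.le_succ a)).trans hdvd)
    unfold Nat.ModEq at h ⊢
    omega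
  obtain ⟨P⟩ := (inferInstance : Nonempty (Sylow p G))
  set n := (Nat.card G).factorization p
  have hP : Nat.card (P : Subgroup G) = p ^ n := P.card_eq_multiplicity
  have ha : a < n := (hp.out.pow_dvd_iff_le_factorization Nat.card_pos.ne').mp hdvd
  have hmax : ¬ p ^ (n + 1) ∣ Nat.card G := fun h =>
    absurd ((hp.out.pow_dvd_iff_le_factorization Nat.card_pos.ne').mp h) (by omega)
  have hX := sq_dvd_card_not_le (P : Subgroup G) hP hmax ha
  have hsplit : numSub G p a = numSub (P : Subgroup G) p a +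
      Nat.card {H : Subgroup G // Nat.card H = p ^ a ∧ ¬ H ≤ (P : Subgroup G)} := by
    rw [numSub_sub, ← Nat.card_congr (Equiv.subtypeSubtypeEquivSubtypeInter
      (fun H : Subgroup G => Nat.card H = p ^ a) (fun H => ¬ H ≤ (P : Subgroup G))),
      ← Nat.card_sum, Nat.card_congr (Equiv.sumCompl _)]
    rfl
  have hmod : numSub G p a ≡ numSub (P : Subgroup G) p a [MOD p ^ 2] := by
    refine ((Nat.modEq_iff_dvd' (hsplit ▸ Nat.le_add_right _ _)).mpr ?_).symm
    rw [hsplit, Nat.add_sub_cancel_left]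
    exact hX
  by_cases hc : IsCyclic (P : Subgroup G)
  · rw [numSub_cyclic hP ha.le] at hmod
    exact Or.inl hmod
  rcases Nat.eq_zero_or_pos a with rfl | ha1
  · refine Or.inl ?_
    rw [numSub, show Nat.card {H : Subgroup G // Nat.card H = p ^ 0} = 1 from
      Nat.card_eq_one_iff_exists.mpr ⟨⟨⊥, by rw [card_bot, pow_zero]⟩, fun H =>
        Subtype.ext ((card_eq_one.mp (H.2.trans (pow_zero p))))⟩]
  have h := kulakoff (p := p) n (P : Subgroup G) hP hc a ha1 ha
  rw [if_neg ?_] at h
  · refine Or.inr (hmod.trans ?_)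
    rw [← ZMod.natCast_eq_natCast_iff, Nat.cast_add, Nat.cast_one]
    exact h
  rintro ⟨-, h4⟩
  obtain ⟨e, he⟩ := (IsPGroup.of_card hP).index (commutator (P : Subgroup G))
  rw [h4] at he
  have hd : p ∣ 2 ^ 2 := by
    rcases e with _ | e
    · simp at he
    · rw [show (2 : ℕ) ^ 2 = 4 from rfl, he]; exact dvd_pow_self p e.succ_ne_zero
  exact hp2 ((Nat.prime_dvd_prime_iff_eq hp.out Nat.prime_two).mp (hp.out.dvd_of_dvd_pow hd))

end Cfsg.Agent.FGB
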