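/-
Casolo's count of the subnormalizer of a p-subgroup.
-/
import Mathlib
import Cfsg.Agent.Lib.OddLocal.TransitivityPi
import Cfsg.Agent.Lib.LocalEvenA.Core
import Cfsg.Agent.Lib.OddLocal.FitFacts
import Cfsg.Agent.Lib.Components.Subnormal

set_option autoImplicit false
set_option linter.all false

namespace Cfsg.Agent.FGB

open Subgroup
open scoped Pointwise

noncomputable section

open scoped Classical

universe u

variable {G : Type u} [Group G] [Finite G] (p : ℕ)

local instance : Fintype (Subgroup G) := Fintype.ofFinite _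
local instance : Fintype G := Fintype.ofFinite _

/-- The `g`-invariant `p`-subgroups of `X` over `L`. -/
def invP (X : Subgroup G) (g : G) (L : Subgroup G) : Finset (Subgroup G) :=
  Finset.univ.filter fun M => L ≤ M ∧ M ≤ X ∧ IsPGroup p M ∧ g ∈ normalizer (M : Set G)

theorem mem_invP {X : Subgroup G} {g : G} {L M : Subgroup G} :
    M ∈ invP p X g L ↔ L ≤ M ∧ M ≤ X ∧ IsPGroup p M ∧ g ∈ normalizer (M : Set G) := by
  simp [invP]

theorem card_lt_of_lt {L M : Subgroup G} (h : L < M) : Nat.card L < Nat.card M :=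
  lt_of_le_of_ne (Nat.le_of_dvd Nat.card_pos (card_dvd_of_le h.le)) fun e =>
    h.ne (eq_of_le_of_card_ge h.le e.ge)

/-- Coefficients summing to one over each upper interval. -/
def mu (X : Subgroup G) (g : G) (L : Subgroup G) : ℤ :=
  1 - ∑ M ∈ ((invP p X g L).filter (L < ·)).attach, mu X g M.1
termination_by Nat.card G - Nat.card L
decreasing_by
  have h := card_lt_of_lt (Finset.mem_filter.mp M.2).2
  have h2 := M.1.card_le_card_group
  omega

theorem mu_eq (X : Subgroup G) (g : G) (L : Subgroup G) :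
    mu p X g L = 1 - ∑ M ∈ (invP p X g L).filter (L < ·), mu p X g M := by
  rw [mu, Finset.sum_attach _ (fun M => mu p X g M)]

theorem sum_mu {X : Subgroup G} {g : G} {L : Subgroup G} (h : L ∈ invP p X g L) :
    ∑ M ∈ invP p X g L, mu p X g M = 1 := by
  have h1 : invP p X g L = insert L ((invP p X g L).filter (L < ·)) := by
    ext M
    simp only [Finset.mem_insert, Finset.mem_filter]
    constructor
    · intro hM
      rcases eq_or_lt_of_le ((mem_invP p).mp hM).1 with rfl | hlt
      · exact Or.inl rfl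
      · exact Or.inr ⟨hM, hlt⟩
    · rintro (rfl | ⟨hM, -⟩)
      · exact h
      · exact hM
  rw [h1, Finset.sum_insert (by simp), mu_eq]
  ring

theorem sum_mu_of_nonempty (X : Subgroup G) (g : G) (H : Subgroup G) :
    ∑ M ∈ invP p X g H, mu p X g M = if (invP p X g H).Nonempty then 1 else 0 := by
  split_ifs with hne
  · obtain ⟨K, hK, hmin⟩ := Finset.exists_minimal hne
    have hle : ∀ M ∈ invP p X g H, K ≤ M := by
      intro M hM
      obtain ⟨hHK, hKX, hKp, hKg⟩ := (mem_invP p).mp hK
      obtain ⟨hHM, hMX, hMp, hMg⟩ := (mem_invP p).mp hM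
      have hI : K ⊓ M ∈ invP p X g H := (mem_invP p).mpr ⟨le_inf hHK hHM, inf_le_left.trans hKX,
        hKp.to_le inf_le_left, mem_normalizer_iff.mpr fun x =>
          ⟨fun hx => ⟨(mem_normalizer_iff.mp hKg x).mp hx.1, (mem_normalizer_iff.mp hMg x).mp hx.2⟩,
           fun hx => ⟨(mem_normalizer_iff.mp hKg x).mpr hx.1, (mem_normalizer_iff.mp hMg x).mpr hx.2⟩⟩⟩
      exact (hmin hI inf_le_left).trans inf_le_right
    have heq : invP p X g H = invP p X g K := by
      ext M
      rw [mem_invP, mem_invP]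
      exact ⟨fun h => ⟨hle M ((mem_invP p).mpr h), h.2⟩, fun h => ⟨((mem_invP p).mp hK).1.trans h.1, h.2⟩⟩
    rw [heq]
    exact sum_mu p (heq ▸ hK)
  · rw [Finset.not_nonempty_iff_eq_empty.mp hne, Finset.sum_empty]

theorem inf_normalizer_mem {g : G} {M L : Subgroup G} (hM : g ∈ normalizer (M : Set G))
    (hL : g ∈ normalizer (L : Set G)) : g ∈ normalizer ((M ⊓ normalizer (L : Set G) : Subgroup G) : Set G) := by
  refine mem_normalizer_iff.mpr fun x =>
    ⟨fun hx => ⟨(mem_normalizer_iff.mp hM x).mp hx.1,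
      (normalizer (L : Set G)).mul_mem ((normalizer (L : Set G)).mul_mem hL hx.2) ((normalizer (L : Set G)).inv_mem hL)⟩,
     fun hx => ⟨(mem_normalizer_iff.mp hM x).mpr hx.1, ?_⟩⟩
  have h1 := (normalizer (L : Set G)).mul_mem ((normalizer (L : Set G)).mul_mem ((normalizer (L : Set G)).inv_mem hL) hx.2) hL
  have h2 : g⁻¹ * (g * x * g⁻¹) * g = x := by group
  rw [h2] at h1
  exact h1

theorem mu_local [Fact p.Prime] {X : Subgroup G} {g : G} {L : Subgroup G} (hL : L ∈ invP p X g L) :
    mu p X g L = mu p (X ⊓ normalizer (L : Set G)) g L := by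
  obtain ⟨-, hLX, hLp, hLg⟩ := (mem_invP p).mp hL
  set N := normalizer (L : Set G) with hN
  set S := (invP p X g L).filter (L < ·) with hS
  let c : Subgroup G → ℤ := fun R => ∑ M ∈ S.filter (fun M => M ⊓ N = R), mu p X g M
  have hmaps : ∀ M ∈ S, M ⊓ N ∈ (invP p (X ⊓ N) g L).filter (L < ·) := by
    intro M hM
    obtain ⟨hM, hlt⟩ := Finset.mem_filter.mp hM
    obtain ⟨hLM, hMX, hMp, hMg⟩ := (mem_invP p).mp hM
    refine Finset.mem_filter.mpr ⟨(mem_invP p).mpr ⟨le_inf hLM le_normalizer, inf_le_inf_right _ hMX,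
      hMp.to_le inf_le_left, inf_normalizer_mem hMg hLg⟩, OddLocal.lt_inf_normalizer_of_lt hMp hlt⟩
  have key : ∀ (k : ℕ) (R : Subgroup G), Nat.card G - Nat.card R = k → L < R → R ∈ invP p (X ⊓ N) g R →
      c R = mu p (X ⊓ N) g R := by
    intro k
    induction k using Nat.strong_induction_on with
    | _ k IH =>
    intro R hk hLR hR
    obtain ⟨-, hRX, hRp, hRg⟩ := (mem_invP p).mp hR
    have h1 : ∑ R' ∈ invP p (X ⊓ N) g R, c R' = 1 := by
      rw [← sum_mu p (X := X) (g := g) (L := R) ((mem_invP p).mpr ⟨le_rfl, hRX.trans inf_le_left, hRp, hRg⟩)]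
      rw [← Finset.sum_fiberwise_of_maps_to (s := invP p X g R) (g := fun M => M ⊓ N) (t := invP p (X ⊓ N) g R) (fun M hM => by
        obtain ⟨hRM, hMX, hMp, hMg⟩ := (mem_invP p).mp hM
        exact (mem_invP p).mpr ⟨le_inf hRM (hRX.trans inf_le_right), inf_le_inf_right _ hMX,
          hMp.to_le inf_le_left, inf_normalizer_mem hMg hLg⟩)]
      refine Finset.sum_congr rfl fun R' hR' => Finset.sum_congr ?_ fun _ _ => rfl
      obtain ⟨hRR', -, -, -⟩ := (mem_invP p).mp hR'
      ext M
      simp only [hS, Finset.mem_filter, mem_invP]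
      constructor
      · rintro ⟨⟨⟨hLM, hMX, hMp, hMg⟩, hlt⟩, he⟩
        exact ⟨⟨hRR'.trans (he ▸ inf_le_left), hMX, hMp, hMg⟩, he⟩
      · rintro ⟨⟨hRM, hMX, hMp, hMg⟩, he⟩
        exact ⟨⟨⟨hLR.le.trans hRM, hMX, hMp, hMg⟩, hLR.trans_le hRM⟩, he⟩
    have h2 : invP p (X ⊓ N) g R = insert R ((invP p (X ⊓ N) g R).filter (R < ·)) := by
      ext M
      simp only [Finset.mem_insert, Finset.mem_filter]
      constructor
      · intro hM
        rcases eq_or_lt_of_le ((mem_invP p).mp hM).1 with rfl | hlt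
        · exact Or.inl rfl
        · exact Or.inr ⟨hM, hlt⟩
      · rintro (rfl | ⟨hM, -⟩)
        · exact hR
        · exact hM
    rw [h2, Finset.sum_insert (by simp)] at h1
    rw [mu_eq]
    rw [Finset.sum_congr rfl (g := fun M => mu p (X ⊓ N) g M) (fun M hM => ?_)] at h1
    · linarith
    · obtain ⟨hM, hlt⟩ := Finset.mem_filter.mp hM
      obtain ⟨-, hMX, hMp, hMg⟩ := (mem_invP p).mp hM
      have hc := card_lt_of_lt hlt
      have hc2 := M.card_le_card_group
      exact IH (Nat.card G - Nat.card M) (by omega) M rfl (hLR.trans hlt) ((mem_invP p).mpr ⟨le_rfl, hMX, hMp, hMg⟩)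
  rw [mu_eq, mu_eq (p := p) (X ⊓ N)]
  congr 1
  rw [← Finset.sum_fiberwise_of_maps_to hmaps]
  refine Finset.sum_congr rfl fun R hR => ?_
  obtain ⟨hR, hlt⟩ := Finset.mem_filter.mp hR
  obtain ⟨-, hRX, hRp, hRg⟩ := (mem_invP p).mp hR
  exact key _ R rfl hlt ((mem_invP p).mpr ⟨le_rfl, hRX, hRp, hRg⟩)

/-- Maximal `p`-subgroups of `X`. -/
def IsMaxP (X Q : Subgroup G) : Prop :=
  Q ≤ X ∧ IsPGroup p Q ∧ ∀ M : Subgroup G, M ≤ X → IsPGroup p M → Q ≤ M → M = Q

/-- Total coefficient. -/
def muTotal (X L : Subgroup G) : ℤ :=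
  ∑ g ∈ Finset.univ.filter (fun g => g ∈ X ⊓ normalizer (L : Set G)), mu p X g L

/-- The `p`-subgroups of `X` over `H`. -/
def pOver (X H : Subgroup G) : Finset (Subgroup G) :=
  Finset.univ.filter fun M => H ≤ M ∧ M ≤ X ∧ IsPGroup p M

theorem sum_muTotal (X H : Subgroup G) :
    ∑ M ∈ pOver p X H, muTotal p X M = Nat.card {g : G // g ∈ X ∧ (invP p X g H).Nonempty} := by
  unfold muTotal
  rw [Finset.sum_comm' (t' := Finset.univ.filter (fun g => g ∈ X)) (s' := fun g => invP p X g H)]
  · rw [Finset.sum_congr rfl (fun g _ => sum_mu_of_nonempty p X g H), Finset.sum_boole, Finset.filter_filter,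
      Nat.card_eq_fintype_card, Fintype.card_subtype]
  · intro M g
    simp only [pOver, mem_invP, Finset.mem_filter, Finset.mem_univ, true_and, mem_inf]
    tauto

theorem isMaxP_iff [Fact p.Prime] {X Q : Subgroup G} :
    IsMaxP p X Q ↔ ∃ P : Sylow p X, (P : Subgroup X).map X.subtype = Q := by
  constructor
  · rintro ⟨hQX, hQp, hmax⟩
    obtain ⟨P, hP⟩ := (hQp.comap_subtype (H := Q) : IsPGroup p (Q.subgroupOf X)).exists_le_sylow
    refine ⟨P, hmax _ (map_subtype_le _) (P.2.map _) fun x hx => ⟨⟨x, hQX hx⟩, hP hx, rfl⟩⟩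
  · rintro ⟨P, rfl⟩
    refine ⟨map_subtype_le _, P.2.map _, fun M hMX hMp hle => le_antisymm ?_ hle⟩
    intro x hx
    have := P.3 (hMp.comap_subtype (H := M) : IsPGroup p (M.subgroupOf X)) (fun y hy => hle ⟨y, hy, rfl⟩)
    exact ⟨⟨x, hMX hx⟩, this.le hx, rfl⟩

theorem sum_card_normalizer_maxP [Fact p.Prime] (X : Subgroup G) :
    ∑ Q ∈ Finset.univ.filter (IsMaxP p X), (Nat.card (X ⊓ normalizer (Q : Set G) : Subgroup G) : ℤ)
      = Nat.card X := by
  haveI : Fintype (Sylow p X) := Fintype.ofFinite _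
  have hs : Finset.univ.filter (IsMaxP p X) = (Finset.univ : Finset (Sylow p X)).image (fun P : Sylow p X => (P : Subgroup X).map X.subtype) := by
    ext Q; simp [isMaxP_iff]
  rw [hs, Finset.sum_image (fun P _ P' _ h => Sylow.ext (map_injective X.subtype_injective h))]
  obtain ⟨P0⟩ : Nonempty (Sylow p X) := inferInstance
  have hc : ∀ P : Sylow p X, Nat.card (X ⊓ normalizer (((P : Subgroup X).map X.subtype : Subgroup G) : Set G) : Subgroup G)
      = Nat.card (normalizer ((P0 : Subgroup X) : Set X)) := by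
    intro P
    have h1 : (normalizer ((P : Subgroup X) : Set X)).map X.subtype = X ⊓ normalizer (((P : Subgroup X).map X.subtype : Subgroup G) : Set G) := by
      ext x
      constructor
      · rintro ⟨y, hy, rfl⟩
        exact ⟨y.2, le_normalizer_map X.subtype ⟨y, hy, rfl⟩⟩
      · rintro ⟨hxX, hxN⟩
        refine ⟨⟨x, hxX⟩, mem_normalizer_iff.mpr fun y => ?_, rfl⟩
        have := mem_normalizer_iff.mp hxN (y : G)
        have e : ∀ z : X, (z : G) ∈ (P : Subgroup X).map X.subtype ↔ z ∈ (P : Subgroup X) :=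
          fun z => mem_map_iff_mem X.subtype_injective
        rw [← e, ← e]
        exact this
    rw [← h1, card_map_of_injective X.subtype_injective]
    have e1 := (normalizer ((P : Subgroup X) : Set X)).card_mul_index
    have e2 := (normalizer ((P0 : Subgroup X) : Set X)).card_mul_index
    rw [← show Nat.card (Sylow p X) = (normalizer ((P : Subgroup X) : Set X)).index from Sylow.card_eq_index_normalizer P] at e1
    rw [← show Nat.card (Sylow p X) = (normalizer ((P0 : Subgroup X) : Set X)).index from Sylow.card_eq_index_normalizer P0] at e2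
    exact Nat.eq_of_mul_eq_mul_right Nat.card_pos (e1.trans e2.symm)
  rw [Finset.sum_congr rfl (fun P _ => by rw [hc P]), Finset.sum_const, Finset.card_univ, nsmul_eq_mul]
  have e2 := (normalizer ((P0 : Subgroup X) : Set X)).card_mul_index
  rw [← show Nat.card (Sylow p X) = (normalizer ((P0 : Subgroup X) : Set X)).index from Sylow.card_eq_index_normalizer P0, Nat.card_eq_fintype_card (α := Sylow p X)] at e2
  rw [← Nat.cast_mul, mul_comm, e2]

theorem muTotal_eq [Fact p.Prime] (X L : Subgroup G) (hLX : L ≤ X) (hLp : IsPGroup p L) :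
    muTotal p X L = if IsMaxP p X L then (Nat.card (X ⊓ normalizer (L : Set G) : Subgroup G) : ℤ) else 0 := by
  obtain ⟨n, hn⟩ : ∃ n, Nat.card X = n := ⟨_, rfl⟩
  induction n using Nat.strong_induction_on generalizing X L with
  | _ n IH =>
  obtain ⟨k, hk⟩ : ∃ k, Nat.card G - Nat.card L = k := ⟨_, rfl⟩
  induction k using Nat.strong_induction_on generalizing L with
  | _ k IH2 =>
  by_cases hN : X ≤ normalizer (L : Set G)
  · have hX : X ⊓ normalizer (L : Set G) = X := inf_eq_left.mpr hN
    have hcount := sum_muTotal p X L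
    have hall : Nat.card {g : G // g ∈ X ∧ (invP p X g L).Nonempty} = Nat.card X :=
      Nat.card_congr (Equiv.subtypeEquivRight fun g =>
        ⟨fun h => h.1, fun h => ⟨h, L, (mem_invP p).mpr ⟨le_rfl, hLX, hLp, hN h⟩⟩⟩)
    rw [hall] at hcount
    have hins : pOver p X L = insert L ((pOver p X L).filter (L < ·)) := by
      ext M
      simp only [Finset.mem_insert, Finset.mem_filter, pOver, Finset.mem_univ, true_and]
      constructor
      · intro hM
        rcases eq_or_lt_of_le hM.1 with rfl | hlt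
        · exact Or.inl rfl
        · exact Or.inr ⟨hM, hlt⟩
      · rintro (rfl | ⟨hM, -⟩)
        · exact ⟨le_rfl, hLX, hLp⟩
        · exact hM
    rw [hins, Finset.sum_insert (by simp)] at hcount
    rw [Finset.sum_congr rfl (g := fun M => if IsMaxP p X M then (Nat.card (X ⊓ normalizer (M : Set G) : Subgroup G) : ℤ) else 0)
      (fun M hM => ?_), ← Finset.sum_filter] at hcount
    swap
    · obtain ⟨hM, hlt⟩ := Finset.mem_filter.mp hM
      obtain ⟨-, hMX, hMp⟩ := (Finset.mem_filter.mp hM).2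
      have hc := card_lt_of_lt hlt
      have hc2 := M.card_le_card_group
      exact IH2 (Nat.card G - Nat.card M) (by omega) M hMX hMp rfl
    rw [hX]
    by_cases hmax : IsMaxP p X L
    · rw [if_pos hmax]
      rw [Finset.sum_eq_zero (fun M hM => ?_), add_zero] at hcount
      · exact hcount
      · obtain ⟨hM, -⟩ := Finset.mem_filter.mp hM
        obtain ⟨hM, hlt⟩ := Finset.mem_filter.mp hM
        obtain ⟨hLM, hMX, hMp⟩ := (Finset.mem_filter.mp hM).2
        exact absurd (hmax.2.2 M hMX hMp hLM) hlt.ne'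
    · rw [if_neg hmax]
      have hset : ((pOver p X L).filter (L < ·)).filter (fun M => IsMaxP p X M) = Finset.univ.filter (IsMaxP p X) := by
        ext M
        simp only [Finset.mem_filter, pOver, Finset.mem_univ, true_and]
        refine ⟨fun h => h.2, fun h => ?_⟩
        have hsup : IsPGroup p (L ⊔ M : Subgroup G) :=
          hLp.to_sup_of_normal_left' h.2.1 (h.1.trans hN)
        have hle : L ≤ M := (h.2.2 _ (sup_le hLX h.1) hsup le_sup_right) ▸ le_sup_left
        exact ⟨⟨⟨hle, h.1, h.2.1⟩, lt_of_le_of_ne hle fun e => hmax (e ▸ h)⟩, h⟩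
      rw [hset, sum_card_normalizer_maxP] at hcount
      linarith
  · set X' := X ⊓ normalizer (L : Set G) with hX'
    have hlt : X' < X := lt_of_le_not_ge inf_le_left fun h => hN (h.trans inf_le_right)
    have hLX' : L ≤ X' := le_inf hLX le_normalizer
    have hidem : X' ⊓ normalizer (L : Set G) = X' := inf_eq_left.mpr inf_le_right
    have heq : muTotal p X L = muTotal p X' L := by
      unfold muTotal
      rw [hidem]
      refine Finset.sum_congr rfl fun g hg => ?_
      exact mu_local p ((mem_invP p).mpr ⟨le_rfl, hLX, hLp, (Finset.mem_filter.mp hg).2.2⟩)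
    rw [heq, IH (Nat.card X') (hn ▸ card_lt_of_lt hlt) X' L hLX' hLp rfl, hidem]
    have hiff : IsMaxP p X' L ↔ IsMaxP p X L := by
      constructor
      · intro h
        refine ⟨hLX, hLp, fun M hMX hMp hle => ?_⟩
        by_contra hne
        have h1 := OddLocal.lt_inf_normalizer_of_lt hMp (lt_of_le_of_ne hle (Ne.symm hne))
        exact h1.ne' (h.2.2 _ (inf_le_inf_right _ hMX) (hMp.to_le inf_le_left) h1.le)
      · exact fun h => ⟨hLX', hLp, fun M hMX hMp hle => h.2.2 M (hMX.trans inf_le_left) hMp hle⟩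
    rw [if_congr hiff rfl rfl]

theorem card_normalizing_overgroup [Fact p.Prime] (H : Subgroup G) (hH : IsPGroup p H) (P : Sylow p G) :
    Nat.card {g : G // ∃ M : Subgroup G, H ≤ M ∧ IsPGroup p M ∧ g ∈ normalizer (M : Set G)}
      = Nat.card {Q : Sylow p G // H ≤ (Q : Subgroup G)} * Nat.card (normalizer ((P : Subgroup G) : Set G)) := by
  haveI : Fintype (Sylow p G) := Fintype.ofFinite _
  have h := sum_muTotal p ⊤ H
  rw [Finset.sum_congr rfl (fun M hM => muTotal_eq p ⊤ M le_top (Finset.mem_filter.mp hM).2.2.2), ← Finset.sum_filter] at h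
  have hset : (pOver p ⊤ H).filter (fun M => IsMaxP p ⊤ M)
      = (Finset.univ.filter fun Q : Sylow p G => H ≤ (Q : Subgroup G)).image (fun Q : Sylow p G => (Q : Subgroup G)) := by
    ext M
    simp only [Finset.mem_filter, pOver, Finset.mem_univ, true_and, Finset.mem_image]
    constructor
    · rintro ⟨⟨hHM, -, -⟩, -, hMp, hmax⟩
      obtain ⟨Q, hQ⟩ := hMp.exists_le_sylow
      exact ⟨Q, hHM.trans hQ, hmax _ le_top Q.2 hQ⟩
    · rintro ⟨Q, hQ, rfl⟩
      exact ⟨⟨hQ, le_top, Q.2⟩, le_top, Q.2, fun M _ hMp hle => Q.3 hMp hle⟩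
  have hc : ∀ Q : Sylow p G, Nat.card ((⊤ : Subgroup G) ⊓ normalizer ((Q : Subgroup G) : Set G) : Subgroup G)
      = Nat.card (normalizer ((P : Subgroup G) : Set G)) := by
    intro Q
    rw [top_inf_eq]
    have e1 := (normalizer ((P : Subgroup G) : Set G)).card_mul_index
    have e2 := (normalizer ((Q : Subgroup G) : Set G)).card_mul_index
    rw [← show Nat.card (Sylow p G) = (normalizer ((P : Subgroup G) : Set G)).index from Sylow.card_eq_index_normalizer P] at e1
    rw [← show Nat.card (Sylow p G) = (normalizer ((Q : Subgroup G) : Set G)).index from Sylow.card_eq_index_normalizer Q] at e2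
    exact Nat.eq_of_mul_eq_mul_right Nat.card_pos (e2.trans e1.symm)
  rw [hset, Finset.sum_image (fun a _ b _ h => Sylow.ext h), Finset.sum_congr rfl (fun Q _ => by rw [hc Q]),
    Finset.sum_const, nsmul_eq_mul, ← Nat.cast_mul, Nat.cast_inj] at h
  have hQc : Nat.card {Q : Sylow p G // H ≤ (Q : Subgroup G)} = (Finset.univ.filter fun Q : Sylow p G => H ≤ (Q : Subgroup G)).card := by
    rw [Nat.card_eq_fintype_card, Fintype.card_subtype]
  rw [hQc, h]
  refine Nat.card_congr (Equiv.subtypeEquivRight fun g => ?_)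
  constructor
  · rintro ⟨M, h1, h2, h3⟩
    exact ⟨mem_top g, M, (mem_invP p).mpr ⟨h1, le_top, h2, h3⟩⟩
  · rintro ⟨-, M, hM⟩
    obtain ⟨h1, -, h2, h3⟩ := (mem_invP p).mp hM
    exact ⟨M, h1, h2, h3⟩

theorem subnormal_in_sup_iff [Fact p.Prime] (H : Subgroup G) (hH : IsPGroup p H) (g : G) :
    (H.subgroupOf (H ⊔ zpowers g)).IsSubnormal ↔
      ∃ M : Subgroup G, H ≤ M ∧ IsPGroup p M ∧ g ∈ normalizer (M : Set G) := by
  set J := H ⊔ zpowers g with hJ
  have hgJ : g ∈ J := mem_sup_right (mem_zpowers g)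
  constructor
  · intro h
    have hle := LocalEvenA.subnormal_le_pCore (p := p) h (hH.of_equiv (subgroupOfEquivOfLe le_sup_left).symm)
    refine ⟨(Cfsg.pCore p J).map J.subtype, fun x hx => ⟨⟨x, mem_sup_left hx⟩, hle hx, rfl⟩,
      (LocalEvenA.pCore_isPGroup' p _).map _, ?_⟩
    haveI := LocalEvenA.pCore_characteristic' p J
    exact le_normalizer_map J.subtype ⟨⟨g, hgJ⟩, normalizer_eq_top (H := Cfsg.pCore p J) ▸ mem_top _, rfl⟩
  · rintro ⟨M, hHM, hMp, hgM⟩
    set M0 := M.subgroupOf J with hM0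
    haveI hn : M0.Normal := by
      rw [← normalizer_eq_top_iff, eq_top_iff]
      intro x _
      have hJN : J ≤ normalizer (M : Set G) := sup_le (hHM.trans le_normalizer) (zpowers_le.mpr hgM)
      exact mem_normalizer_iff.mpr fun y => mem_normalizer_iff.mp (hJN x.2) (y : G)
    haveI : Group.IsNilpotent M0 := (hMp.comap_subtype (H := M) : IsPGroup p M0).isNilpotent
    have h1 := OddLocal.isSubnormal_of_isNilpotent ((H.subgroupOf J).subgroupOf M0)
    have hle : H.subgroupOf J ≤ M0 := fun x hx => hHM hx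
    have h2 := (Components.isSubnormal_map_subtype_iff hn.isSubnormal _).mpr h1
    rwa [map_subgroupOf_eq_of_le hle] at h2

theorem card_sylow_mul_normalizer [Fact p.Prime] (H : Subgroup G) (P : Sylow p G) :
    Nat.card {Q : Sylow p G // H ≤ (Q : Subgroup G)} * Nat.card (normalizer ((P : Subgroup G) : Set G)) =
      Nat.card {K : Subgroup G // K ≤ (P : Subgroup G) ∧ ∃ g : G, K = H.map (MulAut.conj g).toMonoidHom} *
        Nat.card (normalizer (H : Set G)) := by
  haveI : Fintype (Sylow p G) := Fintype.ofFinite _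
  let c : G → Subgroup G := fun g => H.map (MulAut.conj g).toMonoidHom
  have hcomp : ∀ a b : G, c (a * b) = (c b).map (MulAut.conj a).toMonoidHom := by
    intro a b
    show H.map _ = (H.map _).map _
    rw [map_map]
    congr 1
    ext x
    simp [mul_assoc]
  have hsm : ∀ (t : G) (Q : Sylow p G), ((t • Q : Sylow p G) : Subgroup G) = (Q : Subgroup G).map (MulAut.conj t).toMonoidHom := by
    intro t Q
    rw [Sylow.coe_subgroup_smul]
    rfl
  -- pairs `(g, Q)` with `g H g⁻¹ ≤ Q`
  let T := {x : G × Sylow p G // c x.1 ≤ (x.2 : Subgroup G)}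
  have hT1 : Nat.card T = Nat.card G * Nat.card {Q : Sylow p G // H ≤ (Q : Subgroup G)} := by
    rw [← Nat.card_prod]
    refine Nat.card_congr ?_
    refine ((Equiv.subtypeEquivRight fun x => ?_).trans ((Equiv.prodShear (Equiv.refl G) (fun g => MulAction.toPerm g⁻¹)).subtypeEquiv
      (q := fun x : G × Sylow p G => H ≤ (x.2 : Subgroup G)) (fun x => Iff.rfl))).trans ?_
    · show c x.1 ≤ _ ↔ H ≤ ((x.1⁻¹ • x.2 : Sylow p G) : Subgroup G)
      rw [hsm]
      constructor
      · intro h u hu
        exact ⟨x.1 * u * x.1⁻¹, h ⟨u, hu, rfl⟩, by simp [mul_assoc]⟩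
      · rintro h _ ⟨u, hu, rfl⟩
        obtain ⟨q, hq, rfl⟩ := h hu
        have e : (MulAut.conj x.1).toMonoidHom ((MulAut.conj x.1⁻¹).toMonoidHom q) = q := by simp [mul_assoc]
        rw [e]
        exact hq
    · exact { toFun := fun x => (x.1.1, ⟨x.1.2, x.2⟩), invFun := fun x => ⟨(x.1, x.2.1), x.2.2⟩,
              left_inv := fun x => rfl, right_inv := fun x => rfl }
  have hT2 : Nat.card T = Nat.card (Sylow p G) * Nat.card {g : G // c g ≤ (P : Subgroup G)} := by
    have hQ : ∀ Q : Sylow p G, Nat.card {g : G // c g ≤ (Q : Subgroup G)} = Nat.card {g : G // c g ≤ (P : Subgroup G)} := by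
      intro Q
      obtain ⟨t, rfl⟩ := MulAction.exists_smul_eq G P Q
      refine (Nat.card_congr ((Equiv.mulLeft t).subtypeEquiv fun g => ?_)).symm
      rw [Equiv.coe_mulLeft, hcomp, hsm, map_le_map_iff_of_injective (MulAut.conj t).injective]
    rw [Nat.card_congr (show T ≃ Σ Q : Sylow p G, {g : G // c g ≤ (Q : Subgroup G)} from
      { toFun := fun x => ⟨x.1.2, x.1.1, x.2⟩, invFun := fun x => ⟨(x.2.1, x.1), x.2.2⟩,
        left_inv := fun x => rfl, right_inv := fun x => rfl }), Nat.card_sigma, Finset.sum_congr rfl (fun Q _ => hQ Q),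
      Finset.sum_const, Finset.card_univ, smul_eq_mul, Nat.card_eq_fintype_card (α := Sylow p G)]
  have hT3 : Nat.card {g : G // c g ≤ (P : Subgroup G)} =
      Nat.card {K : Subgroup G // K ≤ (P : Subgroup G) ∧ ∃ g : G, K = c g} * Nat.card (normalizer (H : Set G)) := by
    let π : {g : G // c g ≤ (P : Subgroup G)} → {K : Subgroup G // K ≤ (P : Subgroup G) ∧ ∃ g : G, K = c g} :=
      fun g => ⟨c g.1, g.2, g.1, rfl⟩
    suffices hfib : ∀ K, Nat.card {g // π g = K} = Nat.card (normalizer (H : Set G)) by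
      rw [← Nat.card_congr (Equiv.sigmaFiberEquiv π), Nat.card_sigma, Finset.sum_congr rfl (fun K _ => hfib K),
        Finset.sum_const, Finset.card_univ, smul_eq_mul, ← Nat.card_eq_fintype_card]
    rintro ⟨K, hK, g0, rfl⟩
    refine Nat.card_congr
      { toFun := fun x => ⟨g0⁻¹ * x.1.1, ?_⟩
        invFun := fun u => ⟨⟨g0 * u.1, ?_⟩, ?_⟩
        left_inv := fun x => by simp
        right_inv := fun u => by simp }
    · have hx : c x.1.1 = c g0 := congrArg Subtype.val x.2
      rw [mem_normalizer_iff_map_conj_eq]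
      show c (g0⁻¹ * x.1.1) = H
      rw [hcomp, hx, ← hcomp, inv_mul_cancel]
      ext u
      simp [c]
    · have hu : c u.1 = H := mem_normalizer_iff_map_conj_eq.mp u.2
      rw [hcomp, hu]; exact hK
    · have hu : c u.1 = H := mem_normalizer_iff_map_conj_eq.mp u.2
      exact Subtype.ext (show c (g0 * u.1) = c g0 by rw [hcomp, hu])
  have e1 := (normalizer ((P : Subgroup G) : Set G)).card_mul_index
  rw [← show Nat.card (Sylow p G) = (normalizer ((P : Subgroup G) : Set G)).index from Sylow.card_eq_index_normalizer P] at e1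
  have h := hT1.symm.trans hT2
  rw [hT3, ← e1] at h
  refine Nat.eq_of_mul_eq_mul_left (Nat.card_pos (α := Sylow p G)) ?_
  rw [← h]
  ring

end

end Cfsg.Agent.FGB
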