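/-
The subnormalizer count along a chain with p- and p'-factors.
-/
import Mathlib
import Cfsg.Agent.Lib.FGB.Subnormalizer

set_option autoImplicit false
set_option linter.all false

namespace Cfsg.Agent.FGB

open Subgroup
open scoped Pointwise

universe u

variable {G : Type u} [Group G] [Finite G] (p : ℕ)

/-- Elements normalizing an overgroup of `H` that is a `p`-group modulo `K`. -/
def OverP (H K : Subgroup G) (g : G) : Prop :=
  ∃ R : Subgroup G, H ≤ R ∧ K ≤ R ∧ g ∈ normalizer (R : Set G) ∧ ∃ m, K.relIndex R = p ^ m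

theorem overP_bot [Fact p.Prime] (H : Subgroup G) (g : G) :
    OverP p H ⊥ g ↔ ∃ M : Subgroup G, H ≤ M ∧ IsPGroup p M ∧ g ∈ normalizer (M : Set G) := by
  constructor
  · rintro ⟨R, h1, -, h2, m, hm⟩
    rw [relIndex_bot_left] at hm
    exact ⟨R, h1, IsPGroup.of_card hm, h2⟩
  · rintro ⟨R, h1, h2, h3⟩
    exact ⟨R, h1, bot_le, h3, by rw [relIndex_bot_left]; exact IsPGroup.iff_card.mp h2⟩

theorem overP_mk_iff (H : Subgroup G) {K L : Subgroup G} [K.Normal] (hKL : K ≤ L) (g : G) :
    OverP p H L g ↔ OverP p (H.map (QuotientGroup.mk' K)) (L.map (QuotientGroup.mk' K)) (QuotientGroup.mk' K g) := by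
  set π := QuotientGroup.mk' K with hπ
  have hsurj : Function.Surjective π := QuotientGroup.mk'_surjective K
  have hker : π.ker = K := QuotientGroup.ker_mk' K
  have hcm : ∀ R : Subgroup G, K ≤ R → (R.map π).comap π = R := fun R hR => by
    rw [comap_map_eq_self (hker.symm ▸ hR)]
  constructor
  · rintro ⟨R, h1, h2, h3, m, hm⟩
    refine ⟨R.map π, map_mono h1, map_mono h2, le_normalizer_map π ⟨g, h3, rfl⟩, m, ?_⟩
    rw [← relIndex_comap, hcm L hKL]
    exact hm
  · rintro ⟨S, h1, h2, h3, m, hm⟩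
    refine ⟨S.comap π, map_le_iff_le_comap.mp h1, map_le_iff_le_comap.mp h2, ?_, m, ?_⟩
    · refine mem_normalizer_iff.mpr fun x => ?_
      rw [mem_comap, mem_comap, map_mul, map_mul, map_inv]
      exact mem_normalizer_iff.mp h3 _
    · rw [← hcm L hKL, relIndex_comap, map_comap_eq_self_of_surjective hsurj]
      exact hm

theorem card_overP_mk (H : Subgroup G) {K L : Subgroup G} [K.Normal] (hKL : K ≤ L) :
    Nat.card {g : G // OverP p H L g} = Nat.card K *
      Nat.card {x : G ⧸ K // OverP p (H.map (QuotientGroup.mk' K)) (L.map (QuotientGroup.mk' K)) x} := by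
  let e0 := Subgroup.groupEquivQuotientProdSubgroup (s := K)
  rw [mul_comm, ← Nat.card_prod]
  refine Nat.card_congr ((e0.subtypeEquiv (q := fun z : (G ⧸ K) × K =>
    OverP p (H.map (QuotientGroup.mk' K)) (L.map (QuotientGroup.mk' K)) z.1) fun g => ?_).trans
    { toFun := fun z => (⟨z.1.1, z.2⟩, z.1.2), invFun := fun z => ⟨(z.1.1, z.2), z.1.2⟩,
      left_inv := fun z => rfl, right_inv := fun z => rfl })
  exact overP_mk_iff p H hKL g

variable [Fact p.Prime]

theorem map_subtype_sylow_card {P Q : Sylow p G} (M : Subgroup G) [M.Normal] :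
    Nat.card (M ⊓ normalizer ((P : Subgroup G) : Set G) : Subgroup G) =
      Nat.card (M ⊓ normalizer ((Q : Subgroup G) : Set G) : Subgroup G) := by
  obtain ⟨t, rfl⟩ := MulAction.exists_smul_eq G P Q
  rw [Sylow.coe_subgroup_smul]
  refine Nat.card_congr ((MulAut.conj t).toEquiv.subtypeEquiv fun x => ?_)
  rw [mem_inf, mem_inf, mem_normalizer_iff, mem_normalizer_iff]
  show _ ↔ t * x * t⁻¹ ∈ M ∧ _
  refine and_congr ⟨fun h => (inferInstance : M.Normal).conj_mem x h t, fun h => ?_⟩ ⟨fun h u => ?_, fun h u => ?_⟩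
  · have := (inferInstance : M.Normal).conj_mem _ h t⁻¹
    simpa [mul_assoc] using this
  · rw [Subgroup.mem_pointwise_smul_iff_inv_smul_mem, Subgroup.mem_pointwise_smul_iff_inv_smul_mem]
    have := h (t⁻¹ * u * t)
    simpa [MulAut.smul_def, mul_assoc] using this
  · have := h (t * u * t⁻¹)
    rw [Subgroup.mem_pointwise_smul_iff_inv_smul_mem, Subgroup.mem_pointwise_smul_iff_inv_smul_mem] at this
    simpa [MulAut.smul_def, mul_assoc] using this

theorem card_overP_pPrime (H : Subgroup G) (hH : IsPGroup p H) (M : Subgroup G) [M.Normal]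
    (hM : (Nat.card M).Coprime p) :
    Nat.card {g : G // OverP p H ⊥ g} * Nat.card M =
      Nat.card {g : G // OverP p H M g} * Nat.card (M ⊓ centralizer (H : Set G) : Subgroup G) := by
  classical
  set π := QuotientGroup.mk' M with hπ
  have hsurj : Function.Surjective π := QuotientGroup.mk'_surjective M
  obtain ⟨P⟩ : Nonempty (Sylow p G) := inferInstance
  set Pb := P.mapSurjective hsurj with hPb
  rw [Nat.card_congr (Equiv.subtypeEquivRight (overP_bot p H)), card_normalizing_overgroup p H hH P,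
    card_overP_mk p H (le_refl M)]
  have hbot : M.map π = ⊥ := by rw [Subgroup.map_eq_bot_iff, hπ, QuotientGroup.ker_mk']
  rw [hbot, Nat.card_congr (Equiv.subtypeEquivRight (overP_bot p (H.map π))),
    card_normalizing_overgroup p (H.map π) (hH.map π) Pb]
  -- normalizers
  have hdisj : ∀ Q : Sylow p G, (Q : Subgroup G) ⊓ M = ⊥ := by
    intro Q
    rw [eq_bot_iff]
    rintro x ⟨hxQ, hxM⟩
    obtain ⟨k, hk⟩ := IsPGroup.iff_orderOf.mp Q.2 ⟨x, hxQ⟩
    rw [Subgroup.orderOf_mk] at hk
    have h1 : (orderOf x).Coprime (p ^ k) :=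
      Nat.Coprime.pow_right k (hM.coprime_dvd_left (by
        rw [← Nat.card_zpowers]; exact card_dvd_of_le (zpowers_le.mpr hxM)))
    rw [← hk, Nat.coprime_self] at h1
    exact mem_bot.mpr (orderOf_eq_one_iff.mp h1)
  have hNmap : (normalizer ((P : Subgroup G) : Set G)).map π = normalizer ((Pb : Subgroup (G ⧸ M)) : Set (G ⧸ M)) := by
    refine le_antisymm (le_normalizer_map π) fun y hy => ?_
    obtain ⟨x, rfl⟩ := hsurj y
    have hfix : (π x) • Pb = Pb := Sylow.smul_eq_iff_mem_normalizer.mpr hy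
    set X := (Pb : Subgroup (G ⧸ M)).comap π with hX
    have hxX : ∀ u, u ∈ X ↔ x * u * x⁻¹ ∈ X := fun u => by
      rw [hX, mem_comap, mem_comap, map_mul, map_mul, map_inv]
      exact mem_normalizer_iff.mp hy _
    have hPX : (P : Subgroup G) ≤ X := map_le_iff_le_comap.mp le_rfl
    have hxP : ((x • P : Sylow p G) : Subgroup G) ≤ X := by
      rw [Sylow.coe_subgroup_smul]
      rintro _ ⟨u, hu, rfl⟩
      exact (hxX u).mp (hPX hu)
    obtain ⟨⟨z, hz⟩, hzz⟩ := MulAction.exists_smul_eq X ((x • P).subtype hxP) (P.subtype hPX)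
    rw [Sylow.smul_subtype] at hzz
    have h1 : (z * x) • P = P := by
      rw [mul_smul]
      exact Sylow.subtype_injective hzz
    have h2 : z * x ∈ normalizer ((P : Subgroup G) : Set G) := Sylow.smul_eq_iff_mem_normalizer.mp h1
    obtain ⟨q, hq, hqz⟩ : ∃ q ∈ (P : Subgroup G), π q = π z := hz
    have h3 : q⁻¹ * (z * x) ∈ normalizer ((P : Subgroup G) : Set G) :=
      mul_mem (inv_mem (le_normalizer hq)) h2
    refine ⟨_, h3, ?_⟩
    rw [map_mul, map_mul, map_inv, hqz, inv_mul_cancel_left]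
  have hN : Nat.card (normalizer ((P : Subgroup G) : Set G)) =
      Nat.card (normalizer ((Pb : Subgroup (G ⧸ M)) : Set (G ⧸ M))) * Nat.card (M ⊓ normalizer ((P : Subgroup G) : Set G) : Subgroup G) := by
    have h1 := (π.comp (normalizer ((P : Subgroup G) : Set G)).subtype).ker.card_mul_index
    rw [index_ker, MonoidHom.range_comp, range_subtype, hNmap, ← MonoidHom.comap_ker, hπ, QuotientGroup.ker_mk'] at h1
    rw [← h1, mul_comm]
    congr 1
    rw [← Nat.card_congr (subgroupOfEquivOfLe (inf_le_right : M ⊓ normalizer ((P : Subgroup G) : Set G) ≤ _)).toEquiv,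
      inf_subgroupOf_right]
    rfl
  -- Sylow subgroups over a given one modulo `M`
  have hlam : Nat.card {Q : Sylow p G // H ≤ (Q : Subgroup G)} * Nat.card (M ⊓ normalizer ((P : Subgroup G) : Set G) : Subgroup G) =
      Nat.card {Qb : Sylow p (G ⧸ M) // H.map π ≤ (Qb : Subgroup (G ⧸ M))} * Nat.card (M ⊓ centralizer (H : Set G) : Subgroup G) := by
    haveI : Fintype {Qb : Sylow p (G ⧸ M) // H.map π ≤ (Qb : Subgroup (G ⧸ M))} := Fintype.ofFinite _
    let Φ : {Q : Sylow p G // H ≤ (Q : Subgroup G)} → {Qb : Sylow p (G ⧸ M) // H.map π ≤ (Qb : Subgroup (G ⧸ M))} :=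
      fun Q => ⟨Q.1.mapSurjective hsurj, map_mono Q.2⟩
    rw [← Nat.card_congr (Equiv.sigmaFiberEquiv Φ), Nat.card_sigma, Finset.sum_mul,
      Finset.sum_congr rfl (g := fun _ => Nat.card (M ⊓ centralizer (H : Set G) : Subgroup G)) (fun Qb _ => ?_),
      Finset.sum_const, Finset.card_univ, smul_eq_mul, Nat.card_eq_fintype_card (α := {Qb : Sylow p (G ⧸ M) // H.map π ≤ (Qb : Subgroup (G ⧸ M))})]
    obtain ⟨Qb, hQb⟩ := Qb
    -- a member of the fibre
    obtain ⟨Q1, hQ1⟩ := Sylow.mapSurjective_surjective (f := π) hsurj p Qb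
    have hHX : H ≤ (Qb : Subgroup (G ⧸ M)).comap π := map_le_iff_le_comap.mp hQb
    set X := (Qb : Subgroup (G ⧸ M)).comap π with hX
    have hQ1X : (Q1 : Subgroup G) ≤ X := map_le_iff_le_comap.mp (le_of_eq (congrArg (fun S : Sylow p (G ⧸ M) => (S : Subgroup (G ⧸ M))) hQ1))
    have hover : ∀ {Q : Sylow p G}, (Q : Subgroup G) ≤ X → Q.mapSurjective hsurj = Qb := fun {Q} hQ =>
      Sylow.ext ((Q.mapSurjective hsurj).3 Qb.2 (map_le_iff_le_comap.mpr hQ)).symm
    obtain ⟨S, hS⟩ := (hH.comap_subtype (H := H) : IsPGroup p (H.subgroupOf X)).exists_le_sylow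
    obtain ⟨t, ht⟩ := MulAction.exists_smul_eq X (Q1.subtype hQ1X) S
    rw [Sylow.smul_subtype] at ht
    set Q0 : Sylow p G := (t : G) • Q1 with hQ0
    have hHQ0 : H ≤ (Q0 : Subgroup G) := fun h hh => by
      have h1 : (⟨h, hHX hh⟩ : X) ∈ (S : Subgroup X) := hS hh
      rw [← ht] at h1
      exact h1
    have hQ0X : (Q0 : Subgroup G) ≤ X := by
      rw [hQ0, Sylow.coe_subgroup_smul]
      rintro _ ⟨u, hu, rfl⟩
      exact mul_mem (mul_mem t.2 (hQ1X hu)) (inv_mem t.2)
    set C := (M ⊓ centralizer (H : Set G) : Subgroup G) with hC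
    have hfib : ∀ Q : Sylow p G, (H ≤ (Q : Subgroup G) ∧ Q.mapSurjective hsurj = Qb) ↔ Q ∈ MulAction.orbit C Q0 := by
      intro Q
      constructor
      · rintro ⟨hHQ, hQ⟩
        have hQX : (Q : Subgroup G) ≤ X := map_le_iff_le_comap.mp (le_of_eq (congrArg (fun S : Sylow p (G ⧸ M) => (S : Subgroup (G ⧸ M))) hQ))
        obtain ⟨⟨z, hz⟩, hzz⟩ := MulAction.exists_smul_eq X (Q0.subtype hQ0X) (Q.subtype hQX)
        rw [Sylow.smul_subtype] at hzz
        have hzQ : z • Q0 = Q := Sylow.subtype_injective hzz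
        obtain ⟨q, hq, hqz⟩ : ∃ q ∈ (Q0 : Subgroup G), π q = π z := by
          have h1 : π z ∈ ((Q0.mapSurjective hsurj : Sylow p (G ⧸ M)) : Subgroup (G ⧸ M)) := by rw [hover hQ0X]; exact hz
          exact h1
        set m := z * q⁻¹ with hm
        have hmM : m ∈ M := by
          rw [← QuotientGroup.eq_one_iff]
          show π m = 1
          rw [hm, map_mul, map_inv, hqz, mul_inv_cancel]
        have hmQ : m • Q0 = Q := by
          rw [hm, mul_smul, Sylow.smul_eq_iff_mem_normalizer.mpr (inv_mem (le_normalizer hq))]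
          exact hzQ
        have hmC : m ∈ centralizer (H : Set G) := by
          rw [mem_centralizer_iff]
          intro h hh
          have h1 : m * h * m⁻¹ ∈ (Q : Subgroup G) := by
            rw [← hmQ, Sylow.coe_subgroup_smul]
            exact ⟨h, hHQ0 hh, rfl⟩
          have h2 : h⁻¹ * (m * h * m⁻¹) ∈ M := by
            rw [show h⁻¹ * (m * h * m⁻¹) = (h⁻¹ * m * h) * m⁻¹ by group]
            refine mul_mem ?_ (inv_mem hmM)
            have := (inferInstance : M.Normal).conj_mem m hmM h⁻¹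
            rwa [inv_inv] at this
          have h3 : h⁻¹ * (m * h * m⁻¹) ∈ (Q : Subgroup G) ⊓ M := ⟨(Q : Subgroup G).mul_mem ((Q : Subgroup G).inv_mem (hHQ hh)) h1, h2⟩
          rw [hdisj Q, mem_bot, inv_mul_eq_one] at h3
          calc h * m = (m * h * m⁻¹) * m := by rw [← h3]
            _ = m * h := by group
        exact ⟨⟨m, hmM, hmC⟩, hmQ⟩
      · rintro ⟨⟨c, hcM, hcC⟩, rfl⟩
        have hle : ((c • Q0 : Sylow p G) : Subgroup G) ≤ X := by
          rw [Sylow.coe_subgroup_smul]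
          rintro _ ⟨u, hu, rfl⟩
          have hcX : c ∈ X := by
            show π c ∈ (Qb : Subgroup (G ⧸ M))
            rw [show π c = 1 from (QuotientGroup.eq_one_iff c).mpr hcM]
            exact one_mem _
          exact mul_mem (mul_mem hcX (hQ0X hu)) (inv_mem hcX)
        refine ⟨fun h hh => ?_, hover hle⟩
        show h ∈ ((c • Q0 : Sylow p G) : Subgroup G)
        rw [Sylow.coe_subgroup_smul]
        refine ⟨h, hHQ0 hh, ?_⟩
        show c * h * c⁻¹ = h
        rw [← mem_centralizer_iff.mp hcC h hh, mul_inv_cancel_right]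
    have e : {Q : {Q : Sylow p G // H ≤ (Q : Subgroup G)} // Φ Q = ⟨Qb, hQb⟩} ≃ MulAction.orbit C Q0 :=
      { toFun := fun Q => ⟨Q.1.1, (hfib _).mp ⟨Q.1.2, congrArg Subtype.val Q.2⟩⟩
        invFun := fun Q => ⟨⟨Q.1, ((hfib _).mpr Q.2).1⟩, Subtype.ext ((hfib _).mpr Q.2).2⟩
        left_inv := fun Q => rfl
        right_inv := fun Q => rfl }
    rw [Nat.card_congr e, map_subtype_sylow_card p (P := P) (Q := Q0) M]
    have hstab : Nat.card (MulAction.stabilizer C Q0) = Nat.card (M ⊓ normalizer ((Q0 : Subgroup G) : Set G) : Subgroup G) := by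
      refine Nat.card_congr
        { toFun := fun c => ⟨c.1.1, c.1.2.1, Sylow.smul_eq_iff_mem_normalizer.mp c.2⟩
          invFun := fun m => ⟨⟨m.1, m.2.1, ?_⟩, Sylow.smul_eq_iff_mem_normalizer.mpr m.2.2⟩
          left_inv := fun c => rfl
          right_inv := fun m => rfl }
      refine mem_centralizer_iff.mpr fun h hh => ?_
      obtain ⟨m, hmM, hmN⟩ := m
      have h1 : (m * h * m⁻¹) * h⁻¹ ∈ (Q0 : Subgroup G) ⊓ M := by
        refine ⟨(Q0 : Subgroup G).mul_mem ((mem_normalizer_iff.mp hmN h).mp (hHQ0 hh)) ((Q0 : Subgroup G).inv_mem (hHQ0 hh)), ?_⟩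
        rw [show m * h * m⁻¹ * h⁻¹ = m * (h * m⁻¹ * h⁻¹) by group]
        exact mul_mem hmM ((inferInstance : M.Normal).conj_mem _ (inv_mem hmM) h)
      rw [hdisj Q0, mem_bot, mul_inv_eq_one, mul_inv_eq_iff_eq_mul] at h1
      exact h1.symm
    rw [← hstab, ← Nat.card_prod, Nat.card_congr (MulAction.orbitProdStabilizerEquivGroup C Q0)]
  rw [hN]
  calc Nat.card {Q : Sylow p G // H ≤ (Q : Subgroup G)} *
        (Nat.card (normalizer ((Pb : Subgroup (G ⧸ M)) : Set (G ⧸ M))) * Nat.card (M ⊓ normalizer ((P : Subgroup G) : Set G) : Subgroup G)) * Nat.card M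
      = (Nat.card {Q : Sylow p G // H ≤ (Q : Subgroup G)} * Nat.card (M ⊓ normalizer ((P : Subgroup G) : Set G) : Subgroup G))
          * Nat.card (normalizer ((Pb : Subgroup (G ⧸ M)) : Set (G ⧸ M))) * Nat.card M := by ring
    _ = _ := by rw [hlam]; ring

omit [Fact p.Prime] in
theorem telescope : ∀ (n : ℕ) (f : Fin (n + 1) → ℕ) (a b : Fin n → ℕ),
    (∀ j, f j.castSucc * a j = f j.succ * b j) → f 0 * ∏ j, a j = f (Fin.last n) * ∏ j, b j := by
  intro n
  induction n with
  | zero => intro f a b _; simp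
  | succ n ih =>
    intro f a b h
    have h1 := ih (fun i => f i.succ) (fun j => a j.succ) (fun j => b j.succ) (fun j => by
      have := h j.succ
      rwa [← Fin.succ_castSucc] at this)
    have h0 := h 0
    rw [Fin.castSucc_zero] at h0
    rw [Fin.prod_univ_succ, Fin.prod_univ_succ, ← mul_assoc, h0]
    calc f (Fin.succ 0) * b 0 * ∏ j : Fin n, a j.succ = b 0 * (f (Fin.succ 0) * ∏ j : Fin n, a j.succ) := by ring
      _ = b 0 * (f (Fin.last n).succ * ∏ j : Fin n, b j.succ) := by rw [h1]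
      _ = _ := by rw [Fin.succ_last]; ring

end Cfsg.Agent.FGB
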