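import Mathlib
import Cfsg.Prelude.Def_SolvableStructure

set_option autoImplicit false

namespace Cfsg.Agent.FGB

universe u v

theorem isSupersolvable_of_surjective {G : Type u} {H : Type v} [Group G] [Group H] (f : G →* H)
    (hf : Function.Surjective f) (hG : Cfsg.IsSupersolvable G) : Cfsg.IsSupersolvable H := by
  obtain ⟨n, S, h0, hl, hn, hs⟩ := hG
  refine ⟨n, fun i => (S i).map f, by simp [h0], ?_, fun i => (hn i).map f hf, fun i => ?_⟩
  · show (S (Fin.last n)).map f = ⊤
    rw [hl, Subgroup.map_top_of_surjective f hf]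
  · obtain ⟨g, hg⟩ := hs i
    exact ⟨f g, by show (S _).map f = (S _).map f ⊔ _; rw [hg, Subgroup.map_sup, MonoidHom.map_zpowers]⟩

theorem exists_normal_prime_subgroup {G : Type u} [Group G] [Finite G] [Nontrivial G]
    (hG : Cfsg.IsSupersolvable G) : ∃ C : Subgroup G, C.Normal ∧ (Nat.card C).Prime := by
  obtain ⟨n, S, h0, hl, hn, hs⟩ := hG
  have : ∀ i : Fin (n + 1), S i ≠ ⊥ → ∃ C : Subgroup G, C.Normal ∧ (Nat.card C).Prime := by
    intro i
    induction i using Fin.induction with
    | zero => exact fun h => (h h0).elim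
    | succ i ih =>
      intro hne
      by_cases hb : S i.castSucc = ⊥
      · obtain ⟨g, hg⟩ := hs i
        rw [hb, bot_sup_eq] at hg
        let N := S i.succ
        haveI : IsCyclic N := by
          rw [Subgroup.isCyclic_iff_exists_zpowers_eq_top]
          exact ⟨g, hg.symm⟩
        haveI : N.Normal := hn _
        have h1 : Nat.card N ≠ 1 := fun h => hne (Subgroup.eq_bot_of_card_eq _ h)
        let q := (Nat.card N).minFac
        have hq : q.Prime := Nat.minFac_prime h1
        obtain ⟨K, hK⟩ : ∃ K : Subgroup N, Nat.card K = q := by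
          haveI := Fact.mk hq
          obtain ⟨x, hx⟩ := exists_prime_orderOf_dvd_card' (G := N) q (Nat.minFac_dvd _)
          exact ⟨Subgroup.zpowers x, by rw [Nat.card_zpowers, hx]⟩
        haveI : K.Characteristic := by
          rw [Subgroup.characteristic_iff_map_le]
          rintro φ _ ⟨x, hx, rfl⟩
          obtain ⟨m, hm⟩ := φ.toMonoidHom.map_cyclic
          rw [hm]
          exact K.zpow_mem hx m
        refine ⟨K.map N.subtype, inferInstance, ?_⟩
        rw [Subgroup.card_map_of_injective N.subtype_injective, hK]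
        exact hq
      · exact ih hb
  exact this (Fin.last n) (by rw [hl]; exact top_ne_bot)

/-- In a supersolvable group the Sylow subgroup for the largest prime is normal. -/
theorem sylow_normal_of_isSupersolvable {G : Type u} [Group G] [Finite G]
    (hG : Cfsg.IsSupersolvable G) (p : ℕ) [hp : Fact p.Prime]
    (hmax : ∀ r : ℕ, r.Prime → r ∣ Nat.card G → r ≤ p) (P : Sylow p G) :
    (P : Subgroup G).Normal := by
  suffices ∀ (n : ℕ) (G : Type u) [Group G] [Finite G], Nat.card G = n → Cfsg.IsSupersolvable G →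
      (∀ r : ℕ, r.Prime → r ∣ Nat.card G → r ≤ p) → ∀ P : Sylow p G, (P : Subgroup G).Normal from
    this _ G rfl hG hmax P
  intro n
  induction n using Nat.strong_induction_on with
  | _ n ih =>
  intro G _ _ hn hG hmax P
  rcases subsingleton_or_nontrivial G with hsub | hnt
  · rw [show (P : Subgroup G) = ⊥ from Subsingleton.elim _ _]; infer_instance
  obtain ⟨C, hC, hCp⟩ := exists_normal_prime_subgroup hG
  haveI := hC
  have hCcard : Nat.card C * Nat.card (G ⧸ C) = Nat.card G := by
    rw [mul_comm, ← Subgroup.card_eq_card_quotient_mul_card_subgroup]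
  have hlt : Nat.card (G ⧸ C) < n := by
    have := hCp.one_lt
    have : 0 < Nat.card (G ⧸ C) := Nat.card_pos
    nlinarith
  let Pb := P.mapSurjective (f := QuotientGroup.mk' C) (QuotientGroup.mk'_surjective C)
  have hPb : (Pb : Subgroup (G ⧸ C)).Normal :=
    ih _ hlt (G ⧸ C) rfl (isSupersolvable_of_surjective _ (QuotientGroup.mk'_surjective C) hG)
      (fun r hr hrd => hmax r hr (hrd.trans ⟨Nat.card C, by rw [mul_comm, hCcard]⟩)) Pb
  let K := (Pb : Subgroup (G ⧸ C)).comap (QuotientGroup.mk' C)
  haveI : K.Normal := hPb.comap _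
  have hPK : (P : Subgroup G) ≤ K := fun x hx => ⟨x, hx, rfl⟩
  let PK : Sylow p K := P.subtype hPK
  have hKcard : Nat.card K = Nat.card C * Nat.card (Pb : Subgroup (G ⧸ C)) := by
    have h1 := K.card_mul_index
    have h2 := (Pb : Subgroup (G ⧸ C)).card_mul_index
    have h3 : K.index = (Pb : Subgroup (G ⧸ C)).index :=
      Subgroup.index_comap_of_surjective _ (QuotientGroup.mk'_surjective C)
    rw [h3, ← hCcard, ← h2, ← mul_assoc] at h1
    exact Nat.eq_of_mul_eq_mul_right (Nat.pos_of_ne_zero Subgroup.index_ne_zero_of_finite) h1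
  have hsub : Subsingleton (Sylow p K) := by
    have h1 : Nat.card (Sylow p K) ∣ (PK : Subgroup K).index := Sylow.card_dvd_index PK
    have h2 : Nat.card (Sylow p K) ∣ Nat.card C := by
      obtain ⟨a, ha⟩ := IsPGroup.iff_card.mp Pb.2
      have hd : Nat.card (Sylow p K) ∣ Nat.card C * p ^ a := by
        rw [← ha, ← hKcard]; exact h1.trans (Subgroup.index_dvd_card _)
      exact (Nat.Coprime.pow_right a ((hp.out.coprime_iff_not_dvd.mpr (not_dvd_card_sylow p K)).symm)).dvd_of_dvd_mul_right hd
    rcases (Nat.dvd_prime hCp).mp h2 with h3 | h3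
    · exact (Nat.card_eq_one_iff_unique.mp h3).1
    · have hle : Nat.card C ≤ p := hmax _ hCp (Subgroup.card_subgroup_dvd_card C)
      have hmod := card_sylow_modEq_one p K
      rw [h3] at hmod
      rcases hle.lt_or_eq with hl | he
      · have hp1 := hp.out.one_lt
        rw [Nat.ModEq, Nat.mod_eq_of_lt hl, Nat.mod_eq_of_lt hp1] at hmod
        exact absurd hmod hCp.one_lt.ne'
      · exact absurd (h3 ▸ he.symm ▸ dvd_refl _ : p ∣ Nat.card (Sylow p K)) (not_dvd_card_sylow p K)
  haveI := PK.normal_of_subsingleton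
  haveI := PK.characteristic_of_normal this
  have := ConjAct.normal_of_characteristic_of_normal (H := K) (K := (PK : Subgroup K))
  rwa [show ((PK : Subgroup K).map K.subtype) = (P : Subgroup G) by
    rw [show (PK : Subgroup K) = (P : Subgroup G).subgroupOf K from rfl, Subgroup.map_subgroupOf_eq_of_le hPK]] at this

end Cfsg.Agent.FGB
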