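/-
Trivial-intersection subgroups with a complement in their normalizer.
-/
import Mathlib
import Cfsg.Prelude.Def_OddOrderLocal
import Cfsg.Prelude.Def_Solvable
import Cfsg.Agent.Lib.CT.Frobenius
import Cfsg.Agent.Lib.FGB.Basic
import Cfsg.Agent.Lib.FGB.FrobeniusTI
import Cfsg.Agent.Lib.Basics.CoprimeAction
import Cfsg.Agent.Lib.Basics.Tools

set_option autoImplicit false
set_option linter.all false

universe u

namespace Cfsg.Agent.FGB

open Cfsg.Agent.CT in
/-- A character of the normalizer of a TI set, constant off the set, extends to the whole group. -/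
theorem exists_extension_TI {G : Type u} [Group G] [Fintype G] {N : Subgroup G} {S : Set G}
    (hTI : IsTI N S) {ψ : N → ℂ} (hψ : IsIrrCharacter N ψ)
    (hker : ∀ x : N, (x : G) ∉ S → ψ x = (deg ψ : ℂ)) (hne : ψ ≠ fun _ => 1) :
    ∃ χ : G → ℂ, IsIrrCharacter G χ ∧ (∀ x : N, ((x : G) ∈ S ∨ x = 1) → χ x = ψ x) ∧
      ∀ g : G, (∀ x : G, x⁻¹ * g * x ∉ S) → χ g = χ 1 := by
  classical
  set d : ℂ := (deg ψ : ℂ) with hd
  have hψc := isCharacter_of_isIrr hψ
  have h1c : IsCharacter N (fun _ : N => d) := by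
    convert isCharacter_nsmul (deg ψ) (isCharacter_one (G := N)) using 1
    funext x; simp [hd]
  set φ : N → ℂ := ψ - fun _ => d with hφ
  have hφcf : IsClassFunction N φ :=
    isClassFunction_sub_const (isClassFunction_of_isIrr hψ) d
  have hsupp : ∀ x : N, (x : G) ∉ S → φ x = 0 := fun x hx => by simp [hφ, hker x hx, hd]
  have hφ1 : φ 1 = 0 := by simp [hφ, hd, ← deg_eq hψc]
  set χ : G → ℂ := indFun N φ + fun _ => d with hχ
  have hres : ∀ x : N, ((x : G) ∈ S ∨ x = 1) → χ x = ψ x := by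
    intro x hx
    have e : indFun N φ x = φ x := by
      by_cases h1 : x = 1
      · subst h1
        rw [OneMemClass.coe_one, indFun_one_eval, hφ1, mul_zero]
      · exact indFun_eq_on_TI hTI hφcf hsupp (hx.resolve_right h1) h1
    simp only [hχ, Pi.add_apply, e]
    simp [hφ]
  have hone : IsIrrCharacter G (fun _ : G => (1 : ℂ)) := isIrrCharacter_one
  have hgen : IsGeneralizedCharacter G χ := by
    refine isGen_add (isGen_indFun N ⟨ψ, _, hψc, h1c, rfl⟩) (isGen_of_isCharacter ?_)
    convert isCharacter_nsmul (deg ψ) (isCharacter_one (G := G)) using 1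
    funext x; simp [hd]
  have hdf : (fun _ : N => d) = d • fun _ : N => (1 : ℂ) := by funext x; simp
  have hφone : classInner φ (fun _ : N => (1 : ℂ)) = -d := by
    rw [hφ, classInner_sub_left, irr_inner_of_ne hψ isIrrCharacter_one hne, hdf,
      classInner_smul_left, irr_inner_self isIrrCharacter_one]
    ring
  have hφφ : classInner φ φ = 1 + d ^ 2 := by
    have h2 : classInner φ ψ = 1 := by
      rw [hφ, classInner_sub_left, irr_inner_self hψ, hdf, classInner_smul_left,
        irr_inner_of_ne isIrrCharacter_one hψ (fun e => hne e.symm)]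
      ring
    conv_lhs => arg 2; rw [hφ]
    rw [classInner_sub_right, h2, hdf, classInner_smul_right, hφone, hd, map_natCast]
    ring
  have hnorm : classInner χ χ = 1 := by
    have e : (fun _ : G => d) = d • fun _ : G => (1 : ℂ) := by funext x; simp
    have hαone : classInner (indFun N φ) (fun _ : G => (1 : ℂ)) = -d := by
      rw [frobenius_reciprocity N φ (isClassFunction_of_isIrr hone)]
      exact hφone
    have honeα : classInner (fun _ : G => (1 : ℂ)) (indFun N φ) = -d := by
      rw [← classInner_conj_symm, hαone, hd, map_neg, map_natCast]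
    rw [hχ, e, classInner_add_left, classInner_add_right, classInner_add_right,
      classInner_indFun_TI hTI hφcf hsupp hsupp hφ1, hφφ, classInner_smul_right,
      classInner_smul_left, classInner_smul_left, classInner_smul_right, hαone, honeα,
      irr_inner_self hone, hd, map_natCast]
    ring
  have hχ1 : χ 1 = d := by simp [hχ, indFun_one_eval, hφ1]
  refine ⟨χ, isIrr_of_isGen_norm_one hgen hnorm ?_, hres, fun g hg => ?_⟩
  · rw [hχ1, hd]
    simpa using deg_pos hψ
  · rw [hχ1]
    have h0 : indFun N φ g = 0 := by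
      have : ∀ x : G, extendByZero N φ (x⁻¹ * g * x) = 0 := by
        intro x
        by_cases hx : x⁻¹ * g * x ∈ N
        · rw [extendByZero_mem N φ hx]; exact hsupp _ (hg x)
        · rw [extendByZero_not_mem N φ hx]
      simp [indFun, this]
    simp [hχ, h0]

variable {G : Type u} [Group G] [Finite G]

/-- The order of a TI subgroup that is a Hall subgroup of its normalizer is coprime to its index. -/
theorem coprime_index_of_TI (H : Subgroup G) (hTI : Cfsg.IsTISubset (H : Set G))
    (hHall : (Nat.card H).Coprime (H.subgroupOf (Subgroup.normalizer (H : Set G))).index) :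
    (Nat.card H).Coprime H.index := by
  set NH := Subgroup.normalizer (H : Set G)
  have hHN : H ≤ NH := Subgroup.le_normalizer
  refine Nat.coprime_of_dvd fun q hq hqH hqI => ?_
  haveI := Fact.mk hq
  obtain ⟨P0⟩ := (inferInstance : Nonempty (Sylow q H))
  let P0' := (P0 : Subgroup H).map H.subtype
  obtain ⟨P, hP⟩ := (P0.2.map H.subtype).exists_le_sylow
  have hP0H : P0' ≤ H := Subgroup.map_subtype_le _
  suffices hPP : (P : Subgroup G) ≤ P0' from
    P.not_dvd_index (hqI.trans (Subgroup.index_dvd_of_le (hPP.trans hP0H)))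
  by_contra hlt
  have hP0ne : P0' ≠ ⊥ := fun h => P0.ne_bot_of_dvd_card hqH
    ((Subgroup.map_eq_bot_iff_of_injective _ H.subtype_injective).mp h)
  obtain ⟨x, hx1⟩ := P0'.ne_bot_iff_exists_ne_one.mp hP0ne
  have hnc : NormalizerCondition (P : Subgroup G) :=
    @Group.normalizerCondition_of_isNilpotent _ _ P.2.isNilpotent
  have hne : P0'.subgroupOf P < ⊤ := lt_top_iff_ne_top.mpr fun h => hlt (Subgroup.subgroupOf_eq_top.mp h)
  obtain ⟨g, hg, hgn⟩ := SetLike.exists_of_lt (hnc _ hne)
  have hgN : (g : G) ∈ NH := by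
    by_contra hgN
    refine hx1 (Subtype.ext (hTI g hgN x (hP0H x.2) (hP0H ?_)))
    exact (Subgroup.mem_normalizer_iff.mp hg ⟨(x : G), hP x.2⟩).mp x.2
  let B := (P : Subgroup G) ⊓ NH
  obtain ⟨j, hj⟩ := IsPGroup.iff_card.mp (P.2.to_le (inf_le_left : B ≤ P))
  have hdvd : q ^ j ∣ Nat.card H := by
    have h1 := Subgroup.card_dvd_of_le (inf_le_right : B ≤ NH)
    rw [hj, ← (H.subgroupOf NH).card_mul_index, Basics.card_subgroupOf hHN] at h1
    exact (Nat.Coprime.pow_left j (hq.coprime_iff_not_dvd.mpr fun hd => hq.one_lt.ne'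
      (Nat.eq_one_of_dvd_coprimes hHall hqH hd))).dvd_of_dvd_mul_right h1
  have hB : Nat.card B ≤ Nat.card P0' := by
    rw [hj, Subgroup.card_map_of_injective H.subtype_injective, P0.card_eq_multiplicity]
    exact Nat.pow_le_pow_right hq.pos
      ((Nat.Prime.pow_dvd_iff_le_factorization hq Nat.card_pos.ne').mp hdvd)
  have heq := Subgroup.eq_of_le_of_card_ge (le_inf hP (hP0H.trans hHN)) hB
  exact hgn (heq.ge ⟨g.2, hgN⟩)

open Cfsg.Agent.CT in
theorem exists_normal_complement_TI (H : Subgroup G) (hTI : Cfsg.IsTISubset (H : Set G))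
    (hHall : (Nat.card H).Coprime (H.subgroupOf (Subgroup.normalizer (H : Set G))).index)
    (K : Subgroup (Subgroup.normalizer (H : Set G))) [K.Normal]
    (hK : K.IsComplement' (H.subgroupOf (Subgroup.normalizer (H : Set G)))) :
    ∃ M : Subgroup G, M.Normal ∧ M.IsComplement' H := by
  classical
  haveI : Fintype G := Fintype.ofFinite _
  have hHN : H ≤ (Subgroup.normalizer (H : Set G)) := Subgroup.le_normalizer
  haveI : (H.subgroupOf (Subgroup.normalizer (H : Set G))).Normal := Subgroup.normal_in_normalizer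
  -- the projection onto `H`
  set emb : H →* (Subgroup.normalizer (H : Set G)) ⧸ K := (QuotientGroup.mk' K).comp (Subgroup.inclusion hHN) with hemb
  have hembinj : Function.Injective emb := by
    rw [← MonoidHom.ker_eq_bot_iff, eq_bot_iff]
    intro h hh
    have h1 : Subgroup.inclusion hHN h ∈ K := (QuotientGroup.eq_one_iff _).mp hh
    have h2 : Subgroup.inclusion hHN h ∈ (⊥ : Subgroup (Subgroup.normalizer (H : Set G))) :=
      hK.disjoint.le_bot ⟨h1, show ((Subgroup.inclusion hHN h : (Subgroup.normalizer (H : Set G))) : G) ∈ H from h.2⟩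
    have h2' : Subgroup.inclusion hHN h = 1 := Subgroup.mem_bot.mp h2
    have h3 : (h : G) = 1 := congrArg Subtype.val h2'
    exact Subgroup.mem_bot.mpr (Subtype.ext h3)
  have hcardQ : Nat.card ((Subgroup.normalizer (H : Set G)) ⧸ K) = Nat.card H := by
    rw [← Subgroup.index_eq_card, hK.symm.index_eq_card, Basics.card_subgroupOf hHN]
  have hbij := hembinj.bijective_of_nat_card_le hcardQ.le
  set eqv := MulEquiv.ofBijective emb hbij
  set π : (Subgroup.normalizer (H : Set G)) →* H := eqv.symm.toMonoidHom.comp (QuotientGroup.mk' K) with hπ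
  have hπH : ∀ h : H, π (Subgroup.inclusion hHN h) = h := fun h => eqv.symm_apply_apply h
  have hπs : Function.Surjective π := fun h => ⟨_, hπH h⟩
  have hπord : ∀ (x : (Subgroup.normalizer (H : Set G))), (orderOf (x : G)).Coprime (Nat.card H) → π x = 1 := fun x hx =>
    orderOf_eq_one_iff.mp (Nat.eq_one_of_dvd_coprimes hx
      ((orderOf_map_dvd π x).trans (dvd_of_eq (Subgroup.orderOf_coe x).symm)) (_root_.orderOf_dvd_natCard _))
  set S : Set G := {g : G | ∃ x : (Subgroup.normalizer (H : Set G)), (x : G) = g ∧ π x ≠ 1} with hS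
  -- `H`-parts
  set i := (H.subgroupOf (Subgroup.normalizer (H : Set G))).index with hi
  have hco : (Nat.card H).Coprime i := hHall
  obtain ⟨e, he1, he2⟩ := Nat.chineseRemainder hco 1 0
  have hpart : ∀ x : (Subgroup.normalizer (H : Set G)), π x ≠ 1 → (x : G) ^ e ∈ H ∧ (x : G) ^ e ≠ 1 := by
    intro x hx
    constructor
    · obtain ⟨c, hc⟩ := Nat.modEq_zero_iff_dvd.mp he2
      have h1 : x ^ i ∈ H.subgroupOf (Subgroup.normalizer (H : Set G)) := Subgroup.pow_index_mem _ x
      have h2 := pow_mem h1 c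
      rw [← pow_mul, ← hc] at h2
      exact h2
    · intro h1
      apply hx
      have h2 : x ^ e = 1 := Subtype.ext (by rw [Subgroup.coe_pow, h1]; rfl)
      have h3 : π x ^ e = π x ^ 1 :=
        pow_eq_pow_iff_modEq.mpr (he1.of_dvd (_root_.orderOf_dvd_natCard (π x)))
      rw [pow_one, ← map_pow, h2, map_one] at h3
      exact h3.symm
  have hTI' : IsTI (Subgroup.normalizer (H : Set G)) S := by
    rintro g hg s ⟨x, rfl, hx⟩ ⟨y, hy, hy1⟩
    exfalso
    obtain ⟨h1, h1'⟩ := hpart x hx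
    obtain ⟨h2, -⟩ := hpart y hy1
    rw [hy, conj_pow] at h2
    exact h1' (hTI g hg _ h1 h2)
  have hS1 : (1 : G) ∉ S := by
    rintro ⟨x, hx, hx1⟩
    exact hx1 (by rw [show x = 1 from Subtype.ext hx, map_one])
  -- the extended characters
  have hψ : ∀ ψ : {ψ : IrrCharacter H // ψ ≠ trivIrr H}, ∃ χ : G → ℂ, IsIrrCharacter G χ ∧
      (∀ h : H, χ h = (ψ.1 : H → ℂ) h) ∧ ∀ g : G, (∀ x : G, x⁻¹ * g * x ∉ S) → χ g = χ 1 := by
    intro ψ
    set Ψ : (Subgroup.normalizer (H : Set G)) → ℂ := fun x => (ψ.1 : H → ℂ) (π x) with hΨ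
    have hirr : IsIrrCharacter (Subgroup.normalizer (H : Set G)) Ψ := isIrrCharacter_comp π hπs ψ.1.2
    have hdeg : (deg Ψ : ℂ) = (ψ.1 : H → ℂ) 1 := by
      rw [← deg_eq (isCharacter_of_isIrr hirr)]
      show (ψ.1 : H → ℂ) (π 1) = _
      rw [map_one]
    obtain ⟨χ, h1, h2, h3⟩ := exists_extension_TI hTI' hirr (fun x hx => by
        have : π x = 1 := by
          by_contra hne
          exact hx ⟨x, rfl, hne⟩
        rw [hdeg, hΨ]
        show (ψ.1 : H → ℂ) (π x) = _
        rw [this])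
      (fun he => ψ.2 (Subtype.ext (funext fun h => by
        have := congrFun he (Subgroup.inclusion hHN h)
        simp only [hΨ, hπH] at this
        exact this)))
    refine ⟨χ, h1, fun h => ?_, h3⟩
    have hcase : ((Subgroup.inclusion hHN h : (Subgroup.normalizer (H : Set G))) : G) ∈ S ∨ Subgroup.inclusion hHN h = 1 := by
      rcases eq_or_ne h 1 with rfl | hh
      · exact Or.inr (map_one _)
      · exact Or.inl ⟨_, rfl, by rw [hπH]; exact hh⟩
    have := h2 _ hcase
    simp only [hΨ, hπH] at this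
    exact this
  choose F hF using hψ
  let M : Subgroup G := ⨅ ψ, kerChar (F ψ)
  have hmem : ∀ g, g ∈ M ↔ ∀ ψ, F ψ g = F ψ 1 := fun g => by
    simp only [M, Subgroup.mem_iInf]
    exact forall_congr' fun ψ => mem_kerChar_iff (isCharacter_of_isIrr (hF ψ).1)
  have hMn : M.Normal := ⟨fun g hg x => (hmem _).mpr fun ψ => by
    rw [isClassFunction_of_isIrr (hF ψ).1 g x]; exact (hmem g).mp hg ψ⟩
  have hMH : M ⊓ H = ⊥ := by
    rw [eq_bot_iff]
    intro h hh
    have hc : IsConj (⟨h, hh.2⟩ : H) 1 := isConj_iff_forall_irr.mpr fun χ => by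
      by_cases e : χ = trivIrr H
      · subst e; rfl
      · have h1 := (hmem h).mp hh.1 ⟨χ, e⟩
        rw [(hF ⟨χ, e⟩).2.1 ⟨h, hh.2⟩] at h1
        rw [h1, ← (hF ⟨χ, e⟩).2.1 1]
        rfl
    exact Subgroup.mem_bot.mpr (congrArg Subtype.val (isConj_one_left.mp hc))
  have hprime : ∀ g : G, (orderOf g).Coprime (Nat.card H) → g ∈ M := by
    intro g hg
    refine (hmem g).mpr fun ψ => (hF ψ).2.2 g fun x => ?_
    rintro ⟨y, hy, hy1⟩
    refine hy1 (hπord y ?_)
    rw [hy]
    have h0 := orderOf_injective (MulAut.conj x⁻¹).toMonoidHom (MulAut.conj x⁻¹).injective g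
    simp at h0
    rwa [h0]
  have hcoG := coprime_index_of_TI H hTI hHall
  have hdvd : H.index ∣ Nat.card M := by
    rw [← Nat.factorization_le_iff_dvd Subgroup.index_ne_zero_of_finite Nat.card_pos.ne']
    intro q
    by_cases hq : q.Prime
    swap
    · simp [Nat.factorization_eq_zero_of_not_prime _ hq]
    by_cases hqi : q ∣ H.index
    swap
    · simp [Nat.factorization_eq_zero_of_not_dvd hqi]
    haveI := Fact.mk hq
    obtain ⟨P⟩ : Nonempty (Sylow q G) := inferInstance
    have hPM : (P : Subgroup G) ≤ M := fun g hg => by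
      refine hprime g ?_
      obtain ⟨k, hk⟩ := IsPGroup.iff_orderOf.mp P.2 ⟨g, hg⟩
      rw [Subgroup.orderOf_mk] at hk
      rw [hk]
      exact Nat.Coprime.pow_left _ (hcoG.symm.coprime_dvd_left hqi)
    have h1 := Subgroup.card_dvd_of_le hPM
    rw [P.card_eq_multiplicity] at h1
    refine le_trans ?_ ((hq.pow_dvd_iff_le_factorization Nat.card_pos.ne').mp h1)
    exact (Nat.factorization_le_iff_dvd Subgroup.index_ne_zero_of_finite Nat.card_pos.ne').mpr
      (Subgroup.index_dvd_card H) q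
  have hle : Nat.card M * Nat.card H ≤ Nat.card G := by
    haveI := hMn
    have h1 := Basics.card_mul_card_eq_card_sup_mul_card_inf (N := M) (H := H) Subgroup.le_normalizer_of_normal
    rw [hMH, Subgroup.card_bot, mul_one] at h1
    exact h1.le.trans (Subgroup.card_le_card_group _)
  have hcard : Nat.card M = H.index := by
    refine le_antisymm ?_ (Nat.le_of_dvd Nat.card_pos hdvd)
    rw [← H.index_mul_card] at hle
    exact Nat.le_of_mul_le_mul_right hle Nat.card_pos
  refine ⟨M, hMn, Subgroup.isComplement'_of_coprime ?_ ?_⟩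
  · rw [hcard, H.index_mul_card]
  · rw [hcard]; exact hcoG.symm

/-- The normal complement in `N_G(H)` cut out by a normal complement in `G`. -/
theorem exists_complement_normalizer (H : Subgroup G) (M : Subgroup G) [M.Normal]
    (hM : M.IsComplement' H) :
    ∃ K : Subgroup (Subgroup.normalizer (H : Set G)), K.Normal ∧
      K.IsComplement' (H.subgroupOf (Subgroup.normalizer (H : Set G))) := by
  have hN : H ≤ Subgroup.normalizer (H : Set G) := Subgroup.le_normalizer
  refine ⟨M.subgroupOf _, inferInstance, Subgroup.isComplement'_of_disjoint_and_mul_eq_univ ?_ ?_⟩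
  · rw [disjoint_iff, eq_bot_iff]
    rintro x ⟨hx1, hx2⟩
    exact Subgroup.mem_bot.mpr (Subtype.ext (Subgroup.mem_bot.mp (hM.disjoint.le_bot ⟨hx1, hx2⟩)))
  · refine Set.eq_univ_of_forall fun x => ?_
    obtain ⟨⟨⟨m, hm⟩, ⟨h, hh⟩⟩, hmh, -⟩ := hM.existsUnique (x : G)
    have hm' : m ∈ Subgroup.normalizer (H : Set G) := by
      have : m = (x : G) * h⁻¹ := eq_mul_inv_of_mul_eq hmh
      rw [this]; exact mul_mem x.2 (inv_mem (hN hh))
    exact ⟨⟨m, hm'⟩, hm, ⟨h, hN hh⟩, hh, Subtype.ext hmh⟩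

open scoped Pointwise in
theorem exists_frobenius_of_TI (H : Subgroup G) (hTI : Cfsg.IsTISubset (H : Set G))
    (hnn : ¬ H.Normal) (M : Subgroup G) [M.Normal] (hM : M.IsComplement' H)
    (hco : (Nat.card H).Coprime (Nat.card M)) :
    ∃ (F : Type u) (_ : Group F) (_ : Finite F) (C : Subgroup F),
      Cfsg.IsFrobeniusComplement C ∧ Nonempty (H ≃* C) := by
  classical
  haveI : Fintype G := Fintype.ofFinite _
  set NH := Subgroup.normalizer (H : Set G) with hNH
  set K0 := M ⊓ NH with hK0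
  have hH1 : H ≠ ⊥ := fun h => hnn (h ▸ inferInstance)
  have hK0H : ∀ k ∈ K0, ∀ h ∈ H, Commute h k := by
    intro k hk h hh
    have h1 : h * k * h⁻¹ * k⁻¹ ∈ M := mul_mem ((inferInstance : M.Normal).conj_mem k hk.1 h) (inv_mem hk.1)
    have h2 : h * k * h⁻¹ * k⁻¹ ∈ H := by
      rw [mul_assoc h, mul_assoc h]
      exact mul_mem hh ((Subgroup.mem_normalizer_iff.mp hk.2 _).mp (inv_mem hh))
    have h3 := Subgroup.mem_bot.mp (hM.disjoint.le_bot ⟨h1, h2⟩)
    exact mul_inv_eq_iff_eq_mul.mp (mul_inv_eq_one.mp h3)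
  have hcent : ∀ h ∈ H, h ≠ 1 → M ⊓ Subgroup.centralizer ({h} : Set G) ≤ K0 := by
    intro h hh hh1 g hg
    refine ⟨hg.1, ?_⟩
    by_contra hgN
    refine hh1 (hTI g hgN h hh ?_)
    rw [Subgroup.mem_centralizer_singleton_iff.mp hg.2, mul_inv_cancel_right]
    exact hh
  obtain ⟨r, hr, hlt⟩ : ∃ r : ℕ, r.Prime ∧ (Nat.card K0).factorization r < (Nat.card M).factorization r := by
    by_contra hcon
    push Not at hcon
    have hd : Nat.card M ∣ Nat.card K0 := by
      rw [← Nat.factorization_le_iff_dvd Nat.card_pos.ne' Nat.card_pos.ne']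
      intro q
      by_cases hq : q.Prime
      · exact hcon q hq
      · simp [Nat.factorization_eq_zero_of_not_prime _ hq]
    have hMN : M ≤ NH := by
      rw [← Subgroup.eq_of_le_of_card_ge (inf_le_left : K0 ≤ M) (Nat.le_of_dvd Nat.card_pos hd)]
      exact inf_le_right
    exact hnn (Subgroup.normalizer_eq_top_iff.mp (eq_top_iff.mpr (hM.sup_eq_top.ge.trans (sup_le hMN Subgroup.le_normalizer))))
  haveI := Fact.mk hr
  have hMnorm : ∀ A : Subgroup G, A ≤ Subgroup.normalizer (M : Set G) := fun A => Subgroup.le_normalizer_of_normal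
  have hzco : ∀ h ∈ H, (Nat.card (Subgroup.zpowers h)).Coprime (Nat.card M) := fun h hh =>
    hco.coprime_dvd_left (Subgroup.card_dvd_of_le (Subgroup.zpowers_le.mpr hh))
  -- stabilizers of Sylow subgroups
  set st : Subgroup G → Subgroup H := fun R => (Subgroup.normalizer (R : Set G)).subgroupOf H with hst
  have htrans : ∀ (h : G) (R R' : Subgroup G), h ∈ H → h ≠ 1 → Basics.IsSylowIn r M R → Basics.IsSylowIn r M R' →
      h ∈ Subgroup.normalizer (R : Set G) → h ∈ Subgroup.normalizer (R' : Set G) →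
      ∃ c ∈ K0, MulAut.conj c • R = R' := by
    intro h R R' hh hh1 hR hR' hRn hR'n
    obtain ⟨c, hc, hc'⟩ := Basics.invariant_isSylowIn_conj (Subgroup.zpowers h) M (hMnorm _) (hzco h hh)
      (Or.inl inferInstance) r hR hR' (Subgroup.zpowers_le.mpr hRn) (Subgroup.zpowers_le.mpr hR'n)
    refine ⟨c, hcent h hh hh1 ⟨hc.1, ?_⟩, hc'⟩
    exact Subgroup.mem_centralizer_singleton_iff.mpr (Subgroup.mem_centralizer_iff.mp hc.2 h (Subgroup.mem_zpowers h)).symm
  have hconjK0 : ∀ (c : G), c ∈ K0 → ∀ (R : Subgroup G), ∀ y ∈ H,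
      y ∈ Subgroup.normalizer ((MulAut.conj c • R : Subgroup G) : Set G) → y ∈ Subgroup.normalizer (R : Set G) := by
    intro c hc R y hy hyn
    rw [← Basics.conj_smul_eq_self_iff] at hyn ⊢
    have hcomm : MulAut.conj y * MulAut.conj c = MulAut.conj c * MulAut.conj y := by
      rw [← map_mul, ← map_mul, (hK0H c hc y hy).eq]
    rw [← mul_smul, hcomm, mul_smul] at hyn
    exact smul_left_cancel _ hyn
  have hmaln : ∀ R : Subgroup G, Basics.IsSylowIn r M R → FGB.IsMalnormalTI (st R) := by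
    intro R hR a ha x hx hax
    by_contra hx1
    apply ha
    have hx1' : (x : G) ≠ 1 := fun e => hx1 (Subtype.ext e)
    set R' := MulAut.conj (a : G)⁻¹ • R with hR'
    have hR'S : Basics.IsSylowIn r M R' := hR.conj_smul (by rw [Subgroup.normalizer_eq_top_iff.mpr inferInstance]; trivial)
    have hax' : (a : G) * (x : G) * (a : G)⁻¹ ∈ Subgroup.normalizer (R : Set G) := hax
    have hxR' : (x : G) ∈ Subgroup.normalizer (R' : Set G) := by
      rw [← Basics.conj_smul_eq_self_iff, hR', ← mul_smul, ← map_mul,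
        show (x : G) * (a : G)⁻¹ = (a : G)⁻¹ * ((a : G) * x * (a : G)⁻¹) by group, map_mul, mul_smul,
        Basics.conj_smul_eq_self_iff.mpr hax']
    obtain ⟨c, hc, hcR⟩ := htrans x R R' x.2 hx1' hR hR'S hx hxR'
    have hn : c⁻¹ * (a : G)⁻¹ ∈ Subgroup.normalizer (R : Set G) := by
      rw [← Basics.conj_smul_eq_self_iff, map_mul, mul_smul, ← hR', ← hcR, ← mul_smul, ← map_mul, inv_mul_cancel,
        map_one, one_smul]
    have hn' : (a : G) * c ∈ Subgroup.normalizer (R : Set G) := by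
      simpa using inv_mem hn
    obtain ⟨e, he1, he2⟩ := Nat.chineseRemainder hco 1 0
    have hpow := pow_mem hn' e
    rw [(hK0H c hc a a.2).mul_pow] at hpow
    have hc1 : c ^ e = 1 := by
      obtain ⟨d, hd⟩ := Nat.modEq_zero_iff_dvd.mp he2
      rw [hd, pow_mul, show c ^ Nat.card M = 1 from congrArg Subtype.val (pow_card_eq_one' (x := (⟨c, hc.1⟩ : M))), one_pow]
    rw [hc1, mul_one] at hpow
    have ha1 : (a : G) ^ e = (a : G) ^ 1 := pow_eq_pow_iff_modEq.mpr (he1.of_dvd (by
      rw [Subgroup.orderOf_coe]; exact _root_.orderOf_dvd_natCard a))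
    rw [ha1, pow_one] at hpow
    exact hpow
  have hfix : ∀ h : H, h ≠ 1 → ∃ R, Basics.IsSylowIn r M R ∧ h ∈ st R := by
    intro h hh
    obtain ⟨R, hR, hhR⟩ := Basics.exists_invariant_isSylowIn (Subgroup.zpowers (h : G)) M (hMnorm _) (hzco h h.2)
      (Or.inl inferInstance) r
    exact ⟨R, hR, hhR (Subgroup.mem_zpowers _)⟩
  obtain ⟨R, hR, hRtop⟩ : ∃ R, Basics.IsSylowIn r M R ∧ st R = ⊤ := by
    obtain ⟨h0, hh0, hh01⟩ := (Subgroup.bot_or_exists_ne_one H).resolve_left hH1
    obtain ⟨R, hR, hR0⟩ := hfix ⟨h0, hh0⟩ (fun e => hh01 (congrArg Subtype.val e))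
    refine ⟨R, hR, eq_top_of_conj_cover fun y => ?_⟩
    rcases eq_or_ne y 1 with rfl | hy1
    · exact ⟨1, by simp⟩
    by_contra hy
    push Not at hy
    obtain ⟨R', hR', hyR'⟩ := hfix y hy1
    obtain ⟨KS, -, hKS, -, -, hKSmem⟩ := CT.frobenius_kernel (H := st R) (hmaln R hR)
    obtain ⟨KS', -, hKS', -, -, hKS'mem⟩ := CT.frobenius_kernel (H := st R') (hmaln R' hR')
    have hsplit : ∀ z : H, z ∈ KS ∨ z ∈ KS' := by
      intro z
      by_contra hz
      push Not at hz
      rw [hKSmem, hKS'mem] at hz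
      push Not at hz
      obtain ⟨⟨hz1, a, ha⟩, ⟨-, b, hb⟩⟩ := hz
      have hz1' : (z : G) ≠ 1 := fun e => hz1 (Subtype.ext e)
      have hnorm : ∀ (a : H) (R : Subgroup G), a⁻¹ * z * a ∈ st R →
          (z : G) ∈ Subgroup.normalizer ((MulAut.conj (a : G) • R : Subgroup G) : Set G) := by
        intro a R ha
        have ha' : (a : G)⁻¹ * z * a ∈ Subgroup.normalizer (R : Set G) := ha
        rw [← Basics.conj_smul_eq_self_iff, ← mul_smul, ← map_mul,
          show (z : G) * a = a * ((a : G)⁻¹ * z * a) by group, map_mul, mul_smul, Basics.conj_smul_eq_self_iff.mpr ha']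
      have hS : ∀ (a : H) (R : Subgroup G), Basics.IsSylowIn r M R →
          Basics.IsSylowIn r M (MulAut.conj (a : G) • R) := fun a R hR =>
        hR.conj_smul (by rw [Subgroup.normalizer_eq_top_iff.mpr inferInstance]; trivial)
      obtain ⟨c, hc, hcR⟩ := htrans z (MulAut.conj (a : G) • R) (MulAut.conj (b : G) • R') z.2 hz1'
        (hS a R hR) (hS b R' hR') (hnorm a R ha) (hnorm b R' hb)
      apply hy (a⁻¹ * b)
      show (a : G)⁻¹ * b * y * ((a : G)⁻¹ * b)⁻¹ ∈ Subgroup.normalizer (R : Set G)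
      have hyn : MulAut.conj (y : G) • R' = R' := Basics.conj_smul_eq_self_iff.mpr hyR'
      have h1 : (b : G) * y * (b : G)⁻¹ ∈ Subgroup.normalizer ((MulAut.conj (b : G) • R' : Subgroup G) : Set G) := by
        rw [← Basics.conj_smul_eq_self_iff, ← mul_smul, ← map_mul, inv_mul_cancel_right, map_mul, mul_smul, hyn]
      rw [← hcR] at h1
      have h2 := hconjK0 c hc _ _ (mul_mem (mul_mem b.2 y.2) (inv_mem b.2)) h1
      rw [← Basics.conj_smul_eq_self_iff] at h2 ⊢
      apply smul_left_cancel (MulAut.conj (a : G))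
      rw [← mul_smul, ← map_mul, show (a : G) * ((a : G)⁻¹ * b * y * ((a : G)⁻¹ * b)⁻¹) = ((b : G) * y * (b : G)⁻¹) * a by group,
        map_mul, mul_smul, h2]
    -- counting
    have hn1 : ∀ R, FGB.IsMalnormalTI (st R) → st R ≠ ⊥ → 2 * (st R).index ≤ Nat.card H := by
      intro R _ hne
      rw [← (st R).card_mul_index]
      exact Nat.mul_le_mul_right _ ((Subgroup.one_lt_card_iff_ne_bot _).mpr hne)
    have hne1 : st R ≠ ⊥ := fun e => hh01 (congrArg Subtype.val ((Subgroup.mem_bot.mp (e ▸ hR0 : (⟨h0, hh0⟩ : H) ∈ (⊥ : Subgroup H))) : (⟨h0, hh0⟩ : H) = 1))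
    have hne2 : st R' ≠ ⊥ := fun e => hy1 (Subgroup.mem_bot.mp (e ▸ hyR' : y ∈ (⊥ : Subgroup H)))
    have hcover : Nat.card H + 1 ≤ Nat.card KS + Nat.card KS' := by
      have hu : (KS : Set H) ∪ (KS' : Set H) = Set.univ := Set.eq_univ_of_forall hsplit
      have h1 := Set.ncard_union_add_ncard_inter (KS : Set H) (KS' : Set H)
      rw [hu, Set.ncard_univ] at h1
      have h2 : 1 ≤ ((KS : Set H) ∩ (KS' : Set H)).ncard :=
        (Set.ncard_pos (Set.toFinite _)).mpr ⟨1, one_mem KS, one_mem KS'⟩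
      simp only [← Nat.card_coe_set_eq] at h1 h2
      show Nat.card H + 1 ≤ Nat.card ↥(KS : Set H) + Nat.card ↥(KS' : Set H)
      omega
    have := hn1 R (hmaln R hR) hne1
    have := hn1 R' (hmaln R' hR') hne2
    omega
  -- a fixed point free action on a section of `R`
  have hHR : H ≤ Subgroup.normalizer (R : Set G) := fun h hh =>
    (show (⟨h, hh⟩ : H) ∈ st R from hRtop ▸ Subgroup.mem_top _)
  set B := R ⊓ K0 with hB
  have hBlt : ¬ R ≤ B := by
    intro hle
    have h1 := card_le_pow_factorization (hR.isPGroup.to_le (inf_le_left : B ≤ R)) (inf_le_right : B ≤ K0)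
    have h2 : Nat.card R ≤ Nat.card B := Nat.le_of_dvd Nat.card_pos (Subgroup.card_dvd_of_le hle)
    rw [hR.2] at h2
    exact absurd ((Nat.pow_le_pow_iff_right hr.one_lt).mp (h2.trans h1)) (not_le.mpr hlt)
  have hHB : ∀ h ∈ H, ∀ b ∈ B, Commute h b := fun h hh b hb => hK0H b hb.2 h hh
  set X := R ⊓ Subgroup.normalizer (B : Set G) with hX
  obtain ⟨x0, hx0X, hx0B⟩ : ∃ x ∈ X, x ∉ B := by
    haveI : Group.IsNilpotent R := hR.isPGroup.isNilpotent
    have hlt' : B.subgroupOf R < ⊤ := lt_top_iff_ne_top.mpr (by rwa [Ne, Subgroup.subgroupOf_eq_top])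
    obtain ⟨x, hx, hxB⟩ := SetLike.exists_of_lt (Group.normalizerCondition_of_isNilpotent _ hlt')
    refine ⟨x, ⟨x.2, Subgroup.mem_normalizer_iff.mpr fun q => ?_⟩, hxB⟩
    constructor
    · intro hq
      exact (Subgroup.mem_normalizer_iff.mp hx ⟨q, hq.1⟩).mp hq
    · intro hq
      have hqR : q ∈ R := by
        have := mul_mem (mul_mem (inv_mem x.2) hq.1) x.2
        simpa [mul_assoc] using this
      exact (Subgroup.mem_normalizer_iff.mp hx ⟨q, hqR⟩).mpr hq
  have hBX : B ≤ X := le_inf inf_le_left Subgroup.le_normalizer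
  have hHB' : H ≤ Subgroup.normalizer (B : Set G) := by
    intro h hh
    rw [Subgroup.mem_normalizer_iff]
    intro q
    constructor
    · intro hq; rw [(hHB h hh q hq).eq, mul_inv_cancel_right]; exact hq
    · intro hq
      have e := (hHB h hh _ hq).eq
      have e' : h * q * h⁻¹ = q := mul_left_cancel (a := h) (by rw [e, inv_mul_cancel_right])
      rwa [e'] at hq
  set L := X ⊔ H with hL
  have hHX : H ≤ Subgroup.normalizer (X : Set G) := le_trans (le_inf hHR
    (hHB'.trans Subgroup.le_normalizer)) Subgroup.inf_normalizer_le_normalizer_inf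
  have hXM : X ≤ M := inf_le_left.trans hR.1
  have hLn : L ≤ Subgroup.normalizer (B : Set G) := sup_le inf_le_right hHB'
  haveI : (B.subgroupOf L).Normal :=
    (Subgroup.normal_subgroupOf_iff_le_normalizer (hBX.trans le_sup_left)).mpr hLn
  set φ := QuotientGroup.mk' (B.subgroupOf L) with hφ
  set ι : H →* L ⧸ B.subgroupOf L := φ.comp (Subgroup.inclusion (le_sup_right : H ≤ L)) with hι
  have hιinj : Function.Injective ι := by
    rw [← MonoidHom.ker_eq_bot_iff, eq_bot_iff]
    intro h hh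
    have h1 : (h : G) ∈ B := (QuotientGroup.eq_one_iff (Subgroup.inclusion (le_sup_right : H ≤ L) h)).mp hh
    exact Subgroup.mem_bot.mpr (Subtype.ext (Subgroup.mem_bot.mp (hM.disjoint.le_bot ⟨h1.2.1, h.2⟩)))
  have hdec : ∀ g : L, ∃ x ∈ X, ∃ h ∈ H, (g : G) = x * h := by
    intro g
    obtain ⟨x, hx, h, hh, e⟩ := (show (g : G) ∈ (X : Set G) * (H : Set G) by
      rw [← Subgroup.coe_mul_of_right_le_normalizer_left X H hHX]; exact g.2)
    exact ⟨x, hx, h, hh, e.symm⟩
  refine ⟨L ⧸ B.subgroupOf L, inferInstance, inferInstance, ι.range, ⟨?_, ?_, ?_⟩, ⟨MonoidHom.ofInjective hιinj⟩⟩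
  · intro he
    obtain ⟨h0, hh0, hh01⟩ := (Subgroup.bot_or_exists_ne_one H).resolve_left hH1
    have : ι ⟨h0, hh0⟩ = 1 := Subgroup.mem_bot.mp (he ▸ ⟨_, rfl⟩)
    exact hh01 (congrArg Subtype.val (hιinj (this.trans (map_one ι).symm)))
  · intro he
    obtain ⟨h, hh⟩ : φ ⟨x0, Subgroup.mem_sup_left hx0X⟩ ∈ ι.range := he ▸ Subgroup.mem_top _
    have h1' := QuotientGroup.eq.mp hh
    have h1 : (h : G)⁻¹ * x0 ∈ B := h1'
    have h2 : (h : G) ∈ M := by
      have h3 := mul_mem (hXM hx0X) (inv_mem (hXM (hBX h1)))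
      simpa using h3
    have h3 : (h : G) = 1 := Subgroup.mem_bot.mp (hM.disjoint.le_bot ⟨h2, h.2⟩)
    rw [h3, inv_one, one_mul] at h1
    exact hx0B h1
  · intro g hg
    induction g using QuotientGroup.induction_on with
    | H g =>
      rw [Subgroup.eq_bot_iff_forall]
      rintro z ⟨⟨h1, rfl⟩, hz2⟩
      obtain ⟨x, hx, h, hh, hgx⟩ := hdec g
      have hxB : x ∉ B := by
        intro hxB
        refine hg ⟨⟨h, hh⟩, QuotientGroup.eq.mpr ?_⟩
        show h⁻¹ * (g : G) ∈ B
        rw [hgx, ← (hHB h hh x hxB).eq, inv_mul_cancel_left]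
        exact hxB
      obtain ⟨_, ⟨h2, rfl⟩, hh2⟩ := hz2
      by_contra hne
      have hh1 : (h1 : G) ≠ 1 := fun e => hne (by rw [show h1 = 1 from Subtype.ext e, map_one])
      set k : G := h * h2 * h⁻¹ with hk
      have hkH : k ∈ H := mul_mem (mul_mem hh h2.2) (inv_mem hh)
      have hmem : (h1 : G)⁻¹ * (x * k * x⁻¹) ∈ B := by
        have h4 : ι h1 = φ (g * Subgroup.inclusion (le_sup_right : H ≤ L) h2 * g⁻¹) := by
          rw [map_mul, map_mul, map_inv]
          exact hh2.symm
        have h5 := QuotientGroup.eq.mp h4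
        have h6 : (h1 : G)⁻¹ * ((g : G) * h2 * (g : G)⁻¹) ∈ B := h5
        rw [hgx, mul_inv_rev] at h6
        simpa [hk, mul_assoc] using h6
      have hkM : (h1 : G)⁻¹ * k ∈ M := by
        have h5 : (h1 : G)⁻¹ * k = (h1 : G)⁻¹ * (x * k * x⁻¹) * ((x * k * x⁻¹)⁻¹ * k) := by group
        rw [h5]
        refine mul_mem (hXM (hBX hmem)) ?_
        rw [show (x * k * x⁻¹)⁻¹ * k = x * (k⁻¹ * x⁻¹ * k) by group]
        exact mul_mem (hXM hx) (by simpa using (inferInstance : M.Normal).conj_mem x⁻¹ (inv_mem (hXM hx)) k⁻¹)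
      have hk1 : (h1 : G) = k := inv_mul_eq_one.mp
        (Subgroup.mem_bot.mp (hM.disjoint.le_bot (Subgroup.mem_inf.mpr ⟨hkM, mul_mem (inv_mem h1.2) hkH⟩)))
      rw [← hk1] at hmem
      -- `x` is fixed by `h1` modulo `B`
      have hA : Subgroup.zpowers (h1 : G) ≤ Subgroup.normalizer (B : Set G) :=
        (Subgroup.zpowers_le.mpr h1.2).trans hHB'
      have hfix1 : ∀ a ∈ Subgroup.zpowers (h1 : G), a * x * a⁻¹ * x⁻¹ ∈ B := by
        have hle : Subgroup.zpowers (h1 : G) ≤ ((Subgroup.centralizer ({QuotientGroup.mk' (B.subgroupOf (Subgroup.normalizer (B : Set G))) ⟨x, hx.2⟩} : Set _)).comap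
            (QuotientGroup.mk' (B.subgroupOf (Subgroup.normalizer (B : Set G))))).map (Subgroup.normalizer (B : Set G)).subtype := by
          rw [Subgroup.zpowers_le]
          refine Subgroup.mem_map.mpr ⟨⟨h1, hHB' h1.2⟩, ?_, rfl⟩
          rw [Subgroup.mem_comap, Subgroup.mem_centralizer_singleton_iff, ← map_mul, ← map_mul]
          refine (QuotientGroup.eq.mpr ?_).symm
          show (x * (h1 : G))⁻¹ * ((h1 : G) * x) ∈ B
          have h4 := inv_mem ((Subgroup.mem_normalizer_iff.mp (inv_mem hx.2) _).mp hmem)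
          simpa [mul_assoc] using h4
        intro a ha
        obtain ⟨a', ha', rfl⟩ := hle ha
        rw [SetLike.mem_coe, Subgroup.mem_comap, Subgroup.mem_centralizer_singleton_iff, ← map_mul, ← map_mul] at ha'
        have h4' := QuotientGroup.eq.mp ha'.symm
        have h4 : ((x : G) * a')⁻¹ * ((a' : G) * x) ∈ B := h4'
        have h5 := (Subgroup.mem_normalizer_iff.mp (mul_mem hx.2 a'.2) _).mp h4
        simpa [mul_assoc] using h5
      obtain ⟨c, hc, hcB⟩ := Basics.exists_centralizer_mem_coset (Subgroup.zpowers (h1 : G)) B hA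
        ((hzco _ h1.2).coprime_dvd_right (Subgroup.card_dvd_of_le (hBX.trans hXM)))
        (Or.inl inferInstance) x hx.2 hfix1
      have hcR : c ∈ R := by
        have h4 := mul_mem hx.1 hcB.1
        rwa [mul_inv_cancel_left] at h4
      have hcB' : c ∈ B := ⟨hcR, hcent _ h1.2 hh1 ⟨hR.1 hcR, Subgroup.mem_centralizer_singleton_iff.mpr
        (Subgroup.mem_centralizer_iff.mp hc _ (Subgroup.mem_zpowers _)).symm⟩⟩
      apply hxB
      have h4 := mul_mem hcB' (inv_mem hcB)
      simpa [mul_assoc] using h4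

end Cfsg.Agent.FGB
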