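import Cfsg.Agent.Lib.FGB.TwoLargestBasic

/-!
# Groups whose two largest class sizes are coprime

If the two largest class sizes `m > n > 1` are coprime, the centralizers `A` of elements of class
size `n` form one abelian normal subgroup and every element outside the centre whose order is built
from the primes of `n` has class size `m` and meets `A` in the centre only.
-/

namespace Cfsg.Agent.FGB.TwoLargest

variable {G : Type*} [Group G] [Finite G]

/-- The hypothesis. -/
structure Hyp (G : Type*) [Group G] (m n : ℕ) : Prop where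
  lt : n < m
  one_lt : 1 < n
  cop : m.Coprime n
  top : ∀ z : G, (Subgroup.centralizer ({z} : Set G)).index ≤ m
  second : ∀ z : G, (Subgroup.centralizer ({z} : Set G)).index < m →
    (Subgroup.centralizer ({z} : Set G)).index ≤ n

variable {m n : ℕ}

local notation "C(" g ")" => Subgroup.centralizer ({g} : Set G)

theorem cls_pos (z : G) : 0 < cls z := Nat.pos_of_ne_zero Subgroup.index_ne_zero_of_finite

omit [Finite G] in
theorem cls_of_central {z : G} (hz : z ∈ Subgroup.center G) : cls z = 1 := by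
  rw [cls, Subgroup.index_eq_one, Subgroup.eq_top_iff']
  exact fun g => Subgroup.mem_centralizer_singleton_iff.2 (Subgroup.mem_center_iff.1 hz g)

theorem Hyp.dich_n (H : Hyp G m n) {z : G} (h : n ∣ cls z) : cls z = n := by
  rcases (H.top z).lt_or_eq with h1 | h1
  · exact le_antisymm (H.second z h1) (Nat.le_of_dvd (cls_pos z) h)
  · have h2 : n ∣ m := h1 ▸ h
    exact absurd (Nat.eq_one_of_dvd_coprimes H.cop h2 dvd_rfl) H.one_lt.ne'

theorem Hyp.dich_m (H : Hyp G m n) {z : G} (h : m ∣ cls z) : cls z = m :=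
  le_antisymm (H.top z) (Nat.le_of_dvd (cls_pos z) h)

theorem cls_dvd_of_le {a b : G} (h : C(a) ≤ C(b)) : cls b ∣ cls a := Subgroup.index_dvd_of_le h

theorem eq_of_le_of_cls {a b : G} (h : C(a) ≤ C(b)) (hc : cls a = cls b) : C(a) = C(b) := by
  refine Subgroup.eq_of_le_of_card_ge h (le_of_eq ?_)
  have h1 := C(a).card_mul_index
  have h2 := C(b).card_mul_index
  rw [← h1] at h2
  have hc' : C(a).index = C(b).index := hc
  rw [hc'] at h2
  exact Nat.eq_of_mul_eq_mul_right (cls_pos b) h2

omit [Finite G] in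
theorem centralizer_le_pow (a : G) (k : ℕ) : C(a) ≤ C(a ^ k) := fun g hg =>
  Subgroup.mem_centralizer_singleton_iff.2
    ((show Commute g a from Subgroup.mem_centralizer_singleton_iff.1 hg).pow_right k).eq

/-- An element of `n`-primary order whose class size divides `n` is central. -/
theorem Hyp.central_of_dvd (H : Hyp G m n) {y : G} (hy : cls y = m) {h : G} {e : ℕ}
    (he : orderOf h ∣ n ^ e) (hd : cls h ∣ n) : h ∈ Subgroup.center G :=
  central (b := y) (hy ▸ H.cop.symm.coprime_dvd_left hd) (hy ▸ H.top _)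
    (hy ▸ (H.cop.symm.pow_left e).coprime_dvd_left he)

/-- Remove the `n`-primary part of an element of class size `n`. -/
theorem Hyp.strip (H : Hyp G m n) {y : G} (hy : cls y = m) {w : G} (hw : cls w = n) :
    ∃ w₀ : G, (orderOf w₀).Coprime n ∧ C(w₀) = C(w) := by
  obtain ⟨a, b, s, t, ha, hb, hab, hca, e, he⟩ := exists_split w n
  have hle : C(w) ≤ C(a) := ha ▸ centralizer_le_pow w s
  have hlb : C(w) ≤ C(b) := hb ▸ centralizer_le_pow w t
  have hbc := Subgroup.mem_center_iff.1 (H.central_of_dvd hy he (hw ▸ cls_dvd_of_le hlb))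
  refine ⟨a, hca, le_antisymm (fun g hg => ?_) hle⟩
  rw [Subgroup.mem_centralizer_singleton_iff] at hg ⊢
  rw [hab]
  exact ((show Commute g a from hg).mul_right (hbc g)).eq

/-- `n`-primary elements commuting with a stripped element of class size `n` are central. -/
theorem Hyp.nCentral (H : Hyp G m n) {y : G} (hy : cls y = m) {x : G} (hx : cls x = n)
    (hox : (orderOf x).Coprime n) {h : G} {e : ℕ} (he : orderOf h ∣ n ^ e) (hc : Commute x h) :
    h ∈ Subgroup.center G := by
  have heq := centralizer_mul_of_coprime hc ((hox.pow_right e).coprime_dvd_right he)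
  have h1 : n ∣ cls (x * h) := hx ▸ cls_dvd_of_le (heq.trans_le inf_le_left)
  have h2 := eq_of_le_of_cls (heq.trans_le inf_le_left) ((H.dich_n h1).trans hx.symm)
  refine H.central_of_dvd hy he ?_
  rw [← hx]
  exact cls_dvd_of_le (h2 ▸ heq.trans_le inf_le_right)

/-- The centralizer of an element of class size `m` has an `n`-primary element moving `x`. -/
theorem Hyp.exists_moving (H : Hyp G m n) {x : G} (hx : cls x = n) (hox : (orderOf x).Coprime n)
    {b : G} (hb : cls b = m) :
    ∃ h ∈ C(b), (∃ e, orderOf h ∣ n ^ e) ∧ ¬ Commute x h := by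
  by_contra hno
  push_neg at hno
  obtain ⟨r, hr, hrn⟩ := Nat.exists_prime_and_dvd H.one_lt.ne'
  haveI := Fact.mk hr
  obtain ⟨S⟩ : Nonempty (Sylow r C(b)) := Sylow.nonempty
  have hle : (S : Subgroup C(b)) ≤ (C(x) ⊓ C(b)).subgroupOf C(b) := by
    intro h hh
    obtain ⟨k, hk⟩ := (IsPGroup.iff_orderOf.1 S.isPGroup') ⟨h, hh⟩
    rw [Subgroup.orderOf_mk, ← Subgroup.orderOf_coe] at hk
    exact ⟨Subgroup.mem_centralizer_singleton_iff.2
      (hno h h.2 ⟨k, hk ▸ pow_dvd_pow_of_dvd hrn k⟩).eq.symm, h.2⟩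
  refine S.not_dvd_index (hrn.trans (dvd_trans (dvd_of_eq ?_) (Subgroup.index_dvd_of_le hle)))
  have hi := inf_index (A := C(x)) (B := C(b)) (by
    show (cls x).Coprime (cls b); rw [hx, hb]; exact H.cop.symm)
  rw [← Subgroup.relIndex_mul_index (inf_le_right : C(x) ⊓ C(b) ≤ C(b))] at hi
  have := Nat.eq_of_mul_eq_mul_right (cls_pos b) hi
  exact (this.trans hx).symm

/-- Elements of class size `n` and `m` do not commute. -/
theorem Hyp.not_commute (H : Hyp G m n) {x : G} (hx : cls x = n) (hox : (orderOf x).Coprime n)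
    {b : G} (hb : cls b = m) : ¬ Commute x b := by
  intro hxb
  obtain ⟨b₁, b₂, s, t, hb₁, hb₂, hbb, hc1, e, he⟩ := exists_split b n
  have hbc := Subgroup.mem_center_iff.1
    (H.nCentral hb hx hox he (hb₂ ▸ hxb.pow_right t))
  have hC : C(b₁) = C(b) := le_antisymm (fun g hg => by
      rw [Subgroup.mem_centralizer_singleton_iff] at hg ⊢
      rw [hbb]
      exact ((show Commute g b₁ from hg).mul_right (hbc g)).eq)
    (hb₁ ▸ centralizer_le_pow b s)
  obtain ⟨h, hh, ⟨f, hf⟩, hnc⟩ := H.exists_moving hx hox hb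
  have hhb : Commute b₁ h := (Subgroup.mem_centralizer_singleton_iff.1 (hC ▸ hh)).symm
  have heq := centralizer_mul_of_coprime hhb ((hc1.pow_right f).coprime_dvd_right hf)
  have hb1m : cls b₁ = m := by rw [cls, hC]; exact hb
  have h1 : m ∣ cls (b₁ * h) := hb1m ▸ cls_dvd_of_le (heq.trans_le inf_le_left)
  have h2 := eq_of_le_of_cls (heq.trans_le inf_le_left) ((H.dich_m h1).trans hb1m.symm)
  have hxC : x ∈ C(b₁) := hC ▸ Subgroup.mem_centralizer_singleton_iff.2 hxb.eq
  exact hnc (Subgroup.mem_centralizer_singleton_iff.1 (heq.trans_le inf_le_right (h2 ▸ hxC)))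

/-- A non-central `n`-primary element has class size `m`; with `x` it has the smallest
possible common centralizer. -/
theorem Hyp.stepH (H : Hyp G m n) {y : G} (hy : cls y = m) {x : G} (hx : cls x = n)
    (hox : (orderOf x).Coprime n) {h : G} {e : ℕ} (he : orderOf h ∣ n ^ e)
    (hh : h ∉ Subgroup.center G) : cls h = m ∧ (C(x) ⊓ C(h)).index = n * m := by
  classical
  have hnc : ¬ Commute x h := fun hc => hh (H.nCentral hy hx hox he hc)
  have hdata := fun g : G => conj_data (a := x) (b := y) (by rw [hx, hy]; exact H.cop.symm)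
    (hy ▸ H.top _) g
  set S : Set G := {z | IsConj x z}
  let L := Subgroup.closure S
  have hScomm : ∀ u ∈ S, ∀ v ∈ S, Commute u v := by
    rintro _ hu _ hv
    obtain ⟨g, rfl⟩ := isConj_iff.1 hu
    obtain ⟨k, rfl⟩ := isConj_iff.1 hv
    have := (hdata (g⁻¹ * k)).1.map (MulAut.conj g).toMonoidHom
    simpa [mul_assoc] using this
  have hLcomm : ∀ u ∈ L, ∀ v ∈ L, Commute u v := by
    have h1 : ∀ u ∈ L, ∀ v ∈ S, Commute u v := fun u hu v hv => by
      induction hu using Subgroup.closure_induction with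
      | mem w hw => exact hScomm w hw v hv
      | one => exact Commute.one_left v
      | mul a b _ _ ha hb => exact ha.mul_left hb
      | inv a _ ha => exact ha.inv_left
    intro u hu v hv
    induction hv using Subgroup.closure_induction with
    | mem w hw => exact h1 u hu w hw
    | one => exact Commute.one_right u
    | mul a b _ _ ha hb => exact ha.mul_right hb
    | inv a _ ha => exact ha.inv_right
  haveI hLn : L.Normal := by
    refine ⟨fun u hu g => ?_⟩
    have : (Subgroup.closure S).map (MulAut.conj g).toMonoidHom ≤ L := by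
      rw [MonoidHom.map_closure, Subgroup.closure_le]
      rintro _ ⟨z, hz, rfl⟩
      exact Subgroup.subset_closure (IsConj.trans hz (isConj_iff.2 ⟨g, rfl⟩))
    exact this ⟨u, hu, rfl⟩
  letI : CommGroup L :=
    { (inferInstance : Group L) with mul_comm := fun a b => Subtype.ext (hLcomm a a.2 b b.2) }
  let xL : L := ⟨x, Subgroup.subset_closure (IsConj.refl x)⟩
  have hexp : ∀ u : L, u ^ orderOf x = 1 := by
    intro ⟨u, hu⟩
    refine Subtype.ext ?_
    show u ^ orderOf x = 1
    induction hu using Subgroup.closure_induction with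
    | mem w hw =>
      obtain ⟨g, rfl⟩ := isConj_iff.1 hw
      rw [conj_pow, pow_orderOf_eq_one, mul_one, mul_inv_cancel]
    | one => exact one_pow _
    | mul a b ha hb iha ihb => rw [(hLcomm a ha b hb).mul_pow, iha, ihb, one_mul]
    | inv a _ iha => rw [inv_pow, iha, inv_one]
  set o := orderOf h with ho
  have hco : o.Coprime (orderOf x) := ((hox.pow_right e).coprime_dvd_right he).symm
  let Φ : G → (L →* L) := fun g => (MulAut.conjNormal (H := L) g).toMonoidHom
  let Nm : L →* L := ∏ i ∈ Finset.range o, Φ (h ^ i)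
  have hNm : ∀ u, Nm u = ∏ i ∈ Finset.range o, Φ (h ^ i) u := fun u => by
    simp [Nm]
  have hΦmul : ∀ g k u, Φ (g * k) u = Φ g (Φ k u) := fun g k u => by simp [Φ]
  have hΦ1 : ∀ u, Φ 1 u = u := fun u => by simp [Φ]
  have hΦfix : ∀ (g : G) (u : L), Φ g u = u ↔ Commute g (u : G) := fun g u => by
    rw [Subtype.ext_iff]
    show g * (u : G) * g⁻¹ = u ↔ _
    exact mul_inv_eq_iff_eq_mul
  have hequi : ∀ g : G, Commute g h → ∀ u, Φ g (Nm u) = Nm (Φ g u) := by
    intro g hg u
    rw [hNm, hNm, map_prod]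
    refine Finset.prod_congr rfl fun i _ => ?_
    rw [← hΦmul, ← hΦmul, (hg.pow_right i).eq]
  have hNfix : ∀ u, Φ h (Nm u) = Nm u := by
    intro u
    rw [hNm, map_prod]
    simp only [← hΦmul, ← pow_succ']
    have h1 := Finset.prod_range_succ' (fun i => Φ (h ^ i) u) o
    have h2 := Finset.prod_range_succ (fun i => Φ (h ^ i) u) o
    have h3 : Φ (h ^ o) u = Φ (h ^ 0) u := by rw [pow_zero, ho, pow_orderOf_eq_one]
    rw [h1, h3] at h2
    exact mul_right_cancel h2
  have hfixN : ∀ u : L, Φ h u = u → Nm u = u ^ o := by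
    intro u hu
    rw [hNm, Finset.prod_congr rfl (g := fun _ => u), Finset.prod_const, Finset.card_range]
    intro i _
    induction i with
    | zero => rw [pow_zero, hΦ1]
    | succ i ih => rw [pow_succ, hΦmul, hu, ih (Finset.mem_range.2 (Nat.lt_of_succ_lt (Finset.mem_range.1 (by assumption))))]
  obtain ⟨e', he'⟩ := exists_pow_eq_self_of_coprime (x := Nm xL) (n := o)
    (hco.coprime_dvd_right (orderOf_dvd_of_pow_eq_one (hexp _)))
  set v : L := (Nm xL) ^ e'
  have hvfix : Φ h v = v := by rw [map_pow, hNfix]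
  set a0 : L := xL * v⁻¹ with ha0
  have ha0ker : Nm a0 = 1 := by
    rw [ha0, map_mul, map_inv, hfixN v hvfix, ← pow_mul, mul_comm e' o, pow_mul, he', mul_inv_cancel]
  have ha01 : a0 ≠ 1 := by
    intro h1
    rw [ha0, mul_inv_eq_one] at h1
    exact hnc ((hΦfix h xL).1 (h1 ▸ hvfix)).symm
  have hvh : Commute (v : G) h := ((hΦfix h v).1 hvfix).symm
  have hov : (orderOf (v : G)).Coprime o := by
    refine hco.symm.coprime_dvd_left (orderOf_dvd_of_pow_eq_one ?_)
    rw [← Subgroup.coe_pow, hexp, Subgroup.coe_one]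
  have hU := centralizer_mul_of_coprime hvh hov
  set U := C((v : G)) ⊓ C(h) with hUdef
  set W := C(x) ⊓ C(h) with hWdef
  have hWU : W ≤ U := by
    intro g hg
    obtain ⟨hgx, hgh⟩ := hg
    have hg' : Commute g h := Subgroup.mem_centralizer_singleton_iff.1 hgh
    refine ⟨Subgroup.mem_centralizer_singleton_iff.2 ?_, hgh⟩
    have h1 : Φ g v = v := by
      rw [map_pow, hequi g hg', (hΦfix g xL).2 (Subgroup.mem_centralizer_singleton_iff.1 hgx)]
    exact ((hΦfix g v).1 h1).eq
  -- the orbit of `a0`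
  let A' := {u : L // Nm u = 1 ∧ u ≠ 1}
  have hUa : ∀ g : U, Nm (Φ (g : G) a0) = 1 ∧ Φ (g : G) a0 ≠ 1 := by
    intro g
    refine ⟨?_, fun h1 => ha01 ?_⟩
    · rw [← hequi _ (Subgroup.mem_centralizer_singleton_iff.1 g.2.2), ha0ker, map_one]
    · have := congrArg (Φ (g : G)⁻¹) h1
      rwa [← hΦmul, inv_mul_cancel, hΦ1, map_one] at this
  let f : U → A' := fun g => ⟨Φ (g : G) a0, hUa g⟩
  have hf : ∀ g k : U, f g = f k → g⁻¹ * k ∈ W.subgroupOf U := by
    intro g k hgk
    have h1 : Φ (g : G) a0 = Φ (k : G) a0 := congrArg Subtype.val hgk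
    have hgv : ∀ j : U, Φ (j : G) v = v := fun j =>
      (hΦfix _ v).2 (Subgroup.mem_centralizer_singleton_iff.1 j.2.1)
    rw [ha0, map_mul, map_mul, map_inv, map_inv, hgv, hgv] at h1
    have h2 : Φ ((g : G)⁻¹ * k) xL = xL := by
      rw [hΦmul, ← mul_right_cancel h1, ← hΦmul, inv_mul_cancel, hΦ1]
    exact ⟨Subgroup.mem_centralizer_singleton_iff.2 ((hΦfix _ xL).1 h2).eq,
      C(h).mul_mem (C(h).inv_mem g.2.2) k.2.2⟩
  have horb : W.relIndex U ≤ Nat.card A' := by
    refine Nat.card_le_card_of_injective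
      (fun c : U ⧸ W.subgroupOf U => f c.out) fun c d hcd => ?_
    rw [← QuotientGroup.out_eq' c, ← QuotientGroup.out_eq' d, QuotientGroup.eq]
    exact hf _ _ hcd
  have hA' : Nat.card A' < Nat.card Nm.ker := by
    haveI := Fintype.ofFinite A'
    haveI := Fintype.ofFinite Nm.ker
    rw [Nat.card_eq_fintype_card, Nat.card_eq_fintype_card]
    refine Fintype.card_lt_of_injective_not_surjective (fun u => ⟨u.1, u.2.1⟩)
      (fun u v huv => Subtype.ext (congrArg (fun w : Nm.ker => (w : L)) huv)) fun hsur => ?_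
    obtain ⟨u, hu⟩ := hsur 1
    exact u.2.2 (congrArg (fun w : Nm.ker => (w : L)) hu)
  have hkerW : Nat.card Nm.ker * Nat.card W ≤ Nat.card C(x) := by
    rw [← Nat.card_prod]
    refine Nat.card_le_card_of_injective
      (fun p => (⟨((p.1 : L) : G) * (p.2 : G), C(x).mul_mem ?_ p.2.2.1⟩ : C(x))) fun p q hpq => ?_
    · exact Subgroup.mem_centralizer_singleton_iff.2
        (hLcomm _ (p.1 : L).2 x xL.2).eq
    · have h1 : ((p.1 : L) : G) * (p.2 : G) = ((q.1 : L) : G) * (q.2 : G) := congrArg Subtype.val hpq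
      set d : L := (q.1 : L)⁻¹ * (p.1 : L)
      have hd : (d : G) = (q.2 : G) * (p.2 : G)⁻¹ := by
        rw [Subgroup.coe_mul, Subgroup.coe_inv, eq_mul_inv_iff_mul_eq, mul_assoc, h1,
          inv_mul_cancel_left]
      have hdh : Φ h d = d := by
        refine (hΦfix h d).2 ?_
        rw [hd]
        exact ((show Commute h (q.2 : G) from (Subgroup.mem_centralizer_singleton_iff.1 q.2.2.2).symm).mul_right
          (show Commute h (p.2 : G) from (Subgroup.mem_centralizer_singleton_iff.1 p.2.2.2).symm).inv_right)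
      have hd1 : d = 1 := by
        refine orderOf_eq_one_iff.1 (Nat.eq_one_of_dvd_coprimes hco (orderOf_dvd_of_pow_eq_one ?_)
          (orderOf_dvd_of_pow_eq_one (hexp d)))
        rw [← hfixN d hdh, map_mul, map_inv, MonoidHom.mem_ker.1 p.1.2, MonoidHom.mem_ker.1 q.1.2,
          inv_one, one_mul]
      have hp1 : (p.1 : L) = (q.1 : L) := (inv_mul_eq_one.1 hd1).symm
      refine Prod.ext (Subtype.ext hp1) (Subtype.ext ?_)
      rw [hp1] at h1
      exact mul_left_cancel h1
  have hUlt : Nat.card U < Nat.card C(x) := by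
    have h1 : Nat.card U = W.relIndex U * Nat.card W := by
      rw [← (W.subgroupOf U).index_mul_card,
        Nat.card_congr (Subgroup.subgroupOfEquivOfLe hWU).toEquiv]
      rfl
    rw [h1]
    exact lt_of_lt_of_le (Nat.mul_lt_mul_of_pos_right (horb.trans_lt hA') Nat.card_pos) hkerW
  have hclsU : cls ((v : G) * h) = m := by
    have hgt : n < U.index := by
      have h1 := U.card_mul_index
      have h2 : Nat.card C(x) * n = Nat.card G := hx ▸ C(x).card_mul_index
      by_contra hcon
      have : Nat.card U * U.index < Nat.card C(x) * n :=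
        lt_of_lt_of_le (Nat.mul_lt_mul_of_pos_right hUlt
          (Nat.pos_of_ne_zero Subgroup.index_ne_zero_of_finite))
          (Nat.mul_le_mul_left _ (not_lt.1 hcon))
      omega
    rcases (H.top ((v : G) * h)).lt_or_eq with h1 | h1
    · have := H.second _ h1
      rw [hU] at this
      exact absurd hgt (not_lt.2 this)
    · exact h1
  have hdvd : n * m ∣ W.index := by
    refine H.cop.symm.mul_dvd_of_dvd_of_dvd (hx ▸ Subgroup.index_dvd_of_le inf_le_left) ?_
    rw [← hclsU]
    exact Subgroup.index_dvd_of_le (hWU.trans hU.ge)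
  have hle : W.index ≤ n * cls h := hx ▸ Subgroup.index_inf_le
  have hpos : 0 < W.index := Nat.pos_of_ne_zero Subgroup.index_ne_zero_of_finite
  have hm : cls h = m := le_antisymm (H.top h)
    (Nat.le_of_mul_le_mul_left ((Nat.le_of_dvd hpos hdvd).trans hle) (by have := H.one_lt; omega))
  exact ⟨hm, le_antisymm (hm ▸ hle) (Nat.le_of_dvd hpos hdvd)⟩

/-- The centre has index `n * m`. -/
theorem Hyp.center_index (H : Hyp G m n) {y : G} (hy : cls y = m) {x : G} (hx : cls x = n)
    (hox : (orderOf x).Coprime n) : (Subgroup.center G).index = n * m := by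
  obtain ⟨h, hh, ⟨e, he⟩, hnc⟩ := H.exists_moving hx hox hy
  have hhc : h ∉ Subgroup.center G := fun h1 => hnc (Subgroup.mem_center_iff.1 h1 x)
  obtain ⟨hm, hidx⟩ := H.stepH hy hx hox he hhc
  rw [← hidx]
  congr 1
  refine le_antisymm (fun z hz => ⟨Subgroup.mem_centralizer_singleton_iff.2
      (Subgroup.mem_center_iff.1 hz x).symm, Subgroup.mem_centralizer_singleton_iff.2
      (Subgroup.mem_center_iff.1 hz h).symm⟩) ?_
  intro d ⟨hdx, hdh⟩
  replace hdx : Commute d x := Subgroup.mem_centralizer_singleton_iff.1 hdx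
  replace hdh : Commute d h := Subgroup.mem_centralizer_singleton_iff.1 hdh
  obtain ⟨d₁, d₂, s, t, hd₁, hd₂, hdd, hc1, f, hf⟩ := exists_split d n
  have hx2 : Commute x d₂ := hd₂ ▸ (show Commute d x from hdx).symm.pow_right t
  have hd2 := H.nCentral hy hx hox hf hx2
  have hx1 : Commute x d₁ := hd₁ ▸ (show Commute d x from hdx).symm.pow_right s
  have hh1 : Commute h d₁ := hd₁ ▸ (show Commute d h from hdh).symm.pow_right s
  have heq := centralizer_mul_of_coprime hh1 ((hc1.pow_right e).coprime_dvd_right he).symm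
  have h1 : m ∣ cls (h * d₁) := hm ▸ cls_dvd_of_le (heq.trans_le inf_le_left)
  have h2 := eq_of_le_of_cls (heq.trans_le inf_le_left) ((H.dich_m h1).trans hm.symm)
  have hdm : cls d₁ ∣ m := hm ▸ cls_dvd_of_le (h2 ▸ heq.trans_le inf_le_right)
  have hle : cls (d₁ * x) ≤ n := by
    rcases (H.top (d₁ * x)).lt_or_eq with h3 | h3
    · exact H.second _ h3
    · exact absurd (hx1.mul_right (Commute.refl x))
        (H.not_commute hx hox h3)
  have hd1 := central (a := d₁) (b := x) (hx ▸ H.cop.coprime_dvd_left hdm) (hx ▸ hle) (hx ▸ hc1)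
  rw [hdd]
  exact mul_mem hd1 hd2

/-- `C(b)` meets `C(x)` in the centre. -/
theorem Hyp.inf_eq_center (H : Hyp G m n) {x : G} (hx : cls x = n) (hox : (orderOf x).Coprime n)
    {b : G} (hb : cls b = m) : C(x) ⊓ C(b) = Subgroup.center G := by
  have hZ := H.center_index hb hx hox
  have hle : Subgroup.center G ≤ C(x) ⊓ C(b) := fun z hz => ⟨Subgroup.mem_centralizer_singleton_iff.2
      (Subgroup.mem_center_iff.1 hz x).symm, Subgroup.mem_centralizer_singleton_iff.2
      (Subgroup.mem_center_iff.1 hz b).symm⟩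
  refine (Subgroup.eq_of_le_of_card_ge hle (le_of_eq ?_)).symm
  have h1 := (Subgroup.center G).card_mul_index
  have h2 := (C(x) ⊓ C(b)).card_mul_index
  have h3 := inf_index (A := C(x)) (B := C(b)) (by
    show (cls x).Coprime (cls b); rw [hx, hb]; exact H.cop.symm)
  rw [h3, show C(x).index = n from hx, show C(b).index = m from hb] at h2
  rw [hZ, ← h2] at h1
  exact (Nat.eq_of_mul_eq_mul_right (Nat.mul_pos (by have := H.one_lt; omega) (by have := H.lt; omega)) h1).symm

end Cfsg.Agent.FGB.TwoLargest
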