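import Cfsg.Agent.Lib.FGB.Basic

/-!
# Coprime class sizes: basic lemmas

If `a`, `b` have coprime class sizes and the class of `a * b` is not larger than that of `b`, the
commutators of `a` centralize `a` and generate a subgroup of order dividing `|b^G|`.
-/

namespace Cfsg.Agent.FGB.TwoLargest

open scoped Pointwise

variable {G : Type*} [Group G] [Finite G]

/-- The class size. -/
noncomputable abbrev cls (g : G) : ℕ := (Subgroup.centralizer ({g} : Set G)).index

theorem inf_index {A B : Subgroup G} (h : A.index.Coprime B.index) :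
    (A ⊓ B).index = A.index * B.index :=
  le_antisymm Subgroup.index_inf_le (Nat.le_of_dvd
    (Nat.pos_of_ne_zero Subgroup.index_ne_zero_of_finite)
    (h.mul_dvd_of_dvd_of_dvd (Subgroup.index_dvd_of_le inf_le_left)
      (Subgroup.index_dvd_of_le inf_le_right)))

theorem exists_mul {A B : Subgroup G} (h : A.index.Coprime B.index) (g : G) :
    ∃ a ∈ A, ∃ b ∈ B, g = a * b := by
  have hi := inf_index h
  rw [← Subgroup.relIndex_mul_index (inf_le_left : A ⊓ B ≤ A), Subgroup.inf_relIndex_left,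
    mul_comm A.index] at hi
  have hrel : B.relIndex A = B.index :=
    Nat.eq_of_mul_eq_mul_right (Nat.pos_of_ne_zero Subgroup.index_ne_zero_of_finite) hi
  have horb : MulAction.orbit A ((1 : G) : G ⧸ B) = Set.univ := by
    refine Set.eq_of_subset_of_ncard_le (Set.subset_univ _) (le_of_eq ?_) Set.finite_univ
    rw [Set.ncard_univ, ← MulAction.index_stabilizer, ← Subgroup.index_eq_card, ← hrel,
      Subgroup.relIndex]
    congr 1
    ext a
    rw [MulAction.mem_stabilizer_iff, Subgroup.mem_subgroupOf]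
    show _ ↔ ((a : G) • ((1 : G) : G ⧸ B)) = ((1 : G) : G ⧸ B)
    rw [MulAction.Quotient.smul_coe, smul_eq_mul, mul_one, QuotientGroup.eq]
    simp
  obtain ⟨a, ha⟩ : ((g : G) : G ⧸ B) ∈ MulAction.orbit A ((1 : G) : G ⧸ B) := horb ▸ Set.mem_univ _
  change ((a : G) • ((1 : G) : G ⧸ B)) = _ at ha
  rw [MulAction.Quotient.smul_coe, smul_eq_mul, mul_one, QuotientGroup.eq] at ha
  exact ⟨a, a.2, (a : G)⁻¹ * g, ha, by group⟩

theorem ncard_isConj (g : G) : {x : G | IsConj g x}.ncard = cls g := by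
  rw [show {x : G | IsConj g x} = MulAction.orbit (ConjAct G) g from
    (ConjAct.orbit_eq_carrier_conjClasses g).symm ▸ (by
      ext x
      rw [ConjClasses.mem_carrier_iff_mk_eq, ConjClasses.mk_eq_mk_iff_isConj, Set.mem_setOf_eq]
      exact isConj_comm),
    ← MulAction.index_stabilizer, ConjAct.stabilizer_eq_centralizer]
  rfl

theorem relIndex_dvd_index (I R : Subgroup G) [R.Normal] : I.relIndex R ∣ I.index := by
  have ha := Subgroup.relIndex_mul_index (inf_le_right : I ⊓ R ≤ R)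
  have hb := Subgroup.relIndex_mul_index (inf_le_left : I ⊓ R ≤ I)
  rw [Subgroup.inf_relIndex_right] at ha
  rw [Subgroup.inf_relIndex_left, ← ha] at hb
  obtain ⟨d, hd⟩ := Subgroup.relIndex_dvd_index_of_normal R I
  rw [hd, mul_left_comm] at hb
  exact ⟨d, Nat.eq_of_mul_eq_mul_left (Nat.pos_of_ne_zero fun h0 => by
    rw [h0, zero_mul] at hd; exact Subgroup.index_ne_zero_of_finite hd) hb⟩

/-- The key lemma. -/
theorem conj_data {a b : G} (hcop : (cls a).Coprime (cls b)) (hab : cls (a * b) ≤ cls b) (g : G) :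
    Commute a (g * a * g⁻¹) ∧ (a⁻¹ * (g * a * g⁻¹)) ^ cls b = 1 := by
  set S : Set G := {x | IsConj b x}
  set T : Set G := {x | IsConj (a * b) x}
  have hsub : ∀ j : G, (j * a * j⁻¹) • S ⊆ T := by
    intro j
    rintro _ ⟨b', hb', rfl⟩
    obtain ⟨i, rfl⟩ := isConj_iff.1 hb'
    obtain ⟨s, hs, t, ht, hst⟩ := exists_mul hcop (j⁻¹ * i)
    rw [Subgroup.mem_centralizer_singleton_iff] at hs ht
    refine isConj_iff.2 ⟨j * s, ?_⟩
    have h1 : j * s * a * (j * s)⁻¹ = j * a * j⁻¹ := by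
      rw [mul_assoc j s a, hs]; group
    have h2 : j * s * b * (j * s)⁻¹ = i * b * i⁻¹ := by
      rw [show j * s = i * t⁻¹ from by
        rw [show i = j * (j⁻¹ * i) by group, hst]; group]
      rw [mul_inv_rev, inv_inv, ← mul_assoc (i * t⁻¹ * b), mul_assoc i t⁻¹ b, mul_assoc i (t⁻¹ * b) t,
        mul_assoc t⁻¹ b t, ← ht, inv_mul_cancel_left]
    show j * s * (a * b) * (j * s)⁻¹ = (j * a * j⁻¹) • (i * b * i⁻¹)
    rw [smul_eq_mul, ← h1, ← h2]; group
  have hST : ∀ j : G, (j * a * j⁻¹) • S = T := fun j =>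
    Set.eq_of_subset_of_ncard_le (hsub j) (by
      rw [Set.ncard_smul_set, ncard_isConj, ncard_isConj]; exact hab) (Set.toFinite _)
  let M : Subgroup G := MulAction.stabilizer G S
  have hSconj : ∀ (j : G) (x : G), x ∈ S → j * x * j⁻¹ ∈ S := fun j x hx =>
    hx.trans (isConj_iff.2 ⟨j, rfl⟩)
  have hMn : M.Normal := by
    refine ⟨fun c hc j => ?_⟩
    have hc' : c • S = S := hc
    show (j * c * j⁻¹) • S = S
    refine Set.eq_of_subset_of_ncard_le ?_ (by rw [Set.ncard_smul_set]) (Set.toFinite _)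
    rintro _ ⟨x, hx, rfl⟩
    have hx' : j⁻¹ * x * j ∈ S := by simpa using hSconj j⁻¹ x hx
    have := hSconj j _ (hc' ▸ Set.smul_mem_smul_set (a := c) hx')
    simpa [smul_eq_mul, mul_assoc] using this
  have hmu : ∀ j : G, a⁻¹ * (j * a * j⁻¹) ∈ M := by
    intro j
    show (a⁻¹ * (j * a * j⁻¹)) • S = S
    have h1 := hST 1
    rw [one_mul, inv_one, mul_one] at h1
    rw [mul_smul, hST j, ← h1, inv_smul_smul]
  have hMdvd : Nat.card M ∣ cls b := by
    let act : MulAction M S :=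
      { smul := fun c x => ⟨(c : G) * x, by
          have hc : (c : G) • S = S := c.2
          have h1 := Set.smul_mem_smul_set (a := (c : G)) x.2
          rw [hc] at h1
          exact h1⟩
        one_smul := fun x => Subtype.ext (one_mul _)
        mul_smul := fun c d x => Subtype.ext (mul_assoc _ _ _) }
    have hfree : ∀ x : S, MulAction.stabilizer M x = ⊥ := by
      intro x
      refine (Subgroup.eq_bot_iff_forall _).2 fun c hc => Subtype.ext ?_
      have h1 : (c : G) * x = x := congrArg Subtype.val (MulAction.mem_stabilizer_iff.1 hc)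
      exact mul_eq_right.1 h1
    have := Nat.card_congr (MulAction.selfEquivOrbitsQuotientProd hfree)
    rw [Nat.card_prod, Nat.card_coe_set_eq, ncard_isConj] at this
    exact ⟨_, this.trans (mul_comm _ _)⟩
  have hcent : ∀ c ∈ M, Commute a c := by
    intro c hc
    have h1 : (Subgroup.centralizer ({a} : Set G)).relIndex M = 1 :=
      Nat.eq_one_of_dvd_coprimes hcop
        (relIndex_dvd_index (Subgroup.centralizer ({a} : Set G)) M)
        ((Subgroup.relIndex_dvd_card _ _).trans hMdvd)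
    exact (Subgroup.mem_centralizer_singleton_iff.1 (Subgroup.relIndex_eq_one.1 h1 hc)).symm
  have h3 : Commute a (a⁻¹ * (g * a * g⁻¹)) := hcent _ (hmu g)
  refine ⟨?_, ?_⟩
  · have := (Commute.refl a).mul_right h3
    rwa [mul_inv_cancel_left] at this
  · obtain ⟨c, hc⟩ := hMdvd
    rw [hc, pow_mul]
    have : (⟨_, hmu g⟩ : M) ^ Nat.card M = 1 := pow_card_eq_one'
    rw [show (a⁻¹ * (g * a * g⁻¹)) ^ Nat.card M = 1 from congrArg Subtype.val this, one_pow]

/-- An element whose order is prime to the other class size is central. -/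
theorem central {a b : G} (hcop : (cls a).Coprime (cls b)) (hab : cls (a * b) ≤ cls b)
    (ho : (orderOf a).Coprime (cls b)) : a ∈ Subgroup.center G := by
  rw [Subgroup.mem_center_iff]
  intro g
  obtain ⟨hc, hp⟩ := conj_data hcop hab g
  set μ := a⁻¹ * (g * a * g⁻¹) with hμ
  have h1 : μ ^ orderOf a = 1 := by
    rw [hμ, hc.inv_left.mul_pow, inv_pow, pow_orderOf_eq_one, inv_one, one_mul]
    rw [show g * a * g⁻¹ = MulAut.conj g a from rfl, ← map_pow, pow_orderOf_eq_one, map_one]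
  have h2 : μ = 1 := orderOf_eq_one_iff.1 (Nat.eq_one_of_dvd_coprimes ho
    (orderOf_dvd_of_pow_eq_one h1) (orderOf_dvd_of_pow_eq_one hp))
  rw [hμ, inv_mul_eq_one] at h2
  exact (eq_mul_inv_iff_mul_eq.1 h2).symm

/-- Split a torsion element along a coprime factorisation. -/
theorem split (x : G) {o₁ o₂ : ℕ} (h : o₁.Coprime o₂) (hx : x ^ (o₁ * o₂) = 1) :
    ∃ s t : ℕ, x = x ^ s * x ^ t ∧ (x ^ s) ^ o₁ = 1 ∧ (x ^ t) ^ o₂ = 1 := by
  obtain ⟨s, hs1, hs2⟩ := Nat.chineseRemainder h 1 0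
  obtain ⟨t, ht1, ht2⟩ := Nat.chineseRemainder h 0 1
  refine ⟨s, t, ?_, ?_, ?_⟩
  · rw [← pow_add]
    have h1 : s + t ≡ 1 [MOD o₁ * o₂] := (Nat.modEq_and_modEq_iff_modEq_mul h).1
      ⟨by simpa using hs1.add ht1, by simpa using hs2.add ht2⟩
    conv_lhs => rw [← pow_one x]
    exact pow_eq_pow_iff_modEq.2
      ((h1.of_dvd (orderOf_dvd_of_pow_eq_one hx)).symm)
  · rw [← pow_mul]
    obtain ⟨c, hc⟩ := Nat.modEq_zero_iff_dvd.1 hs2
    rw [hc, show o₂ * c * o₁ = o₁ * o₂ * c by ring, pow_mul, hx, one_pow]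
  · rw [← pow_mul]
    obtain ⟨c, hc⟩ := Nat.modEq_zero_iff_dvd.1 ht1
    rw [hc, show o₁ * c * o₂ = o₁ * o₂ * c by ring, pow_mul, hx, one_pow]

/-- The part of an order prime to `n` and the part made of primes of `n`. -/
theorem exists_split (x : G) (n : ℕ) :
    ∃ a b : G, ∃ s t : ℕ, a = x ^ s ∧ b = x ^ t ∧ x = a * b ∧ (orderOf a).Coprime n ∧
      ∃ e : ℕ, orderOf b ∣ n ^ e := by
  set o := orderOf x
  have ho : o ≠ 0 := (orderOf_pos x).ne'
  set o₂ := Nat.gcd o (n ^ o)
  obtain ⟨o₁, ho₁⟩ : o₂ ∣ o := Nat.gcd_dvd_left _ _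
  have hc1 : o₁.Coprime n := by
    refine Nat.coprime_of_dvd fun p hp hp1 hpn => ?_
    have h1 : p ^ o.factorization p ∣ o₂ :=
      Nat.dvd_gcd (Nat.ordProj_dvd o p)
        ((pow_dvd_pow_of_dvd hpn _).trans (pow_dvd_pow n (Nat.factorization_lt p ho).le))
    have h2 : p ^ (o.factorization p + 1) ∣ o := by
      rw [pow_succ]
      exact (mul_dvd_mul h1 hp1).trans (dvd_of_eq ho₁.symm)
    exact Nat.pow_succ_factorization_not_dvd ho hp h2
  have hc2 : o₁.Coprime o₂ := (hc1.pow_right o).coprime_dvd_right (Nat.gcd_dvd_right _ _)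
  obtain ⟨s, t, hst, hs, ht⟩ := split x hc2 (by rw [mul_comm, ← ho₁]; exact pow_orderOf_eq_one x)
  exact ⟨_, _, s, t, rfl, rfl, hst, hc1.coprime_dvd_left (orderOf_dvd_of_pow_eq_one hs),
    o, (orderOf_dvd_of_pow_eq_one ht).trans (Nat.gcd_dvd_right _ _)⟩

end Cfsg.Agent.FGB.TwoLargest
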