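/-
Generator number of 2-groups of automorphisms of abelian groups of odd order.
-/
import Mathlib
import Cfsg.Agent.S0013
import Cfsg.Agent.Lib.Basics.Frattini
import Cfsg.Agent.Lib.Invol.RoquetteTwo

set_option autoImplicit false
set_option linter.all false

namespace Cfsg.Agent.FGB

open Subgroup

universe u v w

/-- The bound for the Frattini index. -/
def frBound (a : ℕ) : ℕ := if a = 3 then 2 else a / 2

theorem frBound_le (a : ℕ) (ha : 1 < a) : frBound a ≤ a - 1 := by
  unfold frBound; split_ifs <;> omega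

theorem two_le_frBound (a : ℕ) (ha : 1 < a) (ho : Odd a) : 2 ≤ frBound a := by
  obtain ⟨k, rfl⟩ := ho
  unfold frBound; split_ifs <;> omega

theorem frBound_mul (a b : ℕ) (ha : 1 < a) (hb : 1 < b) : frBound a * frBound b ≤ frBound (a * b) := by
  have hab : a * b ≠ 3 := by
    intro h
    have := Nat.mul_le_mul ha hb
    omega
  rw [frBound, frBound, frBound, if_neg hab]
  rw [Nat.le_div_iff_mul_le two_pos]
  split_ifs with h1 h2
  · subst h1 h2; norm_num
  · have := Nat.div_mul_le_self b 2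
    subst h1; omega
  · have := Nat.div_mul_le_self a 2
    rename_i h2; subst h2; omega
  · calc a / 2 * (b / 2) * 2 = a / 2 * (b / 2 * 2) := mul_assoc _ _ _
      _ ≤ a * b := Nat.mul_le_mul (Nat.div_le_self a 2) (Nat.div_mul_le_self b 2)

theorem two_mul_frBound_sq (a : ℕ) (ha : 1 < a) (h3 : a ≠ 3) : 2 * (frBound a * frBound a) ≤ frBound (a * a) := by
  have hab : a * a ≠ 3 := by
    intro h
    have := Nat.mul_le_mul ha ha
    omega
  rw [frBound, frBound, if_neg hab, if_neg h3, Nat.le_div_iff_mul_le two_pos]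
  calc 2 * (a / 2 * (a / 2)) * 2 = (a / 2 * 2) * (a / 2 * 2) := by ring
    _ ≤ a * a := Nat.mul_le_mul (Nat.div_mul_le_self a 2) (Nat.div_mul_le_self a 2)

theorem card_range_le_frattini {K : Type u} [Group K] [Finite K] {E : Type w} [Group E] (f : K →* E)
    (hE : ∀ k : K, f k * f k = 1) (hK : IsPGroup 2 K) : Nat.card f.range ≤ (frattini K).index := by
  haveI : Fact (Nat.Prime 2) := ⟨Nat.prime_two⟩
  have hle : frattini K ≤ f.ker := by
    refine S0013.result 2 hK f.ker ?_ fun x => by rw [MonoidHom.mem_ker, map_pow, pow_two, hE]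
    rw [commutator_def, commutator_le]
    intro x _ y _
    have hinv : ∀ k : K, (f k)⁻¹ = f k := fun k => inv_eq_of_mul_eq_one_right (hE k)
    rw [MonoidHom.mem_ker, map_commutatorElement, commutatorElement_def, hinv, hinv, ← map_mul, mul_assoc, ← map_mul, hE]
  rw [← index_ker]
  exact Nat.le_of_dvd (Nat.pos_of_ne_zero index_ne_zero_of_finite) (index_dvd_of_le hle)

theorem card_range_le_extension {M : Type u} [Group M] [Finite M] {E : Type w} [Group E] (f : M →* E)
    (hE : ∀ k : M, f k * f k = 1) (hM : IsPGroup 2 M) (K : Subgroup M) [K.Normal] :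
    Nat.card f.range ≤ (frattini K).index * (frattini (M ⧸ K)).index := by
  rw [← index_ker, ← relIndex_mul_index (le_sup_left : f.ker ≤ f.ker ⊔ K)]
  refine Nat.mul_le_mul ?_ ?_
  · have h1 := card_range_le_frattini (f.comp K.subtype) (fun k => hE k) (hM.to_subgroup K)
    rw [← index_ker, ← MonoidHom.comap_ker] at h1
    rw [sup_comm, relIndex_sup_right]
    exact h1
  · have hsurj : Function.Surjective (QuotientGroup.map K (f.ker ⊔ K) (MonoidHom.id M) le_sup_right) := by
      intro x
      obtain ⟨m, rfl⟩ := QuotientGroup.mk'_surjective _ x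
      exact ⟨m, rfl⟩
    have h1 := card_range_le_frattini (QuotientGroup.map K (f.ker ⊔ K) (MonoidHom.id M) le_sup_right) (fun x => by
      obtain ⟨m, rfl⟩ := QuotientGroup.mk'_surjective _ x
      show ((m : M ⧸ (f.ker ⊔ K))) * (m : M ⧸ (f.ker ⊔ K)) = 1
      rw [← QuotientGroup.mk_mul, QuotientGroup.eq_one_iff]
      exact mem_sup_left ((map_mul f m m).trans (hE m))) (hM.to_quotient K)
    rw [MonoidHom.range_eq_top.mpr hsurj, card_top, ← index_eq_card] at h1
    exact h1

/-- Restriction of an action by automorphisms to an invariant subgroup. -/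
def restrAut {M : Type u} [Group M] {V : Type w} [CommGroup V] (φ : M →* MulAut V) (W : Subgroup V)
    (h : ∀ m, ∀ x ∈ W, φ m x ∈ W) : M →* MulAut W :=
  MonoidHom.mk' (fun m =>
    { toFun := fun x => ⟨φ m x, h m x x.2⟩
      invFun := fun x => ⟨φ m⁻¹ x, h _ x x.2⟩
      left_inv := fun x => Subtype.ext (by
        show φ m⁻¹ (φ m x) = x
        rw [← MulAut.mul_apply, ← map_mul, inv_mul_cancel, map_one, MulAut.one_apply])
      right_inv := fun x => Subtype.ext (by
        show φ m (φ m⁻¹ x) = x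
        rw [← MulAut.mul_apply, ← map_mul, mul_inv_cancel, map_one, MulAut.one_apply])
      map_mul' := fun x y => Subtype.ext (map_mul (φ m) (x : V) y) })
    fun a b => MulEquiv.ext fun x => Subtype.ext (by
      show φ (a * b) x = φ a (φ b x)
      rw [map_mul, MulAut.mul_apply])

theorem restrAut_apply {M : Type u} [Group M] {V : Type w} [CommGroup V] (φ : M →* MulAut V) (W : Subgroup V)
    (h : ∀ m, ∀ x ∈ W, φ m x ∈ W) (m : M) (x : W) : ((restrAut φ W h m) x : V) = φ m x := rfl

/-- The inductive statement. -/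
def FrClaim (a : ℕ) : Prop :=
  ∀ (V : Type w) [CommGroup V] [Finite V], Nat.card V = a → Odd a → 1 < a →
    ∀ (H : Type u) [Group H] [Finite H] (φ : H →* MulAut V), Function.Injective φ → IsPGroup 2 H →
      (frattini H).index ≤ frBound a

theorem bound_of_split {M : Type u} [Group M] [Finite M] {E : Type v} [Group E] (f : M →* E)
    (hE : ∀ k : M, f k * f k = 1) (hM : IsPGroup 2 M) {V : Type w} [CommGroup V] [Finite V]
    (φ : M →* MulAut V) (hφ : Function.Injective φ) (hV : Odd (Nat.card V)) (W1 W2 : Subgroup V)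
    (h12 : W1.IsComplement' W2) (h1 : ∀ m, ∀ x ∈ W1, φ m x ∈ W1) (h2 : ∀ m, ∀ x ∈ W2, φ m x ∈ W2)
    (hn1 : 1 < Nat.card W1) (hn2 : 1 < Nat.card W2)
    (IH : ∀ b < Nat.card V, FrClaim.{u, w} b) :
    Nat.card f.range ≤ frBound (Nat.card W1) * frBound (Nat.card W2) := by
  have hc := h12.card_mul
  have hlt1 : Nat.card W1 < Nat.card V := hc ▸ lt_mul_of_one_lt_right Nat.card_pos hn2
  have hlt2 : Nat.card W2 < Nat.card V := hc ▸ lt_mul_of_one_lt_left Nat.card_pos hn1
  have ho : ∀ W : Subgroup V, Odd (Nat.card W) := fun W => hV.of_dvd_nat (card_subgroup_dvd_card W)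
  set ρ := restrAut φ W1 h1 with hρ
  refine (card_range_le_extension f hE hM ρ.ker).trans ?_
  rw [mul_comm]
  refine Nat.mul_le_mul ?_ ?_
  · exact IH _ hlt1 W1 rfl (ho W1) hn1 (M ⧸ ρ.ker) (QuotientGroup.kerLift ρ) (QuotientGroup.kerLift_injective ρ) (hM.to_quotient _)
  · refine IH _ hlt2 W2 rfl (ho W2) hn2 ρ.ker ((restrAut φ W2 h2).comp ρ.ker.subtype) ?_ (hM.to_subgroup _)
    rw [← MonoidHom.ker_eq_bot_iff, eq_bot_iff]
    intro k hk
    refine mem_bot.mpr (Subtype.ext (hφ (MulEquiv.ext fun x => ?_)))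
    obtain ⟨⟨⟨x1, hx1⟩, ⟨x2, hx2⟩⟩, hx⟩ := h12.2 x
    have e1 : φ k x1 = x1 := by
      have := DFunLike.congr_fun (MonoidHom.mem_ker.mp k.2) (⟨x1, hx1⟩ : W1)
      exact congrArg Subtype.val this
    have e2 : φ k x2 = x2 := by
      have := DFunLike.congr_fun (MonoidHom.mem_ker.mp hk) (⟨x2, hx2⟩ : W2)
      exact congrArg Subtype.val this
    rw [← hx]
    show φ k (x1 * x2) = φ ((1 : ρ.ker) : M) (x1 * x2)
    rw [map_mul, e1, e2, OneMemClass.coe_one, map_one, MulAut.one_apply]

section Decomp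

variable {V : Type w} [CommGroup V]

/-- Fixed points of an automorphism. -/
def fixSub (σ : MulAut V) : Subgroup V where
  carrier := {x | σ x = x}
  one_mem' := map_one σ
  mul_mem' := fun {x y} hx hy => by show σ (x * y) = x * y; rw [map_mul, hx, hy]
  inv_mem' := fun {x} hx => by show σ x⁻¹ = x⁻¹; rw [map_inv, hx]

/-- Elements inverted by an automorphism. -/
def invSub (σ : MulAut V) : Subgroup V where
  carrier := {x | σ x = x⁻¹}
  one_mem' := by show σ 1 = 1⁻¹; rw [map_one, inv_one]
  mul_mem' := fun {x y} hx hy => by show σ (x * y) = (x * y)⁻¹; rw [map_mul, hx, hy, mul_inv]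
  inv_mem' := fun {x} hx => by show σ x⁻¹ = x⁻¹⁻¹; rw [map_inv, hx]

theorem mem_fixSub {σ : MulAut V} {x : V} : x ∈ fixSub σ ↔ σ x = x := Iff.rfl

theorem mem_invSub {σ : MulAut V} {x : V} : x ∈ invSub σ ↔ σ x = x⁻¹ := Iff.rfl

theorem fix_inv_complement [Finite V] (hV : Odd (Nat.card V)) (σ : MulAut V) (hσ : ∀ x, σ (σ x) = x) :
    (fixSub σ).IsComplement' (invSub σ) := by
  have hco : ∀ x : V, (orderOf x).Coprime 2 := fun x =>
    (Nat.coprime_two_right.mpr (hV.of_dvd_nat (_root_.orderOf_dvd_natCard x)))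
  refine isComplement'_of_disjoint_and_mul_eq_univ ?_ (Set.eq_univ_of_forall fun x => ?_)
  · rw [disjoint_def]
    intro x hx hx'
    rw [mem_fixSub] at hx
    rw [mem_invSub, hx] at hx'
    obtain ⟨k, hk⟩ := exists_pow_eq_self_of_coprime (hco x).symm
    rw [← hk, pow_two]
    nth_rw 2 [hx']
    rw [mul_inv_cancel, one_pow]
  · obtain ⟨k, hk⟩ := exists_pow_eq_self_of_coprime (hco x).symm
    refine Set.mem_mul.mpr ⟨(x * σ x) ^ k, pow_mem ?_ k, (x * (σ x)⁻¹) ^ k, pow_mem ?_ k, ?_⟩
    · show σ (x * σ x) = x * σ x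
      rw [map_mul, hσ, mul_comm]
    · show σ (x * (σ x)⁻¹) = (x * (σ x)⁻¹)⁻¹
      rw [map_mul, map_inv, hσ, mul_inv, inv_inv, mul_comm]
    · rw [← mul_pow, show x * σ x * (x * (σ x)⁻¹) = x ^ 2 by rw [pow_two, mul_mul_mul_comm, mul_inv_cancel, mul_one], hk]

theorem one_lt_card_fix_inv [Finite V] (hV : Odd (Nat.card V)) (σ : MulAut V) (hσ : ∀ x, σ (σ x) = x)
    (h1 : σ ≠ 1) (h2 : ∃ x, σ x ≠ x⁻¹) : 1 < Nat.card (fixSub σ) ∧ 1 < Nat.card (invSub σ) := by
  have hc := fix_inv_complement hV σ hσ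
  rw [one_lt_card_iff_ne_bot, one_lt_card_iff_ne_bot]
  constructor
  · intro hb
    obtain ⟨x, hx⟩ := h2
    obtain ⟨⟨⟨x1, hx1⟩, ⟨x2, hx2⟩⟩, hxe⟩ := hc.2 x
    apply hx
    rw [← hxe]
    rw [hb, SetLike.mem_coe, mem_bot] at hx1
    subst hx1
    simpa using mem_invSub.mp hx2
  · intro hb
    refine h1 (MulEquiv.ext fun x => ?_)
    obtain ⟨⟨⟨x1, hx1⟩, ⟨x2, hx2⟩⟩, hxe⟩ := hc.2 x
    rw [← hxe]
    rw [hb, SetLike.mem_coe, mem_bot] at hx2
    subst hx2
    simpa using mem_fixSub.mp hx1

end Decomp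

theorem frClaim (a : ℕ) : FrClaim.{u, w} a := by
  induction a using Nat.strong_induction_on with
  | _ a IH =>
  intro V _ _ hVa hodd ha H _ _ φ hφ hH
  haveI : Fact (Nat.Prime 2) := ⟨Nat.prime_two⟩
  subst hVa
  set Q := H ⧸ frattini H
  set f : H →* Q := QuotientGroup.mk' (frattini H) with hf
  have hf1 : ∀ h : H, f h * f h = 1 := fun h => by
    rw [← map_mul, ← pow_two]
    exact (QuotientGroup.eq_one_iff _).mpr (Basics.pow_mem_frattini hH h)
  have hfr : Nat.card f.range = (frattini H).index := by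
    rw [MonoidHom.range_eq_top.mpr (QuotientGroup.mk'_surjective _), card_top, index_eq_card]
  have hinvol : ∀ g : H, g * g = 1 → ∀ x, φ g (φ g x) = x := fun g hg x => by
    rw [← MulAut.mul_apply, ← map_mul, hg, map_one, MulAut.one_apply]
  by_cases hcz : ∃ z : H, (∀ g, g * z = z * g) ∧ z * z = 1 ∧ z ≠ 1 ∧ ∃ x, φ z x ≠ x⁻¹
  · obtain ⟨z, hzc, hzz, hz1, hzx⟩ := hcz
    have hne : φ z ≠ 1 := fun e => hz1 (hφ (e.trans (map_one φ).symm))
    obtain ⟨hn1, hn2⟩ := one_lt_card_fix_inv hodd (φ z) (hinvol z hzz) hne hzx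
    have hc := fix_inv_complement hodd (φ z) (hinvol z hzz)
    have hcomm : ∀ g x, φ z (φ g x) = φ g (φ z x) := fun g x => by
      rw [← MulAut.mul_apply, ← map_mul, ← hzc g, map_mul, MulAut.mul_apply]
    rw [← hfr]
    refine (bound_of_split f hf1 hH φ hφ hodd _ _ hc ?_ ?_ hn1 hn2 IH).trans ?_
    · intro g x hx
      show φ z (φ g x) = φ g x
      rw [hcomm, mem_fixSub.mp hx]
    · intro g x hx
      show φ z (φ g x) = (φ g x)⁻¹
      rw [hcomm, mem_invSub.mp hx, map_inv]
    · refine (frBound_mul _ _ hn1 hn2).trans (le_of_eq ?_)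
      rw [hc.card_mul]
  push Not at hcz
  by_cases hno : Invol.RoquetteTwo.NoNormalFour H
  · rcases Invol.RoquetteTwo.cyclic_or_index_four hH hno with hcyc | ⟨hnc, h4⟩
    · refine le_trans ?_ (two_le_frBound _ ha hodd)
      haveI := hcyc
      haveI : IsCyclic Q := isCyclic_of_surjective f (QuotientGroup.mk'_surjective _)
      rw [index_eq_card, ← IsCyclic.exponent_eq_card]
      refine Nat.le_of_dvd two_pos (Monoid.exponent_dvd_of_forall_pow_eq_one fun x => ?_)
      obtain ⟨h, rfl⟩ := QuotientGroup.mk'_surjective _ x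
      rw [pow_two]; exact hf1 h
    · haveI := hH.isNilpotent
      have hle : (frattini H).index ≤ 4 := h4 ▸ Nat.le_of_dvd (Nat.pos_of_ne_zero index_ne_zero_of_finite)
        (index_dvd_of_le Basics.commutator_le_frattini)
      rcases Nat.lt_or_ge (Nat.card V) 8 with hsmall | hbig
      · exfalso
        have hp : (Nat.card V).Prime := by
          obtain ⟨k, hk⟩ := hodd
          have hk3 : k = 1 ∨ k = 2 ∨ k = 3 := by omega
          rcases hk3 with rfl | rfl | rfl <;> norm_num [hk]
        haveI := Fact.mk hp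
        haveI : IsCyclic V := isCyclic_of_prime_card rfl
        haveI : IsCyclic (MulAut V) := (IsCyclic.mulAutMulEquiv V).isCyclic.mpr (ZMod.isCyclic_units_prime hp)
        haveI : IsCyclic H := isCyclic_of_injective φ hφ
        exact hnc ⟨⟨fun x y => IsCyclic.commGroup.mul_comm x y⟩⟩
      · refine hle.trans ?_
        unfold frBound; split_ifs <;> omega
  -- a normal four-group
  obtain ⟨E, hEn, hE4, hEsq⟩ : ∃ E : Subgroup H, E.Normal ∧ Nat.card E = 4 ∧ ∀ x ∈ E, x * x = 1 := by
    by_contra hcon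
    exact hno fun E h1 h2 h3 => hcon ⟨E, h1, h2, h3⟩
  haveI := hEn
  obtain ⟨z, hzE, hzC, hz1⟩ := OddLocal.exists_mem_center_ne_one_of_normal hH E
    (fun h => by rw [h, card_bot] at hE4; omega)
  have hzc := mem_center_iff.mp hzC
  have hzi := hcz z hzc (hEsq z hzE) hz1
  obtain ⟨e, heE, he1, hez⟩ : ∃ e ∈ E, e ≠ 1 ∧ e ≠ z := by
    by_contra hcon
    push Not at hcon
    have hsub : (E : Set H) ⊆ {1, z} := fun x hx => by
      by_cases h : x = 1
      · exact Or.inl h
      · exact Or.inr (hcon x hx h)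
    have := Set.ncard_le_ncard hsub
    rw [Set.ncard_pair (Ne.symm hz1), ← Nat.card_coe_set_eq] at this
    exact absurd (hE4 ▸ this) (by norm_num)
  have hzne : z * e ≠ 1 := fun h => hez (by
    rw [← inv_eq_of_mul_eq_one_right h]
    exact inv_eq_of_mul_eq_one_right (hEsq z hzE))
  have hEset : ∀ x ∈ E, x = 1 ∨ x = z ∨ x = e ∨ x = z * e := by
    intro x hx
    by_contra hcon
    push Not at hcon
    obtain ⟨a1, a2, a3, a4⟩ := hcon
    have hcard : ({x, 1, z, e, z * e} : Set H).ncard ≤ 4 := by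
      rw [← hE4, ← Nat.card_coe_set_eq]
      refine Nat.card_mono (Set.toFinite _) ?_
      rintro y (rfl | rfl | rfl | rfl | rfl)
      exacts [hx, one_mem _, hzE, heE, mul_mem hzE heE]
    classical
    have h5 : ({x, 1, z, e, z * e} : Finset H).card = 5 := by
      have b1 : z ≠ z * e := fun h => he1 (mul_left_cancel (h.symm.trans (mul_one z).symm))
      have b2 : e ≠ z * e := fun h => hz1 (mul_right_cancel (h.symm.trans (one_mul e).symm))
      simp [a1, a2, a3, a4, Ne.symm hz1, Ne.symm he1, Ne.symm hzne, Ne.symm hez, b1, b2]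
    have h55 := h5
    rw [← Set.ncard_coe_finset] at h55
    simp only [Finset.coe_insert, Finset.coe_singleton] at h55
    omega
  have heC : ¬ ∀ g, g * e = e * g := fun hec => hez (hφ (MulEquiv.ext fun x =>
    (hcz e hec (hEsq e heE) he1 x).trans (hzi x).symm))
  obtain ⟨t, ht⟩ := not_forall.mp heC
  have hconj : ∀ g : H, g * e * g⁻¹ = e ∨ g * e * g⁻¹ = z * e := by
    intro g
    rcases hEset _ (hEn.conj_mem e heE g) with h | h | h | h
    · exact absurd (conj_eq_one_iff.mp h) he1
    · refine absurd ?_ hez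
      calc e = g⁻¹ * (g * e * g⁻¹) * g := by group
        _ = g⁻¹ * z * g := by rw [h]
        _ = z := by rw [hzc g⁻¹]; group
    · exact Or.inl h
    · exact Or.inr h
  have hte : t * e * t⁻¹ = z * e := (hconj t).resolve_left fun h => ht (mul_inv_eq_iff_eq_mul.mp h)
  set M := centralizer ({e} : Set H) with hM
  have hMidx : M.index ≤ 2 := by
    have hsurj : Function.Surjective (fun b : Bool => if b then (t : H ⧸ M) else ((1 : H) : H ⧸ M)) := by
      intro x
      obtain ⟨g, rfl⟩ := QuotientGroup.mk_surjective x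
      rcases hconj g with h | h
      · refine ⟨false, ?_⟩
        show ((1 : H) : H ⧸ M) = (g : H ⧸ M)
        rw [QuotientGroup.eq, inv_one, one_mul, hM, mem_centralizer_singleton_iff]
        exact mul_inv_eq_iff_eq_mul.mp h
      · refine ⟨true, ?_⟩
        simp only [if_true]
        rw [QuotientGroup.eq, hM, mem_centralizer_singleton_iff]
        calc t⁻¹ * g * e = t⁻¹ * (g * e * g⁻¹) * g := by group
          _ = t⁻¹ * (t * e * t⁻¹) * g := by rw [h, hte]
          _ = e * (t⁻¹ * g) := by group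
    rw [index_eq_card]
    exact (Nat.card_le_card_of_surjective _ hsurj).trans (by simp)
  have hne : φ e ≠ 1 := fun h => he1 (hφ (h.trans (map_one φ).symm))
  have hex : ∃ x, φ e x ≠ x⁻¹ := by
    by_contra hcon
    push Not at hcon
    exact hez (hφ (MulEquiv.ext fun x => (hcon x).trans (hzi x).symm))
  have hee := hinvol e (hEsq e heE)
  obtain ⟨hn1, hn2⟩ := one_lt_card_fix_inv hodd (φ e) hee hne hex
  have hc := fix_inv_complement hodd (φ e) hee
  have hinv1 : ∀ m : M, ∀ x ∈ fixSub (φ e), φ m x ∈ fixSub (φ e) := fun m x hx => by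
    rw [mem_fixSub, ← MulAut.mul_apply, ← map_mul, ← mem_centralizer_singleton_iff.mp m.2, map_mul, MulAut.mul_apply,
      mem_fixSub.mp hx]
  have hinv2 : ∀ m : M, ∀ x ∈ invSub (φ e), φ m x ∈ invSub (φ e) := fun m x hx => by
    rw [mem_invSub, ← MulAut.mul_apply, ← map_mul, ← mem_centralizer_singleton_iff.mp m.2, map_mul, MulAut.mul_apply,
      mem_invSub.mp hx, map_inv]
  -- `t` interchanges the two parts
  have het : e * t = t * (z * e) := by
    have hzt : z * t = t * z := (hzc t).symm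
    have h1 : t * e = z * e * t := mul_inv_eq_iff_eq_mul.mp hte
    calc e * t = z * (z * e * t) := by rw [← mul_assoc, ← mul_assoc, hEsq z hzE, one_mul]
      _ = z * (t * e) := by rw [h1]
      _ = t * (z * e) := by rw [← mul_assoc, hzt, mul_assoc]
  have hswap1 : ∀ x ∈ fixSub (φ e), φ t x ∈ invSub (φ e) := fun x hx => by
    rw [mem_invSub, ← MulAut.mul_apply, ← map_mul, het, map_mul, map_mul, MulAut.mul_apply, MulAut.mul_apply,
      mem_fixSub.mp hx, hzi, map_inv]
  have hswap2 : ∀ x ∈ invSub (φ e), φ t x ∈ fixSub (φ e) := fun x hx => by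
    rw [mem_fixSub, ← MulAut.mul_apply, ← map_mul, het, map_mul, map_mul, MulAut.mul_apply, MulAut.mul_apply,
      mem_invSub.mp hx, hzi, inv_inv]
  have hsame : Nat.card (invSub (φ e)) = Nat.card (fixSub (φ e)) := le_antisymm
    (Nat.card_le_card_of_injective (fun x => (⟨φ t x, hswap2 x x.2⟩ : fixSub (φ e)))
      fun x y hxy => Subtype.ext ((φ t).injective (congrArg Subtype.val hxy)))
    (Nat.card_le_card_of_injective (fun x => (⟨φ t x, hswap1 x x.2⟩ : invSub (φ e)))
      fun x y hxy => Subtype.ext ((φ t).injective (congrArg Subtype.val hxy)))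
  have hcard := hc.card_mul
  rw [hsame] at hcard
  by_cases h3 : Nat.card (fixSub (φ e)) = 3
  · rw [h3] at hcard
    have hH8 : Nat.card H ≤ 8 := by
      rw [← M.card_mul_index]
      refine (Nat.mul_le_mul ?_ hMidx).trans (le_refl (4 * 2))
      let ρ1 := restrAut (φ.comp M.subtype) _ hinv1
      let ρ2 := restrAut (φ.comp M.subtype) _ hinv2
      have hinj : Function.Injective (ρ1.prod ρ2) := by
        intro m m' hm
        refine Subtype.ext (hφ (MulEquiv.ext fun x => ?_))
        obtain ⟨⟨⟨x1, hx1⟩, ⟨x2, hx2⟩⟩, hx⟩ := hc.2 x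
        have e1 := congrArg Subtype.val (DFunLike.congr_fun (congrArg Prod.fst hm) (⟨x1, hx1⟩ : fixSub (φ e)))
        have e2 := congrArg Subtype.val (DFunLike.congr_fun (congrArg Prod.snd hm) (⟨x2, hx2⟩ : invSub (φ e)))
        rw [← hx]
        show φ m (x1 * x2) = φ m' (x1 * x2)
        rw [map_mul, map_mul]
        exact congrArg₂ (· * ·) e1 e2
      refine (Nat.card_le_card_of_injective _ hinj).trans ?_
      have haut : ∀ W : Subgroup V, Nat.card W = 3 → Nat.card (MulAut W) = 2 := by
        intro W hW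
        haveI : Fact (Nat.Prime 3) := ⟨by norm_num⟩
        haveI : IsCyclic W := isCyclic_of_prime_card hW
        rw [Nat.card_congr (IsCyclic.mulAutMulEquiv W).toEquiv, hW, Nat.card_eq_fintype_card, ZMod.card_units_eq_totient]
        decide
      rw [Nat.card_prod, haut _ h3, haut _ (hsame.trans h3)]
    have hfne : frattini H ≠ ⊥ := by
      intro h
      refine ht ?_
      haveI := hH.isNilpotent
      have := Basics.commutator_le_frattini (G := H)
      rw [h, le_bot_iff, commutator_eq_bot_iff_center_eq_top] at this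
      exact mem_center_iff.mp (this.ge (mem_top e)) t
    have h2 : 2 * (frattini H).index ≤ Nat.card H := by
      rw [← (frattini H).card_mul_index]
      exact Nat.mul_le_mul_right _ (one_lt_card_iff_ne_bot _ |>.mpr hfne)
    rw [← hcard]
    show (frattini H).index ≤ frBound (3 * 3)
    norm_num [frBound]
    omega
  · have hb := bound_of_split (f.comp M.subtype) (fun m => hf1 m) (hH.to_subgroup M) (φ.comp M.subtype)
      (hφ.comp M.subtype_injective) hodd _ _ hc hinv1 hinv2 hn1 hn2 IH
    rw [hsame, MonoidHom.range_comp, range_subtype] at hb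
    refine le_trans ?_ (le_of_le_of_eq (two_mul_frBound_sq _ hn1 h3) (congrArg frBound hcard))
    rw [index_eq_card, ← (M.map f).card_mul_index]
    have hd : (M.map f).index ≤ 2 := (Nat.le_of_dvd (Nat.pos_of_ne_zero index_ne_zero_of_finite)
      (index_map_dvd M (QuotientGroup.mk'_surjective _))).trans hMidx
    exact (Nat.mul_le_mul hb hd).trans (le_of_eq (mul_comm _ _))

end Cfsg.Agent.FGB
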