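import Mathlib

/-!
# Two primes with a gap in `(m/2, m]`

A variant of Erdős' proof of Bertrand's postulate: for large `n` there are at least three primes in
`(n, 2 n]`.
-/

set_option autoImplicit false

namespace Cfsg.Agent.FGB

open Finset Nat

theorem add_nine_le_two_pow {t : ℕ} (ht : 6 ≤ t) : 8 * t + 9 ≤ 2 ^ t := by
  induction t, ht using Nat.le_induction with
  | base => norm_num
  | succ t ht ih => rw [pow_succ]; omega

theorem two_primes_main_inequality {n : ℕ} (hn : 1320 ≤ n) :
    n * ((2 * n) ^ (Nat.sqrt (2 * n) + 2) * 4 ^ (2 * n / 3)) ≤ 4 ^ n := by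
  set s := Nat.sqrt (2 * n) with hs
  set t := s / 8 with ht
  have hs1 : s * s ≤ 2 * n := Nat.sqrt_le (2 * n)
  have hs2 : 2 * n < (s + 1) * (s + 1) := Nat.lt_succ_sqrt (2 * n)
  have hs48 : 48 ≤ s := Nat.le_sqrt.mpr (by omega)
  have ht6 : 6 ≤ t := by omega
  have hsu : s + 1 ≤ 2 ^ t := le_trans (by omega) (add_nine_le_two_pow ht6)
  have h2n : 2 * n ≤ 2 ^ (2 * t) := by
    rw [two_mul t, pow_add]
    exact le_trans hs2.le (Nat.mul_le_mul hsu hsu)
  have hexp : t * (s + 3) ≤ n - 2 * n / 3 := by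
    have h8 : 8 * t * (8 * t) ≤ s * s := Nat.mul_le_mul (by omega) (by omega)
    have hs7 : t * (s + 3) ≤ t * (8 * t + 10) := Nat.mul_le_mul_left t (by omega)
    have h9 : 3 * (t * (8 * t + 10)) ≤ n := by nlinarith
    omega
  calc n * ((2 * n) ^ (s + 2) * 4 ^ (2 * n / 3))
      ≤ (2 * n) * ((2 * n) ^ (s + 2) * 4 ^ (2 * n / 3)) := Nat.mul_le_mul_right _ (by omega)
    _ = (2 * n) ^ (s + 3) * 4 ^ (2 * n / 3) := by rw [pow_succ' (2 * n) (s + 2)]; ring
    _ ≤ (2 ^ (2 * t)) ^ (s + 3) * 4 ^ (2 * n / 3) :=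
        Nat.mul_le_mul_right _ (Nat.pow_le_pow_left h2n _)
    _ = 4 ^ (t * (s + 3) + 2 * n / 3) := by
        rw [pow_add (4 : ℕ), show (4 : ℕ) ^ (t * (s + 3)) = (2 ^ (2 * t)) ^ (s + 3) by
          rw [← pow_mul 2 (2 * t) (s + 3), show (4 : ℕ) = 2 ^ 2 by norm_num, ← pow_mul]; ring_nf]
    _ ≤ 4 ^ n := Nat.pow_le_pow_right (by norm_num) (by omega)

theorem three_le_card_primes {n : ℕ} (hn : 1320 ≤ n) :
    3 ≤ ((Finset.Ioc n (2 * n)).filter Nat.Prime).card := by
  by_contra hlt
  set E := (Finset.Ioc n (2 * n)).filter Nat.Prime with hE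
  have hpos : 1 ≤ 2 * n := by omega
  let f : ℕ → ℕ := fun x => x ^ n.centralBinom.factorization x
  have hsplit : n.centralBinom ≤
      (2 * n) ^ (Nat.sqrt (2 * n) + 2) * 4 ^ (2 * n / 3) := by
    let A := (Finset.range (2 * n / 3 + 1)).filter Nat.Prime
    have hdisj : Disjoint A E := by
      rw [Finset.disjoint_left]
      intro x hx hx'
      have h1 := Finset.mem_range.mp (Finset.mem_filter.mp hx).1
      have h2 := (Finset.mem_Ioc.mp (Finset.mem_filter.mp hx').1).1
      omega
    have hsub : A ∪ E ⊆ Finset.range (2 * n + 1) := by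
      intro x hx
      rw [Finset.mem_range]
      rcases Finset.mem_union.mp hx with h | h
      · have := Finset.mem_range.mp (Finset.mem_filter.mp h).1; omega
      · have := (Finset.mem_Ioc.mp (Finset.mem_filter.mp h).1).2; omega
    have hprod : ∏ x ∈ A ∪ E, f x = n.centralBinom := by
      refine (Finset.prod_subset hsub fun x hx hx' => ?_).trans n.prod_pow_factorization_centralBinom
      show x ^ _ = 1
      by_cases hp : x.Prime
      · have hx2 : x ≤ 2 * n := by have := Finset.mem_range.mp hx; omega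
        simp only [A, hE, Finset.mem_union, Finset.mem_filter, Finset.mem_range, Finset.mem_Ioc, hp,
          and_true, not_or] at hx'
        rw [factorization_centralBinom_of_two_mul_self_lt_three_mul (by omega) (by omega) (by omega),
          pow_zero]
      · rw [factorization_eq_zero_of_not_prime _ hp, pow_zero]
    have hle : ∀ x, f x ≤ 2 * n := fun x => pow_factorization_choose_le (by omega)
    have hB : ∏ x ∈ E, f x ≤ (2 * n) ^ 2 :=
      (Finset.prod_le_pow_card _ _ _ fun x _ => hle x).trans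
        (Nat.pow_le_pow_right hpos (by omega))
    have hA : ∏ x ∈ A, f x ≤ (2 * n) ^ Nat.sqrt (2 * n) * 4 ^ (2 * n / 3) := by
      rw [← Finset.prod_filter_mul_prod_filter_not A (· ≤ Nat.sqrt (2 * n))]
      apply Nat.mul_le_mul
      · refine (Finset.prod_le_pow_card _ _ _ fun x _ => hle x).trans
          (Nat.pow_le_pow_right hpos ?_)
        calc _ ≤ (Finset.Icc 1 (Nat.sqrt (2 * n))).card := Finset.card_le_card fun x hx => by
              obtain ⟨h1, h2⟩ := Finset.mem_filter.mp hx
              exact Finset.mem_Icc.mpr ⟨(Finset.mem_filter.mp h1).2.one_lt.le, h2⟩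
          _ = _ := by simp
      · refine le_trans ?_ (primorial_le_four_pow (2 * n / 3))
        refine (Finset.prod_le_prod' fun x hx => (?_ : f x ≤ x)).trans ?_
        · obtain ⟨h1, h2⟩ := Finset.mem_filter.mp hx
          refine (Nat.pow_le_pow_right (Finset.mem_filter.mp h1).2.pos ?_).trans (pow_one x).le
          exact Nat.factorization_choose_le_one (Nat.sqrt_lt'.mp (not_le.mp h2))
        · exact Finset.prod_le_prod_of_subset_of_one_le' (Finset.filter_subset _ _)
            fun x hx _ => (Finset.mem_filter.mp hx).2.one_lt.le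
    rw [← hprod, Finset.prod_union hdisj, pow_add, mul_right_comm]
    exact Nat.mul_le_mul hA hB
  have h1 := Nat.four_pow_lt_mul_centralBinom n (by omega)
  have h2 := two_primes_main_inequality hn
  have h3 := Nat.mul_le_mul_left n hsplit
  omega

/-- For `17 ≤ m` there are primes `p`, `q` with `m < 2 p`, `p + 3 ≤ q ≤ m`. -/
theorem exists_two_primes_gap {m : ℕ} (hm : 17 ≤ m) :
    ∃ p q : ℕ, p.Prime ∧ q.Prime ∧ m < 2 * p ∧ p + 3 ≤ q ∧ q ≤ m := by
  by_cases h1 : m ≤ 21
  · exact ⟨11, 17, by norm_num, by norm_num, by omega, by omega, by omega⟩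
  by_cases h2 : m ≤ 25
  · exact ⟨13, 19, by norm_num, by norm_num, by omega, by omega, by omega⟩
  by_cases h3 : m ≤ 37
  · exact ⟨19, 23, by norm_num, by norm_num, by omega, by omega, by omega⟩
  by_cases h4 : m ≤ 61
  · exact ⟨31, 37, by norm_num, by norm_num, by omega, by omega, by omega⟩
  by_cases h5 : m ≤ 105
  · exact ⟨53, 59, by norm_num, by norm_num, by omega, by omega, by omega⟩
  by_cases h6 : m ≤ 193
  · exact ⟨97, 103, by norm_num, by norm_num, by omega, by omega, by omega⟩
  by_cases h7 : m ≤ 361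
  · exact ⟨181, 191, by norm_num, by norm_num, by omega, by omega, by omega⟩
  by_cases h8 : m ≤ 697
  · exact ⟨349, 359, by norm_num, by norm_num, by omega, by omega, by omega⟩
  by_cases h9 : m ≤ 1365
  · exact ⟨683, 691, by norm_num, by norm_num, by omega, by omega, by omega⟩
  by_cases h10 : m ≤ 2641
  · exact ⟨1321, 1327, by norm_num, by norm_num, by omega, by omega, by omega⟩
  have h := three_le_card_primes (n := m / 2) (by omega)
  set E := (Finset.Ioc (m / 2) (2 * (m / 2))).filter Nat.Prime with hE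
  have hne : E.Nonempty := Finset.card_pos.mp (by omega)
  have hp := E.min'_mem hne
  have hq := E.max'_mem hne
  set p := E.min' hne with hpd
  set q := E.max' hne with hqd
  obtain ⟨hp1, hp2⟩ := Finset.mem_filter.mp hp
  obtain ⟨hq1, hq2⟩ := Finset.mem_filter.mp hq
  rw [Finset.mem_Ioc] at hp1 hq1
  refine ⟨p, q, hp2, hq2, by omega, ?_, by omega⟩
  -- three odd numbers in `[p, q]`
  have hodd : ∀ x ∈ E, x % 2 = 1 := fun x hx => by
    obtain ⟨hx1, hx2⟩ := Finset.mem_filter.mp hx
    rw [Finset.mem_Ioc] at hx1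
    exact Nat.odd_iff.mp (hx2.odd_of_ne_two (by omega))
  have hsub : E ⊆ (Finset.Icc p q).filter fun x => x % 2 = 1 := fun x hx =>
    Finset.mem_filter.mpr ⟨Finset.mem_Icc.mpr ⟨E.min'_le x hx, E.le_max' x hx⟩, hodd x hx⟩
  by_contra hgap
  have hsub2 : E ⊆ {p, p + 2} := fun x hx => by
    obtain ⟨hx1, hx2⟩ := Finset.mem_filter.mp (hsub hx)
    rw [Finset.mem_Icc] at hx1
    have := hodd p hp
    rw [Finset.mem_insert, Finset.mem_singleton]
    omega
  have := (Finset.card_le_card hsub2).trans (Finset.card_le_two)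
  omega

end Cfsg.Agent.FGB
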