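/-
A normal subgroup containing a noncentral Sylow subgroup with two G-class sizes.
Basic facts.
-/
import Mathlib
import Cfsg.Agent.Lib.FGB.TwoClassSizes

set_option autoImplicit false
set_option linter.all false

namespace Cfsg.Agent.FGB.TSN

open Subgroup
open scoped Pointwise

variable {G : Type*} [Group G] [Finite G]

local notation "C(" x ")" => Subgroup.centralizer (({x} : Set G))

/-- The elements of `r`-power order. -/
def RElem (r : ℕ) (u : G) : Prop := ∃ k, orderOf u = r ^ k

/-- The standing hypothesis. -/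
structure Hyp (r : ℕ) (N : Subgroup G) (m : ℕ) : Prop where
  one_lt : 1 < m
  size : ∀ u ∈ N, u ∉ center G → (C(u)).index = m
  relem_mem : ∀ u : G, RElem r u → u ∈ N
  nc : ∃ y : G, RElem r y ∧ y ∉ center G

variable {r m : ℕ} [hr : Fact r.Prime] {N : Subgroup G} [N.Normal]

theorem relem_of_mem {P : Subgroup G} (hP : IsPGroup r P) {u : G} (hu : u ∈ P) : RElem r u := by
  obtain ⟨k, hk⟩ := IsPGroup.iff_orderOf.mp hP ⟨u, hu⟩
  exact ⟨k, by rw [← hk, Subgroup.orderOf_mk]⟩

theorem isPGroup_zpowers {u : G} (h : RElem r u) : IsPGroup r (zpowers u) := by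
  obtain ⟨k, hk⟩ := h
  exact IsPGroup.of_card (n := k) (by rw [Nat.card_zpowers, hk])

theorem relem_conj {u : G} (g : G) (h : RElem r u) : RElem r (g * u * g⁻¹) := by
  obtain ⟨k, hk⟩ := h
  exact ⟨k, by rw [← hk]; exact (MulAut.conj g).orderOf_eq u⟩

theorem coprime_relem {a : G} (ha : RElem r a) {t : G} (ht : (orderOf t).Coprime r) :
    (orderOf a).Coprime (orderOf t) := by
  obtain ⟨k, hk⟩ := ha
  rw [hk]
  exact Nat.Coprime.pow_left k ht.symm

theorem eq_one_of_relem_of_pow {c : G} (hc : RElem r c) {n : ℕ} (hn : n.Coprime r) (h : c ^ n = 1) : c = 1 := by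
  obtain ⟨k, hk⟩ := hc
  have h1 := orderOf_dvd_of_pow_eq_one h
  exact orderOf_eq_one_iff.mp (Nat.eq_one_of_dvd_coprimes (Nat.Coprime.pow_left k hn.symm)
    (hk ▸ dvd_rfl) h1)

theorem conj_not_central {u : G} (hu : u ∉ center G) (g : G) : g * u * g⁻¹ ∉ center G := fun h => hu (by
  have h1 := (inferInstance : (center G).Normal).conj_mem _ h g⁻¹
  rwa [show g⁻¹ * (g * u * g⁻¹) * g⁻¹⁻¹ = u by group] at h1)

theorem centralizer_mul_central (u : G) {z : G} (hz : z ∈ center G) : C(u * z) = C(u) := by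
  ext g
  rw [mem_centralizer_singleton_iff, mem_centralizer_singleton_iff]
  have hgz : Commute g z := mem_center_iff.mp hz g
  exact ⟨fun h => by
    have := (show Commute g (u * z) from h).mul_right hgz.inv_right
    rwa [mul_inv_cancel_right] at this, fun h => (show Commute g u from h).mul_right hgz⟩

theorem map_conj_centralizer (g u : G) :
    (C(u)).map (MulAut.conj g).toMonoidHom = C(g * u * g⁻¹) := by
  ext y
  constructor
  · rintro ⟨c, hc, rfl⟩
    exact (conj_mem_centralizer_singleton_iff u g c).mpr hc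
  · intro hy
    refine ⟨g⁻¹ * y * g, ?_, by simp [MulAut.conj_apply, mul_assoc]⟩
    apply (conj_mem_centralizer_singleton_iff u g _).mp
    rwa [show g * (g⁻¹ * y * g) * g⁻¹ = y by group]

/-- A Sylow subgroup centralised by an element of class size prime to `r`. -/
theorem exists_sylow_le {x : G} (hx : ¬ r ∣ (C(x)).index) : ∃ Q : Sylow r G, (Q : Subgroup G) ≤ C(x) := by
  obtain ⟨R0⟩ : Nonempty (Sylow r C(x)) := inferInstance
  set R := (R0 : Subgroup C(x)).map (C(x)).subtype with hR
  have hRidx : ¬ r ∣ R.index := by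
    rw [hR, ← relIndex_mul_index (map_subtype_le (R0 : Subgroup C(x))), hr.out.dvd_mul]
    rintro (hd | hd)
    · rw [relIndex, subgroupOf, comap_map_eq_self_of_injective (C(x)).subtype_injective] at hd
      exact R0.not_dvd_index hd
    · exact hx hd
  exact ⟨(R0.2.map (C(x)).subtype).toSylow hRidx, map_subtype_le _⟩

theorem not_central_sylow {u : G} (hu : RElem r u) {Q : Sylow r G} (h : (Q : Subgroup G) ≤ C(u)) :
    u ∈ (Q : Subgroup G) := by
  have hn : (Q : Subgroup G) ≤ normalizer (zpowers u : Set G) := by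
    intro g hg
    have hc : Commute g u := mem_centralizer_singleton_iff.mp (h hg)
    rw [mem_normalizer_iff]
    intro v
    constructor
    · rintro ⟨j, rfl⟩
      exact ⟨j, by show u ^ j = g * u ^ j * g⁻¹; rw [(hc.zpow_right j).eq, mul_inv_cancel_right]⟩
    · rintro ⟨j, hj⟩
      refine ⟨j, ?_⟩
      change u ^ j = g * v * g⁻¹ at hj
      calc u ^ j = g⁻¹ * (g * u ^ j) := by group
        _ = g⁻¹ * (u ^ j * g) := by rw [(hc.zpow_right j).eq]
        _ = v := by rw [hj]; group
  exact ((Q.3 ((isPGroup_zpowers hu).to_sup_of_normal_left' Q.2 hn) le_sup_right).le)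
    (mem_sup_left (mem_zpowers u))

theorem eq_of_le (H : Hyp r N m) {u v : G} (hu : u ∈ N) (hu' : u ∉ center G) (hv : v ∈ N) (hv' : v ∉ center G)
    (h : C(u) ≤ C(v)) : C(u) = C(v) := by
  refine eq_of_le_of_card_ge h (le_of_eq ?_)
  have h1 := (C(v)).card_mul_index
  have h2 := (C(u)).card_mul_index
  rw [H.size v hv hv'] at h1
  rw [H.size u hu hu'] at h2
  exact Nat.eq_of_mul_eq_mul_right (by linarith [H.one_lt]) (h1.trans h2.symm)

theorem card_centralizer (H : Hyp r N m) {u v : G} (hu : u ∈ N) (hu' : u ∉ center G) (hv : v ∈ N)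
    (hv' : v ∉ center G) : Nat.card C(u) = Nat.card C(v) := by
  have h1 := (C(v)).card_mul_index
  have h2 := (C(u)).card_mul_index
  rw [H.size v hv hv'] at h1
  rw [H.size u hu hu'] at h2
  exact Nat.eq_of_mul_eq_mul_right (by linarith [H.one_lt]) (h2.trans h1.symm)

theorem coprime_eq (H : Hyp r N m) {a b : G} (ha : a ∈ N) (ha' : a ∉ center G) (hb : b ∈ N) (hb' : b ∉ center G)
    (hab : Commute a b) (hco : (orderOf a).Coprime (orderOf b)) : C(a) = C(b) := by
  have e := centralizer_mul_of_coprime hab hco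
  have hc : a * b ∉ center G := by
    intro hc
    have h1 : C(a * b) = ⊤ := centralizer_singleton_eq_top_iff.mpr hc
    rw [e] at h1
    exact ha' (centralizer_singleton_eq_top_iff.mp (top_le_iff.mp (h1.ge.trans inf_le_left)))
  exact (eq_of_le H (mul_mem ha hb) hc ha ha' (e.le.trans inf_le_left)).symm.trans
    (eq_of_le H (mul_mem ha hb) hc hb hb' (e.le.trans inf_le_right))

theorem centralizer_le_of_mem_zpowers {u w : G} (hw : w ∈ zpowers u) : C(u) ≤ C(w) := by
  obtain ⟨i, rfl⟩ := hw
  exact fun c hc => mem_centralizer_singleton_iff.mpr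
    ((show Commute c u from mem_centralizer_singleton_iff.mp hc).zpow_right i).eq

omit [N.Normal] in
/-- Some prime-power part of a noncentral element is noncentral. -/
theorem exists_ncpart (H : Subgroup G) {u : G} (hu : u ∈ H) (hu' : u ∉ center G) :
    ∃ (w : G) (s k : ℕ), s.Prime ∧ w ∈ zpowers u ∧ w ∈ H ∧ orderOf w = s ^ k ∧ w ∉ center G := by
  set W := zpowers u with hW
  have hidx : ((center G).subgroupOf W).index ≠ 1 := fun h =>
    hu' (subgroupOf_eq_top.mp (index_eq_one.mp h) (mem_zpowers u))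
  obtain ⟨s, hs, hsd⟩ := Nat.exists_prime_and_dvd hidx
  haveI := Fact.mk hs
  obtain ⟨T⟩ : Nonempty (Sylow s W) := inferInstance
  obtain ⟨t, ht, htn⟩ : ∃ t ∈ (T : Subgroup W), t ∉ (center G).subgroupOf W := by
    by_contra hcon
    push Not at hcon
    exact T.not_dvd_index (hsd.trans (index_dvd_of_le hcon))
  obtain ⟨k, hk⟩ := IsPGroup.iff_orderOf.mp T.2 ⟨t, ht⟩
  refine ⟨t, s, k, hs, t.2, zpowers_le.mpr hu t.2, ?_, htn⟩
  rw [Subgroup.orderOf_mk] at hk
  rw [Subgroup.orderOf_coe, hk]

/-- Every centralizer of a noncentral element of `N` has a noncentral `r`-element. -/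
theorem exists_relem (H : Hyp r N m) {w : G} (hwN : w ∈ N) (hw : w ∉ center G) :
    ∃ a ∈ C(w), RElem r a ∧ a ∉ center G := by
  by_contra hcon
  push Not at hcon
  obtain ⟨y, hy, hyn⟩ := H.nc
  obtain ⟨S⟩ : Nonempty (Sylow r C(w)) := inferInstance
  set S' := (S : Subgroup C(w)).map (C(w)).subtype with hS'
  have hS : S' ≤ center G := by
    rintro s hs
    exact hcon s (map_subtype_le _ hs) (relem_of_mem (S.2.map _) hs)
  have hnorm : zpowers y ≤ normalizer (S' : Set G) := fun z _ => mem_normalizer_iff.mpr fun s => by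
    constructor
    · intro hs; rw [mem_center_iff.mp (hS hs) z, mul_inv_cancel_right]; exact hs
    · intro hs
      have h2 := mem_center_iff.mp (hS hs) z⁻¹
      have : s = z * s * z⁻¹ := by
        calc s = z⁻¹ * (z * s * z⁻¹) * z := by group
          _ = z * s * z⁻¹ := by rw [h2]; group
      exact this ▸ hs
  have hU : IsPGroup r (S' ⊔ zpowers y : Subgroup G) :=
    (S.2.map _).to_sup_of_normal_left' (isPGroup_zpowers hy) hnorm
  have hUC : S' ⊔ zpowers y ≤ C(y) :=
    sup_le (hS.trans (center_le_C y)) (zpowers_le.mpr (mem_centralizer_singleton_self y))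
  have h1 := card_le_pow_factorization hU hUC
  rw [card_centralizer H (H.relem_mem y hy) hyn hwN hw, ← S.card_eq_multiplicity,
    ← card_map_of_injective (K := (S : Subgroup C(w))) (C(w)).subtype_injective] at h1
  have heq : S' = S' ⊔ zpowers y := eq_of_le_of_card_ge le_sup_left h1
  exact hyn (hS (heq.ge (mem_sup_right (mem_zpowers y))))

/-- A noncentral `r`-element commuting with a noncentral `r'`-element of `N`. -/
def Good (r : ℕ) (N : Subgroup G) (s : G) : Prop :=
  RElem r s ∧ s ∉ center G ∧ ∃ t ∈ N, t ∉ center G ∧ (orderOf t).Coprime r ∧ Commute s t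

theorem Good.mem (H : Hyp r N m) {s : G} (hs : Good r N s) : s ∈ N := H.relem_mem s hs.1

theorem Good.conj {s : G} (hs : Good r N s) (g : G) : Good r N (g * s * g⁻¹) := by
  obtain ⟨h1, h2, t, htN, ht, htr, hst⟩ := hs
  refine ⟨relem_conj g h1, conj_not_central h2 g, g * t * g⁻¹,
    (inferInstance : N.Normal).conj_mem t htN g, conj_not_central ht g, ?_, ?_⟩
  · have : orderOf (g * t * g⁻¹) = orderOf t := (MulAut.conj g).orderOf_eq t
    rw [this]; exact htr
  · show g * s * g⁻¹ * (g * t * g⁻¹) = g * t * g⁻¹ * (g * s * g⁻¹)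
    calc g * s * g⁻¹ * (g * t * g⁻¹) = g * (s * t) * g⁻¹ := by group
      _ = g * (t * s) * g⁻¹ := by rw [hst.eq]
      _ = _ := by group

/-- All noncentral elements of `N ∩ C(s)` have centralizer `C(s)`. -/
theorem Good.centralizer_eq (H : Hyp r N m) {s : G} (hs : Good r N s) {u : G} (huN : u ∈ N) (hu : u ∉ center G)
    (hus : u ∈ C(s)) : C(u) = C(s) := by
  obtain ⟨hsr, hsn, t, htN, ht, htr, hst⟩ := hs
  have hts : C(s) = C(t) := coprime_eq H (H.relem_mem s hsr) hsn htN ht hst (coprime_relem hsr htr)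
  obtain ⟨a, b, ha, hb, hab, hak, hbk, hcomm⟩ := exists_parts u r
  have haN : a ∈ N := zpowers_le.mpr huN ha
  have hbN : b ∈ N := zpowers_le.mpr huN hb
  have haC : a ∈ C(s) := zpowers_le.mpr hus ha
  have hbC : b ∈ C(s) := zpowers_le.mpr hus hb
  have hA : C(s) ≤ C(a) := by
    by_cases han : a ∈ center G
    · rw [centralizer_singleton_eq_top_iff.mpr han]; exact le_top
    · rw [hts] at haC ⊢
      exact (coprime_eq H htN ht haN han (show Commute a t from mem_centralizer_singleton_iff.mp haC).symm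
        (coprime_relem hak htr).symm).le
  have hB : C(s) ≤ C(b) := by
    by_cases hbn : b ∈ center G
    · rw [centralizer_singleton_eq_top_iff.mpr hbn]; exact le_top
    · exact (coprime_eq H (H.relem_mem s hsr) hsn hbN hbn
        (show Commute b s from mem_centralizer_singleton_iff.mp hbC).symm (coprime_relem hsr hbk)).le
  refine (eq_of_le H (H.relem_mem s hsr) hsn huN hu fun c hc => mem_centralizer_singleton_iff.mpr ?_).symm
  rw [← hab]
  exact ((show Commute c a from mem_centralizer_singleton_iff.mp (hA hc)).mul_right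
    (mem_centralizer_singleton_iff.mp (hB hc))).eq

theorem Good.commute_of_mem (H : Hyp r N m) {s : G} (hs : Good r N s) {u v : G} (huN : u ∈ N) (hus : u ∈ C(s))
    (hvs : v ∈ C(s)) : Commute u v := by
  by_cases hu : u ∈ center G
  · exact (mem_center_iff.mp hu v).symm
  · rw [← hs.centralizer_eq H huN hu hus] at hvs
    exact (show Commute v u from mem_centralizer_singleton_iff.mp hvs).symm

theorem Good.good_of_mem (H : Hyp r N m) {s : G} (hs : Good r N s) {u : G} (hu : RElem r u) (hu' : u ∉ center G)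
    (hus : u ∈ C(s)) : Good r N u := by
  obtain ⟨-, -, t, htN, ht, htr, hst⟩ := id hs
  exact ⟨hu, hu', t, htN, ht, htr, hs.commute_of_mem H (H.relem_mem u hu) hus
    (mem_centralizer_singleton_iff.mpr hst.symm.eq)⟩

/-- The `r`-elements of `C(s)`. -/
def rPart (H : Hyp r N m) {s : G} (hs : Good r N s) : Subgroup G where
  carrier := {u | RElem r u ∧ u ∈ C(s)}
  one_mem' := ⟨⟨0, by simp⟩, one_mem _⟩
  mul_mem' := by
    rintro u v ⟨hu, hu'⟩ ⟨hv, hv'⟩
    refine ⟨?_, mul_mem hu' hv'⟩
    have hc := hs.commute_of_mem H (H.relem_mem u hu) hu' hv'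
    obtain ⟨i, hi⟩ := hu
    obtain ⟨j, hj⟩ := hv
    obtain ⟨k, -, hk⟩ := (Nat.dvd_prime_pow hr.out).mp
      (show orderOf (u * v) ∣ r ^ (i + j) by rw [pow_add, ← hi, ← hj]; exact hc.orderOf_mul_dvd_mul_orderOf)
    exact ⟨k, hk⟩
  inv_mem' := by
    rintro u ⟨⟨k, hk⟩, hu'⟩
    exact ⟨⟨k, by rw [orderOf_inv, hk]⟩, inv_mem hu'⟩

theorem mem_rPart (H : Hyp r N m) {s : G} (hs : Good r N s) {u : G} :
    u ∈ rPart H hs ↔ RElem r u ∧ u ∈ C(s) := Iff.rfl

theorem rPart_isPGroup (H : Hyp r N m) {s : G} (hs : Good r N s) : IsPGroup r (rPart H hs) := by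
  refine IsPGroup.iff_orderOf.mpr fun u => ?_
  obtain ⟨k, hk⟩ := ((mem_rPart H hs).mp u.2).1
  exact ⟨k, by rw [← hk, Subgroup.orderOf_coe]⟩

theorem rPart_card (H : Hyp r N m) {s : G} (hs : Good r N s) :
    Nat.card (rPart H hs) = r ^ (Nat.card C(s)).factorization r := by
  refine le_antisymm (card_le_pow_factorization (rPart_isPGroup H hs) fun u hu => hu.2) ?_
  obtain ⟨S⟩ : Nonempty (Sylow r C(s)) := inferInstance
  rw [← S.card_eq_multiplicity, ← card_map_of_injective (K := (S : Subgroup C(s))) (C(s)).subtype_injective]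
  exact Nat.le_of_dvd Nat.card_pos (card_dvd_of_le fun u hu =>
    (mem_rPart H hs).mpr ⟨relem_of_mem (S.2.map _) hu, map_subtype_le _ hu⟩)

theorem card_le_rPart (H : Hyp r N m) {s : G} (hs : Good r N s) {x : G} (hxN : x ∈ N) (hx : x ∉ center G)
    {U : Subgroup G} (hU : IsPGroup r U) (hUx : U ≤ C(x)) : Nat.card U ≤ Nat.card (rPart H hs) := by
  rw [rPart_card, card_centralizer H (hs.mem H) hs.2.1 hxN hx]
  exact card_le_pow_factorization hU hUx

/-- When no `r'`-element of `N` is noncentral, `N` is nilpotent. -/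
theorem isNilpotent_of_no_other (hN : ∀ t ∈ N, (orderOf t).Coprime r → t ∈ center G) :
    Group.IsNilpotent N := by
  apply Group.of_quotient_center_nilpotent
  refine IsPGroup.isNilpotent (p := r) fun q => ?_
  obtain ⟨u, rfl⟩ := QuotientGroup.mk_surjective q
  obtain ⟨a, b, ha, hb, hab, ⟨k, hk⟩, hbk, hcomm⟩ := exists_parts (u : G) r
  have hbZ := hN b (zpowers_le.mpr u.2 hb) hbk
  refine ⟨k, ?_⟩
  rw [← QuotientGroup.mk_pow, QuotientGroup.eq_one_iff, mem_center_iff]
  intro v
  refine Subtype.ext ?_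
  have hp : ((u : G)) ^ r ^ k = b ^ r ^ k := by
    rw [← hab, hcomm.mul_pow, ← hk, pow_orderOf_eq_one, one_mul]
  show (v : G) * ((u ^ r ^ k : N) : G) = ((u ^ r ^ k : N) : G) * v
  rw [SubmonoidClass.coe_pow, hp]
  exact mem_center_iff.mp (pow_mem hbZ _) v

/-- The case of class size prime to `r`. -/
theorem isNilpotent_of_not_dvd (H : Hyp r N m) (R : Sylow r G) (hRN : (R : Subgroup G) ≤ N)
    (hR : ¬ (R : Subgroup G) ≤ center G) (hrm : ¬ r ∣ m)
    {b : G} (hbN : b ∈ N) (hb : b ∉ center G) (hbr : (orderOf b).Coprime r) : Group.IsNilpotent N := by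
  have hnd : ∀ u ∈ N, u ∉ center G → ¬ r ∣ (C(u)).index := fun u hu hu' => by rw [H.size u hu hu']; exact hrm
  -- one centralizer for a Sylow subgroup
  obtain ⟨Q, hQ⟩ := exists_sylow_le (hnd b hbN hb)
  obtain ⟨g0, hg0⟩ := MulAction.exists_smul_eq G R Q
  set K := C(g0⁻¹ * b * g0⁻¹⁻¹) with hK
  set b' := g0⁻¹ * b * g0⁻¹⁻¹ with hb'
  have hb'N : b' ∈ N := (inferInstance : N.Normal).conj_mem b hbN _
  have hb'n : b' ∉ center G := conj_not_central hb _
  have hb'r : (orderOf b').Coprime r := by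
    have : orderOf b' = orderOf b := (MulAut.conj g0⁻¹).orderOf_eq b
    rw [this]; exact hbr
  have hRK : (R : Subgroup G) ≤ K := by
    intro u hu
    have h1 : g0 * u * g0⁻¹ ∈ (Q : Subgroup G) := by
      rw [← hg0, Sylow.coe_subgroup_smul]
      exact ⟨u, hu, rfl⟩
    have h2 := (conj_mem_centralizer_singleton_iff b g0⁻¹ _).mpr (hQ h1)
    rwa [show g0⁻¹ * (g0 * u * g0⁻¹) * g0⁻¹⁻¹ = u by group] at h2
  have hRC : ∀ v ∈ (R : Subgroup G), v ∉ center G → C(v) = K := fun v hv hv' =>
    coprime_eq H (hRN hv) hv' hb'N hb'n (mem_centralizer_singleton_iff.mp (hRK hv))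
      (coprime_relem (relem_of_mem R.2 hv) hb'r)
  obtain ⟨v0, hv0, hv0'⟩ := SetLike.not_le_iff_exists.mp hR
  -- every noncentral element has a conjugate centralizer
  have hall : ∀ u ∈ N, u ∉ center G → ∃ n ∈ N, C(n * u * n⁻¹) = K := by
    intro u hu hu'
    obtain ⟨Q', hQ'⟩ := exists_sylow_le (hnd u hu hu')
    have hQ'N : (Q' : Subgroup G) ≤ N := fun z hz => H.relem_mem z (relem_of_mem Q'.2 hz)
    obtain ⟨n, hn⟩ := MulAction.exists_smul_eq N (Q'.subtype hQ'N) (R.subtype hRN)
    rw [Sylow.smul_subtype] at hn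
    have hn' := Sylow.subtype_injective hn
    refine ⟨n, n.2, ?_⟩
    set u' := (n : G) * u * (n : G)⁻¹ with hu'def
    have hu'N : u' ∈ N := (inferInstance : N.Normal).conj_mem u hu _
    have hu'n : u' ∉ center G := conj_not_central hu' _
    have hRu : (R : Subgroup G) ≤ C(u') := by
      intro z hz
      rw [← hn', Subgroup.smul_def, Sylow.coe_subgroup_smul] at hz
      obtain ⟨q, hq, rfl⟩ := hz
      exact (conj_mem_centralizer_singleton_iff u (n : G) q).mpr (hQ' hq)
    obtain ⟨w, s, k, hs, hwz, hwN, hw, hwn⟩ := exists_ncpart N hu'N hu'n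
    have hle := centralizer_le_of_mem_zpowers hwz
    rw [eq_of_le H hu'N hu'n hwN hwn hle]
    by_cases hsr : s = r
    · subst hsr
      exact hRC w (not_central_sylow ⟨k, hw⟩ (hRu.trans hle)) hwn
    · rw [← hRC v0 hv0 hv0']
      refine coprime_eq H hwN hwn (hRN hv0) hv0' (mem_centralizer_singleton_iff.mp ((hRu.trans hle) hv0)).symm ?_
      refine (coprime_relem (relem_of_mem R.2 hv0) ?_).symm
      rw [hw]
      exact Nat.Coprime.pow_left k ((Nat.coprime_primes hs hr.out).mpr hsr)
  have hNK : N ≤ K := by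
    rw [← subgroupOf_eq_top]
    refine eq_top_of_conj_cover fun u => ?_
    by_cases hu : (u : G) ∈ center G
    · exact ⟨1, by rw [one_mul, inv_one, mul_one, mem_subgroupOf]; exact center_le_C _ hu⟩
    · obtain ⟨n, hn, hC⟩ := hall u u.2 hu
      refine ⟨⟨n, hn⟩, ?_⟩
      rw [mem_subgroupOf]
      show n * (u : G) * n⁻¹ ∈ K
      rw [← hC]
      exact mem_centralizer_singleton_self _
  -- hence `N` is abelian
  haveI : IsMulCommutative N := by
    refine ⟨⟨fun u v => Subtype.ext ?_⟩⟩
    show (u : G) * v = v * u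
    by_cases hu : (u : G) ∈ center G
    · exact (mem_center_iff.mp hu v).symm
    · obtain ⟨n, hn, hC⟩ := hall u u.2 hu
      have h1 : n * (v : G) * n⁻¹ ∈ C(n * (u : G) * n⁻¹) := by
        rw [hC]; exact hNK ((inferInstance : N.Normal).conj_mem v v.2 n)
      exact (mem_centralizer_singleton_iff.mp ((conj_mem_centralizer_singleton_iff (u : G) n v).mp h1)).symm
  letI : CommGroup N := { (inferInstance : Group N) with mul_comm := fun u v => mul_comm' u v }
  infer_instance

end Cfsg.Agent.FGB.TSN
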