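/-
A normal subgroup containing a noncentral Sylow subgroup with two G-class sizes: the local structure.
-/
import Cfsg.Agent.Lib.FGB.TwoSizesNormal
import Cfsg.Agent.Lib.OddLocal.Rank

set_option autoImplicit false
set_option linter.all false

namespace Cfsg.Agent.FGB.TSN

open Subgroup
open scoped Pointwise

/-- Two commuting automorphisms of order `r` fixing nothing outside `Z0`. -/
theorem norm_rank_two {T : Type*} [CommGroup T] {r : ℕ} [hr : Fact r.Prime] (α β : MulAut T)
    (hc : Commute α β) (hα : α ^ r = 1) (hβ : β ^ r = 1) (Z0 : Subgroup T)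
    (hfix : ∀ i j : ℕ, ¬ (r ∣ i ∧ r ∣ j) → ∀ t, (α ^ i * β ^ j) t = t → t ∈ Z0)
    (hZ : ∀ z ∈ Z0, α z ∈ Z0) (t : T) : t ^ r ∈ Z0 := by
  classical
  set g : ℕ → ℕ → T := fun i j => (α ^ i * β ^ j) t with hg
  have hnorm : ∀ γ : MulAut T, γ ^ r = 1 → ∀ u : T, γ (∏ i ∈ Finset.range r, (γ ^ i) u) = ∏ i ∈ Finset.range r, (γ ^ i) u := by
    intro γ hγ u
    rw [map_prod]
    have e : ∀ i, γ ((γ ^ i) u) = (γ ^ (i + 1)) u := fun i => by rw [pow_succ', MulAut.mul_apply]
    simp only [e]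
    have h1 := Finset.prod_range_succ' (fun i => (γ ^ i) u) r
    have h2 := Finset.prod_range_succ (fun i => (γ ^ i) u) r
    rw [hγ] at h2
    simp only [pow_zero, MulAut.one_apply] at h1 h2
    exact mul_right_cancel (h1.symm.trans h2)
  have hZp : ∀ i : ℕ, ∀ z ∈ Z0, (α ^ i) z ∈ Z0 := by
    intro i
    induction i with
    | zero => intro z hz; simpa using hz
    | succ i ih => intro z hz; rw [pow_succ', MulAut.mul_apply]; exact hZ _ (ih z hz)
  have hNb : ∏ j ∈ Finset.range r, (β ^ j) t ∈ Z0 := by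
    refine hfix 0 1 (fun h => hr.out.not_dvd_one h.2) _ ?_
    rw [pow_zero, one_mul, pow_one]
    exact hnorm β hβ t
  -- reindex the double product
  have hline : ∀ j : ℕ, ∏ i ∈ Finset.range r, ((α * β ^ j) ^ i) t ∈ Z0 := by
    intro j
    have hpow : (α * β ^ j) ^ r = 1 := by
      rw [(hc.pow_right j).mul_pow, hα, ← pow_mul, mul_comm, pow_mul, hβ, one_pow, one_mul]
    refine hfix 1 j (fun h => hr.out.not_dvd_one h.1) _ ?_
    rw [pow_one]
    exact hnorm _ hpow t
  have htot : ∏ i ∈ Finset.range r, ∏ j ∈ Finset.range r, ((α * β ^ j) ^ i) t ∈ Z0 := by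
    rw [Finset.prod_comm]
    exact Subgroup.prod_mem _ fun j _ => hline j
  haveI : NeZero r := ⟨hr.out.ne_zero⟩
  have hbval : ∀ a : ℕ, β ^ a = β ^ ((a : ZMod r)).val := fun a => by
    rw [ZMod.val_natCast]
    conv_lhs => rw [← Nat.mod_add_div a r, pow_add, pow_mul, hβ, one_pow, mul_one]
  have hinner : ∀ i ∈ Finset.range r, i ≠ 0 → ∏ j ∈ Finset.range r, ((α * β ^ j) ^ i) t ∈ Z0 := by
    intro i hi hi0
    have he : ∀ j : ℕ, ((α * β ^ j) ^ i) t = (α ^ i) ((β ^ (((i : ℕ) : ZMod r) * (j : ZMod r)).val) t) := by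
      intro j
      rw [(hc.pow_right j).mul_pow, MulAut.mul_apply, ← pow_mul, hbval (j * i), Nat.cast_mul, mul_comm]
    simp only [he, ← map_prod]
    refine hZp i _ ?_
    have hi' : ((i : ℕ) : ZMod r) ≠ 0 := by
      rw [Ne, ZMod.natCast_eq_zero_iff]
      exact fun h => by have := Nat.le_of_dvd (Nat.pos_of_ne_zero hi0) h; have := Finset.mem_range.mp hi; omega
    have h1 : ∏ j ∈ Finset.range r, (β ^ (((i : ℕ) : ZMod r) * (j : ZMod r)).val) t =
        ∏ x : ZMod r, (β ^ (((i : ℕ) : ZMod r) * x).val) t := by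
      refine Finset.prod_nbij (fun j => (j : ZMod r)) (fun j _ => Finset.mem_univ _) ?_ ?_ (fun j _ => rfl)
      · intro a ha b hb hab
        simp only [Finset.coe_range, Set.mem_Iio] at ha hb
        have := congrArg ZMod.val hab
        simp only [ZMod.val_natCast] at this
        rwa [Nat.mod_eq_of_lt ha, Nat.mod_eq_of_lt hb] at this
      · intro x _
        exact ⟨x.val, by simpa using ZMod.val_lt x, ZMod.natCast_zmod_val x⟩
    have h2 : ∏ x : ZMod r, (β ^ (((i : ℕ) : ZMod r) * x).val) t = ∏ x : ZMod r, (β ^ x.val) t :=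
      Fintype.prod_equiv (Equiv.mulLeft₀ ((i : ℕ) : ZMod r) hi') _ _ (fun x => rfl)
    have h3 : ∏ x : ZMod r, (β ^ x.val) t = ∏ j ∈ Finset.range r, (β ^ j) t := by
      symm
      refine Finset.prod_nbij (fun j => (j : ZMod r)) (fun j _ => Finset.mem_univ _) ?_ ?_ ?_
      · intro a ha b hb hab
        simp only [Finset.coe_range, Set.mem_Iio] at ha hb
        have := congrArg ZMod.val hab
        simp only [ZMod.val_natCast] at this
        rwa [Nat.mod_eq_of_lt ha, Nat.mod_eq_of_lt hb] at this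
      · intro x _
        exact ⟨x.val, by simpa using ZMod.val_lt x, ZMod.natCast_zmod_val x⟩
      · intro j hj
        show _ = (β ^ (j : ZMod r).val) t
        rw [ZMod.val_natCast, Nat.mod_eq_of_lt (Finset.mem_range.mp hj)]
    rw [h1, h2, h3]
    exact hNb
  rw [← Finset.mul_prod_erase (Finset.range r) _ (Finset.mem_range.mpr hr.out.pos)] at htot
  have hrest : ∏ i ∈ (Finset.range r).erase 0, ∏ j ∈ Finset.range r, ((α * β ^ j) ^ i) t ∈ Z0 :=
    Subgroup.prod_mem _ fun i hi => hinner i (Finset.mem_of_mem_erase hi) (Finset.ne_of_mem_erase hi)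
  have h0 := (Z0.mul_mem_cancel_right hrest).mp htot
  simpa using h0

variable {G : Type*} [Group G] [Finite G]

local notation "C(" x ")" => Subgroup.centralizer (({x} : Set G))

variable {r m : ℕ} [hr : Fact r.Prime] {N : Subgroup G} [N.Normal]

/-- The `r'`-elements of `N ∩ C(s)`. -/
def tPart (H : Hyp r N m) {s : G} (hs : Good r N s) : Subgroup G where
  carrier := {t | t ∈ N ∧ t ∈ C(s) ∧ (orderOf t).Coprime r}
  one_mem' := ⟨one_mem _, one_mem _, by rw [orderOf_one]; exact Nat.coprime_one_left r⟩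
  mul_mem' := by
    rintro u v ⟨huN, hu, hur⟩ ⟨hvN, hv, hvr⟩
    exact ⟨mul_mem huN hvN, mul_mem hu hv, Nat.Coprime.coprime_dvd_left
      (hs.commute_of_mem H huN hu hv).orderOf_mul_dvd_mul_orderOf (Nat.Coprime.mul_left hur hvr)⟩
  inv_mem' := by
    rintro u ⟨huN, hu, hur⟩
    exact ⟨inv_mem huN, inv_mem hu, by rw [orderOf_inv]; exact hur⟩

/-- No rank two group mod `C(s)` acts on `C(s)`. -/
theorem fpf_rank_one (H : Hyp r N m) {s : G} (hs : Good r N s) {a b : G}
    (ha : a ∈ normalizer (C(s) : Set G)) (hb : b ∈ normalizer (C(s) : Set G))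
    (har : a ^ r ∈ C(s)) (hbr : b ^ r ∈ C(s)) (hab : a * b * a⁻¹ * b⁻¹ ∈ C(s)) :
    ∃ i j : ℕ, ¬ (r ∣ i ∧ r ∣ j) ∧ a ^ i * b ^ j ∈ C(s) := by
  by_contra hcon
  push Not at hcon
  set T := tPart H hs with hT
  letI : CommGroup T :=
    { (inferInstance : Group T) with
      mul_comm := fun u v => Subtype.ext (hs.commute_of_mem H u.2.1 u.2.2.1 v.2.2.1).eq }
  have hmem : ∀ g ∈ normalizer (C(s) : Set G), ∀ t ∈ T, g * t * g⁻¹ ∈ T := fun g hg t ht =>
    ⟨(inferInstance : N.Normal).conj_mem t ht.1 g, (mem_normalizer_iff.mp hg t).mp ht.2.1,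
      by rw [show orderOf (g * t * g⁻¹) = orderOf t from (MulAut.conj g).orderOf_eq t]; exact ht.2.2⟩
  let act : ∀ g : G, g ∈ normalizer (C(s) : Set G) → MulAut T := fun g hg =>
    { toFun := fun t => ⟨g * t * g⁻¹, hmem g hg t t.2⟩
      invFun := fun t => ⟨g⁻¹ * t * g⁻¹⁻¹, hmem g⁻¹ (inv_mem hg) t t.2⟩
      left_inv := fun t => Subtype.ext (by simp [mul_assoc])
      right_inv := fun t => Subtype.ext (by simp [mul_assoc])
      map_mul' := fun u v => Subtype.ext (by simp [mul_assoc]) }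
  have hcen : ∀ c ∈ C(s), ∀ t : T, Commute c (t : G) := by
    intro c hc t
    exact (hs.commute_of_mem H t.2.1 t.2.2.1 hc).symm
  set α := act a ha with hα
  set β := act b hb with hβ
  have hαi : ∀ (i : ℕ) (t : T), (((α ^ i) t : T) : G) = a ^ i * t * (a ^ i)⁻¹ := by
    intro i
    induction i with
    | zero => intro t; simp
    | succ i ih =>
      intro t
      rw [pow_succ', MulAut.mul_apply]
      show a * (((α ^ i) t : T) : G) * a⁻¹ = _
      rw [ih, pow_succ']; group
  have hβi : ∀ (i : ℕ) (t : T), (((β ^ i) t : T) : G) = b ^ i * t * (b ^ i)⁻¹ := by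
    intro i
    induction i with
    | zero => intro t; simp
    | succ i ih =>
      intro t
      rw [pow_succ', MulAut.mul_apply]
      show b * (((β ^ i) t : T) : G) * b⁻¹ = _
      rw [ih, pow_succ']; group
  have hc : Commute α β := by
    refine MulEquiv.ext fun t => Subtype.ext ?_
    show a * (b * t * b⁻¹) * a⁻¹ = b * (a * t * a⁻¹) * b⁻¹
    calc a * (b * t * b⁻¹) * a⁻¹ = (a * b * a⁻¹ * b⁻¹) * (b * (a * t * a⁻¹) * b⁻¹) * (a * b * a⁻¹ * b⁻¹)⁻¹ := by group
      _ = _ := by rw [(hcen _ hab ⟨_, hmem b hb _ (hmem a ha t t.2)⟩).eq, mul_inv_cancel_right]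
  have hα1 : α ^ r = 1 := MulEquiv.ext fun t => Subtype.ext (by
    rw [hαi, (hcen _ har t).eq, mul_inv_cancel_right]; rfl)
  have hβ1 : β ^ r = 1 := MulEquiv.ext fun t => Subtype.ext (by
    rw [hβi, (hcen _ hbr t).eq, mul_inv_cancel_right]; rfl)
  obtain ⟨hsr, hsn, t0, ht0N, ht0, ht0r, hst⟩ := id hs
  have h := norm_rank_two (r := r) α β hc hα1 hβ1 ((center G).subgroupOf T) (fun i j hij t ht => ?_)
    (fun z hz => by
      show a * (z : G) * a⁻¹ ∈ center G
      exact (inferInstance : (center G).Normal).conj_mem _ hz a)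
    ⟨t0, ht0N, mem_centralizer_singleton_iff.mpr hst.symm.eq, ht0r⟩
  · have h' : t0 ^ r ∈ center G := h
    apply ht0
    obtain ⟨e, he⟩ := exists_pow_eq_self_of_coprime (x := t0) (n := r) ht0r.symm
    rw [← he]
    exact pow_mem h' e
  · by_contra htn
    refine hcon i j (fun h1 h2 => hij ⟨h1, h2⟩) ?_
    rw [← hs.centralizer_eq H t.2.1 htn t.2.2.1, mem_centralizer_singleton_iff]
    have h1 := congrArg Subtype.val ht
    rw [MulAut.mul_apply, hαi, hβi] at h1
    calc a ^ i * b ^ j * (t : G) = (a ^ i * (b ^ j * t * (b ^ j)⁻¹) * (a ^ i)⁻¹) * (a ^ i * b ^ j) := by group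
      _ = t * (a ^ i * b ^ j) := by rw [h1]

/-- A group acting on `C(s)` which is elementary abelian modulo `C(s)` has order at most `r` modulo `C(s)`. -/
theorem relIndex_le (H : Hyp r N m) {s : G} (hs : Good r N s) {U : Subgroup G}
    (hU : U ≤ normalizer (C(s) : Set G)) (hpow : ∀ a ∈ U, a ^ r ∈ C(s))
    (hcomm : ∀ a ∈ U, ∀ b ∈ U, a * b * a⁻¹ * b⁻¹ ∈ C(s)) : (C(s)).relIndex U ≤ r := by
  set W := (C(s)).subgroupOf U with hW
  haveI : W.Normal := by
    refine ⟨fun c hc g => ?_⟩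
    rw [mem_subgroupOf] at hc ⊢
    exact (mem_normalizer_iff.mp (hU g.2) _).mp hc
  by_cases hall : U ≤ C(s)
  · rw [relIndex_eq_one.mpr hall]; exact hr.out.one_lt.le
  obtain ⟨b, hb, hbn⟩ := SetLike.not_le_iff_exists.mp hall
  let q : U ⧸ W := QuotientGroup.mk ⟨b, hb⟩
  have hq : q ^ r = 1 := by
    rw [← QuotientGroup.mk_pow, QuotientGroup.eq_one_iff, mem_subgroupOf]
    exact hpow b hb
  have hgen : ∀ x : U ⧸ W, x ∈ zpowers q := by
    intro x
    obtain ⟨⟨a, ha⟩, rfl⟩ := QuotientGroup.mk_surjective x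
    obtain ⟨i, j, hij, hmem⟩ := fpf_rank_one H hs (hU ha) (hU hb) (hpow a ha) (hpow b hb) (hcomm a ha b hb)
    set A : U ⧸ W := QuotientGroup.mk ⟨a, ha⟩ with hA
    have hAq : A ^ i * q ^ j = 1 := by
      rw [← QuotientGroup.mk_pow, ← QuotientGroup.mk_pow, ← QuotientGroup.mk_mul, QuotientGroup.eq_one_iff, mem_subgroupOf]
      exact hmem
    have hAr : A ^ r = 1 := by
      rw [← QuotientGroup.mk_pow, QuotientGroup.eq_one_iff, mem_subgroupOf]
      exact hpow a ha
    by_cases hi : r ∣ i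
    · exfalso
      obtain ⟨k, hk⟩ := hi
      rw [hk, pow_mul, hAr, one_pow, one_mul] at hAq
      have hj : ¬ r ∣ j := fun hj => hij ⟨hk ▸ dvd_mul_right r k, hj⟩
      have h1 : q ^ r.gcd j = 1 := pow_gcd_eq_one.mpr ⟨hq, hAq⟩
      rw [(hr.out.coprime_iff_not_dvd.mpr hj).gcd_eq_one, pow_one, QuotientGroup.eq_one_iff, mem_subgroupOf] at h1
      exact hbn h1
    · have h1 : A ^ i ∈ zpowers q := by
        rw [eq_inv_of_mul_eq_one_left hAq]
        exact inv_mem (npow_mem_zpowers q j)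
      obtain ⟨e, he⟩ := exists_pow_eq_self_of_coprime (x := A) (n := i) (by
        refine Nat.Coprime.coprime_dvd_right (orderOf_dvd_of_pow_eq_one hAr) ?_
        exact (hr.out.coprime_iff_not_dvd.mpr hi).symm)
      rw [← he]
      exact pow_mem h1 e
  rw [relIndex, index_eq_card, ← orderOf_eq_card_of_forall_mem_zpowers hgen]
  exact Nat.le_of_dvd hr.out.pos (orderOf_dvd_of_pow_eq_one hq)

omit [N.Normal] in
/-- An element of a normal subgroup of a Sylow subgroup that is central of order `r` modulo the centre. -/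
theorem exists_z2 (R : Sylow r G) {V : Subgroup G} (hVR : V ≤ (R : Subgroup G))
    (hVn : (R : Subgroup G) ≤ normalizer (V : Set G)) (hV : ¬ V ≤ center G) :
    ∃ x ∈ V, x ∉ center G ∧ x ^ r ∈ center G ∧ ∀ u ∈ (R : Subgroup G), u * x * u⁻¹ * x⁻¹ ∈ center G := by
  set Rs := (R : Subgroup G) with hRs
  set Z := (center G).subgroupOf Rs with hZ
  haveI : Z.Normal := inferInstanceAs ((center G).subgroupOf Rs).Normal
  set f := QuotientGroup.mk' Z with hf
  set Vb := (V.subgroupOf Rs).map f with hVb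
  haveI : (V.subgroupOf Rs).Normal := (normal_subgroupOf_iff_le_normalizer hVR).mpr hVn
  haveI : Vb.Normal := (inferInstance : (V.subgroupOf Rs).Normal).map f (QuotientGroup.mk'_surjective Z)
  have hne : Vb ≠ ⊥ := by
    intro h
    refine hV fun v hv => ?_
    have h1 : f ⟨v, hVR hv⟩ ∈ Vb := mem_map_of_mem f (show (⟨v, hVR hv⟩ : Rs) ∈ V.subgroupOf Rs from hv)
    rw [h, mem_bot] at h1
    exact (QuotientGroup.eq_one_iff (⟨v, hVR hv⟩ : Rs)).mp h1
  obtain ⟨z, hz, hzc, hz1⟩ := OddLocal.exists_mem_center_ne_one_of_normal (R.2.to_quotient Z) Vb hne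
  obtain ⟨k, hk⟩ := IsPGroup.iff_orderOf.mp (R.2.to_quotient Z) z
  have hk0 : k ≠ 0 := fun h => hz1 (orderOf_eq_one_iff.mp (by rw [hk, h, pow_zero]))
  set z' := z ^ r ^ (k - 1) with hz'
  have hz'1 : z' ≠ 1 := pow_ne_one_of_lt_orderOf (pow_ne_zero _ hr.out.ne_zero)
    (by rw [hk]; exact Nat.pow_lt_pow_right hr.out.one_lt (by omega))
  have hz'r : z' ^ r = 1 := by
    rw [hz', ← pow_mul, ← pow_succ, show k - 1 + 1 = k by omega, ← hk, pow_orderOf_eq_one]
  obtain ⟨x, hx, hxz⟩ : z' ∈ Vb := pow_mem hz _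
  have hxz' : f x = z' := hxz
  refine ⟨x, hx, fun hc => hz'1 ?_, ?_, ?_⟩
  · rw [← hxz']; exact (QuotientGroup.eq_one_iff x).mpr hc
  · have h1 : f (x ^ r) = 1 := by rw [map_pow, hxz', hz'r]
    exact (QuotientGroup.eq_one_iff (x ^ r)).mp h1
  · intro u hu
    have h1 := mem_center_iff.mp (pow_mem hzc (r ^ (k - 1))) (f ⟨u, hu⟩)
    rw [← hz', ← hxz'] at h1
    have h2 : f (⟨u, hu⟩ * x * ⟨u, hu⟩⁻¹ * x⁻¹) = 1 := by
      rw [map_mul, map_mul, map_mul, map_inv, map_inv, h1, mul_inv_cancel_right, mul_inv_cancel]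
    exact (QuotientGroup.eq_one_iff ((⟨u, hu⟩ : Rs) * x * (⟨u, hu⟩ : Rs)⁻¹ * x⁻¹)).mp h2

theorem normalizes_centralizer {x g : G} (h : g * x * g⁻¹ * x⁻¹ ∈ center G) :
    g ∈ normalizer (C(x) : Set G) := by
  rw [mem_normalizer_iff_map_conj_eq]
  show (C(x)).map (MulAut.conj g).toMonoidHom = C(x)
  rw [map_conj_centralizer]
  rw [show g * x * g⁻¹ = x * (g * x * g⁻¹ * x⁻¹) by
    rw [mem_center_iff.mp h x]; group]
  exact centralizer_mul_central x h

/-- A coprime element normalizing the Sylow subgroup and fixing `x` centralizes it. -/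
theorem fix_trivial (R : Sylow r G) {x : G} (hx2 : ∀ u ∈ (R : Subgroup G), u * x * u⁻¹ * x⁻¹ ∈ center G)
    (hCR : ∀ u ∈ (R : Subgroup G), Commute u x → ∃ i : ℤ, ∃ z ∈ center G, u = x ^ i * z)
    {k : G} (hkR : ∀ u ∈ (R : Subgroup G), k * u * k⁻¹ ∈ (R : Subgroup G)) (hkx : Commute k x)
    (hk : (orderOf k).Coprime r) : ∀ u ∈ (R : Subgroup G), Commute k u := by
  intro u hu
  set c := u⁻¹ * (k * u * k⁻¹) with hc
  have hcR : c ∈ (R : Subgroup G) := mul_mem (inv_mem hu) (hkR u hu)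
  set z := u * x * u⁻¹ * x⁻¹ with hzdef
  have hz : z ∈ center G := hx2 u hu
  have h1 : (k * u * k⁻¹) * x * (k * u * k⁻¹)⁻¹ = u * x * u⁻¹ := by
    calc (k * u * k⁻¹) * x * (k * u * k⁻¹)⁻¹ = k * (u * (k⁻¹ * x * k) * u⁻¹) * k⁻¹ := by group
      _ = k * (u * x * u⁻¹) * k⁻¹ := by rw [mul_assoc k⁻¹ x k, ← hkx.eq, inv_mul_cancel_left]
      _ = k * (z * x) * k⁻¹ := by rw [hzdef]; group
      _ = z * (k * x * k⁻¹) := by
        rw [← mul_assoc k z x, mem_center_iff.mp hz k]; group
      _ = z * x := by rw [hkx.eq, mul_inv_cancel_right]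
      _ = u * x * u⁻¹ := by rw [hzdef]; group
  have hcx : Commute c x := by
    show c * x = x * c
    have : c * x * c⁻¹ = x := by
      calc c * x * c⁻¹ = u⁻¹ * ((k * u * k⁻¹) * x * (k * u * k⁻¹)⁻¹) * u := by rw [hc]; group
        _ = x := by rw [h1]; group
    exact mul_inv_eq_iff_eq_mul.mp this
  obtain ⟨i, w, hw, hcw⟩ := hCR c hcR hcx
  have hkc : Commute k c := hcw ▸ (hkx.zpow_right i).mul_right (mem_center_iff.mp hw k)
  have hit : ∀ n : ℕ, k ^ n * u * (k ^ n)⁻¹ = u * c ^ n := by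
    intro n
    induction n with
    | zero => simp
    | succ n ih =>
      calc k ^ (n + 1) * u * (k ^ (n + 1))⁻¹ = k * (k ^ n * u * (k ^ n)⁻¹) * k⁻¹ := by rw [pow_succ']; group
        _ = (k * u * k⁻¹) * (k * c ^ n * k⁻¹) := by rw [ih]; group
        _ = u * c * c ^ n := by rw [(hkc.pow_right n).eq, mul_inv_cancel_right, hc, mul_inv_cancel_left]
        _ = u * c ^ (n + 1) := by rw [mul_assoc, ← pow_succ']
  have h2 := hit (orderOf k)
  rw [pow_orderOf_eq_one, one_mul, inv_one, mul_one, left_eq_mul] at h2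
  have hc1 := eq_one_of_relem_of_pow (relem_of_mem R.2 hcR) hk h2
  show k * u = u * k
  rw [hc, inv_mul_eq_one] at hc1
  exact (eq_mul_inv_iff_mul_eq.mp hc1).symm

/-- The key lemma: such an element is `Good`. -/
theorem good_of_central_mod (H : Hyp r N m) (R : Sylow r G) {x : G} (hxR : x ∈ (R : Subgroup G))
    (hx : x ∉ center G) (hx2 : ∀ u ∈ (R : Subgroup G), u * x * u⁻¹ * x⁻¹ ∈ center G)
    (hCR : ∀ u ∈ (R : Subgroup G), Commute u x → ∃ i : ℤ, ∃ z ∈ center G, u = x ^ i * z)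
    {s : G} (hs : Good r N s) (hsR : s ∈ (R : Subgroup G)) : Good r N x := by
  have hRN : (R : Subgroup G) ≤ N := fun u hu => H.relem_mem u (relem_of_mem R.2 hu)
  have hxN : x ∈ N := hRN hxR
  have hxr : RElem r x := relem_of_mem R.2 hxR
  by_contra hB
  have htriv : ∀ t ∈ N, (orderOf t).Coprime r → Commute x t → t ∈ center G := by
    intro t ht htr hxt
    by_contra htn
    exact hB ⟨hxr, hx, t, ht, htn, htr, hxt⟩
  let D : Subgroup G := (Subgroup.centralizer ({(x : G ⧸ center G)} : Set (G ⧸ center G))).comap (QuotientGroup.mk' _)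
  have hD : ∀ g : G, g ∈ D ↔ g * x * g⁻¹ * x⁻¹ ∈ center G := by
    intro g
    rw [← QuotientGroup.eq_one_iff (N := center G) (g * x * g⁻¹ * x⁻¹)]
    simp only [D, mem_comap, mem_centralizer_singleton_iff, QuotientGroup.mk'_apply, QuotientGroup.mk_mul,
      QuotientGroup.mk_inv, mul_inv_eq_one, mul_inv_eq_iff_eq_mul, one_mul]
  set E := D ⊓ N with hE
  have hRE : (R : Subgroup G) ≤ E := fun u hu => ⟨(hD u).mpr (hx2 u hu), hRN hu⟩
  -- `r'`-elements of `E` are central
  have hEc : ∀ g ∈ E, (orderOf g).Coprime r → g ∈ center G := by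
    intro g hg hgr
    refine htriv g hg.2 hgr ?_
    set z := g * x * g⁻¹ * x⁻¹ with hz
    have hzc := (hD g).mp hg.1
    have hzn : ∀ n : ℕ, g ^ n * x * (g ^ n)⁻¹ = z ^ n * x := by
      intro n
      induction n with
      | zero => simp
      | succ n ih =>
        calc g ^ (n + 1) * x * (g ^ (n + 1))⁻¹ = g * (g ^ n * x * (g ^ n)⁻¹) * g⁻¹ := by rw [pow_succ']; group
          _ = g * z ^ n * x * g⁻¹ := by rw [ih]; group
          _ = z ^ n * g * x * g⁻¹ := by rw [mem_center_iff.mp (pow_mem hzc n) g]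
          _ = z ^ n * z * x := by rw [hz]; group
          _ = z ^ (n + 1) * x := by rw [pow_succ]
    have hzg : z ^ orderOf g = 1 := by
      have := hzn (orderOf g)
      rw [pow_orderOf_eq_one, one_mul, inv_one, mul_one, right_eq_mul] at this
      exact this
    obtain ⟨kx, hkx⟩ := hxr
    have hzr : RElem r z := by
      have h1 : (z * x) ^ orderOf x = 1 := by
        rw [show z * x = g * x * g⁻¹ by rw [hz]; group, conj_pow, pow_orderOf_eq_one, mul_one, mul_inv_cancel]
      rw [(show Commute z x from (mem_center_iff.mp hzc x).symm).mul_pow, pow_orderOf_eq_one, mul_one, hkx] at h1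
      obtain ⟨j, -, hj⟩ := (Nat.dvd_prime_pow hr.out).mp (orderOf_dvd_of_pow_eq_one h1)
      exact ⟨j, hj⟩
    have hz1 : z = 1 := eq_one_of_relem_of_pow hzr hgr hzg
    rw [hz, mul_inv_eq_one, mul_inv_eq_iff_eq_mul] at hz1
    exact (show Commute g x from hz1).symm
  -- so `E` normalizes `R`
  have hEn : E ≤ normalizer ((R : Subgroup G) : Set G) := by
    intro g hg
    obtain ⟨a, b, ha, hb, hab, hak, hbk, hcomm⟩ := exists_parts g r
    have hbZ := hEc b (zpowers_le.mpr hg hb) hbk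
    rw [← hab]
    refine mul_mem ?_ (center_le_normalizer _ hbZ)
    by_contra hna
    obtain ⟨R', hR'a⟩ := (isPGroup_zpowers hak).exists_le_sylow
    set F := (R : Subgroup G) ⊔ (center G ⊓ E) with hF
    have hFE : F ≤ E := sup_le hRE inf_le_right
    have hFn : F ≤ normalizer ((R : Subgroup G) : Set G) :=
      sup_le le_normalizer (inf_le_left.trans (center_le_normalizer _))
    refine hna (hFn ?_)
    have hidx : F.relIndex E = 1 := by
      by_contra hne
      obtain ⟨q, hq, hqd⟩ := Nat.exists_prime_and_dvd hne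
      haveI := Fact.mk hq
      by_cases hqr : q = r
      · subst hqr
        refine R.not_dvd_index (hqd.trans ((relIndex_dvd_of_le_left E (le_sup_left : (R : Subgroup G) ≤ F)).trans ?_))
        rw [← relIndex_mul_index hRE]
        exact dvd_mul_right _ _
      · obtain ⟨Q⟩ : Nonempty (Sylow q E) := inferInstance
        refine Q.not_dvd_index (hqd.trans (index_dvd_of_le fun v hv => ?_))
        obtain ⟨k, hk⟩ := IsPGroup.iff_orderOf.mp Q.2 ⟨v, hv⟩
        rw [Subgroup.orderOf_mk] at hk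
        refine mem_subgroupOf.mpr (mem_sup_right ⟨hEc v v.2 ?_, v.2⟩)
        rw [Subgroup.orderOf_coe, hk]
        exact Nat.Coprime.pow_left k ((Nat.coprime_primes hq hr.out).mpr hqr)
    exact relIndex_eq_one.mp hidx (zpowers_le.mpr hg ha)
  -- the `r'`-elements commuting with `x` centralize `R`
  have hcent : ∀ k : G, Commute k x → (orderOf k).Coprime r → ∀ u ∈ (R : Subgroup G), Commute k u := by
    intro k hkx hk
    refine fix_trivial R hx2 hCR (fun u hu => ?_) hkx hk
    have hconjE : ∀ v ∈ E, k * v * k⁻¹ ∈ E := by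
      intro v hv
      refine ⟨?_, (inferInstance : N.Normal).conj_mem v hv.2 k⟩
      have hkD : k ∈ D := (hD k).mpr (by rw [hkx.eq, mul_inv_cancel_right, mul_inv_cancel]; exact one_mem _)
      exact D.mul_mem (D.mul_mem hkD hv.1) (D.inv_mem hkD)
    have hle : ((k • R : Sylow r G) : Subgroup G) ≤ normalizer ((R : Subgroup G) : Set G) := by
      rw [Sylow.coe_subgroup_smul]
      rintro _ ⟨v, hv, rfl⟩
      exact hEn (hconjE v (hRE hv))
    have heq := R.3 (R.2.to_sup_of_normal_left' (k • R : Sylow r G).2 hle) le_sup_left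
    refine heq.le (mem_sup_right ?_)
    rw [Sylow.coe_subgroup_smul]
    exact ⟨u, hu, rfl⟩
  obtain ⟨hsr, hsn, t, htN, ht, htr, hst⟩ := id hs
  obtain ⟨w, p, kw, hp, hwz, hwN, hwo, hwn⟩ := exists_ncpart N htN ht
  haveI := Fact.mk hp
  have hts : C(s) = C(t) := coprime_eq H (hs.mem H) hsn htN ht hst (coprime_relem hsr htr)
  have hpr : p ≠ r := by
    intro h
    subst h
    have h1 : orderOf w ∣ orderOf t := by
      rw [← Nat.card_zpowers t]
      exact Subgroup.orderOf_dvd_natCard _ hwz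
    exact hwn (orderOf_eq_one_iff.mp (Nat.eq_one_of_dvd_coprimes (Nat.Coprime.pow_left kw htr.symm)
      (hwo ▸ dvd_rfl) h1) ▸ one_mem _)
  obtain ⟨P⟩ : Nonempty (Sylow p C(x)) := inferInstance
  set P' := (P : Subgroup C(x)).map (C(x)).subtype with hP'
  have hPp : IsPGroup p P' := P.2.map _
  have hPK : P' ≤ C(t) := by
    rw [← hts]
    intro k hk
    obtain ⟨j, hj⟩ := IsPGroup.iff_orderOf.mp hPp ⟨k, hk⟩
    rw [Subgroup.orderOf_mk] at hj
    exact mem_centralizer_singleton_iff.mpr (hcent k (mem_centralizer_singleton_iff.mp (map_subtype_le _ hk))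
      (by rw [hj]; exact Nat.Coprime.pow_left j ((Nat.coprime_primes hp hr.out).mpr hpr)) s hsR)
  have hwC : C(t) ≤ C(w) := centralizer_le_of_mem_zpowers hwz
  have hnorm : P' ≤ normalizer (zpowers w : Set G) := fun k hk => by
    have hkw : Commute k w := mem_centralizer_singleton_iff.mp (hwC (hPK hk))
    rw [mem_normalizer_iff_map_conj_eq, MonoidHom.map_zpowers]
    congr 1
    show k * w * k⁻¹ = w
    rw [hkw.eq, mul_inv_cancel_right]
  have hU : IsPGroup p (zpowers w ⊔ P' : Subgroup G) :=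
    (IsPGroup.of_card (p := p) (n := kw) (G := zpowers w) (by rw [Nat.card_zpowers, hwo])).to_sup_of_normal_left'
      hPp hnorm
  have hUC : zpowers w ⊔ P' ≤ C(t) :=
    sup_le (zpowers_le.mpr (zpowers_le.mpr (mem_centralizer_singleton_self t) hwz)) hPK
  have h1 := card_le_pow_factorization hU hUC
  rw [card_centralizer H htN ht hxN hx, ← P.card_eq_multiplicity,
    ← card_map_of_injective (K := (P : Subgroup C(x))) (C(x)).subtype_injective] at h1
  have heq : P' = zpowers w ⊔ P' := eq_of_le_of_card_ge le_sup_right h1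
  have hwx : w ∈ C(x) := map_subtype_le _ (heq.ge (mem_sup_left (mem_zpowers w)))
  refine hwn (htriv w hwN ?_ (mem_centralizer_singleton_iff.mp hwx).symm)
  rw [hwo]
  exact Nat.Coprime.pow_left kw ((Nat.coprime_primes hp hr.out).mpr hpr)

end Cfsg.Agent.FGB.TSN
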