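/-
A normal subgroup containing a noncentral Sylow subgroup with two G-class sizes: reduction and counting.
-/
import Cfsg.Agent.Lib.FGB.TwoSizesNormalB

set_option autoImplicit false
set_option linter.all false

namespace Cfsg.Agent.FGB.TSN

open Subgroup
open scoped Pointwise

variable {G : Type*} [Group G] [Finite G]

local notation "C(" x ")" => Subgroup.centralizer (({x} : Set G))
/-- The central part of a Sylow subgroup. -/
abbrev Z0 {G : Type*} [Group G] {r : ℕ} (R : Sylow r G) : Subgroup G := (R : Subgroup G) ⊓ Subgroup.center G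

variable {r m : ℕ} [hr : Fact r.Prime] {N : Subgroup G} [N.Normal]

theorem central_of_centralized (H : Hyp r N m) (hrm : r ∣ m) (R : Sylow r G) {x : G}
    (hxR : x ∈ (R : Subgroup G)) (h : (R : Subgroup G) ≤ C(x)) : x ∈ center G := by
  by_contra hx
  have hi := H.size x (H.relem_mem x (relem_of_mem R.2 hxR)) hx
  exact R.not_dvd_index ((hi.symm ▸ hrm : r ∣ (C(x)).index).trans (index_dvd_of_le h))

theorem le_sylow_of_normalizes (R : Sylow r G) {U : Subgroup G} (hU : IsPGroup r U)
    (hn : (R : Subgroup G) ≤ normalizer (U : Set G)) : U ≤ (R : Subgroup G) := fun u hu =>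
  (R.3 (hU.to_sup_of_normal_left' R.2 hn) le_sup_right).le (mem_sup_left hu)

theorem card_eq_relIndex_mul {A B : Subgroup G} (h : A ≤ B) : Nat.card B = A.relIndex B * Nat.card A := by
  rw [← relIndex_bot_left B, ← relIndex_bot_left A, mul_comm]
  exact (relIndex_mul_relIndex ⊥ A B bot_le h).symm

theorem card_sylow_pgroup (R : Sylow r G) {A : Subgroup G} (hA : IsPGroup r A) : Nat.card A ≤ Nat.card R := by
  obtain ⟨R', hR'⟩ := hA.exists_le_sylow
  have h1 := Nat.le_of_dvd Nat.card_pos (card_dvd_of_le hR')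
  rwa [R'.card_eq_multiplicity, ← R.card_eq_multiplicity] at h1

/-- The properties of a `Good` element of `R` central modulo the centre. -/
theorem core_props (H : Hyp r N m) (hrm : r ∣ m) (R : Sylow r G) {x : G} (hx : Good r N x)
    (hxR : x ∈ (R : Subgroup G)) (hxp : x ^ r ∈ center G)
    (hx2 : ∀ u ∈ (R : Subgroup G), u * x * u⁻¹ * x⁻¹ ∈ center G) :
    rPart H hx ≤ (R : Subgroup G) ∧ Nat.card R = r * Nat.card (rPart H hx) ∧
      (R : Subgroup G) ≤ normalizer (C(x) : Set G) := by
  have hnorm : (R : Subgroup G) ≤ normalizer (C(x) : Set G) := fun u hu => normalizes_centralizer (hx2 u hu)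
  have hSR : rPart H hx ≤ (R : Subgroup G) := by
    refine le_sylow_of_normalizes R (rPart_isPGroup H hx) fun u hu => mem_normalizer_iff.mpr fun v => ?_
    rw [mem_rPart H hx, mem_rPart H hx]
    refine and_congr ⟨relem_conj u, fun h => ?_⟩ (mem_normalizer_iff.mp (hnorm hu) v)
    have h1 := relem_conj u⁻¹ h
    rwa [show u⁻¹ * (u * v * u⁻¹) * u⁻¹⁻¹ = v by group] at h1
  refine ⟨hSR, ?_, hnorm⟩
  have hinf : C(x) ⊓ (R : Subgroup G) = rPart H hx := le_antisymm
    (fun u hu => (mem_rPart H hx).mpr ⟨relem_of_mem R.2 hu.2, hu.1⟩) (fun u hu => ⟨hu.2, hSR hu⟩)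
  have hle : (C(x)).relIndex (R : Subgroup G) ≤ r := by
    refine relIndex_le H hx hnorm (fun a ha => ?_) (fun a ha b hb => ?_)
    · set z := a * x * a⁻¹ * x⁻¹ with hz
      have hzc : z ∈ center G := hx2 a ha
      have hzr : z ^ r = 1 := by
        have h1 : (z * x) ^ r = x ^ r := by
          rw [show z * x = a * x * a⁻¹ by rw [hz]; group, conj_pow, mem_center_iff.mp hxp a, mul_inv_cancel_right]
        rw [(show Commute z x from (mem_center_iff.mp hzc x).symm).mul_pow] at h1
        exact mul_eq_right.mp h1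
      have hit : ∀ n : ℕ, a ^ n * x * (a ^ n)⁻¹ = z ^ n * x := by
        intro n
        induction n with
        | zero => simp
        | succ n ih =>
          calc a ^ (n + 1) * x * (a ^ (n + 1))⁻¹ = a * (a ^ n * x * (a ^ n)⁻¹) * a⁻¹ := by rw [pow_succ']; group
            _ = a * z ^ n * x * a⁻¹ := by rw [ih]; group
            _ = z ^ n * a * x * a⁻¹ := by rw [mem_center_iff.mp (pow_mem hzc n) a]
            _ = z ^ n * z * x := by rw [hz]; group
            _ = z ^ (n + 1) * x := by rw [pow_succ]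
      have h2 := hit r
      rw [hzr, one_mul, mul_inv_eq_iff_eq_mul] at h2
      exact mem_centralizer_singleton_iff.mpr h2
    · rw [mem_centralizer_singleton_iff]
      set za := a * x * a⁻¹ * x⁻¹ with hza
      set zb := b * x * b⁻¹ * x⁻¹ with hzb
      have hac : za ∈ center G := hx2 a ha
      have hbc : zb ∈ center G := hx2 b hb
      have h1 : a * b * x * (a * b)⁻¹ = za * zb * x := by
        calc a * b * x * (a * b)⁻¹ = a * (zb * x) * a⁻¹ := by rw [hzb]; group
          _ = zb * (a * x * a⁻¹) := by rw [← mul_assoc a zb x, mem_center_iff.mp hbc a]; group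
          _ = zb * (za * x) := by rw [hza]; group
          _ = za * zb * x := by rw [← mul_assoc, mem_center_iff.mp hac zb]
      have h2 : b * a * x * (b * a)⁻¹ = za * zb * x := by
        calc b * a * x * (b * a)⁻¹ = b * (za * x) * b⁻¹ := by rw [hza]; group
          _ = za * (b * x * b⁻¹) := by rw [← mul_assoc b za x, mem_center_iff.mp hac b]; group
          _ = za * zb * x := by rw [hzb]; group
      have h3 : (a * b * a⁻¹ * b⁻¹) * (b * a * x * (b * a)⁻¹) * (a * b * a⁻¹ * b⁻¹)⁻¹ = a * b * x * (a * b)⁻¹ := by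
        group
      rw [h1, h2] at h3
      set c := a * b * a⁻¹ * b⁻¹
      have h4 : c * (za * zb * x) = za * zb * (c * x) := by
        rw [← mul_assoc, mem_center_iff.mp (mul_mem hac hbc) c, mul_assoc]
      rw [h4, mul_inv_eq_iff_eq_mul, mul_assoc (za * zb) x c] at h3
      exact mul_left_cancel h3
  rw [← inf_relIndex_right, hinf] at hle
  have hcard := card_eq_relIndex_mul hSR
  obtain ⟨i, hi⟩ : ∃ i, (rPart H hx).relIndex (R : Subgroup G) = r ^ i := by
    obtain ⟨e, he⟩ := IsPGroup.iff_card.mp R.2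
    obtain ⟨i, -, hi⟩ := (Nat.dvd_prime_pow hr.out).mp (he ▸ hcard ▸ dvd_mul_right ((rPart H hx).relIndex (R : Subgroup G)) _)
    exact ⟨i, hi⟩
  have hi0 : i ≠ 0 := by
    intro h
    rw [h, pow_zero, relIndex_eq_one] at hi
    exact hx.2.1 (central_of_centralized H hrm R hxR fun u hu => (hi hu).2)
  rw [hi] at hle hcard
  have hi1 : i = 1 := by
    have h1 : r ^ i ≤ r ^ 1 := by rwa [pow_one]
    have := (Nat.pow_le_pow_iff_right hr.out.one_lt).mp h1
    omega
  rw [hcard, hi1, pow_one]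

/-- Small centralizers in `R`. -/
theorem hCR_of_card (H : Hyp r N m) (R : Sylow r G) {s : G} (hs : Good r N s)
    (hS : Nat.card (rPart H hs) ≤ r * Nat.card (Z0 R)) {v : G} (hvR : v ∈ (R : Subgroup G))
    (hv : v ∉ center G) :
    (∀ u ∈ (R : Subgroup G), Commute u v → ∃ i : ℤ, ∃ z ∈ center G, u = v ^ i * z) ∧
      Nat.card ((R : Subgroup G) ⊓ C(v) : Subgroup G) = r * Nat.card (Z0 R) := by
  set U := (R : Subgroup G) ⊓ C(v) with hU
  have hUp : IsPGroup r U := R.2.to_le inf_le_left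
  have hUcard : Nat.card U ≤ r * Nat.card (Z0 R) :=
    (card_le_rPart H hs (H.relem_mem v (relem_of_mem R.2 hvR)) hv hUp inf_le_right).trans hS
  set V := zpowers v ⊔ (Z0 R) with hV
  have hVU : V ≤ U := sup_le (zpowers_le.mpr ⟨hvR, mem_centralizer_singleton_self v⟩)
    (le_inf inf_le_left (inf_le_right.trans (center_le_C v)))
  have hVcard : r * Nat.card (Z0 R) ≤ Nat.card V := by
    obtain ⟨i, hi⟩ := IsPGroup.iff_card.mp (R.2.to_le (inf_le_left : (Z0 R) ≤ R))
    obtain ⟨j, hj⟩ := IsPGroup.iff_card.mp (hUp.to_le hVU)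
    have hlt : i < j := by
      refine (Nat.pow_lt_pow_iff_right hr.out.one_lt).mp ?_
      rw [← hi, ← hj]
      refine lt_of_le_of_ne (Nat.le_of_dvd Nat.card_pos (card_dvd_of_le le_sup_right)) fun h => hv ?_
      exact ((eq_of_le_of_card_ge le_sup_right h.ge).ge (mem_sup_left (mem_zpowers v))).2
    rw [hi, hj, ← pow_succ']
    exact Nat.pow_le_pow_right hr.out.pos hlt
  have hEq : V = U := eq_of_le_of_card_ge hVU (hUcard.trans hVcard)
  refine ⟨fun u hu hc => ?_, le_antisymm hUcard (hEq ▸ hVcard)⟩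
  have huV : u ∈ V := hEq.ge ⟨hu, mem_centralizer_singleton_iff.mpr hc.eq⟩
  haveI : ((Z0 R)).Normal := ⟨fun z hz g => by rw [mem_center_iff.mp hz.2 g, mul_inv_cancel_right]; exact hz⟩
  obtain ⟨a, ⟨i, rfl⟩, z, hz, rfl⟩ := mem_sup_of_normal_right.mp huV
  exact ⟨i, z, hz.2, rfl⟩

theorem exists_core (H : Hyp r N m) (hrm : r ∣ m) (R : Sylow r G) {s : G} (hs : Good r N s)
    (hsR : rPart H hs ≤ (R : Subgroup G)) :
    ∃ x, Good r N x ∧ x ∈ (R : Subgroup G) ∧ x ^ r ∈ center G ∧
      ∀ u ∈ (R : Subgroup G), u * x * u⁻¹ * x⁻¹ ∈ center G := by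
  set S := rPart H hs with hS
  have hsS : s ∈ S := (mem_rPart H hs).mpr ⟨hs.1, mem_centralizer_singleton_self s⟩
  obtain ⟨x0, hx0R, hx0, hx0p, hx02⟩ := exists_z2 R le_rfl le_normalizer
    (fun h => hs.2.1 (h (hsR hsS)))
  by_cases hG0 : Good r N x0
  · exact ⟨x0, hG0, hx0R, hx0p, hx02⟩
  by_cases hn : (R : Subgroup G) ≤ normalizer (S : Set G)
  · obtain ⟨x, hx, hxn, hxp, hx2⟩ := exists_z2 R hsR hn (fun h => hs.2.1 (h hsS))
    have hx' := (mem_rPart H hs).mp hx
    exact ⟨x, hs.good_of_mem H hx'.1 hxn hx'.2, hsR hx, hxp, hx2⟩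
  exfalso
  -- the `Good` parts in `R` have exponent `r` modulo the centre
  have hexp : ∀ (s' : G) (hs' : Good r N s'), rPart H hs' ≤ (R : Subgroup G) → ∀ a ∈ rPart H hs', a ^ r ∈ center G := by
    intro s' hs' hle a ha
    by_contra hn'
    set z := a * x0 * a⁻¹ * x0⁻¹ with hz
    have hzc : z ∈ center G := hx02 a (hle ha)
    have hzr : z ^ r = 1 := by
      have h1 : (z * x0) ^ r = x0 ^ r := by
        rw [show z * x0 = a * x0 * a⁻¹ by rw [hz]; group, conj_pow, mem_center_iff.mp hx0p a, mul_inv_cancel_right]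
      rw [(show Commute z x0 from (mem_center_iff.mp hzc x0).symm).mul_pow] at h1
      exact mul_eq_right.mp h1
    have hit : ∀ n : ℕ, a ^ n * x0 * (a ^ n)⁻¹ = z ^ n * x0 := by
      intro n
      induction n with
      | zero => simp
      | succ n ih =>
        calc a ^ (n + 1) * x0 * (a ^ (n + 1))⁻¹ = a * (a ^ n * x0 * (a ^ n)⁻¹) * a⁻¹ := by rw [pow_succ']; group
          _ = a * z ^ n * x0 * a⁻¹ := by rw [ih]; group
          _ = z ^ n * a * x0 * a⁻¹ := by rw [mem_center_iff.mp (pow_mem hzc n) a]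
          _ = z ^ n * z * x0 := by rw [hz]; group
          _ = z ^ (n + 1) * x0 := by rw [pow_succ]
    have h2 := hit r
    rw [hzr, one_mul, mul_inv_eq_iff_eq_mul] at h2
    have ha' := (mem_rPart H hs').mp (pow_mem ha r)
    have hC := hs'.centralizer_eq H (H.relem_mem _ ha'.1) hn' ha'.2
    have hx0C : x0 ∈ C(s') := hC ▸ mem_centralizer_singleton_iff.mpr h2.symm
    exact hG0 (hs'.good_of_mem H (relem_of_mem R.2 hx0R) hx0 hx0C)
  -- an element moving `S` inside its normalizer
  set R1 := (R : Subgroup G) ⊓ normalizer (S : Set G) with hR1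
  obtain ⟨u, huR, hun, huS⟩ : ∃ u ∈ (R : Subgroup G), (∀ v ∈ R1, u * v * u⁻¹ ∈ R1) ∧ u ∉ normalizer (S : Set G) := by
    haveI := R.2.isNilpotent
    have hlt : R1.subgroupOf (R : Subgroup G) < ⊤ := by
      rw [lt_top_iff_ne_top]
      intro h
      exact hn fun v hv => (subgroupOf_eq_top.mp h hv).2
    obtain ⟨⟨u, hu⟩, hu1, hu2⟩ := SetLike.exists_of_lt
      (Group.normalizerCondition_of_isNilpotent (G := (R : Subgroup G)) _ hlt)
    refine ⟨u, hu, fun v hv => ?_, fun h => hu2 ⟨hu, h⟩⟩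
    have h1 := (mem_normalizer_iff.mp hu1 ⟨v, hv.1⟩).mp hv
    exact h1
  have hnC : ∀ g ∈ normalizer (S : Set G), g ∈ normalizer (C(s) : Set G) := by
    intro g hg
    rw [mem_normalizer_iff_map_conj_eq]
    show (C(s)).map (MulAut.conj g).toMonoidHom = C(s)
    rw [map_conj_centralizer]
    have h1 := (mem_rPart H hs).mp ((mem_normalizer_iff.mp hg s).mp hsS)
    exact hs.centralizer_eq H (H.relem_mem _ h1.1) (conj_not_central hs.2.1 g) h1.2
  set s' := u * s * u⁻¹ with hs'def
  have hs' : Good r N s' := hs.conj u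
  set S' := rPart H hs' with hS'
  have hback : ∀ v ∈ S', u⁻¹ * v * u ∈ S := by
    intro v hv
    obtain ⟨hv1, hv2⟩ := (mem_rPart H hs').mp hv
    refine (mem_rPart H hs).mpr ⟨?_, ?_⟩
    · have := relem_conj u⁻¹ hv1
      rwa [inv_inv] at this
    · have h1 := (conj_mem_centralizer_singleton_iff s u (u⁻¹ * v * u)).mp
      apply h1
      rwa [show u * (u⁻¹ * v * u) * u⁻¹ = v by group]
  have hS'R1 : S' ≤ R1 := fun v hv => by
    have h1 := hun _ (show u⁻¹ * v * u ∈ R1 from ⟨hsR (hback v hv), le_normalizer (hback v hv)⟩)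
    rwa [show u * (u⁻¹ * v * u) * u⁻¹ = v by group] at h1
  have hS'R : S' ≤ (R : Subgroup G) := hS'R1.trans inf_le_left
  have hrel : (C(s)).relIndex S' ≤ r := by
    refine relIndex_le H hs (fun a ha => hnC a (hS'R1 ha).2) (fun a ha => center_le_C s (hexp s' hs' hS'R a ha))
      (fun a ha b hb => ?_)
    have hc := hs'.commute_of_mem H (H.relem_mem a ((mem_rPart H hs').mp ha).1) ((mem_rPart H hs').mp ha).2
      ((mem_rPart H hs').mp hb).2
    rw [hc.eq, mul_inv_cancel_right, mul_inv_cancel]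
    exact one_mem _
  have hinf : C(s) ⊓ S' ≤ (Z0 R) := by
    rintro a ⟨ha1, ha2⟩
    refine ⟨hS'R ha2, ?_⟩
    by_contra han
    have ha' := (mem_rPart H hs').mp ha2
    have h1 := hs.centralizer_eq H (H.relem_mem a ha'.1) han ha1
    have h2 := hs'.centralizer_eq H (H.relem_mem a ha'.1) han ha'.2
    have hCC : C(s') = C(s) := h2.symm.trans h1
    refine huS ?_
    rw [mem_normalizer_iff_map_conj_eq]
    refine eq_of_le_of_card_ge ?_ (card_map_of_injective (MulEquiv.injective _)).ge
    rintro _ ⟨v, hv, rfl⟩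
    obtain ⟨hv1, hv2⟩ := (mem_rPart H hs).mp hv
    refine (mem_rPart H hs).mpr ⟨relem_conj u hv1, ?_⟩
    have h3 : u * v * u⁻¹ ∈ C(s') := (conj_mem_centralizer_singleton_iff s u v).mpr hv2
    rw [hCC] at h3
    exact h3
  have hcard : Nat.card S ≤ r * Nat.card (Z0 R) := by
    have h1 : Nat.card S' = Nat.card S := by
      rw [rPart_card, rPart_card, card_centralizer H (hs'.mem H) hs'.2.1 (hs.mem H) hs.2.1]
    rw [← h1, card_eq_relIndex_mul (inf_le_right : C(s) ⊓ S' ≤ S'), inf_relIndex_right]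
    exact Nat.mul_le_mul hrel (Nat.le_of_dvd Nat.card_pos (card_dvd_of_le hinf))
  exact hG0 (good_of_central_mod H R hx0R hx0 hx02 (hCR_of_card H R hs hcard hx0R hx0).1 hs (hsR hsS))

/-- Every noncentral `r`-element has a conjugate with large centralizer in `R`. -/
theorem exists_conj_R (H : Hyp r N m) (R : Sylow r G) {s : G} (hs : Good r N s) {v : G} (hv : RElem r v)
    (hvn : v ∉ center G) :
    ∃ n ∈ N, n * v * n⁻¹ ∈ (R : Subgroup G) ∧
      Nat.card (rPart H hs) ≤ Nat.card ((R : Subgroup G) ⊓ C(n * v * n⁻¹) : Subgroup G) := by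
  obtain ⟨S⟩ : Nonempty (Sylow r C(v)) := inferInstance
  set V := (S : Subgroup C(v)).map (C(v)).subtype with hV
  have hVC : V ≤ C(v) := map_subtype_le _
  have hVp : IsPGroup r V := S.2.map _
  have hnorm : V ≤ normalizer (zpowers v : Set G) := fun k hk => by
    have hkv : Commute k v := mem_centralizer_singleton_iff.mp (hVC hk)
    rw [mem_normalizer_iff_map_conj_eq, MonoidHom.map_zpowers]
    congr 1
    show k * v * k⁻¹ = v
    rw [hkv.eq, mul_inv_cancel_right]
  have hU : IsPGroup r (zpowers v ⊔ V : Subgroup G) := (isPGroup_zpowers hv).to_sup_of_normal_left' hVp hnorm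
  obtain ⟨R', hR'⟩ := hU.exists_le_sylow
  have hR'N : (R' : Subgroup G) ≤ N := fun z hz => H.relem_mem z (relem_of_mem R'.2 hz)
  have hRN : (R : Subgroup G) ≤ N := fun z hz => H.relem_mem z (relem_of_mem R.2 hz)
  obtain ⟨n, hn⟩ := MulAction.exists_smul_eq N (R'.subtype hR'N) (R.subtype hRN)
  rw [Sylow.smul_subtype] at hn
  have hn' := Sylow.subtype_injective hn
  have hmem : ∀ q ∈ (R' : Subgroup G), (n : G) * q * (n : G)⁻¹ ∈ (R : Subgroup G) := by
    intro q hq
    rw [← hn', Subgroup.smul_def, Sylow.coe_subgroup_smul]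
    exact ⟨q, hq, rfl⟩
  refine ⟨n, n.2, hmem v (hR' (mem_sup_left (mem_zpowers v))), ?_⟩
  rw [rPart_card, ← card_centralizer H (H.relem_mem v hv) hvn (hs.mem H) hs.2.1, ← S.card_eq_multiplicity,
    ← card_map_of_injective (K := (S : Subgroup C(v))) (C(v)).subtype_injective,
    ← card_map_of_injective (K := V) (f := (MulAut.conj (n : G)).toMonoidHom) (MulEquiv.injective _)]
  refine Nat.le_of_dvd Nat.card_pos (card_dvd_of_le ?_)
  rintro _ ⟨q, hq, rfl⟩
  exact ⟨hmem q (hR' (mem_sup_right hq)), (conj_mem_centralizer_singleton_iff v (n : G) q).mpr (hVC hq)⟩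

/-- The case of a large Sylow subgroup. -/
theorem false_of_large (H : Hyp r N m) (hrm : r ∣ m) (R : Sylow r G) {x : G} (hx : Good r N x)
    (hxR : x ∈ (R : Subgroup G)) (hxp : x ^ r ∈ center G)
    (hx2 : ∀ u ∈ (R : Subgroup G), u * x * u⁻¹ * x⁻¹ ∈ center G)
    (hbig : r * r * Nat.card (Z0 R) < Nat.card R) : False := by
  obtain ⟨hSR, hcard, hnorm⟩ := core_props H hrm R hx hxR hxp hx2
  set S := rPart H hx with hS
  have key : ∀ w : G, w ∈ (R : Subgroup G) → w ∉ center G →
      Nat.card S ≤ Nat.card ((R : Subgroup G) ⊓ C(w) : Subgroup G) → w ∈ C(x) := by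
    intro w hwR hwn hle
    by_contra hwS
    set U := (R : Subgroup G) ⊓ C(w) with hU
    have hinf : U ⊓ S ≤ (Z0 R) := by
      rintro a ⟨⟨haR, haw⟩, haS⟩
      refine ⟨haR, ?_⟩
      by_contra han
      have ha := (mem_rPart H hx).mp haS
      have h1 := hx.centralizer_eq H (H.relem_mem a ha.1) han ha.2
      refine hwS ?_
      rw [← h1, mem_centralizer_singleton_iff]
      exact (mem_centralizer_singleton_iff.mp haw).symm
    have h1 : U.relIndex S ≤ U.relIndex (R : Subgroup G) :=
      relIndex_le_of_le_right hSR Subgroup.index_ne_zero_of_finite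
    have hUcard := card_eq_relIndex_mul (inf_le_left : U ≤ R)
    have hScard : Nat.card S = U.relIndex S * Nat.card (U ⊓ S : Subgroup G) := by
      rw [← inf_relIndex_right, ← card_eq_relIndex_mul (inf_le_right : U ⊓ S ≤ S)]
    have h2 : U.relIndex (R : Subgroup G) ≤ r := by
      refine le_of_mul_le_mul_right ?_ (Nat.card_pos (α := S))
      calc U.relIndex (R : Subgroup G) * Nat.card S ≤ U.relIndex (R : Subgroup G) * Nat.card U := by gcongr
        _ = r * Nat.card S := by rw [← hUcard, hcard]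
    have h3 : Nat.card S ≤ r * Nat.card (Z0 R) := hScard ▸
      Nat.mul_le_mul (h1.trans h2) (Nat.le_of_dvd Nat.card_pos (card_dvd_of_le hinf))
    have h4 : Nat.card R ≤ r * r * Nat.card (Z0 R) := by rw [hcard, mul_assoc]; gcongr
    omega
  have hNle : N ≤ C(x) := by
    rw [← subgroupOf_eq_top]
    refine eq_top_of_conj_cover fun u => ?_
    by_cases hu : (u : G) ∈ center G
    · exact ⟨1, by rw [one_mul, inv_one, mul_one, mem_subgroupOf]; exact center_le_C _ hu⟩
    obtain ⟨a, haC, har, han⟩ := exists_relem H u.2 hu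
    obtain ⟨n, hn, hnR, hnc⟩ := exists_conj_R H R hx har han
    refine ⟨⟨n, hn⟩, ?_⟩
    rw [mem_subgroupOf]
    show n * (u : G) * n⁻¹ ∈ C(x)
    set a' := n * a * n⁻¹ with ha'
    have ha'n : a' ∉ center G := conj_not_central han n
    have ha'x : a' ∈ C(x) := key a' hnR ha'n hnc
    rw [← hx.centralizer_eq H (H.relem_mem a' (relem_conj n har)) ha'n ha'x]
    exact (conj_mem_centralizer_singleton_iff a n (u : G)).mpr
      (mem_centralizer_singleton_iff.mpr (mem_centralizer_singleton_iff.mp haC).symm)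
  exact hx.2.1 (central_of_centralized H hrm R hxR fun u hu => hNle (H.relem_mem u (relem_of_mem R.2 hu)))

/-- Elements of order prime to `r` fixing `v` modulo the centre fix `v`. -/
theorem coprime_fix {v g : G} (hv : RElem r v) (hg : g * v * g⁻¹ * v⁻¹ ∈ center G) (hgr : (orderOf g).Coprime r) :
    Commute g v := by
  set z := g * v * g⁻¹ * v⁻¹ with hz
  have hzn : ∀ n : ℕ, g ^ n * v * (g ^ n)⁻¹ = z ^ n * v := by
    intro n
    induction n with
    | zero => simp
    | succ n ih =>
      calc g ^ (n + 1) * v * (g ^ (n + 1))⁻¹ = g * (g ^ n * v * (g ^ n)⁻¹) * g⁻¹ := by rw [pow_succ']; group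
        _ = g * z ^ n * v * g⁻¹ := by rw [ih]; group
        _ = z ^ n * g * v * g⁻¹ := by rw [mem_center_iff.mp (pow_mem hg n) g]
        _ = z ^ n * z * v := by rw [hz]; group
        _ = z ^ (n + 1) * v := by rw [pow_succ]
  have hzg : z ^ orderOf g = 1 := by
    have := hzn (orderOf g)
    rw [pow_orderOf_eq_one, one_mul, inv_one, mul_one, right_eq_mul] at this
    exact this
  obtain ⟨k, hk⟩ := hv
  have hzr : RElem r z := by
    have h1 : (z * v) ^ orderOf v = 1 := by
      rw [show z * v = g * v * g⁻¹ by rw [hz]; group, conj_pow, pow_orderOf_eq_one, mul_one, mul_inv_cancel]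
    rw [(show Commute z v from (mem_center_iff.mp hg v).symm).mul_pow, pow_orderOf_eq_one, mul_one, hk] at h1
    obtain ⟨j, -, hj⟩ := (Nat.dvd_prime_pow hr.out).mp (orderOf_dvd_of_pow_eq_one h1)
    exact ⟨j, hj⟩
  have hz1 : z = 1 := eq_one_of_relem_of_pow hzr hgr hzg
  rw [hz, mul_inv_eq_one, mul_inv_eq_iff_eq_mul] at hz1
  exact hz1

end Cfsg.Agent.FGB.TSN
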