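/-
A normal subgroup containing a noncentral Sylow subgroup with two G-class sizes: the small case and conclusion.
-/
import Cfsg.Agent.Lib.FGB.TwoSizesNormalC

set_option autoImplicit false
set_option linter.all false

namespace Cfsg.Agent.FGB.TSN

open Subgroup
open scoped Pointwise

variable {G : Type*} [Group G] [Finite G]

local notation "C(" x ")" => Subgroup.centralizer (({x} : Set G))

variable {r m : ℕ} [hr : Fact r.Prime] {N : Subgroup G} [N.Normal]

/-- The elements whose centralizer is `N`-conjugate to `K`. -/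
def USet (N K : Subgroup G) : Set G :=
  {u | u ∈ N ∧ u ∉ Subgroup.center G ∧
    ∃ n ∈ N, Subgroup.centralizer ({u} : Set G) = K.map (MulAut.conj n).toMonoidHom}

/-- The stabilizer in `N`. -/
def MStab (N K : Subgroup G) : Subgroup G := N ⊓ Subgroup.normalizer (K : Set G)

theorem uSet_card (H : Hyp r N m) {v : G} (hv : Good r N v) :
    (USet N C(v)).ncard * Nat.card (MStab N C(v)) =
      Nat.card N * (Nat.card (N ⊓ C(v) : Subgroup G) - Nat.card (N ⊓ center G : Subgroup G)) := by
  classical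
  set M := MStab N C(v) with hM
  set A : Set G := (↑(N ⊓ C(v)) : Set G) \ (↑(N ⊓ center G) : Set G) with hA
  have hMN : M ≤ N := inf_le_left
  have hAprop : ∀ a ∈ A, a ∈ N ∧ a ∉ center G ∧ C(a) = C(v) := by
    rintro a ⟨⟨haN, haC⟩, han⟩
    exact ⟨haN, fun h => han ⟨haN, h⟩, hv.centralizer_eq H haN (fun h => han ⟨haN, h⟩) haC⟩
  let f : (N ⧸ M.subgroupOf N) × A → USet N C(v) := fun q =>
    ⟨((q.1.out : N) : G) * (q.2 : G) * ((q.1.out : N) : G)⁻¹, by
      obtain ⟨haN, han, haC⟩ := hAprop q.2 q.2.2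
      refine ⟨(inferInstance : N.Normal).conj_mem _ haN _, conj_not_central han _, _, (q.1.out : N).2, ?_⟩
      rw [map_conj_centralizer]
      rw [← map_conj_centralizer _ (q.2 : G), haC, map_conj_centralizer]⟩
  have hf : Function.Bijective f := by
    constructor
    · rintro ⟨q, a⟩ ⟨q', a'⟩ h
      have hval : ((q.out : N) : G) * (a : G) * ((q.out : N) : G)⁻¹ =
          ((q'.out : N) : G) * (a' : G) * ((q'.out : N) : G)⁻¹ := congrArg Subtype.val h
      set g := ((q.out : N) : G) with hg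
      set g' := ((q'.out : N) : G) with hg'
      have hC : (C(v)).map (MulAut.conj g).toMonoidHom = (C(v)).map (MulAut.conj g').toMonoidHom := by
        have e1 := congrArg (fun L : Subgroup G => L.map (MulAut.conj g).toMonoidHom) (hAprop a a.2).2.2
        have e2 := congrArg (fun L : Subgroup G => L.map (MulAut.conj g').toMonoidHom) (hAprop a' a'.2).2.2
        rw [← e1, ← e2, map_conj_centralizer, map_conj_centralizer, hval]
      have hmem : g'⁻¹ * g ∈ M := by
        refine ⟨N.mul_mem (N.inv_mem (q'.out : N).2) (q.out : N).2, ?_⟩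
        show g'⁻¹ * g ∈ normalizer ((C(v) : Subgroup G) : Set G)
        rw [mem_normalizer_iff_map_conj_eq]
        show (C(v)).map (MulAut.conj (g'⁻¹ * g)).toMonoidHom = C(v)
        have h1 : C(g * v * g⁻¹) = C(g' * v * g'⁻¹) := by rw [← map_conj_centralizer, ← map_conj_centralizer]; exact hC
        have h2 : (C(g * v * g⁻¹)).map (MulAut.conj g'⁻¹).toMonoidHom = (C(g' * v * g'⁻¹)).map (MulAut.conj g'⁻¹).toMonoidHom := by
          rw [h1]
        rw [map_conj_centralizer, map_conj_centralizer] at h2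
        rw [map_conj_centralizer]
        rw [show g'⁻¹ * g * v * (g'⁻¹ * g)⁻¹ = g'⁻¹ * (g * v * g⁻¹) * g'⁻¹⁻¹ by group, h2]
        congr 2
        group
      have hqq : q = q' := by
        rw [← q.out_eq, ← q'.out_eq]
        exact (QuotientGroup.eq.mpr (mem_subgroupOf.mpr hmem)).symm
      subst hqq
      have : (a : G) = a' := by
        have h3 := mul_right_cancel hval
        exact mul_left_cancel h3
      exact Prod.ext rfl (Subtype.ext this)
    · rintro ⟨u, huN, hun, n, hn, hC⟩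
      set q : N ⧸ M.subgroupOf N := QuotientGroup.mk ⟨n, hn⟩ with hq
      set g := ((q.out : N) : G) with hg
      have hm : g⁻¹ * n ∈ M := by
        have h1 : (q.out : N)⁻¹ * ⟨n, hn⟩ ∈ M.subgroupOf N := QuotientGroup.eq.mp (by rw [QuotientGroup.out_eq'])
        exact h1
      have hCg : C(u) = C(g * v * g⁻¹) := by
        rw [hC]
        have h2 := mem_normalizer_iff_map_conj_eq.mp hm.2
        change (C(v)).map (MulAut.conj (g⁻¹ * n)).toMonoidHom = C(v) at h2
        rw [map_conj_centralizer] at h2 ⊢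
        have h3 : (C(g⁻¹ * n * v * (g⁻¹ * n)⁻¹)).map (MulAut.conj g).toMonoidHom = (C(v)).map (MulAut.conj g).toMonoidHom := by
          rw [h2]
        rw [map_conj_centralizer, map_conj_centralizer] at h3
        rw [← h3]
        congr 2
        group
      refine ⟨(q, ⟨g⁻¹ * u * g, ⟨⟨?_, ?_⟩, ?_⟩⟩), Subtype.ext ?_⟩
      · exact N.mul_mem (N.mul_mem (N.inv_mem (q.out : N).2) huN) (q.out : N).2
      · have h1 : u ∈ C(g * v * g⁻¹) := hCg ▸ mem_centralizer_singleton_self u
        have h2 := (conj_mem_centralizer_singleton_iff v g (g⁻¹ * u * g)).mp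
        apply h2
        rwa [show g * (g⁻¹ * u * g) * g⁻¹ = u by group]
      · rintro ⟨-, hc⟩
        apply hun
        have h1 := (inferInstance : (center G).Normal).conj_mem _ hc g
        rwa [show g * (g⁻¹ * u * g) * g⁻¹ = u by group] at h1
      · show g * (g⁻¹ * u * g) * g⁻¹ = u
        group
  have hcard := Nat.card_eq_of_bijective f hf
  rw [Nat.card_prod, Nat.card_coe_set_eq, Nat.card_coe_set_eq] at hcard
  have hAcard : A.ncard = Nat.card (N ⊓ C(v) : Subgroup G) - Nat.card (N ⊓ center G : Subgroup G) := by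
    rw [hA, Set.ncard_diff (SetLike.coe_subset_coe.mpr (inf_le_inf_left N (center_le_C v)))]
    rw [← Nat.card_coe_set_eq, ← Nat.card_coe_set_eq]
    rfl
  have hN := card_eq_card_quotient_mul_card_subgroup (M.subgroupOf N)
  rw [Nat.card_congr (subgroupOfEquivOfLe hMN).toEquiv] at hN
  rw [hN, ← hcard, hAcard]
  ring

/-- Orders of elements give prime divisors of indices. -/
theorem dvd_relIndex_of_not_mem {p : ℕ} [hp : Fact p.Prime] {A M : Subgroup G}
    (hn : M ≤ normalizer (A : Set G)) {g : G} (hg : g ∈ M) (hgp : RElem p g) (hgA : g ∉ A) :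
    p ∣ A.relIndex M := by
  haveI : (A.subgroupOf M).Normal := by
    refine ⟨fun c hc x => ?_⟩
    rw [mem_subgroupOf] at hc ⊢
    exact (mem_normalizer_iff.mp (hn x.2) _).mp hc
  let q : M ⧸ A.subgroupOf M := QuotientGroup.mk ⟨g, hg⟩
  have hne : q ≠ 1 := fun h => hgA (mem_subgroupOf.mp ((QuotientGroup.eq_one_iff _).mp h))
  obtain ⟨k, hk⟩ := hgp
  have h1 : orderOf q ∣ p ^ k := orderOf_dvd_of_pow_eq_one (by
    rw [← QuotientGroup.mk_pow, QuotientGroup.eq_one_iff, mem_subgroupOf, SubmonoidClass.coe_pow]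
    show g ^ p ^ k ∈ A
    rw [← hk, pow_orderOf_eq_one]
    exact one_mem A)
  obtain ⟨i, -, hi⟩ := (Nat.dvd_prime_pow hp.out).mp h1
  have hi0 : i ≠ 0 := fun h => hne (orderOf_eq_one_iff.mp (by rw [hi, h, pow_zero]))
  rw [relIndex, index_eq_card]
  exact (dvd_pow_self p hi0).trans (hi ▸ orderOf_dvd_natCard q)

/-- The case `|R : R ∩ Z| = r²`. -/
theorem false_of_small (H : Hyp r N m) (hrm : r ∣ m) (R : Sylow r G) {x : G} (hx : Good r N x)
    (hxR : x ∈ (R : Subgroup G)) (hxp : x ^ r ∈ center G)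
    (hx2 : ∀ u ∈ (R : Subgroup G), u * x * u⁻¹ * x⁻¹ ∈ center G)
    (hsmall : Nat.card R ≤ r * r * Nat.card (Z0 R)) : False := by
  classical
  haveI := Fintype.ofFinite G
  obtain ⟨hSR, hcard, -⟩ := core_props H hrm R hx hxR hxp hx2
  set S := rPart H hx with hS
  have hRN : (R : Subgroup G) ≤ N := fun u hu => H.relem_mem u (relem_of_mem R.2 hu)
  have hr2 := hr.out.two_le
  have hz0pos : 0 < Nat.card (Z0 R) := Nat.card_pos
  have hSle : Nat.card S ≤ r * Nat.card (Z0 R) := by
    rw [hcard, mul_assoc] at hsmall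
    exact Nat.le_of_mul_le_mul_left hsmall hr.out.pos
  have hUx := (hCR_of_card H R hx hSle hxR hx.2.1).2
  have hinfx : (R : Subgroup G) ⊓ C(x) = S := le_antisymm
    (fun u hu => (mem_rPart H hx).mpr ⟨relem_of_mem R.2 hu.1, hu.2⟩) (fun u hu => ⟨hSR hu, hu.2⟩)
  rw [hinfx] at hUx
  have hRcard : Nat.card R = r ^ 2 * Nat.card (Z0 R) := by rw [hcard, hUx]; ring
  -- `R` is abelian modulo the centre
  set Zs := (center G).subgroupOf (R : Subgroup G) with hZs
  haveI : Zs.Normal := inferInstanceAs ((center G).subgroupOf (R : Subgroup G)).Normal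
  have hQcard : Nat.card ((R : Subgroup G) ⧸ Zs) = r ^ 2 := by
    have h1 := card_eq_relIndex_mul (inf_le_left : Z0 R ≤ (R : Subgroup G))
    rw [show Nat.card ((R : Subgroup G) ⧸ Zs) = (center G).relIndex (R : Subgroup G) by
      rw [relIndex, index_eq_card]]
    have h2 : (Z0 R).relIndex (R : Subgroup G) = (center G).relIndex (R : Subgroup G) := by
      rw [show Z0 R = center G ⊓ (R : Subgroup G) from inf_comm _ _, inf_relIndex_right]
    rw [h2, hRcard] at h1
    exact (Nat.eq_of_mul_eq_mul_right hz0pos h1).symm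
  have hab : ∀ a ∈ (R : Subgroup G), ∀ b ∈ (R : Subgroup G), a * b * a⁻¹ * b⁻¹ ∈ center G := by
    intro a ha b hb
    haveI := IsPGroup.isMulCommutative_of_card_eq_prime_sq hQcard
    set f := QuotientGroup.mk' Zs
    have h1 : f ((⟨a, ha⟩ : (R : Subgroup G)) * ⟨b, hb⟩ * (⟨a, ha⟩ : (R : Subgroup G))⁻¹ * (⟨b, hb⟩ : (R : Subgroup G))⁻¹) = 1 := by
      rw [map_mul, map_mul, map_mul, map_inv, map_inv, mul_comm' (f ⟨a, ha⟩) (f ⟨b, hb⟩), mul_inv_cancel_right,
        mul_inv_cancel]
    exact (QuotientGroup.eq_one_iff ((⟨a, ha⟩ : (R : Subgroup G)) * (⟨b, hb⟩ : (R : Subgroup G)) * (⟨a, ha⟩ : (R : Subgroup G))⁻¹ * (⟨b, hb⟩ : (R : Subgroup G))⁻¹)).mp h1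
  have hgood : ∀ v ∈ (R : Subgroup G), v ∉ center G → Good r N v := fun v hvR hv =>
    good_of_central_mod H R hvR hv (fun u hu => hab u hu v hvR) (hCR_of_card H R hx hSle hvR hv).1 hx hxR
  have hCv : ∀ v ∈ (R : Subgroup G), v ∉ center G → ∀ u ∈ C(v), RElem r u → u ∈ (R : Subgroup G) := by
    intro v hvR hv u hu hur
    have hg := hgood v hvR hv
    refine le_sylow_of_normalizes R (rPart_isPGroup H hg) (fun g hg' => mem_normalizer_iff.mpr fun w => ?_)
      ((mem_rPart H hg).mpr ⟨hur, hu⟩)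
    rw [mem_rPart H hg, mem_rPart H hg]
    refine and_congr ⟨relem_conj g, fun h => ?_⟩
      (mem_normalizer_iff.mp (normalizes_centralizer (hab g hg' v hvR)) w)
    have h1 := relem_conj g⁻¹ h
    rwa [show g⁻¹ * (g * w * g⁻¹) * g⁻¹⁻¹ = w by group] at h1
  -- the lines
  let Rn : Finset G := Finset.univ.filter (fun v => v ∈ (R : Subgroup G) ∧ v ∉ center G)
  let Λ : Finset (Subgroup G) := Rn.image (fun v => C(v))
  have hRnmem : ∀ v, v ∈ Rn ↔ v ∈ (R : Subgroup G) ∧ v ∉ center G := fun v => by simp [Rn]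
  have hΛmem : ∀ K, K ∈ Λ ↔ ∃ v, (v ∈ (R : Subgroup G) ∧ v ∉ center G) ∧ C(v) = K := fun K => by
    simp [Λ, Rn]
  have hRncard : Rn.card + Nat.card (Z0 R) = Nat.card R := by
    have h1 : (↑Rn : Set G) = ((R : Subgroup G) : Set G) \ ((Z0 R : Subgroup G) : Set G) := by
      ext v
      simp only [Finset.mem_coe, hRnmem, Set.mem_diff, SetLike.mem_coe, Subgroup.mem_inf]
      tauto
    rw [← Set.ncard_coe_finset, h1, Set.ncard_diff (SetLike.coe_subset_coe.mpr inf_le_left), ← Nat.card_coe_set_eq,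
      ← Nat.card_coe_set_eq]
    exact Nat.sub_add_cancel (Nat.le_of_dvd Nat.card_pos (card_dvd_of_le inf_le_left))
  have hΛcard : Λ.card = r + 1 := by
    have hfib : ∀ K ∈ Λ, (Rn.filter (fun v => C(v) = K)).card + Nat.card (Z0 R) = r * Nat.card (Z0 R) := by
      intro K hK
      obtain ⟨v, ⟨hvR, hv⟩, rfl⟩ := (hΛmem K).mp hK
      have h1 : (↑(Rn.filter (fun u => C(u) = C(v))) : Set G) =
          (↑((R : Subgroup G) ⊓ C(v)) : Set G) \ ((Z0 R : Subgroup G) : Set G) := by
        ext u
        simp only [Finset.coe_filter, Set.mem_setOf_eq, hRnmem, Set.mem_diff, SetLike.mem_coe, Subgroup.mem_inf]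
        constructor
        · rintro ⟨⟨huR, hu⟩, hC⟩
          exact ⟨⟨huR, hC ▸ mem_centralizer_singleton_self u⟩, fun h => hu h.2⟩
        · rintro ⟨⟨huR, hC⟩, hu⟩
          exact ⟨⟨huR, fun h => hu ⟨huR, h⟩⟩,
            (hgood v hvR hv).centralizer_eq H (hRN huR) (fun h => hu ⟨huR, h⟩) hC⟩
      have hle : Z0 R ≤ (R : Subgroup G) ⊓ C(v) := le_inf inf_le_left (inf_le_right.trans (center_le_C v))
      rw [← Set.ncard_coe_finset, h1, Set.ncard_diff (SetLike.coe_subset_coe.mpr hle), ← Nat.card_coe_set_eq,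
        ← Nat.card_coe_set_eq]
      refine (Nat.sub_add_cancel (Nat.le_of_dvd Nat.card_pos (card_dvd_of_le hle))).trans ?_
      exact (hCR_of_card H R hx hSle hvR hv).2
    have hsum := Finset.sum_congr rfl hfib
    rw [Finset.sum_add_distrib, Finset.sum_const, Finset.sum_const, smul_eq_mul, smul_eq_mul,
      ← Finset.card_eq_sum_card_image (fun v => C(v)) Rn] at hsum
    rw [hRcard] at hRncard
    have h3 : (r - 1) * (Λ.card * Nat.card (Z0 R)) = (r - 1) * ((r + 1) * Nat.card (Z0 R)) := by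
      zify [show 1 ≤ r from hr.out.one_le] at hsum hRncard ⊢
      linear_combination hRncard - hsum
    exact Nat.eq_of_mul_eq_mul_right hz0pos (Nat.eq_of_mul_eq_mul_left (by omega) h3)
  set zN := Nat.card (N ⊓ center G : Subgroup G) with hzN
  have hnN : r ^ 2 * zN ≤ Nat.card N := by
    have h1 := card_eq_relIndex_mul (inf_le_left : N ⊓ center G ≤ N)
    have h2 : (center G).relIndex (R : Subgroup G) ≤ (center G).relIndex N :=
      relIndex_le_of_le_right hRN Subgroup.index_ne_zero_of_finite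
    have h3 : (N ⊓ center G).relIndex N = (center G).relIndex N := by rw [inf_comm, inf_relIndex_right]
    have h4 : (center G).relIndex (R : Subgroup G) = r ^ 2 := by rw [relIndex, index_eq_card]; exact hQcard
    rw [h1, h3]
    exact Nat.mul_le_mul_right _ (h4.ge.trans h2)
  -- every noncentral element lies over a line
  have hcover : ∀ u ∈ N, u ∉ center G → ∃ K ∈ Λ, u ∈ USet N K := by
    intro u huN hu
    obtain ⟨a, haC, har, han⟩ := exists_relem H huN hu
    obtain ⟨n, hn, hnR, -⟩ := exists_conj_R H R hx har han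
    have hv := conj_not_central han n
    refine ⟨C(n * a * n⁻¹), (hΛmem _).mpr ⟨_, ⟨hnR, hv⟩, rfl⟩, huN, hu, n⁻¹, inv_mem hn, ?_⟩
    rw [map_conj_centralizer, show n⁻¹ * (n * a * n⁻¹) * n⁻¹⁻¹ = a by group]
    have hga : Good r N a := by
      have h1 := (hgood _ hnR hv).conj n⁻¹
      rwa [show n⁻¹ * (n * a * n⁻¹) * n⁻¹⁻¹ = a by group] at h1
    exact hga.centralizer_eq H huN hu (mem_centralizer_singleton_iff.mpr (mem_centralizer_singleton_iff.mp haC).symm)
  -- facts about a line
  have hline : ∀ v ∈ (R : Subgroup G), v ∉ center G →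
      N ⊓ C(v) ≤ MStab N C(v) ∧ (R : Subgroup G) ≤ MStab N C(v) ∧
        MStab N C(v) ≤ normalizer ((N ⊓ C(v) : Subgroup G) : Set G) ∧
        (∃ u ∈ (R : Subgroup G), u ∉ N ⊓ C(v)) ∧
        2 * r * zN ≤ Nat.card (N ⊓ C(v) : Subgroup G) := by
    intro v hvR hv
    have hg := hgood v hvR hv
    refine ⟨fun u hu => ⟨hu.1, le_normalizer hu.2⟩,
      fun u hu => ⟨hRN hu, normalizes_centralizer (hab u hu v hvR)⟩, fun g hg' => mem_normalizer_iff.mpr fun w => ?_,
      ?_, ?_⟩
    · refine and_congr ?_ (mem_normalizer_iff.mp hg'.2 w)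
      exact ⟨fun h => N.mul_mem (N.mul_mem hg'.1 h) (N.inv_mem hg'.1), fun h => by
        have h1 := N.mul_mem (N.mul_mem (N.inv_mem hg'.1) h) hg'.1
        rwa [show g⁻¹ * (g * w * g⁻¹) * g = w by group] at h1⟩
    · by_contra hcon
      push Not at hcon
      exact hv (central_of_centralized H hrm R hvR fun u hu => (hcon u hu).2)
    · obtain ⟨hvr, -, t, htN, ht, htr, hvt⟩ := id hg
      obtain ⟨w, p, kw, hp, hwz, hwN, hwo, hwn⟩ := exists_ncpart N htN ht
      haveI := Fact.mk hp
      have hn : N ⊓ C(v) ≤ normalizer ((N ⊓ center G : Subgroup G) : Set G) := fun g hg' =>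
        mem_normalizer_iff.mpr fun y => ⟨fun hy => by rw [mem_center_iff.mp hy.2 g, mul_inv_cancel_right]; exact hy,
          fun hy => by
            have h2 := mem_center_iff.mp hy.2 g⁻¹
            have : y = g * y * g⁻¹ := by
              calc y = g⁻¹ * (g * y * g⁻¹) * g := by group
                _ = g * y * g⁻¹ := by rw [h2]; group
            exact this ▸ hy⟩
      have hd1 : r ∣ (N ⊓ center G).relIndex (N ⊓ C(v)) := dvd_relIndex_of_not_mem hn
        ⟨hRN hvR, mem_centralizer_singleton_self v⟩ hvr (fun h => hv h.2)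
      have hd2 : p ∣ (N ⊓ center G).relIndex (N ⊓ C(v)) := dvd_relIndex_of_not_mem hn
        ⟨hwN, zpowers_le.mpr (mem_centralizer_singleton_iff.mpr hvt.symm.eq) hwz⟩ ⟨kw, hwo⟩ (fun h => hwn h.2)
      have hpr : p ≠ r := by
        intro h
        subst h
        have h1 : orderOf w ∣ orderOf t := by
          rw [← Nat.card_zpowers t]
          exact Subgroup.orderOf_dvd_natCard _ hwz
        exact hwn (orderOf_eq_one_iff.mp (Nat.eq_one_of_dvd_coprimes (Nat.Coprime.pow_left kw htr.symm)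
          (hwo ▸ dvd_rfl) h1) ▸ one_mem _)
      have hd := ((Nat.coprime_primes hp hr.out).mpr hpr).mul_dvd_of_dvd_of_dvd hd2 hd1
      rw [card_eq_relIndex_mul (inf_le_inf_left N (center_le_C v))]
      refine Nat.mul_le_mul_right _ ?_
      refine le_trans (Nat.mul_le_mul_right r hp.two_le) (Nat.le_of_dvd (Nat.pos_of_ne_zero ?_) hd)
      exact Subgroup.index_ne_zero_of_finite
  -- dichotomy
  by_cases htriv : ∀ g ∈ N, (∀ u ∈ (R : Subgroup G), g * u * g⁻¹ ∈ (R : Subgroup G)) →
      ∀ u ∈ (R : Subgroup G), g * u * g⁻¹ * u⁻¹ ∈ center G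
  · -- no fusion
    have hfus : ∀ n ∈ N, ∀ v ∈ (R : Subgroup G), n * v * n⁻¹ ∈ (R : Subgroup G) →
        n * v * n⁻¹ * v⁻¹ ∈ center G := by
      intro n hn v hv hv'
      set v' := n * v * n⁻¹ with hv'def
      let E : Subgroup G :=
        (Subgroup.centralizer ({(v' : G ⧸ center G)} : Set (G ⧸ center G))).comap (QuotientGroup.mk' _) ⊓ N
      have hE : ∀ g : G, g ∈ E ↔ g * v' * g⁻¹ * v'⁻¹ ∈ center G ∧ g ∈ N := by
        intro g
        rw [← QuotientGroup.eq_one_iff (N := center G) (g * v' * g⁻¹ * v'⁻¹)]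
        simp only [E, Subgroup.mem_inf, mem_comap, mem_centralizer_singleton_iff, QuotientGroup.mk'_apply,
          QuotientGroup.mk_mul, QuotientGroup.mk_inv, mul_inv_eq_one, mul_inv_eq_iff_eq_mul, one_mul]
      have hRE : (R : Subgroup G) ≤ E := fun u hu => (hE u).mpr ⟨hab u hu v' hv', hRN hu⟩
      have hnRE : ((n • R : Sylow r G) : Subgroup G) ≤ E := by
        rw [Sylow.coe_subgroup_smul]
        rintro _ ⟨u, hu, rfl⟩
        refine (hE _).mpr ⟨?_, (inferInstance : N.Normal).conj_mem u (hRN hu) n⟩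
        have h1 := (inferInstance : (center G).Normal).conj_mem _ (hab u hu v hv) n
        rw [hv'def]
        show n * u * n⁻¹ * (n * v * n⁻¹) * (n * u * n⁻¹)⁻¹ * (n * v * n⁻¹)⁻¹ ∈ center G
        rwa [show n * u * n⁻¹ * (n * v * n⁻¹) * (n * u * n⁻¹)⁻¹ * (n * v * n⁻¹)⁻¹
          = n * (u * v * u⁻¹ * v⁻¹) * n⁻¹ by group]
      obtain ⟨c, hc⟩ := MulAction.exists_smul_eq E ((n • R).subtype hnRE) (R.subtype hRE)
      rw [Sylow.smul_subtype] at hc
      have hc' := Sylow.subtype_injective hc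
      obtain ⟨hc1, hc2⟩ := (hE c).mp c.2
      have hnorm : ∀ u ∈ (R : Subgroup G), (c : G) * n * u * ((c : G) * n)⁻¹ ∈ (R : Subgroup G) := by
        intro u hu
        rw [← hc', Subgroup.smul_def, smul_smul, Sylow.coe_subgroup_smul]
        exact ⟨u, hu, rfl⟩
      have h1 := htriv _ (mul_mem hc2 hn) hnorm v hv
      rw [show (c : G) * n * v * ((c : G) * n)⁻¹ * v⁻¹ = ((c : G) * v' * (c : G)⁻¹ * v'⁻¹) * (v' * v⁻¹) by
        rw [hv'def]; group] at h1
      exact (Subgroup.mul_mem_cancel_left _ hc1).mp h1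
    have hsame : ∀ n ∈ N, ∀ v ∈ (R : Subgroup G), v ∉ center G → ∀ v' ∈ (R : Subgroup G), v' ∉ center G →
        (C(v)).map (MulAut.conj n).toMonoidHom = C(v') →
        C(v) = C(v') ∧ n * v * n⁻¹ * v⁻¹ ∈ center G := by
      intro n hn v hvR hv v' hv'R hv' hmap
      rw [map_conj_centralizer] at hmap
      have h1 : n * v * n⁻¹ ∈ C(v') := hmap ▸ mem_centralizer_singleton_self _
      have h2 : n * v * n⁻¹ ∈ (R : Subgroup G) := hCv v' hv'R hv' _ h1 (relem_conj n (relem_of_mem R.2 hvR))
      have h3 := hfus n hn v hvR h2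
      refine ⟨?_, h3⟩
      rw [← hmap, show n * v * n⁻¹ = v * (n * v * n⁻¹ * v⁻¹) by rw [mem_center_iff.mp h3 v]; group,
        centralizer_mul_central v h3]
    have hM : ∀ v ∈ (R : Subgroup G), v ∉ center G →
        Nat.card (MStab N C(v)) ≤ r * Nat.card (N ⊓ C(v) : Subgroup G) := by
      intro v hvR hv
      obtain ⟨hAM, hRM, hMn, -, -⟩ := hline v hvR hv
      set M := MStab N C(v) with hMdef
      have hcomm : ∀ g ∈ M, g * v * g⁻¹ * v⁻¹ ∈ center G := fun g hg =>
        (hsame g hg.1 v hvR hv v hvR hv (mem_normalizer_iff_map_conj_eq.mp hg.2)).2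
      set j := (N ⊓ C(v)).relIndex M with hj
      have hjr : ∀ q : ℕ, q.Prime → q ∣ j → q = r := by
        intro q hq hqd
        by_contra hqr
        haveI := Fact.mk hq
        obtain ⟨Q⟩ : Nonempty (Sylow q M) := inferInstance
        refine Q.not_dvd_index (hqd.trans (index_dvd_of_le fun g hg => mem_subgroupOf.mpr ?_))
        obtain ⟨k, hk⟩ := IsPGroup.iff_orderOf.mp Q.2 ⟨g, hg⟩
        rw [Subgroup.orderOf_mk] at hk
        refine ⟨g.2.1, mem_centralizer_singleton_iff.mpr (coprime_fix (relem_of_mem R.2 hvR) (hcomm g g.2) ?_).eq⟩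
        rw [Subgroup.orderOf_coe, hk]
        exact Nat.Coprime.pow_left k ((Nat.coprime_primes hq hr.out).mpr hqr)
      have hj2 := Nat.eq_prime_pow_of_unique_prime_dvd (n := j) Subgroup.index_ne_zero_of_finite (p := r)
        (fun {d} hd hd' => hjr d hd hd')
      set i := j.primeFactorsList.length
      have hcardM := card_eq_relIndex_mul hAM
      rw [← hj, hj2] at hcardM
      have hdvd : r ^ i * Nat.card ((R : Subgroup G) ⊓ C(v) : Subgroup G) ∣ Nat.card G :=
        (mul_dvd_mul_left _ (card_dvd_of_le (inf_le_inf_right _ hRN))).trans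
          (hcardM ▸ card_subgroup_dvd_card M)
      rw [(hCR_of_card H R hx hSle hvR hv).2] at hdvd
      obtain ⟨a, ha⟩ := IsPGroup.iff_card.mp (R.2.to_le (inf_le_left : Z0 R ≤ R))
      rw [ha, ← pow_succ', ← pow_add] at hdvd
      have h5 : r ^ (i + (a + 1)) ≤ Nat.card R := by
        rw [R.card_eq_multiplicity]
        exact Nat.pow_le_pow_right hr.out.pos ((hr.out.pow_dvd_iff_le_factorization Nat.card_pos.ne').mp hdvd)
      rw [hRcard, ha, ← pow_add] at h5
      have hi := (Nat.pow_le_pow_iff_right hr.out.one_lt).mp h5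
      rw [hcardM]
      refine Nat.mul_le_mul_right _ ?_
      calc r ^ i ≤ r ^ 1 := Nat.pow_le_pow_right hr.out.pos (by omega)
        _ = r := pow_one r
    have hU : ∀ K ∈ Λ, (2 * r - 1) * Nat.card N ≤ 2 * r * r * (USet N K).ncard := by
      intro K hK
      obtain ⟨v, ⟨hvR, hv⟩, rfl⟩ := (hΛmem K).mp hK
      obtain ⟨-, -, -, -, ha⟩ := hline v hvR hv
      have h1 := uSet_card H (hgood v hvR hv)
      have h2 := hM v hvR hv
      set a := Nat.card (N ⊓ C(v) : Subgroup G) with hadef
      set U := (USet N C(v)).ncard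
      set nn := Nat.card N
      rw [← hzN] at h1
      have hza : zN ≤ a := le_trans (Nat.le_mul_of_pos_left _ (by omega)) ha
      refine Nat.le_of_mul_le_mul_right ?_ (show 0 < a from Nat.card_pos)
      calc (2 * r - 1) * nn * a ≤ 2 * r * (nn * (a - zN)) := by
            zify [show 1 ≤ 2 * r by omega, hza] at ha ⊢
            nlinarith [Int.natCast_nonneg nn]
        _ = 2 * r * (U * Nat.card (MStab N C(v))) := by rw [h1]
        _ ≤ 2 * r * (U * (r * a)) := by gcongr
        _ = 2 * r * r * U * a := by ring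
    have hdisj : ((Λ : Set (Subgroup G))).PairwiseDisjoint (fun K => (USet N K).toFinset) := by
      intro K hK K' hK' hne
      rw [Function.onFun, Finset.disjoint_left]
      intro u hu hu'
      rw [Set.mem_toFinset] at hu hu'
      obtain ⟨-, -, n, hn, hC⟩ := hu
      obtain ⟨-, -, n', hn', hC'⟩ := hu'
      obtain ⟨v, ⟨hvR, hv⟩, rfl⟩ := (hΛmem K).mp hK
      obtain ⟨v', ⟨hv'R, hv'⟩, rfl⟩ := (hΛmem K').mp hK'
      refine hne (hsame (n'⁻¹ * n) (mul_mem (inv_mem hn') hn) v hvR hv v' hv'R hv' ?_).1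
      have h := congrArg (fun L : Subgroup G => L.map (MulAut.conj n'⁻¹).toMonoidHom) (hC.symm.trans hC')
      simp only [map_conj_centralizer] at h ⊢
      rw [show n'⁻¹ * (n' * v' * n'⁻¹) * n'⁻¹⁻¹ = v' by group] at h
      rw [← h]
      congr 2
      group
    have hsum : ∑ K ∈ Λ, (USet N K).ncard ≤ Nat.card N := by
      simp only [Set.ncard_eq_toFinset_card']
      rw [← Finset.card_biUnion hdisj, Nat.card_eq_fintype_card, ← Finset.card_univ,
        ← Finset.card_map (Function.Embedding.subtype (· ∈ N)) (s := (Finset.univ : Finset N))]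
      refine Finset.card_le_card fun u hu => ?_
      rw [Finset.mem_biUnion] at hu
      obtain ⟨K, -, hu⟩ := hu
      rw [Set.mem_toFinset] at hu
      exact Finset.mem_map.mpr ⟨⟨u, hu.1⟩, Finset.mem_univ _, rfl⟩
    have htot := Finset.card_nsmul_le_sum Λ (fun K => 2 * r * r * (USet N K).ncard) _ hU
    rw [← Finset.mul_sum, hΛcard, smul_eq_mul] at htot
    have hN0 : 0 < Nat.card N := Nat.card_pos
    have hlt : (r + 1) * (2 * r - 1) ≤ 2 * r * r := by
      refine Nat.le_of_mul_le_mul_right ?_ hN0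
      calc (r + 1) * (2 * r - 1) * Nat.card N = (r + 1) * ((2 * r - 1) * Nat.card N) := by ring
        _ ≤ 2 * r * r * ∑ K ∈ Λ, (USet N K).ncard := htot
        _ ≤ 2 * r * r * Nat.card N := Nat.mul_le_mul_left _ hsum
    zify [show 1 ≤ 2 * r by omega] at hlt hr2
    nlinarith
  · -- fusion
    push Not at htriv
    obtain ⟨g, hgN, hgR, ug, hug, hugn⟩ := htriv
    -- the elements trivial on `R` modulo the centre
    let W : Subgroup G := N ⊓ normalizer ((R : Subgroup G) : Set G)
    let Cb : Subgroup G := (Subgroup.centralizer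
      (((R : Subgroup G).map (QuotientGroup.mk' (center G)) : Subgroup (G ⧸ center G)) : Set (G ⧸ center G))).comap
      (QuotientGroup.mk' _)
    have hCb : ∀ w : G, w ∈ Cb ↔ ∀ u ∈ (R : Subgroup G), w * u * w⁻¹ * u⁻¹ ∈ center G := by
      intro w
      simp only [Cb, mem_comap, Subgroup.mem_centralizer_iff, SetLike.mem_coe, Subgroup.mem_map,
        forall_exists_index, and_imp, forall_apply_eq_imp_iff₂]
      refine forall₂_congr fun u _ => ?_
      rw [← QuotientGroup.eq_one_iff (N := center G) (w * u * w⁻¹ * u⁻¹)]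
      simp only [QuotientGroup.mk'_apply, QuotientGroup.mk_mul, QuotientGroup.mk_inv, mul_inv_eq_one,
        mul_inv_eq_iff_eq_mul, one_mul]
      exact eq_comm
    have hgW : g ∈ W := by
      refine ⟨hgN, ?_⟩
      show g ∈ normalizer ((R : Subgroup G) : Set G)
      rw [mem_normalizer_iff_map_conj_eq]
      refine eq_of_le_of_card_ge ?_ (card_map_of_injective (MulEquiv.injective _)).ge
      rintro _ ⟨u, hu, rfl⟩
      exact hgR u hu
    have hidx : Cb.relIndex W ≠ 1 := fun h => hugn ((hCb g).mp (relIndex_eq_one.mp h hgW) ug hug)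
    obtain ⟨q, hq, hqd⟩ := Nat.exists_prime_and_dvd hidx
    haveI := Fact.mk hq
    have hRW : (R : Subgroup G) ≤ W := le_inf hRN le_normalizer
    have hqr : q ≠ r := by
      intro h
      subst h
      refine R.not_dvd_index ((hqd.trans (relIndex_dvd_of_le_left W
        (fun u hu => (hCb u).mpr fun v hv => hab u hu v hv : (R : Subgroup G) ≤ Cb))).trans ?_)
      rw [← relIndex_mul_index hRW]
      exact dvd_mul_right _ _
    obtain ⟨Q⟩ : Nonempty (Sylow q W) := inferInstance
    obtain ⟨w0, hw0, hw0n⟩ : ∃ w ∈ (Q : Subgroup W), (w : G) ∉ Cb := by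
      by_contra hcon
      push Not at hcon
      exact Q.not_dvd_index (hqd.trans (index_dvd_of_le fun w hw => mem_subgroupOf.mpr (hcon w hw)))
    obtain ⟨k0, hk0⟩ : ∃ k, orderOf (w0 : G) = q ^ k := by
      obtain ⟨k, hk⟩ := IsPGroup.iff_orderOf.mp Q.2 ⟨w0, hw0⟩
      rw [Subgroup.orderOf_mk] at hk
      exact ⟨k, by rw [Subgroup.orderOf_coe, hk]⟩
    obtain ⟨w, hwW, ⟨kw, hkw⟩, hwn, hwq⟩ : ∃ w ∈ W, (∃ k, orderOf w = q ^ k) ∧ w ∉ Cb ∧ w ^ q ∈ Cb := by
      have hex : ∃ j, (w0 : G) ^ q ^ j ∈ Cb := ⟨k0, by rw [← hk0, pow_orderOf_eq_one]; exact one_mem _⟩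
      obtain ⟨j, hj, hjmin⟩ : ∃ j, (w0 : G) ^ q ^ j ∈ Cb ∧ ∀ i < j, (w0 : G) ^ q ^ i ∉ Cb :=
        ⟨Nat.find hex, Nat.find_spec hex, fun i hi => Nat.find_min hex hi⟩
      have hj0 : j ≠ 0 := fun h => hw0n (by rw [h, pow_zero, pow_one] at hj; exact hj)
      refine ⟨(w0 : G) ^ q ^ (j - 1), pow_mem w0.2 _, ?_, hjmin _ (by omega), ?_⟩
      · obtain ⟨i, -, hi⟩ := (Nat.dvd_prime_pow hq).mp (hk0 ▸ orderOf_pow_dvd (x := (w0 : G)) (q ^ (j - 1)))
        exact ⟨i, hi⟩
      · rw [← pow_mul, ← pow_succ, show j - 1 + 1 = j by omega]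
        exact hj
    have hwcop : (orderOf w).Coprime r := by
      rw [hkw]; exact Nat.Coprime.pow_left kw ((Nat.coprime_primes hq hr.out).mpr hqr)
    have hwnorm : ∀ (i : ℕ), ∀ u ∈ (R : Subgroup G), w ^ i * u * (w ^ i)⁻¹ ∈ (R : Subgroup G) := fun i u hu =>
      (mem_normalizer_iff.mp (pow_mem hwW.2 i) u).mp hu
    have hΛconj : ∀ K ∈ Λ, ∀ i : ℕ, K.map (MulAut.conj (w ^ i)).toMonoidHom ∈ Λ := by
      intro K hK i
      obtain ⟨v, ⟨hvR, hv⟩, rfl⟩ := (hΛmem K).mp hK
      exact (hΛmem _).mpr ⟨_, ⟨hwnorm i v hvR, conj_not_central hv _⟩, (map_conj_centralizer _ v).symm⟩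
    let stab : Subgroup G → Prop := fun K => w ∈ normalizer (K : Set G)
    let wt : Subgroup G → ℕ := fun K => if stab K then q else 1
    have hinjw : ∀ K ∈ Λ, ¬ stab K → ∀ i j : ℕ, i < j → j < q →
        K.map (MulAut.conj (w ^ i)).toMonoidHom ≠ K.map (MulAut.conj (w ^ j)).toMonoidHom := by
      intro K hK hns i j hij hjq heq
      obtain ⟨v, ⟨hvR, hv⟩, rfl⟩ := (hΛmem K).mp hK
      apply hns
      show w ∈ normalizer ((C(v) : Subgroup G) : Set G)
      have hq' : w ^ q ∈ normalizer ((C(v) : Subgroup G) : Set G) :=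
        normalizes_centralizer ((hCb _).mp hwq v hvR)
      have hd : w ^ (j - i) ∈ normalizer ((C(v) : Subgroup G) : Set G) := by
        rw [mem_normalizer_iff_map_conj_eq]
        show (C(v)).map (MulAut.conj (w ^ (j - i))).toMonoidHom = C(v)
        have h := congrArg (fun L : Subgroup G => L.map (MulAut.conj (w ^ i)⁻¹).toMonoidHom) heq
        simp only [map_conj_centralizer] at h ⊢
        rw [show (w ^ i)⁻¹ * (w ^ i * v * (w ^ i)⁻¹) * (w ^ i)⁻¹⁻¹ = v by group] at h
        rw [h, show w ^ j = w ^ i * w ^ (j - i) by rw [← pow_add]; congr 1; omega]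
        congr 2
        group
      have hcop : IsCoprime (q : ℤ) ((j - i : ℕ) : ℤ) := Nat.Coprime.isCoprime
        ((Nat.Prime.coprime_iff_not_dvd hq).mpr fun hd' => by have := Nat.le_of_dvd (by omega) hd'; omega)
      obtain ⟨s', t', hst⟩ := hcop
      rw [show w = (w ^ q) ^ s' * (w ^ (j - i)) ^ t' by
        rw [← zpow_natCast w q, ← zpow_natCast w (j - i), ← zpow_mul, ← zpow_mul, ← zpow_add, mul_comm _ s',
          mul_comm _ t', hst, zpow_one]]
      exact mul_mem (zpow_mem hq' s') (zpow_mem hd t')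
    have hweight : ∀ u, u ∈ N → u ∉ center G → q ≤ ∑ K ∈ Λ.filter (fun K => u ∈ USet N K), wt K := by
      intro u huN hu
      obtain ⟨K, hK, huK⟩ := hcover u huN hu
      by_cases hs : stab K
      · calc q = wt K := by simp [wt, hs]
          _ ≤ _ := Finset.single_le_sum (f := wt) (fun _ _ => Nat.zero_le _) (Finset.mem_filter.mpr ⟨hK, huK⟩)
      · have himg : (Finset.range q).image (fun i => K.map (MulAut.conj (w ^ i)).toMonoidHom) ⊆
            Λ.filter (fun K => u ∈ USet N K) := by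
          intro L hL
          obtain ⟨i, -, rfl⟩ := Finset.mem_image.mp hL
          refine Finset.mem_filter.mpr ⟨hΛconj K hK i, huN, hu, ?_⟩
          obtain ⟨-, -, n, hn, hC⟩ := huK
          refine ⟨n * (w ^ i)⁻¹, mul_mem hn (inv_mem (pow_mem hwW.1 i)), ?_⟩
          obtain ⟨v, -, rfl⟩ := (hΛmem K).mp hK
          rw [hC]
          simp only [map_conj_centralizer]
          congr 2
          group
        have hcardI : ((Finset.range q).image (fun i => K.map (MulAut.conj (w ^ i)).toMonoidHom)).card = q := by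
          rw [Finset.card_image_of_injOn, Finset.card_range]
          intro i hi j hj hij
          simp only [Finset.coe_range, Set.mem_Iio] at hi hj
          rcases lt_trichotomy i j with h | h | h
          · exact absurd hij (hinjw K hK hs i j h hj)
          · exact h
          · exact absurd hij.symm (hinjw K hK hs j i h hi)
        calc q = ((Finset.range q).image (fun i => K.map (MulAut.conj (w ^ i)).toMonoidHom)).card := hcardI.symm
          _ ≤ (Λ.filter (fun K => u ∈ USet N K)).card := Finset.card_le_card himg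
          _ = ∑ K ∈ Λ.filter (fun K => u ∈ USet N K), 1 := Finset.card_eq_sum_ones _
          _ ≤ _ := Finset.sum_le_sum fun K _ => by
            simp only [wt]; split_ifs
            · exact hq.one_lt.le
            · exact le_rfl
    have hbound : ∀ K ∈ Λ, wt K * (USet N K).ncard * r ≤ Nat.card N := by
      intro K hK
      obtain ⟨v, ⟨hvR, hv⟩, rfl⟩ := (hΛmem K).mp hK
      obtain ⟨hAM, hRM, hMn, ⟨u0, hu0R, hu0⟩, -⟩ := hline v hvR hv
      have hg' := hgood v hvR hv
      have hdr : r ∣ (N ⊓ C(v)).relIndex (MStab N C(v)) :=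
        dvd_relIndex_of_not_mem hMn (hRM hu0R) (relem_of_mem R.2 hu0R) hu0
      have hd : wt C(v) * r ∣ (N ⊓ C(v)).relIndex (MStab N C(v)) := by
        simp only [wt]
        split_ifs with hs
        · refine ((Nat.coprime_primes hq hr.out).mpr hqr).mul_dvd_of_dvd_of_dvd ?_ hdr
          refine dvd_relIndex_of_not_mem hMn ⟨hwW.1, hs⟩ ⟨kw, hkw⟩ fun hwA => hwn ((hCb w).mpr fun u hu => ?_)
          have hc := fix_trivial R (fun u hu => hab u hu v hvR) (hCR_of_card H R hx hSle hvR hv).1
            (fun u hu => by simpa using hwnorm 1 u hu)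
            (mem_centralizer_singleton_iff.mp hwA.2) hwcop u hu
          rw [hc.eq, mul_inv_cancel_right, mul_inv_cancel]
          exact one_mem _
        · rw [one_mul]; exact hdr
      have h1 := uSet_card H hg'
      have hcardM := card_eq_relIndex_mul hAM
      have hne : (N ⊓ C(v)).relIndex (MStab N C(v)) ≠ 0 := Subgroup.index_ne_zero_of_finite
      have hle := Nat.le_of_dvd (Nat.pos_of_ne_zero hne) hd
      refine Nat.le_of_mul_le_mul_right ?_ (Nat.card_pos (α := (N ⊓ C(v) : Subgroup G)))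
      calc wt C(v) * (USet N C(v)).ncard * r * Nat.card (N ⊓ C(v) : Subgroup G)
          = (USet N C(v)).ncard * (wt C(v) * r * Nat.card (N ⊓ C(v) : Subgroup G)) := by ring
        _ ≤ (USet N C(v)).ncard * Nat.card (MStab N C(v)) := by rw [hcardM]; gcongr
        _ = _ := h1
        _ ≤ _ := Nat.mul_le_mul_left _ (Nat.sub_le _ _)
    have hNset : (Finset.univ.filter (fun u : G => u ∈ N ∧ u ∉ center G)).card + zN = Nat.card N := by
      have h1 : (↑(Finset.univ.filter (fun u : G => u ∈ N ∧ u ∉ center G)) : Set G) =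
          (N : Set G) \ ((N ⊓ center G : Subgroup G) : Set G) := by
        ext v
        simp only [Finset.coe_filter, Finset.mem_univ, true_and, Set.mem_setOf_eq, Set.mem_diff, SetLike.mem_coe,
          Subgroup.mem_inf]
        tauto
      rw [← Set.ncard_coe_finset, h1, Set.ncard_diff (SetLike.coe_subset_coe.mpr inf_le_left), ← Nat.card_coe_set_eq,
        ← Nat.card_coe_set_eq]
      exact Nat.sub_add_cancel (Nat.le_of_dvd Nat.card_pos (card_dvd_of_le inf_le_left))
    set NZ := Finset.univ.filter (fun u : G => u ∈ N ∧ u ∉ center G) with hNZ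
    have htot : q * NZ.card * r ≤ (r + 1) * Nat.card N := by
      have h1 : q * NZ.card ≤ ∑ K ∈ Λ, wt K * (USet N K).ncard := by
        calc q * NZ.card = NZ.card • q := by rw [smul_eq_mul, mul_comm]
          _ ≤ ∑ u ∈ NZ, ∑ K ∈ Λ.filter (fun K => u ∈ USet N K), wt K := Finset.card_nsmul_le_sum _ _ _
              fun u hu => hweight u (Finset.mem_filter.mp hu).2.1 (Finset.mem_filter.mp hu).2.2
          _ = ∑ u ∈ NZ, ∑ K ∈ Λ, if u ∈ USet N K then wt K else 0 := by simp only [Finset.sum_filter]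
          _ = ∑ K ∈ Λ, ∑ u ∈ NZ, if u ∈ USet N K then wt K else 0 := Finset.sum_comm
          _ ≤ ∑ K ∈ Λ, wt K * (USet N K).ncard := by
              refine Finset.sum_le_sum fun K _ => ?_
              rw [← Finset.sum_filter, Finset.sum_const, smul_eq_mul, mul_comm]
              refine Nat.mul_le_mul_left _ ?_
              rw [Set.ncard_eq_toFinset_card']
              exact Finset.card_le_card fun u hu => Set.mem_toFinset.mpr (Finset.mem_filter.mp hu).2
      calc q * NZ.card * r ≤ (∑ K ∈ Λ, wt K * (USet N K).ncard) * r := Nat.mul_le_mul_right _ h1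
        _ = ∑ K ∈ Λ, wt K * (USet N K).ncard * r := Finset.sum_mul _ _ _
        _ ≤ ∑ _K ∈ Λ, Nat.card N := Finset.sum_le_sum hbound
        _ = (r + 1) * Nat.card N := by rw [Finset.sum_const, hΛcard, smul_eq_mul]
    have hq2 : 2 ≤ q := hq.two_le
    have hN0 : 0 < Nat.card N := Nat.card_pos
    set nn := Nat.card N
    set c := NZ.card
    have hkey : q * (r - 1) ≤ r := by
      -- `c ≥ nn (1 - 1/r²)`
      have h2 : (r * r - 1) * nn ≤ r * r * c := by
        zify [show 1 ≤ r * r by nlinarith] at hnN hNset ⊢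
        nlinarith
      have h3 : q * ((r * r - 1) * nn) ≤ r * ((r + 1) * nn) := by
        calc q * ((r * r - 1) * nn) ≤ q * (r * r * c) := Nat.mul_le_mul_left q h2
          _ = r * (q * c * r) := by ring
          _ ≤ r * ((r + 1) * nn) := Nat.mul_le_mul_left r htot
      have h4 : q * (r - 1) * ((r + 1) * nn) ≤ r * ((r + 1) * nn) := by
        refine le_trans (le_of_eq ?_) h3
        zify [show 1 ≤ r * r by nlinarith, hr.out.one_le]
        ring
      exact Nat.le_of_mul_le_mul_right h4 (Nat.mul_pos (Nat.succ_pos r) hN0)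
    rcases eq_or_lt_of_le hr2 with h | h
    · subst h
      omega
    · have h5 : 2 * (r - 1) ≤ q * (r - 1) := Nat.mul_le_mul_right _ hq2
      omega

theorem isNilpotent_main (R : Sylow r G) (hR : ¬ (R : Subgroup G) ≤ center G) (hRN : (R : Subgroup G) ≤ N)
    (m : ℕ) (h : ∀ x ∈ N, (C(x)).index = 1 ∨ (C(x)).index = m) : Group.IsNilpotent N := by
  obtain ⟨y, hyR, hy⟩ := SetLike.not_le_iff_exists.mp hR
  have hiff : ∀ u : G, (C(u)).index = 1 ↔ u ∈ center G := fun u => by
    rw [index_eq_one, centralizer_singleton_eq_top_iff]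
  have hsize : ∀ u ∈ N, u ∉ center G → (C(u)).index = m := fun u hu hu' =>
    (h u hu).resolve_left fun e => hu' ((hiff u).mp e)
  have hm : 1 < m := by
    rw [← hsize y (hRN hyR) hy]
    have h0 : (C(y)).index ≠ 0 := Subgroup.index_ne_zero_of_finite
    have h1 : (C(y)).index ≠ 1 := fun e => hy ((hiff y).mp e)
    omega
  have H : Hyp r N m := by
    refine ⟨hm, hsize, fun u hu => ?_, y, relem_of_mem R.2 hyR, hy⟩
    obtain ⟨R', hR'⟩ := (isPGroup_zpowers hu).exists_le_sylow
    obtain ⟨g, hg⟩ := MulAction.exists_smul_eq G R R'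
    have h1 : u ∈ (R' : Subgroup G) := hR' (mem_zpowers u)
    rw [← hg, Sylow.coe_subgroup_smul] at h1
    obtain ⟨v, hv, rfl⟩ := h1
    exact (inferInstance : N.Normal).conj_mem v (hRN hv) g
  by_cases hno : ∀ t ∈ N, (orderOf t).Coprime r → t ∈ center G
  · exact isNilpotent_of_no_other hno
  push Not at hno
  obtain ⟨b, hbN, hbr, hb⟩ := hno
  by_cases hrm : r ∣ m
  swap
  · exact isNilpotent_of_not_dvd H R hRN hR hrm hbN hb hbr
  exfalso
  obtain ⟨a, haC, har, han⟩ := exists_relem H hbN hb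
  have hga : Good r N a := ⟨har, han, b, hbN, hb, hbr, mem_centralizer_singleton_iff.mp haC⟩
  obtain ⟨R', hR'⟩ := (rPart_isPGroup H hga).exists_le_sylow
  obtain ⟨x, hx, hxR, hxp, hx2⟩ := exists_core H hrm R' hga hR'
  by_cases hbig : r * r * Nat.card (Z0 R') < Nat.card R'
  · exact false_of_large H hrm R' hx hxR hxp hx2 hbig
  · exact false_of_small H hrm R' hx hxR hxp hx2 (not_lt.mp hbig)

end Cfsg.Agent.FGB.TSN
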