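import Mathlib

/-!
# Generating subgroups of the unitriangular group
-/

set_option autoImplicit false
set_option linter.all false

namespace Cfsg.Agent.FGB.UT

open Subgroup

variable {F : Type*} [Field F] {e : ℕ}

/-- The weight of a position above the diagonal. -/
def wt (i j : Fin e) : ℕ := 2 ^ (j : ℕ) - 2 ^ (i : ℕ)

theorem wt_add {i j l : Fin e} (h₁ : i ≤ j) (h₂ : j ≤ l) : wt i j + wt j l = wt i l := by
  have := Nat.pow_le_pow_right two_pos (show (i : ℕ) ≤ j from h₁)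
  have := Nat.pow_le_pow_right two_pos (show (j : ℕ) ≤ l from h₂)
  simp only [wt]; omega

theorem wt_pos {i j : Fin e} (h : i < j) : 0 < wt i j :=
  Nat.sub_pos_of_lt (Nat.pow_lt_pow_right one_lt_two h)

theorem wt_lt {i j l : Fin e} (h₁ : i ≤ j) (h₂ : j < l) : wt i j < wt i l := by
  have := wt_add h₁ h₂.le
  have := wt_pos h₂
  omega

theorem wt_bound (i j : Fin e) : wt i j < 2 ^ e :=
  lt_of_le_of_lt (Nat.sub_le _ _) (Nat.pow_lt_pow_right one_lt_two j.2)

theorem wt_inj {i j i' j' : Fin e} (h : i < j) (h' : i' < j') (he : wt i j = wt i' j') :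
    i = i' ∧ j = j' := by
  have key : ∀ {a b : Fin e}, a < b → Nat.log 2 (wt a b) + 1 = (b : ℕ) := by
    intro a b hab
    have hb : (b : ℕ) = b - 1 + 1 := by have : (a : ℕ) < b := hab; omega
    have hle : 2 ^ (a : ℕ) ≤ 2 ^ ((b : ℕ) - 1) :=
      Nat.pow_le_pow_right two_pos (by have : (a : ℕ) < b := hab; omega)
    have hp : 0 < 2 ^ (a : ℕ) := by positivity
    have h2 : 2 ^ (b : ℕ) = 2 ^ ((b : ℕ) - 1) * 2 := by rw [← pow_succ, ← hb]
    have := Nat.log_eq_of_pow_le_of_lt_pow (b := 2) (m := (b : ℕ) - 1) (n := wt a b)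
      (by simp only [wt]; omega) (by rw [← hb]; simp only [wt]; omega)
    omega
  have hj : j = j' := Fin.ext (by rw [← key h, ← key h', he])
  subst hj
  refine ⟨Fin.ext (Nat.pow_right_injective le_rfl ?_), rfl⟩
  have := Nat.pow_lt_pow_right (a := 2) one_lt_two h
  have := Nat.pow_lt_pow_right (a := 2) one_lt_two h'
  simp only [wt] at he
  show 2 ^ (i : ℕ) = 2 ^ (i' : ℕ)
  omega

/-- Unitriangular, vanishing in weight less than `w`. -/
def Low (w : ℕ) (a : Matrix (Fin e) (Fin e) F) : Prop :=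
  (∀ i, a i i = 1) ∧ (∀ i j, j < i → a i j = 0) ∧ ∀ i j, i < j → wt i j < w → a i j = 0

/-- Vanishing on and below the diagonal and in weight less than `w`. -/
def Deep (w : ℕ) (a : Matrix (Fin e) (Fin e) F) : Prop :=
  (∀ i j, j ≤ i → a i j = 0) ∧ ∀ i j, i < j → wt i j < w → a i j = 0

theorem Low.deep {w : ℕ} {a : Matrix (Fin e) (Fin e) F} (h : Low w a) : Deep w (a - 1) := by
  refine ⟨fun i j hji => ?_, fun i j hij hw => ?_⟩
  · rcases hji.eq_or_lt with rfl | hlt
    · simp [h.1]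
    · simp [h.2.1 i j hlt, Matrix.one_apply_ne hlt.ne']
  · simp [h.2.2 i j hij hw, Matrix.one_apply_ne hij.ne]

theorem Deep.low {w : ℕ} {a : Matrix (Fin e) (Fin e) F} (h : Deep w a) : Low w (1 + a) :=
  ⟨fun i => by simp [h.1 i i le_rfl],
    fun i j hji => by simp [h.1 i j hji.le, Matrix.one_apply_ne hji.ne'],
    fun i j hij hw => by simp [h.2 i j hij hw, Matrix.one_apply_ne hij.ne]⟩

theorem Deep.mono {w w' : ℕ} {a : Matrix (Fin e) (Fin e) F} (h : Deep w a) (hw : w' ≤ w) : Deep w' a :=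
  ⟨h.1, fun i j hij hlt => h.2 i j hij (hlt.trans_le hw)⟩

theorem Deep.add {w : ℕ} {a b : Matrix (Fin e) (Fin e) F} (ha : Deep w a) (hb : Deep w b) :
    Deep w (a + b) :=
  ⟨fun i j h => by simp [ha.1 i j h, hb.1 i j h], fun i j h h' => by simp [ha.2 i j h h', hb.2 i j h h']⟩

theorem Deep.mul {w₁ w₂ : ℕ} {a b : Matrix (Fin e) (Fin e) F} (ha : Deep w₁ a) (hb : Deep w₂ b) :
    Deep (w₁ + w₂) (a * b) := by
  refine ⟨fun i j hji => ?_, fun i j hij hw => ?_⟩ <;> rw [Matrix.mul_apply] <;>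
    refine Finset.sum_eq_zero fun z _ => ?_
  · rcases le_or_gt z i with h | h
    · rw [ha.1 i z h, zero_mul]
    · rw [hb.1 z j (hji.trans h.le), mul_zero]
  · rcases le_or_gt z i with h | h
    · rw [ha.1 i z h, zero_mul]
    rcases le_or_gt j z with h' | h'
    · rw [hb.1 z j h', mul_zero]
    rcases lt_or_ge (wt i z) w₁ with h1 | h1
    · rw [ha.2 i z h h1, zero_mul]
    · rw [hb.2 z j h' (by have := wt_add h.le h'.le; omega), mul_zero]

theorem low_one (w : ℕ) : Low w (1 : Matrix (Fin e) (Fin e) F) :=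
  ⟨fun i => by simp, fun i j h => Matrix.one_apply_ne h.ne', fun i j h _ => Matrix.one_apply_ne h.ne⟩

theorem Low.mul {w : ℕ} {a b : Matrix (Fin e) (Fin e) F} (ha : Low w a) (hb : Low w b) :
    Low w (a * b) := by
  have h : a * b = 1 + ((a - 1) + (b - 1) + (a - 1) * (b - 1)) := by noncomm_ring
  rw [h]
  exact ((ha.deep.add hb.deep).add ((ha.deep.mul hb.deep).mono (Nat.le_add_right _ _))).low

theorem Low.mul_apply {w : ℕ} {a b : Matrix (Fin e) (Fin e) F} (ha : Low w a) (hb : Low w b)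
    {i j : Fin e} (hij : i < j) (hw : wt i j ≤ w) : (a * b) i j = a i j + b i j := by
  have h : a * b = 1 + ((a - 1) + (b - 1) + (a - 1) * (b - 1)) := by noncomm_ring
  have hpos := wt_pos hij
  rw [h]
  simp [Matrix.one_apply_ne hij.ne, (ha.deep.mul hb.deep).2 i j hij (by omega)]

theorem Low.pow {w : ℕ} {a : Matrix (Fin e) (Fin e) F} (ha : Low w a) : ∀ n, Low w (a ^ n)
  | 0 => by rw [pow_zero]; exact low_one w
  | n + 1 => by rw [pow_succ]; exact (Low.pow ha n).mul ha

theorem Low.pow_apply {w : ℕ} {a : Matrix (Fin e) (Fin e) F} (ha : Low w a)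
    {i j : Fin e} (hij : i < j) (hw : wt i j ≤ w) : ∀ n : ℕ, (a ^ n) i j = n * a i j
  | 0 => by simp [Matrix.one_apply_ne hij.ne]
  | n + 1 => by
    rw [pow_succ, (ha.pow n).mul_apply ha hij hw, Low.pow_apply ha hij hw n]; push_cast; ring

theorem Low.succ {w : ℕ} {a : Matrix (Fin e) (Fin e) F} (ha : Low w a)
    (h : ∀ i j, i < j → wt i j = w → a i j = 0) : Low (w + 1) a :=
  ⟨ha.1, ha.2.1, fun i j hij hw => (Nat.lt_succ_iff_lt_or_eq.mp hw).elim (ha.2.2 i j hij) (h i j hij)⟩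

variable [Finite F]

theorem low_inv {w : ℕ} {g : (Matrix (Fin e) (Fin e) F)ˣ} (hg : Low w (g : Matrix (Fin e) (Fin e) F)) :
    Low w ((g⁻¹ : (Matrix (Fin e) (Fin e) F)ˣ) : Matrix (Fin e) (Fin e) F) := by
  have h : g⁻¹ = g ^ (orderOf g - 1) := by
    rw [inv_eq_iff_mul_eq_one, ← pow_succ', Nat.sub_add_cancel (orderOf_pos g), pow_orderOf_eq_one]
  rw [h, Units.val_pow_eq_pow_val]
  exact hg.pow _

theorem commutator_lead {w₁ w₂ : ℕ} {g h : (Matrix (Fin e) (Fin e) F)ˣ}
    (hg : Low w₁ (g : Matrix (Fin e) (Fin e) F)) (hh : Low w₂ (h : Matrix (Fin e) (Fin e) F))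
    {i j l : Fin e} (hij : i < j) (hjl : j < l) (h₁ : wt i j = w₁) (h₂ : wt j l = w₂) :
    Low (w₁ + w₂) ((g * h * g⁻¹ * h⁻¹ : (Matrix (Fin e) (Fin e) F)ˣ) : Matrix (Fin e) (Fin e) F) ∧
    ((g * h * g⁻¹ * h⁻¹ : (Matrix (Fin e) (Fin e) F)ˣ) : Matrix (Fin e) (Fin e) F) i l =
      (g : Matrix (Fin e) (Fin e) F) i j * (h : Matrix (Fin e) (Fin e) F) j l := by
  set A : Matrix (Fin e) (Fin e) F := (g : Matrix (Fin e) (Fin e) F) - 1 with hA
  set B : Matrix (Fin e) (Fin e) F := (h : Matrix (Fin e) (Fin e) F) - 1 with hB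
  set U : Matrix (Fin e) (Fin e) F := ((g⁻¹ * h⁻¹ : (Matrix (Fin e) (Fin e) F)ˣ) : Matrix (Fin e) (Fin e) F)
  have hU : Low 0 U := by
    have h1 : Low 0 ((g⁻¹ : (Matrix (Fin e) (Fin e) F)ˣ) : Matrix (Fin e) (Fin e) F) :=
      ⟨(low_inv hg).1, (low_inv hg).2.1, fun i j _ h => absurd h (Nat.not_lt_zero _)⟩
    have h2 : Low 0 ((h⁻¹ : (Matrix (Fin e) (Fin e) F)ˣ) : Matrix (Fin e) (Fin e) F) :=
      ⟨(low_inv hh).1, (low_inv hh).2.1, fun i j _ h => absurd h (Nat.not_lt_zero _)⟩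
    exact h1.mul h2
  have hD : Deep (w₁ + w₂) (A * B - B * A) := by
    have h1 := hg.deep.mul hh.deep
    have h2 := hh.deep.mul hg.deep
    refine ⟨fun a b hab => by simp [h1.1 a b hab, h2.1 a b hab, hA, hB], fun a b hab hw => ?_⟩
    simp [h1.2 a b hab hw, h2.2 a b hab (by omega), hA, hB]
  have heq : ((g * h * g⁻¹ * h⁻¹ : (Matrix (Fin e) (Fin e) F)ˣ) : Matrix (Fin e) (Fin e) F) =
      1 + (A * B - B * A) + (A * B - B * A) * (U - 1) := by
    have h1 : (h : Matrix (Fin e) (Fin e) F) * (g : Matrix (Fin e) (Fin e) F) * U = 1 := by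
      show ((h * g * (g⁻¹ * h⁻¹) : (Matrix (Fin e) (Fin e) F)ˣ) : Matrix (Fin e) (Fin e) F) = 1
      rw [mul_assoc, mul_inv_cancel_left, mul_inv_cancel, Units.val_one]
    have h2 : ((g * h * g⁻¹ * h⁻¹ : (Matrix (Fin e) (Fin e) F)ˣ) : Matrix (Fin e) (Fin e) F) =
        (g : Matrix (Fin e) (Fin e) F) * h * U := by
      rw [← Units.val_mul, ← Units.val_mul, ← mul_assoc]
    have h3 : (g : Matrix (Fin e) (Fin e) F) * h - (h : Matrix (Fin e) (Fin e) F) * g = A * B - B * A := by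
      rw [hA, hB]; noncomm_ring
    rw [h2]
    calc (g : Matrix (Fin e) (Fin e) F) * h * U
        = ((h : Matrix (Fin e) (Fin e) F) * g + ((g : Matrix (Fin e) (Fin e) F) * h - (h : Matrix (Fin e) (Fin e) F) * g)) * U := by
          rw [add_sub_cancel]
      _ = _ := by rw [add_mul, h1, h3]; noncomm_ring
  have hD2 : Deep (w₁ + w₂) ((A * B - B * A) * (U - 1)) := by
    have := hD.mul hU.deep
    rwa [add_zero] at this
  refine ⟨?_, ?_⟩
  · rw [heq, add_assoc]
    exact (hD.add hD2).low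
  have hil : i < l := hij.trans hjl
  have hwl : wt i l = w₁ + w₂ := by rw [← wt_add hij.le hjl.le, h₁, h₂]
  have hAB : (A * B) i l = (g : Matrix (Fin e) (Fin e) F) i j * (h : Matrix (Fin e) (Fin e) F) j l := by
    rw [Matrix.mul_apply, Finset.sum_eq_single j]
    · simp [hA, hB, Matrix.one_apply_ne hij.ne, Matrix.one_apply_ne hjl.ne]
    · intro z _ hz
      rcases le_or_gt z i with h | h
      · rw [hA, hg.deep.1 i z h, zero_mul]
      rcases le_or_gt l z with h' | h'
      · rw [hB, hh.deep.1 z l h', mul_zero]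
      rcases lt_or_ge (wt i z) w₁ with hw | hw
      · rw [hA, hg.deep.2 i z h hw, zero_mul]
      · rcases lt_or_ge (wt z l) w₂ with hw' | hw'
        · rw [hB, hh.deep.2 z l h' hw', mul_zero]
        · have := wt_add h.le h'.le
          exact absurd (wt_inj h hij (by omega)).2 hz
    · exact fun h => absurd (Finset.mem_univ _) h
  have hBA : (B * A) i l = 0 := by
    rw [Matrix.mul_apply]
    refine Finset.sum_eq_zero fun z _ => ?_
    rcases le_or_gt z i with h | h
    · rw [hB, hh.deep.1 i z h, zero_mul]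
    rcases le_or_gt l z with h' | h'
    · rw [hA, hg.deep.1 z l h', mul_zero]
    rcases lt_or_ge (wt i z) w₂ with hw | hw
    · rw [hB, hh.deep.2 i z h hw, zero_mul]
    rcases lt_or_ge (wt z l) w₁ with hw' | hw'
    · rw [hA, hg.deep.2 z l h' hw', mul_zero]
    have := wt_add h.le h'.le
    exact absurd (wt_inj h hjl (by omega)).1 hij.ne
  have hlast : ((A * B - B * A) * (U - 1)) i l = 0 := by
    rw [Matrix.mul_apply]
    refine Finset.sum_eq_zero fun z _ => ?_
    rcases le_or_gt z i with h | h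
    · rw [hD.1 i z h, zero_mul]
    rcases le_or_gt l z with h' | h'
    · rw [hU.deep.1 z l h', mul_zero]
    · rw [hD.2 i z h (by rw [← hwl]; exact wt_lt h.le h'), zero_mul]
  rw [heq, Matrix.add_apply, Matrix.add_apply, Matrix.sub_apply, hAB, hBA, hlast,
    Matrix.one_apply_ne hil.ne]
  ring

/-- A triangle free relation on `Fin e` has at most `e ^ 2 / 4` pairs. -/
theorem card_le_of_triangle_free (T : Finset (Fin e × Fin e)) (hlt : ∀ q ∈ T, q.1 < q.2)
    (hfree : ∀ i j l, (i, j) ∈ T → (j, l) ∈ T → (i, l) ∉ T) : T.card ≤ e ^ 2 / 4 := by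
  classical
  let Gr : SimpleGraph (Fin e) := SimpleGraph.fromRel fun i j => (i, j) ∈ T
  have hcf : Gr.CliqueFree 3 := by
    intro s hs
    rw [SimpleGraph.is3Clique_iff] at hs
    obtain ⟨a, b, c, hab, hac, hbc, -⟩ := hs
    simp only [Gr, SimpleGraph.fromRel_adj] at hab hac hbc
    rcases hab with ⟨-, h1 | h1⟩ <;> rcases hac with ⟨-, h2 | h2⟩ <;> rcases hbc with ⟨-, h3 | h3⟩
    · exact hfree a b c h1 h3 h2
    · exact hfree a c b h2 h3 h1
    · exact lt_irrefl a (((hlt _ h1).trans (hlt _ h3)).trans (hlt _ h2))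
    · exact hfree c a b h2 h1 h3
    · exact hfree b a c h1 h2 h3
    · exact lt_irrefl a (((hlt _ h2).trans (hlt _ h3)).trans (hlt _ h1))
    · exact hfree b c a h3 h2 h1
    · exact hfree c b a h3 h1 h2
  have h := SimpleGraph.CliqueFree.card_edgeFinset_le hcf
  simp only [Fintype.card_fin] at h
  have hcard : T.card ≤ Gr.edgeFinset.card := by
    refine Finset.card_le_card_of_injOn (fun q => s(q.1, q.2)) (fun q hq => ?_) (fun q hq q' hq' he => ?_)
    · rw [Finset.mem_coe, SimpleGraph.mem_edgeFinset, SimpleGraph.mem_edgeSet]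
      exact ⟨(hlt q hq).ne, Or.inl hq⟩
    · rcases Sym2.eq_iff.mp he with ⟨h1, h2⟩ | ⟨h1, h2⟩
      · exact Prod.ext h1 h2
      · have ha := hlt q hq
        have hb := hlt q' hq'
        rw [h1, h2] at ha
        exact absurd (ha.trans hb) (lt_irrefl _)
  have hz : (e % 2).choose 2 = 0 := Nat.choose_eq_zero_of_lt (Nat.mod_lt e two_pos)
  rw [hz, add_zero, show (2 - 1 : ℕ) = 1 from rfl, mul_one] at h
  exact hcard.trans (h.trans (Nat.div_le_div_right (Nat.sub_le _ _)))

variable {p : ℕ} [Fact p.Prime]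

/-- A subgroup of the unitriangular group over the prime field needs at most `e ^ 2 / 4` generators. -/
theorem exists_generators (H : Subgroup (Matrix (Fin e) (Fin e) (ZMod p))ˣ)
    (hH : ∀ g ∈ H, Low 0 (g : Matrix (Fin e) (Fin e) (ZMod p))) :
    ∃ S : Finset (Matrix (Fin e) (Fin e) (ZMod p))ˣ, S.card ≤ e ^ 2 / 4 ∧ Subgroup.closure (S : Set _) = H := by
  classical
  let Lead : Subgroup (Matrix (Fin e) (Fin e) (ZMod p))ˣ → Fin e → Fin e → Prop := fun K i j =>
    ∃ g ∈ K, Low (wt i j) (g : Matrix (Fin e) (Fin e) (ZMod p)) ∧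
      (g : Matrix (Fin e) (Fin e) (ZMod p)) i j ≠ 0
  let T : Finset (Fin e × Fin e) := Finset.univ.filter fun q =>
    q.1 < q.2 ∧ Lead H q.1 q.2 ∧ ¬ ∃ j, q.1 < j ∧ j < q.2 ∧ Lead H q.1 j ∧ Lead H j q.2
  have hT : ∀ {i j}, (i, j) ∈ T ↔
      i < j ∧ Lead H i j ∧ ¬ ∃ l, i < l ∧ l < j ∧ Lead H i l ∧ Lead H l j := by
    intro i j; simp [T]
  have hcard := card_le_of_triangle_free T (fun q hq => ((hT (i := q.1) (j := q.2)).mp hq).1)
    fun i j l h1 h2 h3 => (hT.mp h3).2.2 ⟨j, (hT.mp h1).1, (hT.mp h2).1, (hT.mp h1).2.1, (hT.mp h2).2.1⟩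
  have hex : ∀ q : T, Lead H q.1.1 q.1.2 := fun q => ((hT (i := q.1.1) (j := q.1.2)).mp q.2).2.1
  choose f hfH hfLow hfne using hex
  refine ⟨Finset.univ.image f, Finset.card_image_le.trans (by rw [Finset.card_univ, Fintype.card_coe]; exact hcard), ?_⟩
  set K := Subgroup.closure ((Finset.univ.image f : Finset _) : Set (Matrix (Fin e) (Fin e) (ZMod p))ˣ)
  have hKH : K ≤ H := (closure_le _).mpr (by
    intro g hg
    obtain ⟨q, -, rfl⟩ := Finset.mem_image.mp hg
    exact hfH q)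
  have hlead : ∀ (n : ℕ) (i j : Fin e), i < j → wt i j = n → Lead H i j → Lead K i j := by
    intro n
    induction n using Nat.strong_induction_on with
    | _ n ih =>
      intro i j hij hn hl
      by_cases hTm : (i, j) ∈ T
      · exact ⟨f ⟨_, hTm⟩, subset_closure (Finset.mem_image_of_mem f (Finset.mem_univ _)),
          hfLow ⟨_, hTm⟩, hfne ⟨_, hTm⟩⟩
      · obtain ⟨l, hil, hlj, h1, h2⟩ : ∃ l, i < l ∧ l < j ∧ Lead H i l ∧ Lead H l j := by
          by_contra hno
          exact hTm (hT.mpr ⟨hij, hl, hno⟩)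
        have hadd := wt_add hil.le hlj.le
        have := wt_pos hil
        have := wt_pos hlj
        obtain ⟨g, hg, hgL, hgne⟩ := ih _ (by omega) i l hil rfl h1
        obtain ⟨k, hk, hkL, hkne⟩ := ih _ (by omega) l j hlj rfl h2
        obtain ⟨hcL, hcv⟩ := commutator_lead hgL hkL hil hlj rfl rfl
        refine ⟨g * k * g⁻¹ * k⁻¹, K.mul_mem (K.mul_mem (K.mul_mem hg hk) (K.inv_mem hg)) (K.inv_mem hk),
          hadd ▸ hcL, ?_⟩
        rw [hcv]
        exact mul_ne_zero hgne hkne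
  refine le_antisymm hKH ?_
  have hdesc : ∀ (d w : ℕ), 2 ^ e ≤ w + d → ∀ g ∈ H, Low w (g : Matrix (Fin e) (Fin e) (ZMod p)) → g ∈ K := by
    intro d
    induction d with
    | zero =>
      intro w hw g _ hg
      have : g = 1 := by
        refine Units.ext (Matrix.ext fun i j => ?_)
        rcases lt_trichotomy i j with h | h | h
        · rw [hg.2.2 i j h ((wt_bound i j).trans_le (by omega)), Units.val_one, Matrix.one_apply_ne h.ne]
        · subst h; rw [hg.1, Units.val_one, Matrix.one_apply_eq]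
        · rw [hg.2.1 i j h, Units.val_one, Matrix.one_apply_ne h.ne']
      rw [this]; exact one_mem K
    | succ d ih =>
      intro w hw g hgH hg
      by_cases hz : ∀ i j, i < j → wt i j = w → (g : Matrix (Fin e) (Fin e) (ZMod p)) i j = 0
      · exact ih (w + 1) (by omega) g hgH (hg.succ hz)
      push Not at hz
      obtain ⟨i, j, hij, hwij, hne⟩ := hz
      obtain ⟨k, hk, hkL, hkne⟩ := hlead _ i j hij rfl ⟨g, hgH, hwij ▸ hg, hne⟩
      rw [hwij] at hkL
      set c : ZMod p := (g : Matrix (Fin e) (Fin e) (ZMod p)) i j * ((k : Matrix (Fin e) (Fin e) (ZMod p)) i j)⁻¹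
      have hk' : Low w (((k ^ c.val)⁻¹ : (Matrix (Fin e) (Fin e) (ZMod p))ˣ) : Matrix (Fin e) (Fin e) (ZMod p)) :=
        low_inv (by rw [Units.val_pow_eq_pow_val]; exact hkL.pow _)
      have hnew : g * (k ^ c.val)⁻¹ ∈ K := by
        refine ih (w + 1) (by omega) _ (H.mul_mem hgH (H.inv_mem (H.pow_mem (hKH hk) _))) ?_
        rw [Units.val_mul]
        refine (hg.mul hk').succ fun i' j' hij' hw' => ?_
        obtain ⟨rfl, rfl⟩ := wt_inj hij' hij (hw'.trans hwij.symm)
        rw [hg.mul_apply hk' hij hwij.le]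
        have hinv := (Low.mul_apply (show Low w ((k ^ c.val : (Matrix (Fin e) (Fin e) (ZMod p))ˣ) : Matrix (Fin e) (Fin e) (ZMod p)) by
          rw [Units.val_pow_eq_pow_val]; exact hkL.pow _) hk' hij hwij.le)
        rw [← Units.val_mul, mul_inv_cancel, Units.val_one, Matrix.one_apply_ne hij.ne,
          Units.val_pow_eq_pow_val, hkL.pow_apply hij hwij.le, ZMod.natCast_zmod_val] at hinv
        rw [eq_neg_of_add_eq_zero_right hinv.symm]
        simp [c, hkne]
      simpa using K.mul_mem hnew (K.pow_mem hk c.val)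
  exact fun g hg => hdesc (2 ^ e) 0 (by omega) g hg (hH g hg)

end Cfsg.Agent.FGB.UT
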